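import Cfsg.Agent.SporadicA.M24Gens

set_option autoImplicit false
open Cfsg
open scoped Pointwise

/-! The lower bound for `M24`: explicit elements of the subgroup `K` generated by the shift,
`projInv` and `cubeTwist` along the stabiliser chain with base
`none, some 0, some 1, some 2, some 3, some 5, some 4` (the octad through the first five points is
`{none, 0, 1, 2, 3, 5, 14, 17}`). -/

namespace Cfsg.Agent.SporadicA.M24Chain

open Cfsg.Agent.SporadicA.M24Gens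

/-- the subgroup generated by the three standard permutations -/
def K : Subgroup (Equiv.Perm GolayPt) :=
  Subgroup.closure {Equiv.optionCongr (Equiv.addRight (1 : ZMod 23)), Cfsg.projInv, Cfsg.cubeTwist}

theorem K_le_M24 : K ≤ M24 := by
  rw [K, Subgroup.closure_le]
  rintro g (rfl | rfl | rfl)
  · exact shift_mem
  · exact projInv_mem
  · exact cubeTwist_mem

/-- `l` is the table of an element of `K` -/
def Tab (l : List ℕ) : Prop := ∃ g ∈ K, ∀ p, pidx (g p) = l.getD (pidx p) 0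

theorem tab_comp {a b c : List ℕ} (ha : Tab a) (hb : Tab b)
    (h : ∀ j < 24, c.getD j 0 = a.getD (b.getD j 0) 0) : Tab c := by
  obtain ⟨g, hg, hg'⟩ := ha
  obtain ⟨f, hf, hf'⟩ := hb
  refine ⟨g * f, mul_mem hg hf, fun p => ?_⟩
  rw [Equiv.Perm.mul_apply, hg', hf', h _ (pidx_lt p)]

/-- tables of 40 elements of `K`, obtained by the straight-line program `prog` -/
def T : List (List ℕ) :=
  [[1, 2, 3, 4, 5, 6, 7, 8, 9, 10, 11, 12, 13, 14, 15, 16, 17, 18, 19, 20, 21, 22, 0, 23],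
   [23, 22, 11, 15, 17, 9, 19, 13, 20, 5, 16, 2, 21, 7, 18, 3, 10, 4, 14, 6, 8, 12, 1, 0],
   [0, 18, 6, 3, 2, 21, 1, 5, 16, 12, 7, 19, 8, 9, 17, 15, 13, 11, 4, 22, 10, 20, 14, 23],
   [1, 19, 7, 4, 3, 22, 2, 6, 17, 13, 8, 20, 9, 10, 18, 16, 14, 12, 5, 0, 11, 21, 15, 23],
   [19, 7, 4, 3, 22, 2, 6, 17, 13, 8, 20, 9, 10, 18, 16, 14, 12, 5, 0, 11, 21, 15, 1, 23],
   [19, 0, 6, 3, 4, 15, 7, 2, 12, 10, 17, 11, 13, 8, 5, 14, 18, 9, 22, 1, 20, 21, 16, 23],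
   [0, 6, 3, 4, 15, 7, 2, 12, 10, 17, 11, 13, 8, 5, 14, 18, 9, 22, 1, 20, 21, 16, 19, 23],
   [0, 2, 4, 15, 18, 12, 3, 8, 11, 22, 13, 5, 10, 7, 14, 1, 17, 19, 6, 21, 16, 9, 20, 23],
   [0, 3, 15, 18, 1, 8, 4, 10, 13, 19, 5, 7, 11, 12, 14, 6, 22, 20, 2, 16, 9, 17, 21, 23],
   [0, 1, 3, 2, 15, 5, 6, 8, 7, 11, 19, 9, 16, 21, 17, 4, 12, 14, 18, 10, 20, 13, 22, 23],
   [23, 22, 9, 4, 14, 11, 10, 21, 20, 5, 12, 3, 13, 8, 18, 2, 19, 15, 17, 6, 7, 16, 1, 0],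
   [0, 1, 5, 17, 18, 2, 16, 12, 8, 9, 21, 15, 7, 20, 14, 11, 6, 3, 4, 19, 13, 10, 22, 23],
   [0, 4, 16, 17, 5, 10, 1, 2, 6, 7, 12, 19, 8, 9, 3, 11, 20, 15, 18, 22, 21, 13, 14, 23],
   [0, 1, 22, 20, 8, 5, 3, 15, 4, 10, 11, 16, 13, 19, 18, 7, 9, 6, 2, 21, 17, 12, 14, 23],
   [0, 1, 5, 14, 18, 3, 12, 16, 7, 11, 13, 4, 8, 20, 17, 9, 6, 2, 15, 10, 21, 19, 22, 23],
   [0, 1, 14, 5, 9, 3, 12, 7, 16, 4, 10, 11, 6, 19, 2, 18, 8, 17, 15, 13, 21, 20, 22, 23],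
   [0, 1, 22, 21, 16, 3, 5, 18, 9, 10, 11, 8, 19, 13, 15, 7, 4, 12, 14, 20, 17, 6, 2, 23],
   [0, 1, 2, 17, 9, 3, 21, 7, 16, 11, 8, 4, 13, 20, 14, 18, 10, 5, 22, 6, 12, 19, 15, 23],
   [0, 1, 3, 5, 22, 2, 10, 13, 16, 11, 19, 18, 7, 12, 14, 4, 21, 17, 9, 6, 20, 8, 15, 23],
   [0, 1, 2, 5, 22, 3, 19, 21, 12, 9, 10, 18, 8, 16, 17, 15, 13, 14, 11, 6, 20, 7, 4, 23],
   [0, 1, 2, 3, 15, 17, 6, 19, 13, 11, 8, 22, 16, 10, 5, 18, 20, 14, 4, 21, 12, 7, 9, 23],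
   [0, 1, 5, 6, 2, 22, 9, 13, 4, 10, 12, 7, 15, 17, 18, 16, 3, 20, 8, 21, 19, 11, 14, 23],
   [0, 1, 2, 16, 5, 22, 9, 20, 18, 21, 7, 12, 11, 3, 4, 6, 17, 13, 8, 10, 19, 15, 14, 23],
   [0, 1, 2, 4, 3, 16, 6, 7, 9, 8, 12, 20, 10, 17, 22, 18, 5, 13, 15, 19, 11, 21, 14, 23],
   [0, 1, 2, 10, 3, 15, 11, 12, 22, 19, 7, 13, 4, 17, 9, 21, 5, 20, 16, 8, 6, 18, 14, 23],
   [0, 1, 2, 3, 10, 5, 11, 12, 19, 22, 4, 6, 7, 20, 14, 16, 15, 17, 21, 8, 13, 18, 9, 23],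
   [0, 9, 16, 5, 6, 20, 2, 11, 7, 13, 12, 3, 18, 22, 4, 8, 21, 14, 1, 19, 15, 17, 10, 23],
   [0, 2, 12, 19, 6, 4, 17, 10, 11, 22, 9, 1, 8, 16, 14, 5, 3, 15, 18, 21, 7, 13, 20, 23],
   [0, 2, 19, 12, 5, 4, 17, 11, 10, 1, 21, 22, 3, 13, 15, 6, 8, 14, 18, 9, 7, 16, 20, 23],
   [0, 1, 8, 4, 17, 7, 19, 22, 11, 13, 3, 12, 18, 20, 5, 10, 16, 15, 2, 9, 6, 14, 21, 23],
   [0, 1, 14, 19, 4, 22, 6, 16, 2, 12, 7, 3, 17, 21, 8, 13, 10, 9, 5, 11, 20, 15, 18, 23],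
   [0, 1, 2, 4, 9, 16, 11, 18, 3, 21, 19, 17, 5, 20, 22, 7, 10, 13, 14, 12, 6, 8, 15, 23],
   [0, 1, 2, 3, 19, 5, 13, 16, 10, 18, 8, 20, 15, 6, 14, 12, 7, 17, 9, 4, 11, 22, 21, 23],
   [0, 1, 2, 3, 18, 14, 6, 21, 10, 22, 13, 9, 20, 8, 17, 4, 12, 5, 15, 7, 16, 19, 11, 23],
   [0, 1, 15, 12, 16, 3, 17, 18, 9, 8, 4, 10, 20, 6, 22, 7, 11, 21, 2, 19, 5, 13, 14, 23],
   [0, 1, 6, 5, 16, 22, 9, 4, 13, 7, 21, 10, 3, 11, 20, 2, 15, 18, 8, 12, 19, 17, 14, 23],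
   [0, 1, 2, 3, 15, 5, 18, 8, 7, 13, 16, 21, 19, 9, 14, 4, 10, 17, 6, 12, 22, 11, 20, 23],
   [0, 1, 15, 12, 7, 21, 17, 19, 6, 10, 9, 14, 11, 4, 3, 2, 5, 22, 16, 13, 20, 18, 8, 23],
   [0, 1, 2, 3, 4, 17, 18, 12, 9, 21, 7, 20, 10, 16, 5, 6, 22, 14, 15, 11, 19, 8, 13, 23],
   [0, 1, 2, 3, 18, 5, 15, 20, 22, 19, 21, 16, 13, 12, 14, 6, 11, 17, 4, 9, 7, 10, 8, 23]]

/-- table number `k ≥ 3` is the product of the tables with the two numbers given here -/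
def prog : List (ℕ × ℕ) :=
  [(0, 0), (0, 0), (0, 0), (0, 2), (3, 0), (4, 2), (5, 0), (6, 6), (7, 6), (2, 6), (9, 1), (1, 10), (11, 2), (8, 12), (9, 11), (14, 9), (15, 13), (16, 13), (17, 11), (9, 18), (17, 19), (13, 11), (11, 21), (6, 2), (17, 22), (24, 23), (22, 6), (7, 11), (27, 9), (28, 26), (21, 13), (30, 29), (24, 31), (20, 20), (17, 13), (21, 9), (35, 34), (34, 20), (35, 37), (33, 38)]

theorem prog_check : ∀ k < 40, 3 ≤ k → (prog.getD k (0, 0)).1 < k ∧ (prog.getD k (0, 0)).2 < k ∧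
    ∀ j < 24, (T.getD k []).getD j 0 = (T.getD (prog.getD k (0, 0)).1 []).getD
      ((T.getD (prog.getD k (0, 0)).2 []).getD j 0) 0 := by
  decide +kernel

theorem tab_T (k : ℕ) (hk : k < 40) : Tab (T.getD k []) := by
  induction k using Nat.strong_induction_on with
  | _ k ih =>
    by_cases h3 : 3 ≤ k
    · obtain ⟨h1, h2, h⟩ := prog_check k hk h3
      exact tab_comp (ih _ h1 (by omega)) (ih _ h2 (by omega)) h
    · have : k = 0 ∨ k = 1 ∨ k = 2 := by omega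
      rcases this with rfl | rfl | rfl
      · exact ⟨_, Subgroup.subset_closure (Or.inl rfl), shift_table⟩
      · exact ⟨_, Subgroup.subset_closure (Or.inr (Or.inl rfl)), projInv_table⟩
      · exact ⟨_, Subgroup.subset_closure (Or.inr (Or.inr rfl)), cubeTwist_table⟩

/-- evaluate a word (a list of numbers of tables) at a point; the last letter acts first -/
def evalW (w : List ℕ) (x : ℕ) : ℕ := w.foldr (fun i y => (T.getD i []).getD y 0) x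

theorem word_spec (B : List ℕ) (w : List ℕ)
    (hw : ∀ i ∈ w, i < 40 ∧ ∀ b ∈ B, (T.getD i []).getD b 0 = b) :
    ∃ g ∈ K, (∀ p, pidx (g p) = evalW w (pidx p)) ∧ ∀ p, pidx p ∈ B → g p = p := by
  induction w with
  | nil => exact ⟨1, one_mem _, fun p => rfl, fun p _ => rfl⟩
  | cons i w ih =>
    obtain ⟨g, hg, hg1, hg2⟩ := ih (fun j hj => hw j (List.mem_cons_of_mem _ hj))
    obtain ⟨hi, hi'⟩ := hw i List.mem_cons_self
    obtain ⟨f, hf, hf'⟩ := tab_T i hi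
    refine ⟨f * g, mul_mem hf hg, fun p => ?_, fun p hp => ?_⟩
    · rw [Equiv.Perm.mul_apply, hf', hg1]
      rfl
    · rw [Equiv.Perm.mul_apply, hg2 p hp]
      apply pidx_injective
      rw [hf', hi' _ hp]

/-- the base of the stabiliser chain -/
def base : List ℕ := [23, 0, 1, 2, 3, 5, 4]

/-- the points that the `k`-th base point can be mapped to by the stabiliser of the first `k` -/
def allowed : List (List ℕ) :=
  [[0, 1, 2, 3, 4, 5, 6, 7, 8, 9, 10, 11, 12, 13, 14, 15, 16, 17, 18, 19, 20, 21, 22, 23],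
   [0, 1, 2, 3, 4, 5, 6, 7, 8, 9, 10, 11, 12, 13, 14, 15, 16, 17, 18, 19, 20, 21, 22],
   [1, 2, 3, 4, 5, 6, 7, 8, 9, 10, 11, 12, 13, 14, 15, 16, 17, 18, 19, 20, 21, 22],
   [2, 3, 4, 5, 6, 7, 8, 9, 10, 11, 12, 13, 14, 15, 16, 17, 18, 19, 20, 21, 22],
   [3, 4, 5, 6, 7, 8, 9, 10, 11, 12, 13, 14, 15, 16, 17, 18, 19, 20, 21, 22],
   [5, 14, 17],
   [4, 6, 7, 8, 9, 10, 11, 12, 13, 15, 16, 18, 19, 20, 21, 22]]

/-- words in the tables that give a transversal of the stabiliser chain -/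
def W : List (List (List ℕ)) :=
  [[[1], [0, 1], [0, 0, 1], [0, 0, 0, 1], [2, 2, 0, 1], [11, 0, 0, 1], [6, 0, 1], [0, 6, 0, 1], [39, 1, 0, 1], [20, 1, 0, 1], [9, 6, 1, 0, 1], [1, 0, 0, 1], [36, 6, 1, 0, 1], [32, 6, 0, 1], [2, 1, 0, 1], [17, 1, 0, 1], [11, 6, 0, 1], [2, 2, 1, 0, 1], [2, 0, 1], [6, 1, 0, 1], [36, 1, 0, 1], [32, 1, 0, 1], [1, 0, 1], []],
   [[], [0], [0, 0], [0, 0, 0], [2, 2, 0], [11, 0, 0], [6, 0], [0, 6, 0], [22, 2, 0], [32, 2, 0], [9, 0, 2, 0], [25, 6, 0], [36, 0, 2, 0], [32, 6, 0], [2, 13, 0, 0], [39, 6, 0], [11, 6, 0], [11, 0, 0, 0], [2, 0], [0, 2, 0], [13, 0, 0, 0], [25, 2, 0], [13, 0, 0], []],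
   [[], [], [6, 6], [13, 6], [6, 13, 6], [11, 6, 6], [6], [32, 11, 6], [22, 36, 6], [22, 6], [17, 11, 6], [25, 6], [9, 11, 6], [32, 6], [13, 13, 6, 6], [39, 6], [11, 6], [22, 11, 6], [36, 6], [17, 17, 6], [20, 11, 6], [17, 6], [13, 6, 6], []],
   [[], [], [], [9], [22, 13, 13], [11], [13, 11, 9], [39, 13, 9], [39, 13], [20, 13], [17, 22, 9], [32, 13, 9], [17, 13, 9], [22, 11, 9], [13, 13], [17, 13], [22, 9], [11, 9], [13, 13, 13], [22, 13, 9], [13, 9], [32, 13], [13], []],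
   [[], [], [], [], [22, 20, 17], [17, 17], [32, 22, 17], [32, 22], [17, 17, 22], [36, 22, 17], [17, 22], [39, 22], [39, 22, 17], [22, 17], [20, 17], [25, 22], [22], [17], [17, 25, 22], [22, 20, 22], [20, 22], [39, 17, 22], [22, 17, 17], []],
   [[], [], [], [], [], [], [], [], [], [], [], [], [], [], [20, 20], [], [], [20], [], [], [], [], [], []],
   [[], [], [], [], [], [], [39, 36], [36, 32, 25], [32, 25], [39, 32], [25], [39, 36, 25], [36, 32], [39, 36, 32], [], [36], [36, 25], [], [39], [32], [39, 36, 32, 25], [39, 25], [39, 32, 25], []]]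

theorem chain_check : ∀ k < 7, ∀ x ∈ allowed.getD k [],
    (∀ i ∈ (W.getD k []).getD x [], i < 40 ∧ ∀ b ∈ base.take k, (T.getD i []).getD b 0 = b) ∧
      evalW ((W.getD k []).getD x []) (base.getD k 0) = x := by
  decide +kernel

/-- The transversal, in terms of indices. -/
theorem exists_level (k : ℕ) (hk : k < 7) (b p : GolayPt) (hb : pidx b = base.getD k 0)
    (hp : pidx p ∈ allowed.getD k []) :
    ∃ g ∈ K, (∀ q, pidx q ∈ base.take k → g q = q) ∧ g b = p := by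
  obtain ⟨h1, h2⟩ := chain_check k hk _ hp
  obtain ⟨g, hg, hg1, hg2⟩ := word_spec (base.take k) _ h1
  refine ⟨g, hg, hg2, pidx_injective ?_⟩
  rw [hg1, hb, h2]

theorem L0 (p : GolayPt) : ∃ g ∈ K, g none = p := by
  have hp : pidx p ∈ allowed.getD 0 [] := by revert p; decide +kernel
  obtain ⟨g, hg, _, h⟩ := exists_level 0 (by norm_num) none p rfl hp
  exact ⟨g, hg, h⟩

theorem L1 (p : GolayPt) (h0 : p ≠ none) : ∃ g ∈ K, g none = none ∧ g (some 0) = p := by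
  have hp : pidx p ∈ allowed.getD 1 [] := by revert p; decide +kernel
  obtain ⟨g, hg, hf, h⟩ := exists_level 1 (by norm_num) (some 0) p rfl hp
  exact ⟨g, hg, hf none (by decide), h⟩

theorem L2 (p : GolayPt) (h0 : p ≠ none) (h1 : p ≠ some 0) :
    ∃ g ∈ K, g none = none ∧ g (some 0) = some 0 ∧ g (some 1) = p := by
  have hp : pidx p ∈ allowed.getD 2 [] := by revert p; decide +kernel
  obtain ⟨g, hg, hf, h⟩ := exists_level 2 (by norm_num) (some 1) p rfl hp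
  exact ⟨g, hg, hf none (by decide), hf (some 0) (by decide), h⟩

theorem L3 (p : GolayPt) (h0 : p ≠ none) (h1 : p ≠ some 0) (h2 : p ≠ some 1) :
    ∃ g ∈ K, g none = none ∧ g (some 0) = some 0 ∧ g (some 1) = some 1 ∧ g (some 2) = p := by
  have hp : pidx p ∈ allowed.getD 3 [] := by revert p; decide +kernel
  obtain ⟨g, hg, hf, h⟩ := exists_level 3 (by norm_num) (some 2) p rfl hp
  exact ⟨g, hg, hf none (by decide), hf (some 0) (by decide), hf (some 1) (by decide), h⟩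

theorem L4 (p : GolayPt) (h0 : p ≠ none) (h1 : p ≠ some 0) (h2 : p ≠ some 1) (h3 : p ≠ some 2) :
    ∃ g ∈ K, g none = none ∧ g (some 0) = some 0 ∧ g (some 1) = some 1 ∧ g (some 2) = some 2 ∧
      g (some 3) = p := by
  have hp : pidx p ∈ allowed.getD 4 [] := by revert p; decide +kernel
  obtain ⟨g, hg, hf, h⟩ := exists_level 4 (by norm_num) (some 3) p rfl hp
  exact ⟨g, hg, hf none (by decide), hf (some 0) (by decide), hf (some 1) (by decide),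
    hf (some 2) (by decide), h⟩

theorem L5 (p : GolayPt) (hp : p = some 5 ∨ p = some 14 ∨ p = some 17) :
    ∃ g ∈ K, g none = none ∧ g (some 0) = some 0 ∧ g (some 1) = some 1 ∧ g (some 2) = some 2 ∧
      g (some 3) = some 3 ∧ g (some 5) = p := by
  have hp : pidx p ∈ allowed.getD 5 [] := by revert p; decide +kernel
  obtain ⟨g, hg, hf, h⟩ := exists_level 5 (by norm_num) (some 5) p rfl hp
  exact ⟨g, hg, hf none (by decide), hf (some 0) (by decide), hf (some 1) (by decide),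
    hf (some 2) (by decide), hf (some 3) (by decide), h⟩

theorem L6 (p : GolayPt) (hp : p ∉ ({none, some 0, some 1, some 2, some 3, some 5, some 14,
      some 17} : Finset GolayPt)) :
    ∃ g ∈ K, g none = none ∧ g (some 0) = some 0 ∧ g (some 1) = some 1 ∧ g (some 2) = some 2 ∧
      g (some 3) = some 3 ∧ g (some 5) = some 5 ∧ g (some 4) = p := by
  have hp : pidx p ∈ allowed.getD 6 [] := by revert p; decide +kernel
  obtain ⟨g, hg, hf, h⟩ := exists_level 6 (by norm_num) (some 4) p rfl hp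
  exact ⟨g, hg, hf none (by decide), hf (some 0) (by decide), hf (some 1) (by decide),
    hf (some 2) (by decide), hf (some 3) (by decide), hf (some 5) (by decide), h⟩

theorem apply_inv (g : Equiv.Perm GolayPt) (x : GolayPt) : g (g⁻¹ x) = x := g.apply_symm_apply x

/-- `K` is 5-transitive: any five distinct points are mapped to the first five base points. -/
theorem exists_map_five (a : Fin 5 → GolayPt) (ha : Function.Injective a) :
    ∃ h ∈ K, h (a 0) = none ∧ h (a 1) = some 0 ∧ h (a 2) = some 1 ∧ h (a 3) = some 2 ∧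
      h (a 4) = some 3 := by
  obtain ⟨g0, m0, e0⟩ := L0 (a 0)
  have n1 : g0⁻¹ (a 1) ≠ none := by
    rw [Ne, Equiv.Perm.inv_eq_iff_eq, e0]
    exact ha.ne (by decide)
  obtain ⟨g1, m1, e10, e11⟩ := L1 _ n1
  have n2 : ∀ j : Fin 5, j ≠ 0 → g1⁻¹ (g0⁻¹ (a j)) ≠ none := by
    intro j hj
    rw [Ne, Equiv.Perm.inv_eq_iff_eq, e10, Equiv.Perm.inv_eq_iff_eq, e0]
    exact ha.ne hj
  have n2' : ∀ j : Fin 5, j ≠ 1 → g1⁻¹ (g0⁻¹ (a j)) ≠ some 0 := by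
    intro j hj
    rw [Ne, Equiv.Perm.inv_eq_iff_eq, e11]
    exact fun h => hj (ha (g0⁻¹.injective h))
  obtain ⟨g2, m2, e20, e21, e22⟩ := L2 _ (n2 2 (by decide)) (n2' 2 (by decide))
  have n3 : ∀ j : Fin 5, j ≠ 0 → g2⁻¹ (g1⁻¹ (g0⁻¹ (a j))) ≠ none := by
    intro j hj
    rw [Ne, Equiv.Perm.inv_eq_iff_eq, e20]
    exact n2 j hj
  have n3' : ∀ j : Fin 5, j ≠ 1 → g2⁻¹ (g1⁻¹ (g0⁻¹ (a j))) ≠ some 0 := by
    intro j hj
    rw [Ne, Equiv.Perm.inv_eq_iff_eq, e21]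
    exact n2' j hj
  have n3'' : ∀ j : Fin 5, j ≠ 2 → g2⁻¹ (g1⁻¹ (g0⁻¹ (a j))) ≠ some 1 := by
    intro j hj
    rw [Ne, Equiv.Perm.inv_eq_iff_eq, e22]
    exact fun h => hj (ha (g0⁻¹.injective (g1⁻¹.injective h)))
  obtain ⟨g3, m3, e30, e31, e32, e33⟩ :=
    L3 _ (n3 3 (by decide)) (n3' 3 (by decide)) (n3'' 3 (by decide))
  have n4 : g3⁻¹ (g2⁻¹ (g1⁻¹ (g0⁻¹ (a 4)))) ≠ none := by
    rw [Ne, Equiv.Perm.inv_eq_iff_eq, e30]
    exact n3 4 (by decide)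
  have n4' : g3⁻¹ (g2⁻¹ (g1⁻¹ (g0⁻¹ (a 4)))) ≠ some 0 := by
    rw [Ne, Equiv.Perm.inv_eq_iff_eq, e31]
    exact n3' 4 (by decide)
  have n4'' : g3⁻¹ (g2⁻¹ (g1⁻¹ (g0⁻¹ (a 4)))) ≠ some 1 := by
    rw [Ne, Equiv.Perm.inv_eq_iff_eq, e32]
    exact n3'' 4 (by decide)
  have n4''' : g3⁻¹ (g2⁻¹ (g1⁻¹ (g0⁻¹ (a 4)))) ≠ some 2 := by
    rw [Ne, Equiv.Perm.inv_eq_iff_eq, e33]
    exact fun h => absurd (ha (g0⁻¹.injective (g1⁻¹.injective (g2⁻¹.injective h)))) (by decide)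
  obtain ⟨g4, m4, e40, e41, e42, e43, e44⟩ := L4 _ n4 n4' n4'' n4'''
  refine ⟨g4⁻¹ * g3⁻¹ * g2⁻¹ * g1⁻¹ * g0⁻¹, ?_, ?_, ?_, ?_, ?_, ?_⟩
  · exact mul_mem (mul_mem (mul_mem (mul_mem (inv_mem m4) (inv_mem m3)) (inv_mem m2))
      (inv_mem m1)) (inv_mem m0)
  · simp only [Equiv.Perm.mul_apply, Equiv.Perm.inv_eq_iff_eq]
    rw [e40, e30, e20, e10, e0]
  · simp only [Equiv.Perm.mul_apply, Equiv.Perm.inv_eq_iff_eq]
    rw [e41, e31, e21, e11, apply_inv]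
  · simp only [Equiv.Perm.mul_apply, Equiv.Perm.inv_eq_iff_eq]
    rw [e42, e32, e22, apply_inv, apply_inv]
  · simp only [Equiv.Perm.mul_apply, Equiv.Perm.inv_eq_iff_eq]
    rw [e43, e33, apply_inv, apply_inv,
      apply_inv]
  · simp only [Equiv.Perm.mul_apply, Equiv.Perm.inv_eq_iff_eq]
    rw [e44, apply_inv, apply_inv,
      apply_inv, apply_inv]

end Cfsg.Agent.SporadicA.M24Chain
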