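/-
Golay code by bit masks: enumeration of `Cfsg.golayCode`, minimum weight, criterion for membership in `Cfsg.M24`.
A word is coded by a natural number below `2 ^ 24`: bit `x` (for the residue `x`), bit `23` for the extra point.
-/
import Cfsg.Prelude.Def_Sporadic_a

set_option autoImplicit false
open Cfsg
open scoped Pointwise

namespace Cfsg.Agent.SporadicA.M24Code

/-- position of a point: residues are `0, ..., 22`, the extra point is `23`. -/
def pos : GolayPt → ℕ
  | none => 23
  | some x => x.val

/-- the point at a position -/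
def pt (n : ℕ) : GolayPt := if n < 23 then some (n : ZMod 23) else none

theorem pos_lt : ∀ p : GolayPt, pos p < 24 := by decide +kernel

theorem pt_pos : ∀ p : GolayPt, pt (pos p) = p := by decide +kernel

theorem pos_pt : ∀ n < 24, pos (pt n) = n := by decide +kernel

theorem pos_injective : Function.Injective pos := by
  intro p q h
  rw [← pt_pos p, ← pt_pos q, h]

/-- the word with a given mask -/
def word (m : ℕ) : GolayPt → ZMod 2 := fun p => if m.testBit (pos p) then 1 else 0

theorem word_apply (m : ℕ) (p : GolayPt) : word m p = if m.testBit (pos p) then 1 else 0 := rfl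

theorem word_zero : word 0 = 0 := by
  funext p
  simp [word_apply]

theorem word_xor (a b : ℕ) : word (a ^^^ b) = word a + word b := by
  funext p
  simp only [word_apply, Pi.add_apply, Nat.testBit_xor]
  cases a.testBit (pos p) <;> cases b.testBit (pos p) <;> decide

theorem word_eq_iff (a b : ℕ) : word a = word b ↔ ∀ p, a.testBit (pos p) = b.testBit (pos p) := by
  constructor
  · intro h p
    have := congrFun h p
    simp only [word_apply] at this
    revert this
    cases a.testBit (pos p) <;> cases b.testBit (pos p) <;> decide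
  · intro h
    funext p
    rw [word_apply, word_apply, h p]

/-- masks of the translates of the squares, and of the all-ones word -/
def gmask : List ℕ := [340831, 681662, 1363324, 2726648, 5453296, 2517985, 5035970, 1683333, 3366666, 6733332, 5078057,
  1767507, 3535014, 7070028, 5751449, 3114291, 6228582, 4068557, 8137114, 7885621, 7382635, 6376663, 4364719, 16777215]

theorem qrWord_eq : ∀ t : ZMod 23, qrWord t = word (gmask.getD t.val 0) := by
  decide +kernel

theorem one_eq : (1 : GolayPt → ZMod 2) = word 16777215 := by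
  decide +kernel

theorem one_mem : (1 : GolayPt → ZMod 2) ∈ golayCode :=
  Submodule.subset_span (Or.inr rfl)

theorem qrWord_mem (t : ZMod 23) : qrWord t ∈ golayCode :=
  Submodule.subset_span (Or.inl ⟨t, rfl⟩)

theorem gmask_mem : ∀ g ∈ gmask, word g ∈ golayCode := by
  have h : ∀ g ∈ gmask, g = 16777215 ∨ ∃ t : ZMod 23, g = gmask.getD t.val 0 := by decide +kernel
  intro g hg
  rcases h g hg with h | ⟨t, h⟩
  · rw [h, ← one_eq]; exact one_mem
  · rw [h, ← qrWord_eq]; exact qrWord_mem t

/-- xor of those members of a list whose index (counted from `j`) is a bit of `m` -/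
def comb : ℕ → List ℕ → ℕ → ℕ
  | _, [], _ => 0
  | j, r :: rs, m => (bif m.testBit j then r else 0) ^^^ comb (j + 1) rs m

theorem comb_nil (j m : ℕ) : comb j [] m = 0 := rfl

theorem comb_cons (j r : ℕ) (rs : List ℕ) (m : ℕ) :
    comb j (r :: rs) m = (bif m.testBit j then r else 0) ^^^ comb (j + 1) rs m := rfl

theorem comb_xor (rs : List ℕ) (a b : ℕ) : ∀ j, comb j rs (a ^^^ b) = comb j rs a ^^^ comb j rs b := by
  induction rs with
  | nil => intro j; simp [comb_nil]
  | cons r rs ih =>
    intro j
    rw [comb_cons, comb_cons, comb_cons, ih, Nat.testBit_xor]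
    have h : (bif (a.testBit j ^^ b.testBit j) then r else 0) =
        (bif a.testBit j then r else 0) ^^^ (bif b.testBit j then r else 0) := by
      cases a.testBit j <;> cases b.testBit j <;> simp
    rw [h]
    rw [Nat.xor_assoc, Nat.xor_assoc, ← Nat.xor_assoc _ (comb (j + 1) rs a), Nat.xor_comm _ (comb (j + 1) rs a),
      Nat.xor_assoc]

theorem word_comb_mem (C : Submodule (ZMod 2) (GolayPt → ZMod 2)) (rs : List ℕ) (m : ℕ) :
    ∀ j, (∀ r ∈ rs, word r ∈ C) → word (comb j rs m) ∈ C := by
  induction rs with
  | nil => intro j _; rw [comb_nil, word_zero]; exact C.zero_mem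
  | cons r rs ih =>
    intro j h
    rw [comb_cons, word_xor]
    refine C.add_mem ?_ (ih (j + 1) fun s hs => h s (List.mem_cons_of_mem _ hs))
    cases m.testBit j
    · simp only [cond_false, word_zero]; exact C.zero_mem
    · exact h r List.mem_cons_self

/-- a basis of the code, systematic in positions `0, ..., 11` -/
def rows : List ℕ := [13062145, 4845570, 13938692, 7221256, 10170384, 11952160, 15515712, 2019456, 4038912, 8077824,
  11654144, 14919680]

theorem rows_mem : ∀ r ∈ rows, word r ∈ golayCode := by
  have h : ∀ r ∈ rows, r ∈ [8390313, 280, 8389785, 1400, 8390330, 8390551, 8390093, 2000, 1347, 101, 8390243,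
      8390181].map (comb 0 gmask) := by decide +kernel
  intro r hr
  obtain ⟨c, _, rfl⟩ := List.mem_map.1 (h r hr)
  exact word_comb_mem golayCode gmask c 0 gmask_mem

/-- the code word with information part `m` (`m < 4096`) -/
def enc (m : ℕ) : ℕ := comb 0 rows m

theorem enc_xor (a b : ℕ) : enc (a ^^^ b) = enc a ^^^ enc b := comb_xor rows a b 0

theorem word_enc_mem (m : ℕ) : word (enc m) ∈ golayCode := word_comb_mem golayCode rows m 0 rows_mem

/-- Enumeration of the code. -/
theorem mem_golayCode_iff (w : GolayPt → ZMod 2) : w ∈ golayCode ↔ ∃ m < 4096, w = word (enc m) := by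
  constructor
  · intro hw
    refine Submodule.span_induction (p := fun w _ => ∃ m < 4096, w = word (enc m)) ?_ ?_ ?_ ?_ hw
    · have h : ∀ g ∈ gmask, enc (g % 4096) = g := by decide +kernel
      have h2 : ∀ t : ZMod 23, gmask.getD t.val 0 ∈ gmask := by decide +kernel
      rintro x (⟨t, rfl⟩ | hx)
      · refine ⟨gmask.getD t.val 0 % 4096, Nat.mod_lt _ (by norm_num), ?_⟩
        rw [h _ (h2 t), qrWord_eq]
      · rw [Set.mem_singleton_iff] at hx
        refine ⟨16777215 % 4096, by norm_num, ?_⟩
        rw [h 16777215 (by decide), hx, one_eq]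
    · exact ⟨0, by norm_num, by rw [show enc 0 = 0 by decide +kernel, word_zero]⟩
    · rintro x y _ _ ⟨a, ha, rfl⟩ ⟨b, hb, rfl⟩
      refine ⟨a ^^^ b, ?_, ?_⟩
      · exact Nat.xor_lt_two_pow (n := 12) ha hb
      · rw [enc_xor, word_xor]
    · rintro a x _ ⟨m, hm, rfl⟩
      have : ∀ a : ZMod 2, a = 0 ∨ a = 1 := by decide
      rcases this a with rfl | rfl
      · exact ⟨0, by norm_num, by rw [show enc 0 = 0 by decide +kernel, word_zero, zero_smul]⟩
      · exact ⟨m, hm, by rw [one_smul]⟩
  · rintro ⟨m, _, rfl⟩
    exact word_enc_mem m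

/-- Check that a mask is a code word. -/
def inCode (m : ℕ) : Bool := enc (m % 4096) == m

theorem word_mem_of_inCode {m : ℕ} (h : inCode m = true) : word m ∈ golayCode := by
  have : enc (m % 4096) = m := by simpa [inCode] using h
  rw [← this]; exact word_enc_mem _

/-- all numbers `m` below `2 ^ k` (shifted) satisfy `f` -/
def allB (f : ℕ → Bool) : ℕ → ℕ → Bool
  | 0, b => f b
  | k + 1, b => allB f k (2 * b) && allB f k (2 * b + 1)

theorem allB_spec (f : ℕ → Bool) : ∀ k b, allB f k b = true → ∀ m < 2 ^ k, f (b * 2 ^ k + m) = true := by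
  intro k
  induction k with
  | zero =>
    intro b h m hm
    have : m = 0 := by simpa using hm
    subst this
    simpa [allB] using h
  | succ k ih =>
    intro b h m hm
    rw [allB, Bool.and_eq_true] at h
    rw [pow_succ] at hm
    by_cases hm2 : m < 2 ^ k
    · have := ih _ h.1 m hm2
      rw [show b * 2 ^ (k + 1) + m = 2 * b * 2 ^ k + m by rw [pow_succ]; ring]
      exact this
    · have := ih _ h.2 (m - 2 ^ k) (by omega)
      rw [show b * 2 ^ (k + 1) + m = (2 * b + 1) * 2 ^ k + (m - 2 ^ k) by
        rw [pow_succ, add_mul, one_mul, mul_comm 2 b, mul_assoc, mul_comm 2 (2 ^ k)]; omega]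
      exact this

/-- A property of the words of the code may be checked on the 4096 masks. -/
theorem forall_of_allB {P : (GolayPt → ZMod 2) → Prop} (f : ℕ → Bool) (hf : ∀ m, f m = true → P (word m))
    (h : allB (fun m => f (enc m)) 12 0 = true) : ∀ w ∈ golayCode, P w := by
  intro w hw
  obtain ⟨m, hm, rfl⟩ := (mem_golayCode_iff w).1 hw
  apply hf
  simpa using allB_spec _ 12 0 h m hm

/-- number of bits of a 24-bit mask -/
def popc (m : ℕ) : ℕ :=
  (m.testBit 0).toNat + (m.testBit 1).toNat + (m.testBit 2).toNat + (m.testBit 3).toNat + (m.testBit 4).toNat +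
  (m.testBit 5).toNat + (m.testBit 6).toNat + (m.testBit 7).toNat + (m.testBit 8).toNat + (m.testBit 9).toNat +
  (m.testBit 10).toNat + (m.testBit 11).toNat + (m.testBit 12).toNat + (m.testBit 13).toNat + (m.testBit 14).toNat +
  (m.testBit 15).toNat + (m.testBit 16).toNat + (m.testBit 17).toNat + (m.testBit 18).toNat + (m.testBit 19).toNat +
  (m.testBit 20).toNat + (m.testBit 21).toNat + (m.testBit 22).toNat + (m.testBit 23).toNat

theorem card_support₂_word (m : ℕ) : (support₂ (word m)).card = popc m := by
  have h1 : (support₂ (word m)).card = ∑ p : GolayPt, (m.testBit (pos p)).toNat := by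
    unfold support₂
    rw [Finset.card_filter]
    refine Finset.sum_congr rfl fun p _ => ?_
    rw [word_apply]
    cases m.testBit (pos p) <;> simp
  have h2 : ∑ i : ZMod 23, (m.testBit (pos (some i))).toNat = ∑ n ∈ Finset.range 23, (m.testBit n).toNat :=
    Fin.sum_univ_eq_sum_range (fun n => (m.testBit n).toNat) 23
  rw [h1, Fintype.sum_option, h2]
  simp only [Finset.sum_range_succ, Finset.sum_range_zero]
  show (m.testBit 23).toNat + _ = popc m
  unfold popc
  ring

theorem support₂_word_eq_empty_of_popc {m : ℕ} (h : popc m = 0) : support₂ (word m) = ∅ := by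
  rw [← Finset.card_eq_zero, card_support₂_word, h]

/-- Minimum weight 8. -/
theorem min_weight : ∀ w ∈ golayCode, w = 0 ∨ 8 ≤ (support₂ w).card := by
  refine forall_of_allB (fun m => m == 0 || Nat.ble 8 (popc m)) ?_ ?_
  · intro m hm
    rw [Bool.or_eq_true] at hm
    rcases hm with hm | hm
    · left
      rw [show m = 0 by simpa using hm, word_zero]
    · right
      rw [card_support₂_word]
      exact Nat.le_of_ble_eq_true hm
  · decide +kernel

end Cfsg.Agent.SporadicA.M24Code
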