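/-
Upper bound for the group of the length-24 code: octads with five fixed points are preserved, and only the
identity fixes the seven points `∞, 0, 1, 2, 3, 5, 4`.
-/
import Cfsg.Agent.SporadicA.M24Code

set_option autoImplicit false
open Cfsg
open scoped Pointwise

namespace Cfsg.Agent.SporadicA.M24Upper

open Cfsg.Agent.SporadicA.M24Code

theorem support₂_injective {α : Type*} [Fintype α] : Function.Injective (support₂ (α := α)) := by
  intro v w h
  funext a
  have h1 : v a ≠ 0 ↔ w a ≠ 0 := by
    have := Finset.ext_iff.1 h a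
    simpa [support₂] using this
  have h2 : ∀ x y : ZMod 2, (x ≠ 0 ↔ y ≠ 0) → x = y := by decide
  exact h2 _ _ h1

theorem smul_support₂ (g : Equiv.Perm GolayPt) (w : GolayPt → ZMod 2) :
    g • support₂ w = support₂ (fun p => w (g.symm p)) := by
  ext p
  rw [← Finset.inv_smul_mem_iff]
  simp only [support₂, Finset.mem_filter, Finset.mem_univ, true_and]
  rfl

/-- Elements of `M24` map code words to code words. -/
theorem comp_symm_mem {g : Equiv.Perm GolayPt} (hg : g ∈ M24) {w : GolayPt → ZMod 2} (hw : w ∈ golayCode) :
    (fun p => w (g.symm p)) ∈ golayCode := by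
  have h1 : g • supports (golayCode : Set (GolayPt → ZMod 2)) = supports (golayCode : Set (GolayPt → ZMod 2)) := hg
  have h2 : g • support₂ w ∈ supports (golayCode : Set (GolayPt → ZMod 2)) := by
    rw [← h1]
    exact Set.smul_mem_smul_set ⟨w, hw, rfl⟩
  rw [smul_support₂] at h2
  obtain ⟨v, hv, hv2⟩ := h2
  rw [support₂_injective hv2] at hv
  exact hv

theorem comp_mem {g : Equiv.Perm GolayPt} (hg : g ∈ M24) {w : GolayPt → ZMod 2} (hw : w ∈ golayCode) :
    (fun p => w (g p)) ∈ golayCode :=
  comp_symm_mem (g := g⁻¹) (inv_mem hg) hw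

theorem card_support₂_comp (g : Equiv.Perm GolayPt) (w : GolayPt → ZMod 2) :
    (support₂ (fun p => w (g p))).card = (support₂ w).card := by
  have h := smul_support₂ g⁻¹ w
  have h2 : (fun p => w (g⁻¹.symm p)) = fun p => w (g p) := rfl
  rw [h2] at h
  rw [← h, Finset.card_smul_finset]

/-- A word of weight 8 of the code with at least five points of its support fixed by `g ∈ M24` is preserved
by `g`. -/
theorem octad_fixed {g : Equiv.Perm GolayPt} (hg : g ∈ M24) {w : GolayPt → ZMod 2} (hw : w ∈ golayCode)
    (h8 : (support₂ w).card = 8) {F : Finset GolayPt} (hF : ∀ p ∈ F, g p = p)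
    (h5 : 5 ≤ (support₂ w ∩ F).card) : ∀ p, w (g p) = w p := by
  have hv : (fun p => w (g p)) ∈ golayCode := comp_mem hg hw
  have hs : w + (fun p => w (g p)) ∈ golayCode := golayCode.add_mem hw hv
  have hsub : support₂ (w + fun p => w (g p)) ⊆
      (support₂ w \ (support₂ w ∩ F)) ∪ (support₂ (fun p => w (g p)) \ (support₂ w ∩ F)) := by
    intro p hp
    simp only [support₂, Finset.mem_filter, Finset.mem_univ, true_and, Finset.mem_union, Finset.mem_sdiff,
      Finset.mem_inter, Pi.add_apply] at hp ⊢
    by_cases hpF : p ∈ F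
    · exfalso
      apply hp
      rw [hF p hpF]
      have : ∀ x : ZMod 2, x + x = 0 := by decide
      exact this _
    · by_cases h1 : w p = 0
      · right
        refine ⟨?_, fun h => hpF h.2⟩
        rw [h1, zero_add] at hp
        exact hp
      · left
        exact ⟨h1, fun h => hpF h.2⟩
  have hA : (support₂ w ∩ F) ⊆ support₂ w := Finset.inter_subset_left
  have hB : (support₂ w ∩ F) ⊆ support₂ (fun p => w (g p)) := by
    intro p hp
    simp only [support₂, Finset.mem_filter, Finset.mem_univ, true_and, Finset.mem_inter] at hp ⊢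
    rw [hF p hp.2]
    exact hp.1
  have c1 := Finset.card_sdiff_add_card_eq_card hA
  have c2 := Finset.card_sdiff_add_card_eq_card hB
  rw [card_support₂_comp, h8] at c2
  rw [h8] at c1
  have c3 := Finset.card_le_card hsub
  have c4 := Finset.card_union_le (support₂ w \ (support₂ w ∩ F)) (support₂ (fun p => w (g p)) \ (support₂ w ∩ F))
  rcases min_weight _ hs with h | h
  · intro p
    have hp := congrFun h p
    simp only [Pi.add_apply, Pi.zero_apply] at hp
    have : ∀ x y : ZMod 2, x + y = 0 → y = x := by decide
    exact this _ _ hp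
  · omega

theorem mem_support₂_word (m : ℕ) (p : GolayPt) : p ∈ support₂ (word m) ↔ m.testBit (pos p) = true := by
  have h : p ∈ support₂ (word m) ↔ word m p ≠ 0 := by simp [support₂]
  rw [h, word_apply]
  cases m.testBit (pos p) <;> simp

/-- The same in terms of masks. -/
theorem mask_fixed {g : Equiv.Perm GolayPt} (hg : g ∈ M24) {c F : ℕ} (hF : ∀ p, F.testBit (pos p) = true → g p = p)
    (hc : (inCode c && (popc c == 8) && Nat.ble 5 (popc (c &&& F))) = true) :
    ∀ p, c.testBit (pos (g p)) = c.testBit (pos p) := by
  rw [Bool.and_eq_true, Bool.and_eq_true] at hc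
  obtain ⟨⟨h1, h2⟩, h3⟩ := hc
  have h8 : popc c = 8 := by simpa using h2
  have h5 : 5 ≤ popc (c &&& F) := Nat.le_of_ble_eq_true h3
  have key := octad_fixed hg (word_mem_of_inCode h1) (by rw [card_support₂_word, h8])
    (F := support₂ (word F)) (fun p hp => hF p ((mem_support₂_word F p).1 hp)) (by
      have : support₂ (word c) ∩ support₂ (word F) = support₂ (word (c &&& F)) := by
        ext p
        rw [Finset.mem_inter, mem_support₂_word, mem_support₂_word, mem_support₂_word, Nat.testBit_and,
          Bool.and_eq_true]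
      rw [this, card_support₂_word]
      exact h5)
  intro p
  have := key p
  simp only [word_apply] at this
  revert this
  cases c.testBit (pos (g p)) <;> cases c.testBit (pos p) <;> decide

/-- The octad through `∞, 0, 1, 2, 3` is preserved by the elements of `M24` fixing these points. -/
theorem base_octad_fixed {g : Equiv.Perm GolayPt} (hg : g ∈ M24) (h : g none = none) (h0 : g (some 0) = some 0)
    (h1 : g (some 1) = some 1) (h2 : g (some 2) = some 2) (h3 : g (some 3) = some 3) (p : GolayPt) :
    g p ∈ ({none, some 0, some 1, some 2, some 3, some 5, some 14, some 17} : Finset GolayPt) ↔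
      p ∈ ({none, some 0, some 1, some 2, some 3, some 5, some 14, some 17} : Finset GolayPt) := by
  have key : ∀ p, p ∈ ({none, some 0, some 1, some 2, some 3, some 5, some 14, some 17} : Finset GolayPt) ↔
      (8536111 : ℕ).testBit (pos p) = true := by decide +kernel
  rw [key, key, mask_fixed hg (c := 8536111) (F := 8388623) ?_ (by decide +kernel)]
  intro p hp
  have : ∀ p, (8388623 : ℕ).testBit (pos p) = true → p = none ∨ p = some 0 ∨ p = some 1 ∨ p = some 2 ∨
    p = some 3 := by decide +kernel
  rcases this p hp with rfl | rfl | rfl | rfl | rfl <;> assumption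

/-- Only the identity of `M24` fixes the seven points `∞, 0, 1, 2, 3, 5, 4`. -/
theorem eq_one_of_fix {g : Equiv.Perm GolayPt} (hg : g ∈ M24) (h : g none = none) (h0 : g (some 0) = some 0)
    (h1 : g (some 1) = some 1) (h2 : g (some 2) = some 2) (h3 : g (some 3) = some 3) (h5 : g (some 5) = some 5)
    (h4 : g (some 4) = some 4) : g = 1 := by
  have hF1 : ∀ p, (8388671 : ℕ).testBit (pos p) = true → g p = p := by
    intro p hp
    have : ∀ p, (8388671 : ℕ).testBit (pos p) = true → p = none ∨ p = some 0 ∨ p = some 1 ∨ p = some 2 ∨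
      p = some 3 ∨ p = some 5 ∨ p = some 4 := by decide +kernel
    rcases this p hp with rfl | rfl | rfl | rfl | rfl | rfl | rfl <;> assumption
  have hL : ∀ c ∈ ([10486557, 2162811, 5275709, 5279, 8978620, 12584506, 8683614, 12656663, 8536111] : List ℕ), ∀ p, c.testBit (pos (g p)) = c.testBit (pos p) := by
    have hchk : ∀ c ∈ ([10486557, 2162811, 5275709, 5279, 8978620, 12584506, 8683614, 12656663, 8536111] : List ℕ), (inCode c && (popc c == 8) && Nat.ble 5 (popc (c &&& 8388671))) = true := by
      decide +kernel
    intro c hc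
    exact mask_fixed hg hF1 (hchk c hc)
  have hsep1 : ∀ p q : GolayPt, (∀ c ∈ ([10486557, 2162811, 5275709, 5279, 8978620, 12584506, 8683614, 12656663, 8536111] : List ℕ), c.testBit (pos q) = c.testBit (pos p)) → q = p ∨
      (16629759 : ℕ).testBit (pos p) = false := by decide +kernel
  have hF2 : ∀ p, (16629759 : ℕ).testBit (pos p) = true → g p = p := by
    intro p hp
    rcases hsep1 p (g p) (fun c hc => hL c hc p) with h | h
    · exact h
    · rw [hp] at h; exact absurd h (by decide)
  have hc2 := mask_fixed hg (c := 3277413) hF2 (by decide +kernel)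
  have hsep2 : ∀ p q : GolayPt, (∀ c ∈ ([10486557, 2162811, 5275709, 5279, 8978620, 12584506, 8683614, 12656663, 8536111] : List ℕ), c.testBit (pos q) = c.testBit (pos p)) →
      (3277413 : ℕ).testBit (pos q) = (3277413 : ℕ).testBit (pos p) → q = p := by decide +kernel
  ext1 p
  exact hsep2 p (g p) (fun c hc => hL c hc p) (hc2 p)

end Cfsg.Agent.SporadicA.M24Upper
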