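/-
Counting along the stabiliser chain `∞, 0, 1, 2, 3, 5, 4` of the group of the length-24 code.
-/
import Cfsg.Agent.SporadicA.M24Upper

set_option autoImplicit false
open Cfsg
open scoped Pointwise

namespace Cfsg.Agent.SporadicA.M24Count

open MulAction

theorem perm_apply_inv (g : Equiv.Perm GolayPt) (p : GolayPt) : g (g⁻¹ p) = p := g.apply_symm_apply p

theorem perm_inv_apply (g : Equiv.Perm GolayPt) (p : GolayPt) : g⁻¹ (g p) = p := g.symm_apply_apply p

/-- One step of a stabiliser chain. -/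
theorem card_step {α : Type*} (H : Subgroup (Equiv.Perm α)) (b : α) (S : Finset α)
    (hS : ∀ p, p ∈ S ↔ ∃ h ∈ H, h b = p) :
    Nat.card H = S.card * Nat.card (H ⊓ stabilizer (Equiv.Perm α) b : Subgroup (Equiv.Perm α)) := by
  have h1 : (stabilizer H b).index = (orbit H b).ncard := index_stabilizer H b
  have h2 : orbit H b = (S : Set α) := by
    ext p
    rw [Finset.mem_coe, hS, mem_orbit_iff]
    constructor
    · rintro ⟨h, rfl⟩
      exact ⟨h.1, h.2, rfl⟩
    · rintro ⟨h, hh, rfl⟩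
      exact ⟨⟨h, hh⟩, rfl⟩
  have h3 := Subgroup.card_mul_index (stabilizer H b)
  have h4 : Nat.card (stabilizer H b) =
      Nat.card (H ⊓ stabilizer (Equiv.Perm α) b : Subgroup (Equiv.Perm α)) :=
    Nat.card_congr (Equiv.subtypeSubtypeEquivSubtypeInter (fun x => x ∈ H)
      (fun x => x ∈ stabilizer (Equiv.Perm α) b))
  rw [h1, h2, Set.ncard_coe_finset, h4] at h3
  rw [← h3, mul_comm]

variable {K H : Subgroup (Equiv.Perm GolayPt)}

theorem card_eq_of_chain (hKH : K ≤ H) (hH : H ≤ M24)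
    (L0 : ∀ p : GolayPt, ∃ g ∈ K, g none = p)
    (L1 : ∀ p : GolayPt, p ≠ none → ∃ g ∈ K, g none = none ∧ g (some 0) = p)
    (L2 : ∀ p : GolayPt, p ≠ none → p ≠ some 0 → ∃ g ∈ K, g none = none ∧ g (some 0) = some 0 ∧ g (some 1) = p)
    (L3 : ∀ p : GolayPt, p ≠ none → p ≠ some 0 → p ≠ some 1 → ∃ g ∈ K, g none = none ∧ g (some 0) = some 0 ∧
      g (some 1) = some 1 ∧ g (some 2) = p)
    (L4 : ∀ p : GolayPt, p ≠ none → p ≠ some 0 → p ≠ some 1 → p ≠ some 2 → ∃ g ∈ K, g none = none ∧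
      g (some 0) = some 0 ∧ g (some 1) = some 1 ∧ g (some 2) = some 2 ∧ g (some 3) = p)
    (L5 : ∀ p : GolayPt, p = some 5 ∨ p = some 14 ∨ p = some 17 → ∃ g ∈ K, g none = none ∧
      g (some 0) = some 0 ∧ g (some 1) = some 1 ∧ g (some 2) = some 2 ∧ g (some 3) = some 3 ∧ g (some 5) = p)
    (L6 : ∀ p : GolayPt, p ∉ ({none, some 0, some 1, some 2, some 3, some 5, some 14, some 17} : Finset GolayPt) →
      ∃ g ∈ K, g none = none ∧ g (some 0) = some 0 ∧ g (some 1) = some 1 ∧ g (some 2) = some 2 ∧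
        g (some 3) = some 3 ∧ g (some 5) = some 5 ∧ g (some 4) = p) :
    Nat.card H = 244823040 := by
  have e0 := card_step H none Finset.univ (fun p => by
    refine ⟨fun _ => ?_, fun _ => Finset.mem_univ _⟩
    obtain ⟨g, hg, h⟩ := L0 p
    exact ⟨g, hKH hg, h⟩)
  have e1 := card_step (H ⊓ stabilizer (Equiv.Perm GolayPt) (none : GolayPt)) (some 0)
    (Finset.univ \ {none}) (fun p => by
      simp only [Finset.mem_sdiff, Finset.mem_univ, true_and, Finset.mem_singleton, Subgroup.mem_inf,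
        mem_stabilizer_iff, Equiv.Perm.smul_def]
      constructor
      · intro hp
        obtain ⟨g, hg, h, h'⟩ := L1 p hp
        exact ⟨g, ⟨hKH hg, h⟩, h'⟩
      · rintro ⟨g, ⟨hg, h⟩, rfl⟩ hp
        have := g.injective (hp.trans h.symm)
        exact absurd this (by decide))
  have e2 := card_step (H ⊓ stabilizer (Equiv.Perm GolayPt) (none : GolayPt) ⊓
      stabilizer (Equiv.Perm GolayPt) (some 0 : GolayPt)) (some 1)
    (Finset.univ \ {none, some 0}) (fun p => by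
      simp only [Finset.mem_sdiff, Finset.mem_univ, true_and, Finset.mem_singleton, Finset.mem_insert,
        Subgroup.mem_inf, mem_stabilizer_iff, Equiv.Perm.smul_def, not_or]
      constructor
      · rintro ⟨hp, hp0⟩
        obtain ⟨g, hg, h, h0, h'⟩ := L2 p hp hp0
        exact ⟨g, ⟨⟨hKH hg, h⟩, h0⟩, h'⟩
      · rintro ⟨g, ⟨⟨hg, h⟩, h0⟩, rfl⟩
        refine ⟨fun hp => ?_, fun hp => ?_⟩
        · exact absurd (g.injective (hp.trans h.symm)) (by decide)
        · exact absurd (g.injective (hp.trans h0.symm)) (by decide))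
  have e3 := card_step (H ⊓ stabilizer (Equiv.Perm GolayPt) (none : GolayPt) ⊓
      stabilizer (Equiv.Perm GolayPt) (some 0 : GolayPt) ⊓ stabilizer (Equiv.Perm GolayPt) (some 1 : GolayPt)) (some 2)
    (Finset.univ \ {none, some 0, some 1}) (fun p => by
      simp only [Finset.mem_sdiff, Finset.mem_univ, true_and, Finset.mem_singleton, Finset.mem_insert,
        Subgroup.mem_inf, mem_stabilizer_iff, Equiv.Perm.smul_def, not_or]
      constructor
      · rintro ⟨hp, hp0, hp1⟩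
        obtain ⟨g, hg, h, h0, h1, h'⟩ := L3 p hp hp0 hp1
        exact ⟨g, ⟨⟨⟨hKH hg, h⟩, h0⟩, h1⟩, h'⟩
      · rintro ⟨g, ⟨⟨⟨hg, h⟩, h0⟩, h1⟩, rfl⟩
        refine ⟨fun hp => ?_, fun hp => ?_, fun hp => ?_⟩
        · exact absurd (g.injective (hp.trans h.symm)) (by decide)
        · exact absurd (g.injective (hp.trans h0.symm)) (by decide)
        · exact absurd (g.injective (hp.trans h1.symm)) (by decide))
  have e4 := card_step (H ⊓ stabilizer (Equiv.Perm GolayPt) (none : GolayPt) ⊓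
      stabilizer (Equiv.Perm GolayPt) (some 0 : GolayPt) ⊓ stabilizer (Equiv.Perm GolayPt) (some 1 : GolayPt) ⊓
      stabilizer (Equiv.Perm GolayPt) (some 2 : GolayPt)) (some 3)
    (Finset.univ \ {none, some 0, some 1, some 2}) (fun p => by
      simp only [Finset.mem_sdiff, Finset.mem_univ, true_and, Finset.mem_singleton, Finset.mem_insert,
        Subgroup.mem_inf, mem_stabilizer_iff, Equiv.Perm.smul_def, not_or]
      constructor
      · rintro ⟨hp, hp0, hp1, hp2⟩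
        obtain ⟨g, hg, h, h0, h1, h2, h'⟩ := L4 p hp hp0 hp1 hp2
        exact ⟨g, ⟨⟨⟨⟨hKH hg, h⟩, h0⟩, h1⟩, h2⟩, h'⟩
      · rintro ⟨g, ⟨⟨⟨⟨hg, h⟩, h0⟩, h1⟩, h2⟩, rfl⟩
        refine ⟨fun hp => ?_, fun hp => ?_, fun hp => ?_, fun hp => ?_⟩
        · exact absurd (g.injective (hp.trans h.symm)) (by decide)
        · exact absurd (g.injective (hp.trans h0.symm)) (by decide)
        · exact absurd (g.injective (hp.trans h1.symm)) (by decide)
        · exact absurd (g.injective (hp.trans h2.symm)) (by decide))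
  have e5 := card_step (H ⊓ stabilizer (Equiv.Perm GolayPt) (none : GolayPt) ⊓
      stabilizer (Equiv.Perm GolayPt) (some 0 : GolayPt) ⊓ stabilizer (Equiv.Perm GolayPt) (some 1 : GolayPt) ⊓
      stabilizer (Equiv.Perm GolayPt) (some 2 : GolayPt) ⊓ stabilizer (Equiv.Perm GolayPt) (some 3 : GolayPt))
    (some 5) {some 5, some 14, some 17} (fun p => by
      simp only [Finset.mem_singleton, Finset.mem_insert,
        Subgroup.mem_inf, mem_stabilizer_iff, Equiv.Perm.smul_def]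
      constructor
      · intro hp
        obtain ⟨g, hg, h, h0, h1, h2, h3, h'⟩ := L5 p hp
        exact ⟨g, ⟨⟨⟨⟨⟨hKH hg, h⟩, h0⟩, h1⟩, h2⟩, h3⟩, h'⟩
      · rintro ⟨g, ⟨⟨⟨⟨⟨hg, h⟩, h0⟩, h1⟩, h2⟩, h3⟩, rfl⟩
        have hoct := (M24Upper.base_octad_fixed (hH hg) h h0 h1 h2 h3 (some 5)).2 (by decide)
        simp only [Finset.mem_singleton, Finset.mem_insert] at hoct
        rcases hoct with hp | hp | hp | hp | hp | hp
        · exact absurd (g.injective (hp.trans h.symm)) (by decide)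
        · exact absurd (g.injective (hp.trans h0.symm)) (by decide)
        · exact absurd (g.injective (hp.trans h1.symm)) (by decide)
        · exact absurd (g.injective (hp.trans h2.symm)) (by decide)
        · exact absurd (g.injective (hp.trans h3.symm)) (by decide)
        · exact hp)
  have e6 := card_step (H ⊓ stabilizer (Equiv.Perm GolayPt) (none : GolayPt) ⊓
      stabilizer (Equiv.Perm GolayPt) (some 0 : GolayPt) ⊓ stabilizer (Equiv.Perm GolayPt) (some 1 : GolayPt) ⊓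
      stabilizer (Equiv.Perm GolayPt) (some 2 : GolayPt) ⊓ stabilizer (Equiv.Perm GolayPt) (some 3 : GolayPt) ⊓
      stabilizer (Equiv.Perm GolayPt) (some 5 : GolayPt))
    (some 4) (Finset.univ \ {none, some 0, some 1, some 2, some 3, some 5, some 14, some 17}) (fun p => by
      simp only [Finset.mem_sdiff, Finset.mem_univ, true_and,
        Subgroup.mem_inf, mem_stabilizer_iff, Equiv.Perm.smul_def]
      constructor
      · intro hp
        obtain ⟨g, hg, h, h0, h1, h2, h3, h5, h'⟩ := L6 p hp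
        exact ⟨g, ⟨⟨⟨⟨⟨⟨hKH hg, h⟩, h0⟩, h1⟩, h2⟩, h3⟩, h5⟩, h'⟩
      · rintro ⟨g, ⟨⟨⟨⟨⟨⟨hg, h⟩, h0⟩, h1⟩, h2⟩, h3⟩, h5⟩, rfl⟩
        intro hp
        rw [M24Upper.base_octad_fixed (hH hg) h h0 h1 h2 h3 (some 4)] at hp
        exact absurd hp (by decide))
  have e7 : (H ⊓ stabilizer (Equiv.Perm GolayPt) (none : GolayPt) ⊓
      stabilizer (Equiv.Perm GolayPt) (some 0 : GolayPt) ⊓ stabilizer (Equiv.Perm GolayPt) (some 1 : GolayPt) ⊓
      stabilizer (Equiv.Perm GolayPt) (some 2 : GolayPt) ⊓ stabilizer (Equiv.Perm GolayPt) (some 3 : GolayPt) ⊓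
      stabilizer (Equiv.Perm GolayPt) (some 5 : GolayPt) ⊓ stabilizer (Equiv.Perm GolayPt) (some 4 : GolayPt)) = ⊥ := by
    rw [Subgroup.eq_bot_iff_forall]
    intro g hg
    simp only [Subgroup.mem_inf, mem_stabilizer_iff, Equiv.Perm.smul_def] at hg
    obtain ⟨⟨⟨⟨⟨⟨⟨hg, h⟩, h0⟩, h1⟩, h2⟩, h3⟩, h5⟩, h4⟩ := hg
    exact M24Upper.eq_one_of_fix (hH hg) h h0 h1 h2 h3 h5 h4
  rw [e7, Subgroup.card_bot] at e6
  rw [e0, e1, e2, e3, e4, e5, e6]
  decide

/-- Five-transitivity from the first five levels of the chain. -/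
theorem exists_map
    (L0 : ∀ p : GolayPt, ∃ g ∈ K, g none = p)
    (L1 : ∀ p : GolayPt, p ≠ none → ∃ g ∈ K, g none = none ∧ g (some 0) = p)
    (L2 : ∀ p : GolayPt, p ≠ none → p ≠ some 0 → ∃ g ∈ K, g none = none ∧ g (some 0) = some 0 ∧ g (some 1) = p)
    (L3 : ∀ p : GolayPt, p ≠ none → p ≠ some 0 → p ≠ some 1 → ∃ g ∈ K, g none = none ∧ g (some 0) = some 0 ∧
      g (some 1) = some 1 ∧ g (some 2) = p)
    (L4 : ∀ p : GolayPt, p ≠ none → p ≠ some 0 → p ≠ some 1 → p ≠ some 2 → ∃ g ∈ K, g none = none ∧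
      g (some 0) = some 0 ∧ g (some 1) = some 1 ∧ g (some 2) = some 2 ∧ g (some 3) = p)
    (x : Fin 5 → GolayPt) (hx : Function.Injective x) :
    ∃ g ∈ K, g none = x 0 ∧ g (some 0) = x 1 ∧ g (some 1) = x 2 ∧ g (some 2) = x 3 ∧ g (some 3) = x 4 := by
  obtain ⟨g0, hg0, a0⟩ := L0 (x 0)
  have n1 : g0⁻¹ (x 1) ≠ none := by
    intro h
    rw [Equiv.Perm.inv_eq_iff_eq, a0] at h
    exact absurd (hx h) (by decide)
  obtain ⟨g1, hg1, b0, b1⟩ := L1 _ n1
  have c0 : (g0 * g1) none = x 0 := by rw [Equiv.Perm.mul_apply, b0, a0]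
  have c1 : (g0 * g1) (some 0) = x 1 := by rw [Equiv.Perm.mul_apply, b1, perm_apply_inv]
  have hk1 : g0 * g1 ∈ K := mul_mem hg0 hg1
  generalize g0 * g1 = k1 at c0 c1 hk1
  have n2 : k1⁻¹ (x 2) ≠ none := by
    intro h
    rw [Equiv.Perm.inv_eq_iff_eq, c0] at h
    exact absurd (hx h) (by decide)
  have n2' : k1⁻¹ (x 2) ≠ some 0 := by
    intro h
    rw [Equiv.Perm.inv_eq_iff_eq, c1] at h
    exact absurd (hx h) (by decide)
  obtain ⟨g2, hg2, d0, d1, d2⟩ := L2 _ n2 n2'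
  have e0 : (k1 * g2) none = x 0 := by rw [Equiv.Perm.mul_apply, d0, c0]
  have e1 : (k1 * g2) (some 0) = x 1 := by rw [Equiv.Perm.mul_apply, d1, c1]
  have e2 : (k1 * g2) (some 1) = x 2 := by rw [Equiv.Perm.mul_apply, d2, perm_apply_inv]
  have hk2 : k1 * g2 ∈ K := mul_mem hk1 hg2
  generalize k1 * g2 = k2 at e0 e1 e2 hk2
  have n3 : k2⁻¹ (x 3) ≠ none := by
    intro h
    rw [Equiv.Perm.inv_eq_iff_eq, e0] at h
    exact absurd (hx h) (by decide)
  have n3' : k2⁻¹ (x 3) ≠ some 0 := by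
    intro h
    rw [Equiv.Perm.inv_eq_iff_eq, e1] at h
    exact absurd (hx h) (by decide)
  have n3'' : k2⁻¹ (x 3) ≠ some 1 := by
    intro h
    rw [Equiv.Perm.inv_eq_iff_eq, e2] at h
    exact absurd (hx h) (by decide)
  obtain ⟨g3, hg3, f0, f1, f2, f3⟩ := L3 _ n3 n3' n3''
  have i0 : (k2 * g3) none = x 0 := by rw [Equiv.Perm.mul_apply, f0, e0]
  have i1 : (k2 * g3) (some 0) = x 1 := by rw [Equiv.Perm.mul_apply, f1, e1]
  have i2 : (k2 * g3) (some 1) = x 2 := by rw [Equiv.Perm.mul_apply, f2, e2]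
  have i3 : (k2 * g3) (some 2) = x 3 := by rw [Equiv.Perm.mul_apply, f3, perm_apply_inv]
  have hk3 : k2 * g3 ∈ K := mul_mem hk2 hg3
  generalize k2 * g3 = k3 at i0 i1 i2 i3 hk3
  have n4 : k3⁻¹ (x 4) ≠ none := by
    intro h
    rw [Equiv.Perm.inv_eq_iff_eq, i0] at h
    exact absurd (hx h) (by decide)
  have n4' : k3⁻¹ (x 4) ≠ some 0 := by
    intro h
    rw [Equiv.Perm.inv_eq_iff_eq, i1] at h
    exact absurd (hx h) (by decide)
  have n4'' : k3⁻¹ (x 4) ≠ some 1 := by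
    intro h
    rw [Equiv.Perm.inv_eq_iff_eq, i2] at h
    exact absurd (hx h) (by decide)
  have n4''' : k3⁻¹ (x 4) ≠ some 2 := by
    intro h
    rw [Equiv.Perm.inv_eq_iff_eq, i3] at h
    exact absurd (hx h) (by decide)
  obtain ⟨g4, hg4, j0, j1, j2, j3, j4⟩ := L4 _ n4 n4' n4'' n4'''
  refine ⟨k3 * g4, mul_mem hk3 hg4, ?_, ?_, ?_, ?_, ?_⟩
  · rw [Equiv.Perm.mul_apply, j0, i0]
  · rw [Equiv.Perm.mul_apply, j1, i1]
  · rw [Equiv.Perm.mul_apply, j2, i2]
  · rw [Equiv.Perm.mul_apply, j3, i3]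
  · rw [Equiv.Perm.mul_apply, j4, perm_apply_inv]

/-- A group of permutations of the 24 points carrying `∞, 0, 1, 2, 3` to every tuple of five distinct points is
5-transitive. -/
theorem isMultiplyPretransitive_of_exists_map (hKH : K ≤ H)
    (h : ∀ x : Fin 5 → GolayPt, Function.Injective x → ∃ g ∈ K, g none = x 0 ∧ g (some 0) = x 1 ∧
      g (some 1) = x 2 ∧ g (some 2) = x 3 ∧ g (some 3) = x 4) :
    IsMultiplyPretransitive H GolayPt 5 := by
  refine ⟨fun x y => ?_⟩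
  obtain ⟨g, hg, a0, a1, a2, a3, a4⟩ := h x x.injective
  obtain ⟨k, hk, b0, b1, b2, b3, b4⟩ := h y y.injective
  refine ⟨⟨k * g⁻¹, hKH (mul_mem hk (inv_mem hg))⟩, ?_⟩
  ext i : 1
  rw [Function.Embedding.smul_apply, Subgroup.mk_smul, Equiv.Perm.smul_def, Equiv.Perm.mul_apply]
  fin_cases i
  · show k (g⁻¹ (x 0)) = y 0
    rw [← a0, perm_inv_apply, b0]
  · show k (g⁻¹ (x 1)) = y 1
    rw [← a1, perm_inv_apply, b1]
  · show k (g⁻¹ (x 2)) = y 2
    rw [← a2, perm_inv_apply, b2]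
  · show k (g⁻¹ (x 3)) = y 3
    rw [← a3, perm_inv_apply, b3]
  · show k (g⁻¹ (x 4)) = y 4
    rw [← a4, perm_inv_apply, b4]

end Cfsg.Agent.SporadicA.M24Count
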