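/-
Order, 5-transitivity and generation of the group of the length-24 code.
-/
import Cfsg.Agent.SporadicA.M24Count
import Cfsg.Agent.SporadicA.M24Chain

set_option autoImplicit false
open Cfsg

namespace Cfsg.Agent.SporadicA.M24Trans

open Cfsg.Agent.SporadicA.M24Chain

/-- Every group between the group generated by the three standard permutations and `M24` has order 244823040. -/
theorem card_of_le {H : Subgroup (Equiv.Perm GolayPt)} (h1 : K ≤ H) (h2 : H ≤ M24) : Nat.card H = 244823040 :=
  M24Count.card_eq_of_chain h1 h2 L0 L1 L2 L3 L4 L5 L6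

theorem card_M24 : Nat.card M24 = 244823040 := card_of_le K_le_M24 le_rfl

theorem closure_eq : K = M24 := by
  refine Subgroup.eq_of_le_of_card_ge K_le_M24 ?_
  rw [card_M24, card_of_le le_rfl K_le_M24]

/-- Some element of `M24` carries `∞, 0, 1, 2, 3` to any given tuple of five distinct points. -/
theorem exists_map (x : Fin 5 → GolayPt) (hx : Function.Injective x) :
    ∃ g ∈ M24, g none = x 0 ∧ g (some 0) = x 1 ∧ g (some 1) = x 2 ∧ g (some 2) = x 3 ∧ g (some 3) = x 4 := by
  obtain ⟨g, hg, h⟩ := M24Count.exists_map L0 L1 L2 L3 L4 x hx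
  exact ⟨g, K_le_M24 hg, h⟩

theorem five_transitive : MulAction.IsMultiplyPretransitive M24 GolayPt 5 :=
  M24Count.isMultiplyPretransitive_of_exists_map (K := M24) le_rfl exists_map

end Cfsg.Agent.SporadicA.M24Trans
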