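import Mathlib

/-!
Simplicity criteria used for the Mathieu groups.

* `isSimpleGroup_of_sylow_prime` : a finite group in which every nontrivial normal subgroup has
  order divisible by `p`, whose Sylow `p`-subgroup has order `p` and normaliser of order `p * q`
  (`q` prime), and whose order is not `p * q`, is simple.
* `isPrimePow_card_of_regular_normal` and `isSimpleGroup_of_simple_stabilizer`.
-/

set_option autoImplicit false

namespace Cfsg.Agent.SporadicA.SimpleCrit

open Subgroup MulAction

/-- A normal subgroup whose order is divisible by `p` contains every Sylow `p`-subgroup of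
order `p`. -/
theorem sylow_le_of_normal_of_dvd {G : Type*} [Group G] [Finite G] (p : ℕ) [Fact p.Prime]
    (P : Sylow p G) (hP : Nat.card P = p) (N : Subgroup G) [N.Normal] (hN : p ∣ Nat.card N) :
    (P : Subgroup G) ≤ N := by
  obtain ⟨x, hx⟩ := exists_prime_orderOf_dvd_card' (G := N) p hN
  have hxo : orderOf (x : G) = p := by rw [orderOf_coe, hx]
  have hz : IsPGroup p (zpowers (x : G)) := by
    apply IsPGroup.of_card (n := 1)
    rw [Nat.card_zpowers, hxo, pow_one]
  obtain ⟨Q, hQ⟩ := hz.exists_le_sylow
  have hQc : Nat.card Q = p := by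
    rw [Nat.card_congr (Sylow.equiv Q P).toEquiv, hP]
  have hQe : zpowers (x : G) = Q := by
    apply Subgroup.eq_of_le_of_card_ge hQ
    rw [Nat.card_zpowers, hxo]
    exact hQc.le
  have hQN : (Q : Subgroup G) ≤ N := by
    rw [← hQe, zpowers_le]
    exact x.2
  obtain ⟨g, hg⟩ := exists_smul_eq G Q P
  rw [← hg]
  intro y hy
  rw [Sylow.coe_subgroup_smul, Subgroup.mem_pointwise_smul_iff_inv_smul_mem] at hy
  have h2 := ‹N.Normal›.conj_mem _ (hQN hy) g
  simpa [MulAut.smul_def, mul_assoc] using h2

/-- **Simplicity criterion** (Frattini argument + Burnside transfer). -/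
theorem isSimpleGroup_of_sylow_prime {G : Type*} [Group G] [Finite G] (p q : ℕ) [Fact p.Prime]
    (hq : q.Prime) (P : Sylow p G) (hP : Nat.card P = p)
    (hN : Nat.card (Subgroup.normalizer (P : Set G)) = p * q) (hG : Nat.card G ≠ p * q)
    (hnorm : ∀ N : Subgroup G, N.Normal → N ≠ ⊥ → p ∣ Nat.card N) : IsSimpleGroup G := by
  have hp : p.Prime := Fact.out
  have hnt : Nontrivial G := by
    have : Nontrivial P := by
      rw [← Finite.one_lt_card_iff_nontrivial, hP]
      exact hp.one_lt
    obtain ⟨a, b, hab⟩ := this
    exact ⟨⟨a, b, fun h => hab (Subtype.ext h)⟩⟩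
  refine { eq_bot_or_eq_top_of_normal := fun N hNn => ?_ }
  by_cases hNb : N = ⊥
  · exact Or.inl hNb
  right
  have hpN : p ∣ Nat.card N := hnorm N hNn hNb
  have hPN : (P : Subgroup G) ≤ N := sylow_le_of_normal_of_dvd p P hP N hpN
  have hfr : normalizer (P : Set G) ⊔ N = ⊤ := Sylow.normalizer_sup_eq_top' P hPN
  have hidx : N.relIndex (normalizer (P : Set G)) = N.index := by
    have h1 := relIndex_sup_right (normalizer (P : Set G)) N
    rw [hfr, relIndex_top_right] at h1
    exact h1.symm
  have hcard : Nat.card (N ⊓ normalizer (P : Set G) : Subgroup G) * N.index = p * q := by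
    rw [← hN, ← hidx]
    have h2 := Subgroup.card_mul_index (N.subgroupOf (normalizer (P : Set G)))
    rw [← h2]
    have h3 : Nat.card (N.subgroupOf (normalizer (P : Set G))) =
        Nat.card (N ⊓ normalizer (P : Set G) : Subgroup G) := by
      rw [← Subgroup.inf_subgroupOf_right]
      exact Nat.card_congr (subgroupOfEquivOfLe inf_le_right).toEquiv
    rw [h3]
    rfl
  have hPle : (P : Subgroup G) ≤ N ⊓ normalizer (P : Set G) := le_inf hPN le_normalizer
  have hpd : p ∣ Nat.card (N ⊓ normalizer (P : Set G) : Subgroup G) := by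
    have h4 := Subgroup.card_dvd_of_le hPle
    rwa [show Nat.card ↥(P : Subgroup G) = p from hP] at h4
  obtain ⟨m, hm⟩ := hpd
  have hmq : m * N.index = q := by
    have : p * (m * N.index) = p * q := by rw [← mul_assoc, ← hm, hcard]
    exact Nat.eq_of_mul_eq_mul_left hp.pos this
  rcases (Nat.dvd_prime hq).1 ⟨m, by rw [mul_comm, hmq]⟩ with h1 | h1
  · exact index_eq_one.1 h1
  · exfalso
    have hm1 : m = 1 := by
      rw [h1] at hmq
      exact Nat.eq_of_mul_eq_mul_right hq.pos (by rw [hmq, one_mul])
    rw [hm1, mul_one] at hm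
    have hPe : (P : Subgroup G) = N ⊓ normalizer (P : Set G) := by
      apply Subgroup.eq_of_le_of_card_ge hPle
      rw [hm]
      exact hP.ge
    -- Burnside transfer inside `N`
    let P' : Sylow p N := P.subtype hPN
    have hP'c : ((P' : Subgroup N)) = (P : Subgroup G).subgroupOf N := P.coe_subtype hPN
    have hcyc : IsCyclic P := isCyclic_of_prime_card hP
    have hcomm : ∀ a ∈ (P : Subgroup G), ∀ b ∈ (P : Subgroup G), a * b = b * a := by
      intro a ha b hb
      have := (IsCyclic.commGroup (α := P)).mul_comm ⟨a, ha⟩ ⟨b, hb⟩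
      exact congrArg Subtype.val this
    have hle : normalizer (P' : Set N) ≤ centralizer (P' : Set N) := by
      intro x hx
      have hxP : (x : G) ∈ (P : Subgroup G) := by
        rw [hPe]
        refine mem_inf.2 ⟨x.2, ?_⟩
        change ∀ h : G, h ∈ (P : Subgroup G) ↔ (x : G) * h * (x : G)⁻¹ ∈ (P : Subgroup G)
        intro h
        have hx' := mem_normalizer_iff.1 hx
        constructor
        · intro hh
          have := (hx' ⟨h, hPN hh⟩).1 (by rw [hP'c]; exact mem_subgroupOf.2 hh)
          rw [hP'c, mem_subgroupOf] at this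
          exact this
        · intro hh
          have hhN : h ∈ N := by
            have h3 := hNn.conj_mem _ (hPN hh) (x : G)⁻¹
            simpa [mul_assoc] using h3
          have := (hx' ⟨h, hhN⟩).2 (by rw [hP'c, mem_subgroupOf]; exact hh)
          rw [hP'c, mem_subgroupOf] at this
          exact this
      rw [mem_centralizer_iff]
      intro y hy
      have hy' : (y : G) ∈ (P : Subgroup G) := by
        have : y ∈ (P' : Subgroup N) := hy
        rw [hP'c, mem_subgroupOf] at this
        exact this
      exact Subtype.ext (hcomm _ hy' _ hxP)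
    have hcompl := MonoidHom.ker_transferSylow_isComplement' P' hle
    set f := MonoidHom.transferSylow P' hle with hf
    have hndvd : ¬ p ∣ Nat.card f.ker := MonoidHom.not_dvd_card_ker_transferSylow P' hle
    have hP'card : Nat.card P' = p := by
      have : Nat.card P' = Nat.card ((P : Subgroup G).subgroupOf N) := by
        rw [← hP'c]
      rw [this, Nat.card_congr (subgroupOfEquivOfLe hPN).toEquiv, hP]
    have hker : ∀ x : N, x ∈ f.ker ↔ ¬ p ∣ orderOf x := by
      intro x
      constructor
      · intro hx hd
        apply hndvd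
        refine hd.trans ?_
        have := orderOf_dvd_natCard (⟨x, hx⟩ : f.ker)
        rwa [Subgroup.orderOf_mk] at this
      · intro hx
        have h2 : orderOf (f x) ∣ orderOf x := orderOf_map_dvd f x
        have h3 : orderOf (f x) ∣ p := by
          have := orderOf_dvd_natCard (f x)
          rwa [show Nat.card ↥(P' : Subgroup N) = p from hP'card] at this
        rcases (Nat.dvd_prime hp).1 h3 with h4 | h4
        · exact orderOf_eq_one_iff.1 h4
        · exact absurd (h4 ▸ h2) hx
    have hKnormal : (f.ker.map N.subtype).Normal := by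
      constructor
      rintro _ ⟨x, hx, rfl⟩ g
      have hx1 : ¬ p ∣ orderOf x := (hker x).1 hx
      refine ⟨⟨g * (x : G) * g⁻¹, hNn.conj_mem _ x.2 g⟩, ?_, rfl⟩
      apply (hker _).2
      rw [Subgroup.orderOf_mk]
      have : orderOf (g * (x : G) * g⁻¹) = orderOf (x : G) := by
        have := orderOf_injective (MulAut.conj g).toMonoidHom (MulAut.conj g).injective (x : G)
        simpa using this
      rw [this, orderOf_coe]
      exact hx1
    have hKbot : f.ker.map N.subtype = ⊥ := by
      by_contra hne
      have := hnorm _ hKnormal hne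
      rw [Subgroup.card_map_of_injective (Subgroup.subtype_injective N)] at this
      exact hndvd this
    have hK1 : Nat.card f.ker = 1 := by
      rw [← Subgroup.card_map_of_injective (K := f.ker) (Subgroup.subtype_injective N), hKbot]
      exact Subgroup.card_bot
    have hcN : Nat.card N = p := by
      have := hcompl.card_mul_card
      rw [hK1, one_mul] at this
      rw [← this]
      exact hP'card
    apply hG
    rw [← Subgroup.card_mul_index N, hcN, h1]

/-- If `N` is a normal subgroup of `G` acting regularly on `Ω` and the stabiliser of `a` is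
transitive on the other points, then `|N|` is a prime power. -/
theorem isPrimePow_card_of_regular_normal {G Ω : Type*} [Group G] [MulAction G Ω] [Finite G]
    (a : Ω) (N : Subgroup G) [N.Normal] (hN : N ≠ ⊥)
    (hreg : ∀ n ∈ N, n • a = a → n = 1)
    (htr : ∀ b c : Ω, b ≠ a → c ≠ a → ∃ g : G, g • a = a ∧ g • b = c) :
    IsPrimePow (Nat.card N) := by
  have hnt : Nontrivial N := (Subgroup.nontrivial_iff_ne_bot N).2 hN
  have hc1 : Nat.card N ≠ 1 := (Finite.one_lt_card (α := N)).ne'
  obtain ⟨p, hp, hpd⟩ := Nat.exists_prime_and_dvd hc1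
  have : Fact p.Prime := ⟨hp⟩
  obtain ⟨x, hx⟩ := exists_prime_orderOf_dvd_card' (G := N) p hpd
  have hx1 : (x : G) ≠ 1 := by
    intro h
    rw [← orderOf_coe, h, orderOf_one] at hx
    exact hp.one_lt.ne hx
  have hall : ∀ n : N, n ^ p = 1 := by
    intro n
    by_cases hn : n = 1
    · rw [hn, one_pow]
    have hn1 : (n : G) ≠ 1 := fun h => hn (Subtype.ext h)
    have hxa : (x : G) • a ≠ a := fun h => hx1 (hreg _ x.2 h)
    have hna : (n : G) • a ≠ a := fun h => hn1 (hreg _ n.2 h)
    obtain ⟨g, hg, hg2⟩ := htr _ _ hxa hna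
    have hconj : g * (x : G) * g⁻¹ = n := by
      have hmem : (n : G)⁻¹ * (g * (x : G) * g⁻¹) ∈ N :=
        N.mul_mem (N.inv_mem n.2) (‹N.Normal›.conj_mem _ x.2 g)
      have := hreg _ hmem (by
        have hg' : g⁻¹ • a = a := by
          rw [inv_smul_eq_iff]; exact hg.symm
        rw [mul_smul, mul_smul, mul_smul, hg', hg2, inv_smul_smul])
      exact (inv_mul_eq_one.1 this).symm
    apply Subtype.ext
    rw [Subgroup.coe_pow, Subgroup.coe_one, ← hconj, conj_pow]
    have : (x : G) ^ p = 1 := by
      rw [← hx, ← orderOf_coe, pow_orderOf_eq_one]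
    rw [this, mul_one, mul_inv_cancel]
  have hpg : IsPGroup p N := fun n => ⟨1, by rw [pow_one]; exact hall n⟩
  obtain ⟨k, hk⟩ := IsPGroup.iff_card.1 hpg
  rw [hk]
  refine (isPrimePow_nat_iff _).2 ⟨p, k, hp, ?_, rfl⟩
  rcases Nat.eq_zero_or_pos k with h | h
  · rw [h, pow_zero] at hk
    exact absurd hk hc1
  · exact h

/-- A finite group with a faithful 2-transitive action of degree not a prime power and with a
simple point stabiliser is simple. -/
theorem isSimpleGroup_of_simple_stabilizer {G Ω : Type*} [Group G] [MulAction G Ω] [Finite G]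
    [FaithfulSMul G Ω] (h2 : IsMultiplyPretransitive G Ω 2) (a : Ω)
    (hs : IsSimpleGroup (stabilizer G a)) (hcard : ¬ IsPrimePow (Nat.card Ω)) :
    IsSimpleGroup G := by
  have hprim : IsPreprimitive G Ω := isPreprimitive_of_is_two_pretransitive h2
  have hpre : IsPretransitive G Ω := inferInstance
  have hnt : Nontrivial G := by
    obtain ⟨x, y, hxy⟩ := hs.toNontrivial
    exact ⟨⟨x, y, fun h => hxy (Subtype.ext h)⟩⟩
  refine { eq_bot_or_eq_top_of_normal := fun N hNn => ?_ }
  by_cases hNb : N = ⊥
  · exact Or.inl hNb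
  right
  have htransN : IsPretransitive N Ω := by
    apply IsQuasiPreprimitive.isPretransitive_of_normal (G := G) (X := Ω)
    intro hfix
    apply hNb
    rw [eq_bot_iff]
    intro n hn
    rw [mem_bot]
    apply FaithfulSMul.eq_of_smul_eq_smul (α := Ω)
    intro x
    have : x ∈ fixedPoints N Ω := by rw [hfix]; trivial
    have h3 := this ⟨n, hn⟩
    rw [one_smul]
    exact h3
  have hNS : (N.subgroupOf (stabilizer G a)).Normal := Subgroup.normal_subgroupOf
  rcases hs.eq_bot_or_eq_top_of_normal _ hNS with h | h
  · exfalso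
    apply hcard
    have hreg : ∀ n ∈ N, n • a = a → n = 1 := by
      intro n hn hna
      have : (⟨n, hna⟩ : stabilizer G a) ∈ N.subgroupOf (stabilizer G a) := hn
      rw [h, mem_bot] at this
      exact congrArg Subtype.val this
    have hbij : Nat.card N = Nat.card Ω := by
      apply Nat.card_congr
      refine Equiv.ofBijective (fun n : N => (n : G) • a) ⟨?_, ?_⟩
      · intro n m hnm
        have h4 : ((m : G)⁻¹ * n) • a = a := by
          rw [mul_smul]
          change (n : G) • a = (m : G) • a at hnm
          rw [hnm, inv_smul_smul]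
        have := hreg _ (N.mul_mem (N.inv_mem m.2) n.2) h4
        exact Subtype.ext (inv_mul_eq_one.1 this).symm
      · intro b
        obtain ⟨n, hn⟩ := exists_smul_eq N a b
        exact ⟨n, hn⟩
    rw [← hbij]
    apply isPrimePow_card_of_regular_normal a N hNb hreg
    intro b c hb hc
    obtain ⟨g, hg1, hg2⟩ := is_two_pretransitive_iff.1 h2 hb.symm hc.symm
    exact ⟨g, hg1, hg2⟩
  · have hle : stabilizer G a ≤ N := by
      intro g hg
      have : (⟨g, hg⟩ : stabilizer G a) ∈ N.subgroupOf (stabilizer G a) := by
        rw [h]; trivial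
      exact this
    rw [eq_top_iff]
    intro g _
    obtain ⟨n, hn⟩ := exists_smul_eq N a (g • a)
    have hn' : (n : G) • a = g • a := hn
    have : (n : G)⁻¹ * g ∈ N := by
      apply hle
      rw [mem_stabilizer_iff, mul_smul, ← hn', inv_smul_smul]
    have h5 := N.mul_mem n.2 this
    rwa [mul_inv_cancel_left] at h5

/-- In a faithful primitive group every nontrivial normal subgroup is transitive, so its order is
divisible by the degree. -/
theorem card_dvd_card_of_normal {G Ω : Type*} [Group G] [MulAction G Ω] [Finite G]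
    [FaithfulSMul G Ω] [Nonempty Ω] (hprim : IsPreprimitive G Ω) (N : Subgroup G) (hN : N.Normal)
    (hNb : N ≠ ⊥) : Nat.card Ω ∣ Nat.card N := by
  have htransN : IsPretransitive N Ω := by
    apply IsQuasiPreprimitive.isPretransitive_of_normal (G := G) (X := Ω)
    intro hfix
    apply hNb
    rw [eq_bot_iff]
    intro n hn
    rw [mem_bot]
    apply FaithfulSMul.eq_of_smul_eq_smul (α := Ω)
    intro x
    have : x ∈ fixedPoints N Ω := by rw [hfix]; trivial
    have h3 := this ⟨n, hn⟩
    rw [one_smul]
    exact h3
  obtain ⟨a⟩ := ‹Nonempty Ω›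
  have h1 : orbit N a = Set.univ := orbit_eq_univ N a
  have h2 : Nat.card (orbit N a) = Nat.card Ω := by
    rw [h1]; exact Nat.card_univ
  rw [← h2, Nat.card_congr (orbitEquivQuotientStabilizer N a)]
  exact Subgroup.card_quotient_dvd_card _

/-- **Simplicity criterion** for faithful primitive groups: `p` divides the degree, the Sylow
`p`-subgroup has order `p` and normaliser of order `p * q`, `q` prime, `|G| ≠ p * q`. -/
theorem isSimpleGroup_of_primitive {G Ω : Type*} [Group G] [MulAction G Ω] [Finite G]
    [FaithfulSMul G Ω] [Nonempty Ω] (hprim : IsPreprimitive G Ω) (p q : ℕ) [Fact p.Prime]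
    (hq : q.Prime) (hp : p ∣ Nat.card Ω) (P : Sylow p G) (hP : Nat.card P = p)
    (hN : Nat.card (Subgroup.normalizer (P : Set G)) = p * q) (hG : Nat.card G ≠ p * q) :
    IsSimpleGroup G :=
  isSimpleGroup_of_sylow_prime p q hq P hP hN hG
    (fun N hNn hNb => hp.trans (card_dvd_card_of_normal hprim N hNn hNb))

end Cfsg.Agent.SporadicA.SimpleCrit
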