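import Mathlib
import Cfsg.Agent.SporadicA.SimpleCrit

/-!
Finite groups with a self-centralising element of prime order `p`.

* `card_modEq_one_of_fixedPointFree` : an automorphism of order dividing `p` fixing only `1` forces
  `|S| ≡ 1 mod p`.
* `card_sylow_modEq_one` : if `x` has order `p`, `C_G(x) = ⟨x⟩`, `K` is normal of order prime to `p`,
  then every Sylow subgroup of `K` has order `≡ 1 mod p`.
* `card_normalizer` : `|N_G(⟨x⟩)| = p * ((|G| / p) mod p)`.
* `isSimpleGroup_of_selfCent` : simplicity from the arithmetic of `|G|`.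
-/

set_option autoImplicit false

namespace Cfsg.Agent.SporadicA.SelfCent

open Subgroup MulAction

/-- An automorphism `φ` with `φ ^ p = 1` and no nontrivial fixed element: `|S| ≡ 1 mod p`. -/
theorem card_modEq_one_of_fixedPointFree {S : Type*} [Group S] [Finite S] (p : ℕ) [Fact p.Prime]
    (φ : MulAut S) (hφ : φ ^ p = 1) (hfix : ∀ s : S, φ s = s → s = 1) :
    Nat.card S ≡ 1 [MOD p] := by
  have hP : IsPGroup p (zpowers φ) := by
    rintro ⟨y, hy⟩
    obtain ⟨k, rfl⟩ := mem_zpowers_iff.1 hy
    refine ⟨1, ?_⟩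
    apply Subtype.ext
    change (φ ^ k) ^ (p ^ 1) = 1
    rw [pow_one, ← zpow_natCast, ← zpow_mul, mul_comm, zpow_mul, zpow_natCast, hφ, one_zpow]
  have h := hP.card_modEq_card_fixedPoints S
  have hf : fixedPoints (zpowers φ) S = {1} := by
    ext s
    rw [Set.mem_singleton_iff]
    constructor
    · intro hs
      exact hfix s (hs ⟨φ, mem_zpowers φ⟩)
    · rintro rfl
      intro g
      exact map_one (g : MulAut S)
  rw [hf] at h
  simpa using h

/-- If `K ⊴ G` has order prime to `p`, `p ∣ |G|`, and every element of order `p` of `G` centralises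
only `1` in `K`, then Sylow subgroups of `K` have order `≡ 1 mod p`. -/
theorem card_sylow_modEq_one' {G : Type*} [Group G] [Finite G] (p : ℕ) [Fact p.Prime]
    (hpG : p ∣ Nat.card G) (K : Subgroup G) [K.Normal] (hpK : ¬ p ∣ Nat.card K)
    (hc : ∀ y : G, orderOf y = p → ∀ z ∈ K, Commute z y → z = 1)
    (r : ℕ) [Fact r.Prime] (S : Sylow r K) : Nat.card S ≡ 1 [MOD p] := by
  have hp : p.Prime := Fact.out
  set S' : Subgroup G := (S : Subgroup K).map K.subtype with hS'
  have hfr : normalizer (S' : Set G) ⊔ K = ⊤ := Sylow.normalizer_sup_eq_top S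
  have hidx : K.relIndex (normalizer (S' : Set G)) = K.index := by
    have h1 := relIndex_sup_right (normalizer (S' : Set G)) K
    rw [hfr, relIndex_top_right] at h1
    exact h1.symm
  have hpI : p ∣ K.index := by
    have := K.card_mul_index
    rw [← this] at hpG
    exact (hp.dvd_mul.1 hpG).resolve_left hpK
  have hpM : p ∣ Nat.card (normalizer (S' : Set G)) := by
    rw [← hidx] at hpI
    exact hpI.trans (relIndex_dvd_card _ _)
  obtain ⟨y, hy⟩ := exists_prime_orderOf_dvd_card' (G := normalizer (S' : Set G)) p hpM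
  have hyo : orderOf (y : G) = p := by rw [orderOf_coe, hy]
  have hS'K : S' ≤ K := map_subtype_le _
  have key := card_modEq_one_of_fixedPointFree p (S'.normalizerMonoidHom y)
    (by rw [← map_pow, ← hy, pow_orderOf_eq_one, map_one])
    (by
      intro s hs
      have h2 : (y : G) * s * (y : G)⁻¹ = s := by
        have := congrArg (Subtype.val) hs
        simpa using this
      apply Subtype.ext
      apply hc y hyo s (hS'K s.2)
      change (s : G) * y = y * s
      rw [← mul_inv_eq_iff_eq_mul.1 h2])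
  have hcS : Nat.card S' = Nat.card S :=
    Subgroup.card_map_of_injective (Subgroup.subtype_injective K)
  rwa [hcS] at key

section self

variable {G : Type*} [Group G] [Finite G] (p : ℕ) [Fact p.Prime] (x : G) (hx : orderOf x = p)
  (hc : ∀ z : G, Commute z x → z ∈ zpowers x) (hp2 : ¬ p ^ 2 ∣ Nat.card G)

include hx hc hp2

omit hc in
/-- The Sylow subgroup generated by `x`. -/
theorem exists_sylow : ∃ P : Sylow p G, (P : Subgroup G) = zpowers x ∧ Nat.card P = p := by
  have hp : p.Prime := Fact.out
  have hP : IsPGroup p (zpowers x) := by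
    apply IsPGroup.of_card (n := 1)
    rw [Nat.card_zpowers, hx, pow_one]
  obtain ⟨Q, hQ⟩ := hP.exists_le_sylow
  obtain ⟨n, hn⟩ := Q.2.exists_card_eq
  have hpQ : p ∣ Nat.card Q := by
    have := card_dvd_of_le hQ
    rwa [Nat.card_zpowers, hx] at this
  have hQG : Nat.card Q ∣ Nat.card G := card_subgroup_dvd_card _
  have hn1 : n = 1 := by
    change Nat.card Q = p ^ n at hn
    rcases n with _ | _ | n
    · rw [hn, pow_zero, Nat.dvd_one] at hpQ
      exact absurd hpQ hp.one_lt.ne'
    · rfl
    · exfalso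
      apply hp2
      refine (pow_dvd_pow p (by omega : 2 ≤ n + 1 + 1)).trans ?_
      rw [← hn]; exact hQG
  have hQc : Nat.card Q = p := by
    change Nat.card Q = p ^ n at hn
    rw [hn, hn1, pow_one]
  refine ⟨Q, ?_, hQc⟩
  symm
  apply Subgroup.eq_of_le_of_card_ge hQ
  rw [Nat.card_zpowers, hx]
  exact hQc.le

/-- Every element of order `p` is self-centralising. -/
theorem mem_zpowers_of_commute (y : G) (hy : orderOf y = p) (z : G) (hz : Commute z y) :
    z ∈ zpowers y := by
  have hp : p.Prime := Fact.out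
  obtain ⟨P, hP, -⟩ := exists_sylow p x hx hp2
  obtain ⟨Q, hQ, -⟩ := exists_sylow p y hy hp2
  obtain ⟨g, hg⟩ := exists_smul_eq G P Q
  -- conjugate of x generates zpowers y
  have hmem : g * x * g⁻¹ ∈ zpowers y := by
    rw [← hQ, ← hg, Sylow.coe_subgroup_smul, Subgroup.mem_pointwise_smul_iff_inv_smul_mem, hP]
    simp [MulAut.smul_def, mul_assoc]
  have hcz : Commute z (g * x * g⁻¹) := by
    obtain ⟨k, hk⟩ := mem_zpowers_iff.1 hmem
    rw [← hk]
    exact hz.zpow_right k
  have hcz' : Commute (g⁻¹ * z * g) x := by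
    have h1 : z * (g * x * g⁻¹) = (g * x * g⁻¹) * z := hcz
    change g⁻¹ * z * g * x = x * (g⁻¹ * z * g)
    have h2 : g⁻¹ * (z * (g * x * g⁻¹)) * g = g⁻¹ * ((g * x * g⁻¹) * z) * g := by rw [h1]
    simpa [mul_assoc] using h2
  obtain ⟨k, hk⟩ := mem_zpowers_iff.1 (hc _ hcz')
  have h3 : z = (g * x * g⁻¹) ^ k := by
    rw [conj_zpow, hk]
    group
  rw [h3]
  exact zpow_mem hmem k

/-- Sylow subgroups of normal `p'`-subgroups have order `≡ 1 mod p`. -/
theorem card_sylow_modEq_one (K : Subgroup G) [K.Normal] (hpK : ¬ p ∣ Nat.card K)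
    (r : ℕ) [Fact r.Prime] (S : Sylow r K) : Nat.card S ≡ 1 [MOD p] := by
  have hp : p.Prime := Fact.out
  have hpG : p ∣ Nat.card G := by rw [← hx]; exact orderOf_dvd_natCard x
  refine card_sylow_modEq_one' p hpG K hpK (fun y hy z hzK hz => ?_) r S
  have h1 : z ∈ zpowers y := mem_zpowers_of_commute p x hx hc hp2 y hy z hz
  by_contra hne
  have h2 : orderOf z ∣ p := by
    rw [← hy, ← Nat.card_zpowers y]
    exact Subgroup.orderOf_dvd_natCard _ h1
  rcases (Nat.dvd_prime hp).1 h2 with h3 | h3
  · exact hne (orderOf_eq_one_iff.1 h3)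
  · apply hpK
    rw [← h3]
    exact Subgroup.orderOf_dvd_natCard _ hzK

/-- The order of the normaliser is determined by `|G|`. -/
theorem card_normalizer (P : Sylow p G) :
    Nat.card (normalizer (P : Set G)) = p * (Nat.card G / p % p) := by
  have hp : p.Prime := Fact.out
  obtain ⟨Q, hQ, hQc⟩ := exists_sylow p x hx hp2
  have hPc : Nat.card P = p := by
    rw [Nat.card_congr (Sylow.equiv P Q).toEquiv, hQc]
  -- a generator of `P`
  obtain ⟨y, hy⟩ := exists_prime_orderOf_dvd_card' (G := P) p (by rw [hPc])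
  have hyo : orderOf (y : G) = p := by rw [orderOf_coe, hy]
  have hPy : (P : Subgroup G) = zpowers (y : G) := by
    symm
    apply Subgroup.eq_of_le_of_card_ge (zpowers_le.2 y.2)
    rw [Nat.card_zpowers, hyo]
    exact hPc.le
  -- centraliser of P is P
  have hcent : centralizer ((P : Subgroup G) : Set G) = P := by
    apply le_antisymm
    · intro z hz
      rw [hPy]
      apply mem_zpowers_of_commute p x hx hc hp2 _ hyo
      exact (mem_centralizer_iff.1 hz (y : G) y.2).symm
    · intro z hz
      rw [mem_centralizer_iff]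
      intro w hw
      have hz' : z ∈ (P : Subgroup G) := hz
      have hw' : w ∈ (P : Subgroup G) := hw
      rw [hPy] at hz' hw'
      obtain ⟨a, rfl⟩ := mem_zpowers_iff.1 hz'
      obtain ⟨b, rfl⟩ := mem_zpowers_iff.1 hw'
      exact zpow_mul_comm _ _ _
  have : Fact p.Prime := ⟨hp⟩
  have hcyc : IsCyclic P := isCyclic_of_prime_card hPc
  have key : Nat.card (normalizer ((P : Subgroup G) : Set G) ⧸ (P : Subgroup G).normalizerMonoidHom.ker) ∣
      Nat.card (MulAut (P : Subgroup G)) :=
    card_dvd_of_injective _ (QuotientGroup.kerLift_injective (P : Subgroup G).normalizerMonoidHom)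
  rw [normalizerMonoidHom_ker, ← index, ← relIndex] at key
  rw [hcyc.card_mulAut] at key
  change (centralizer ((P : Subgroup G) : Set G)).relIndex (normalizer ((P : Subgroup G) : Set G)) ∣
    Nat.totient (Nat.card P) at key
  rw [hPc, Nat.totient_prime hp, hcent] at key
  have hNc : Nat.card (normalizer (P : Set G)) =
      p * (P : Subgroup G).relIndex (normalizer ((P : Subgroup G) : Set G)) := by
    have h5 := Subgroup.card_mul_index ((P : Subgroup G).subgroupOf (normalizer ((P : Subgroup G) : Set G)))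
    rw [Nat.card_congr (subgroupOfEquivOfLe P.le_normalizer).toEquiv] at h5
    change Nat.card (normalizer ((P : Subgroup G) : Set G)) = _
    rw [← h5]
    change _ = p * ((P : Subgroup G).subgroupOf (normalizer ((P : Subgroup G) : Set G))).index
    rw [show Nat.card ↥(P : Subgroup G) = p from hPc]
  set d := (P : Subgroup G).relIndex (normalizer ((P : Subgroup G) : Set G)) with hd
  have hdlt : d < p := by
    have h6 := Nat.le_of_dvd (Nat.sub_pos_of_lt hp.one_lt) key
    have := hp.pos
    omega
  have h7 : Nat.card (Sylow p G) = (normalizer (P : Set G)).index := P.card_eq_index_normalizer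
  have h8 : Nat.card (Sylow p G) ≡ 1 [MOD p] := _root_.card_sylow_modEq_one p G
  have h9 : Nat.card G = p * (d * Nat.card (Sylow p G)) := by
    rw [h7, ← Subgroup.card_mul_index (normalizer (P : Set G)), hNc, mul_assoc]
  have h10 : Nat.card G / p = d * Nat.card (Sylow p G) := by
    rw [h9, Nat.mul_div_cancel_left _ hp.pos]
  have h11 : Nat.card G / p % p = d := by
    rw [h10]
    have h12 : d * Nat.card (Sylow p G) ≡ d * 1 [MOD p] := Nat.ModEq.mul_left d h8
    rw [mul_one] at h12
    rw [h12, Nat.mod_eq_of_lt hdlt]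
  rw [h11, hNc]

/-- **Simplicity criterion.** A finite group with a self-centralising element `x` of order `p`,
in which no nontrivial normal subgroup has order prime to `p`. -/
theorem isSimpleGroup_of_selfCent' (q : ℕ) (hq : q.Prime)
    (hcard : Nat.card G / p % p = q) (hG : Nat.card G ≠ p * q)
    (hnum : ∀ K : Subgroup G, K.Normal → ¬ p ∣ Nat.card K → K = ⊥) : IsSimpleGroup G := by
  obtain ⟨P, -, hPc⟩ := exists_sylow p x hx hp2
  refine SimpleCrit.isSimpleGroup_of_sylow_prime p q hq P hPc ?_ hG ?_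
  · rw [card_normalizer p x hx hc hp2 P, hcard]
  · intro N hN hNb
    by_contra h
    exact hNb (hnum N hN h)

/-- A normal subgroup of order prime to `p` is trivial if no prime power `r ^ a > 1` dividing `|G|`
is `≡ 1 mod p`. -/
theorem eq_bot_of_normal (hnum : ∀ r a : ℕ, r.Prime → r ≠ p → r ^ a ∣ Nat.card G →
      r ^ a ≡ 1 [MOD p] → a = 0) (K : Subgroup G) (hK : K.Normal) (hpK : ¬ p ∣ Nat.card K) :
    K = ⊥ := by
  by_contra hne
  have hnt : Nontrivial K := (Subgroup.nontrivial_iff_ne_bot K).2 hne
  have hc1 : Nat.card K ≠ 1 := (Finite.one_lt_card (α := K)).ne'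
  obtain ⟨r, hr, hrd⟩ := Nat.exists_prime_and_dvd hc1
  have : Fact r.Prime := ⟨hr⟩
  let S : Sylow r K := default
  have h1 : Nat.card S ≡ 1 [MOD p] := card_sylow_modEq_one p x hx hc hp2 K hpK r S
  obtain ⟨a, ha⟩ := S.2.exists_card_eq
  change Nat.card S = r ^ a at ha
  have hrp : r ≠ p := fun h => hpK (h ▸ hrd)
  have hdvd : r ^ a ∣ Nat.card G := by
    rw [← ha]
    exact (card_subgroup_dvd_card (S : Subgroup K)).trans (card_subgroup_dvd_card K)
  have ha0 := hnum r a hr hrp hdvd (ha ▸ h1)
  rw [ha0, pow_zero] at ha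
  have h2 : r ∣ Nat.card S := S.dvd_card_of_dvd_card hrd
  rw [ha, Nat.dvd_one] at h2
  exact hr.one_lt.ne' h2

/-- **Simplicity criterion** by arithmetic of the group order only. -/
theorem isSimpleGroup_of_selfCent (q : ℕ) (hq : q.Prime)
    (hcard : Nat.card G / p % p = q) (hG : Nat.card G ≠ p * q)
    (hnum : ∀ r a : ℕ, r.Prime → r ≠ p → r ^ a ∣ Nat.card G → r ^ a ≡ 1 [MOD p] → a = 0) :
    IsSimpleGroup G :=
  isSimpleGroup_of_selfCent' p x hx hc hp2 q hq hcard hG
    (eq_bot_of_normal p x hx hc hp2 hnum)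

end self

end Cfsg.Agent.SporadicA.SelfCent
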