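import Mathlib
import Cfsg.Agent.SporadicA.SelfCent

/-!
Normal `p'`-subgroups of a group with a self-centralising element of order `p`: if the arithmetic of
`|G|` leaves one prime power `r ^ a` only, such a normal subgroup is elementary abelian of order
`r ^ a`, its centraliser has order `r ^ a`, and `|G| / r ^ a` divides `|GL_a(r)|`.
-/

set_option autoImplicit false

namespace Cfsg.Agent.SporadicA.SelfCentTwo

open Subgroup MulAction

/-- A group acting faithfully by additive automorphisms on an `F_r`-space of order `r ^ a`. -/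
theorem card_dvd_card_GL {M H : Type*} [AddCommGroup M] [Finite M] [Group H] (r a : ℕ)
    [Fact r.Prime] [Module (ZMod r) M] (hcard : Nat.card M = r ^ a) (φ : H →* AddMonoid.End M)
    (hφ : Function.Injective φ) :
    Nat.card H ∣ Nat.card (GL (Fin a) (ZMod r)) := by
  classical
  have : Fintype M := Fintype.ofFinite M
  have hfin : Module.Finite (ZMod r) M := Module.Finite.of_finite
  have hrank : Module.finrank (ZMod r) M = a := by
    have h1 : Fintype.card M = Fintype.card (ZMod r) ^ Module.finrank (ZMod r) M :=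
      Module.card_eq_pow_finrank
    rw [ZMod.card, ← Nat.card_eq_fintype_card, hcard] at h1
    exact (Nat.pow_right_injective (Fact.out : r.Prime).two_le h1).symm
  let b : Module.Basis (Fin a) (ZMod r) M := Module.finBasisOfFinrankEq (ZMod r) M hrank
  let φ' : H →* Module.End (ZMod r) M :=
    { toFun := fun f => AddMonoidHom.toZModLinearMap r (φ f)
      map_one' := by
        apply LinearMap.ext
        intro x
        change φ 1 x = x
        rw [map_one]
        rfl
      map_mul' := by
        intro f g
        apply LinearMap.ext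
        intro x
        change φ (f * g) x = φ f (φ g x)
        rw [map_mul]
        rfl }
  have hφ' : Function.Injective φ' := by
    intro f g h
    apply hφ
    ext x
    exact congrArg (fun l : Module.End (ZMod r) M => l x) h
  let ψ : H →* GL (Fin a) (ZMod r) :=
    (Matrix.GeneralLinearGroup.toLin' b).symm.toMonoidHom.comp φ'.toHomUnits
  have hψ : Function.Injective ψ := by
    intro f g h
    have h1 : φ'.toHomUnits f = φ'.toHomUnits g :=
      (Matrix.GeneralLinearGroup.toLin' b).symm.injective h
    apply hφ'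
    exact congrArg Units.val h1
  exact card_dvd_of_injective ψ hψ

/-- The automorphism group of an elementary abelian group of order `r ^ a` has order dividing that of
`GL_a(r)`. -/
theorem card_mulAut_dvd {K : Type*} [CommGroup K] [Finite K] (r a : ℕ) [Fact r.Prime]
    (hexp : ∀ k : K, k ^ r = 1) (hcard : Nat.card K = r ^ a) :
    Nat.card (MulAut K) ∣ Nat.card (GL (Fin a) (ZMod r)) := by
  let mod : Module (ZMod r) (Additive K) := AddCommGroup.zmodModule (fun x => by
    change Additive.ofMul ((Additive.toMul x) ^ r) = 0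
    rw [hexp]
    rfl)
  let φ : MulAut K →* AddMonoid.End (Additive K) :=
    { toFun := fun f => MonoidHom.toAdditive f.toMonoidHom
      map_one' := rfl
      map_mul' := fun f g => rfl }
  have hcard' : Nat.card (Additive K) = r ^ a := by
    rw [← hcard]
    exact Nat.card_congr Additive.toMul
  refine card_dvd_card_GL r a hcard' φ ?_
  intro f g h
  ext x
  have := congrArg (fun l : AddMonoid.End (Additive K) => Additive.toMul (l (Additive.ofMul x))) h
  exact this

section

variable {G : Type*} [Group G] [Finite G] (p : ℕ) [Fact p.Prime] (x : G) (hx : orderOf x = p)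
  (hc : ∀ z : G, Commute z x → z ∈ zpowers x) (hp2 : ¬ p ^ 2 ∣ Nat.card G) (r a : ℕ)
  [Fact r.Prime]
  (hnum : ∀ s b : ℕ, s.Prime → s ≠ p → s ^ b ∣ Nat.card G → s ^ b ≡ 1 [MOD p] →
    b = 0 ∨ (s = r ∧ b = a))

include hx hc hp2 hnum

/-- A nontrivial normal `p'`-subgroup has order `r ^ a`. -/
theorem card_eq_of_normal (K : Subgroup G) (hK : K.Normal) (hpK : ¬ p ∣ Nat.card K)
    (hne : K ≠ ⊥) : Nat.card K = r ^ a := by
  have hnt : Nontrivial K := (Subgroup.nontrivial_iff_ne_bot K).2 hne
  have hc1 : Nat.card K ≠ 1 := (Finite.one_lt_card (α := K)).ne'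
  have key : ∀ s : ℕ, s.Prime → s ∣ Nat.card K → s = r ∧ ∀ S : Sylow s K, Nat.card S = r ^ a := by
    intro s hs hsd
    have : Fact s.Prime := ⟨hs⟩
    have main : ∀ S : Sylow s K, s = r ∧ Nat.card S = r ^ a := by
      intro S
      have h1 : Nat.card S ≡ 1 [MOD p] := SelfCent.card_sylow_modEq_one p x hx hc hp2 K hpK s S
      obtain ⟨b, hb⟩ := S.2.exists_card_eq
      change Nat.card S = s ^ b at hb
      have hsp : s ≠ p := fun h => hpK (h ▸ hsd)
      have hdvd : s ^ b ∣ Nat.card G := by
        rw [← hb]
        exact (card_subgroup_dvd_card (S : Subgroup K)).trans (card_subgroup_dvd_card K)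
      rcases hnum s b hs hsp hdvd (hb ▸ h1) with hb0 | ⟨h2, h3⟩
      · exfalso
        rw [hb0, pow_zero] at hb
        have h2 : s ∣ Nat.card S := S.dvd_card_of_dvd_card hsd
        rw [hb, Nat.dvd_one] at h2
        exact hs.one_lt.ne' h2
      · exact ⟨h2, by rw [hb, h2, h3]⟩
    exact ⟨(main default).1, fun S => (main S).2⟩
  obtain ⟨s, hs, hsd⟩ := Nat.exists_prime_and_dvd hc1
  obtain ⟨rfl, hS⟩ := key s hs hsd
  let S : Sylow s K := default
  have hidx : (S : Subgroup K).index = 1 := by
    by_contra h
    obtain ⟨t, ht, htd⟩ := Nat.exists_prime_and_dvd h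
    have h1 : t ∣ Nat.card K := htd.trans (Subgroup.index_dvd_card _)
    obtain ⟨h2, -⟩ := key t ht h1
    rw [h2] at htd
    exact S.not_dvd_index htd
  have h4 := (S : Subgroup K).card_mul_index
  rw [hidx, mul_one] at h4
  rw [← h4]
  exact hS S

/-- A nontrivial normal `p'`-subgroup is elementary abelian. -/
theorem elementary_of_normal (K : Subgroup G) (hK : K.Normal) (hpK : ¬ p ∣ Nat.card K)
    (hne : K ≠ ⊥) : (∀ k ∈ K, ∀ l ∈ K, k * l = l * k) ∧ ∀ k ∈ K, k ^ r = 1 := by
  have hnt : Nontrivial K := (Subgroup.nontrivial_iff_ne_bot K).2 hne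
  have hcard := card_eq_of_normal p x hx hc hp2 r a hnum K hK hpK hne
  have hpg : IsPGroup r K := IsPGroup.of_card hcard
  have heq : ∀ L : Subgroup G, L.Normal → L ≤ K → L ≠ ⊥ → L = K := by
    intro L hL hLK hLne
    apply Subgroup.eq_of_le_of_card_ge hLK
    have hpL : ¬ p ∣ Nat.card L := fun h => hpK (h.trans (card_dvd_of_le hLK))
    rw [hcard, card_eq_of_normal p x hx hc hp2 r a hnum L hL hpL hLne]
  have hcomm : ∀ k ∈ K, ∀ l ∈ K, k * l = l * k := by
    have hZ : ((center K).map K.subtype) = K := by
      apply heq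
      · exact ConjAct.normal_of_characteristic_of_normal
      · exact map_subtype_le _
      · intro h
        rw [Subgroup.map_eq_bot_iff_of_injective _ (Subgroup.subtype_injective K)] at h
        have := hpg.center_nontrivial
        rw [Subgroup.nontrivial_iff_ne_bot] at this
        exact this h
    intro k hk l hl
    have hk' : k ∈ (center K).map K.subtype := by rw [hZ]; exact hk
    obtain ⟨k', hk1, rfl⟩ := hk'
    have := (mem_center_iff.1 hk1) ⟨l, hl⟩
    exact (congrArg Subtype.val this).symm
  refine ⟨hcomm, ?_⟩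
  let T : Subgroup G :=
    { carrier := {k | k ∈ K ∧ k ^ r = 1}
      one_mem' := ⟨K.one_mem, one_pow _⟩
      mul_mem' := by
        rintro k l ⟨hk, hk'⟩ ⟨hl, hl'⟩
        refine ⟨K.mul_mem hk hl, ?_⟩
        have : Commute k l := hcomm k hk l hl
        rw [this.mul_pow, hk', hl', one_mul]
      inv_mem' := by
        rintro k ⟨hk, hk'⟩
        exact ⟨K.inv_mem hk, by rw [inv_pow, hk', inv_one]⟩ }
  have hT : T = K := by
    apply heq
    · constructor
      rintro k ⟨hk, hk'⟩ g
      refine ⟨hK.conj_mem k hk g, ?_⟩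
      rw [conj_pow, hk', mul_one, mul_inv_cancel]
    · rintro k ⟨hk, -⟩
      exact hk
    · intro h
      have hr : r ∣ Nat.card K := by
        have h1 : Nat.card K ≠ 1 := (Finite.one_lt_card (α := K)).ne'
        rw [hcard] at h1 ⊢
        rcases Nat.eq_zero_or_pos a with ha | ha
        · rw [ha, pow_zero] at h1
          exact absurd rfl h1
        · exact dvd_pow_self r ha.ne'
      obtain ⟨k, hk⟩ := exists_prime_orderOf_dvd_card' (G := K) r hr
      have hkT : (k : G) ∈ T := by
        refine ⟨k.2, ?_⟩
        have : k ^ r = 1 := by rw [← hk, pow_orderOf_eq_one]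
        have := congrArg Subtype.val this
        simpa using this
      rw [h, mem_bot] at hkT
      have : k = 1 := Subtype.ext hkT
      rw [this, orderOf_one] at hk
      exact (Fact.out : r.Prime).one_lt.ne hk
  intro k hk
  have hk' : k ∈ T := by rw [hT]; exact hk
  exact hk'.2

/-- The centraliser of a nontrivial normal `p'`-subgroup has order `r ^ a`. -/
theorem card_centralizer (K : Subgroup G) (hK : K.Normal) (hpK : ¬ p ∣ Nat.card K)
    (hne : K ≠ ⊥) : Nat.card (centralizer (K : Set G)) = r ^ a := by
  have hcomm := (elementary_of_normal p x hx hc hp2 r a hnum K hK hpK hne).1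
  have hp : p.Prime := Fact.out
  apply card_eq_of_normal p x hx hc hp2 r a hnum _ inferInstance
  · intro h
    obtain ⟨y, hy⟩ := exists_prime_orderOf_dvd_card' (G := centralizer (K : Set G)) p h
    have hyo : orderOf (y : G) = p := by rw [orderOf_coe, hy]
    apply hne
    rw [eq_bot_iff]
    intro k hk
    rw [mem_bot]
    have h1 : Commute k (y : G) := (mem_centralizer_iff.1 y.2) k hk
    have h2 := SelfCent.mem_zpowers_of_commute p x hx hc hp2 (y : G) hyo k h1
    have h3 : orderOf k ∣ p := by
      rw [← hyo, ← Nat.card_zpowers (y : G)]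
      exact Subgroup.orderOf_dvd_natCard _ h2
    rcases (Nat.dvd_prime hp).1 h3 with h4 | h4
    · exact orderOf_eq_one_iff.1 h4
    · exfalso
      apply hpK
      rw [← h4]
      exact Subgroup.orderOf_dvd_natCard _ hk
  · intro h
    apply hne
    rw [eq_bot_iff, ← h]
    intro k hk
    rw [mem_centralizer_iff]
    intro l hl
    exact (hcomm k hk l hl).symm

/-- `|G|` divides `r ^ a * |GL_a(r)|`. -/
theorem card_dvd (K : Subgroup G) (hK : K.Normal) (hpK : ¬ p ∣ Nat.card K)
    (hne : K ≠ ⊥) : Nat.card G ∣ r ^ a * Nat.card (GL (Fin a) (ZMod r)) := by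
  have hcard := card_eq_of_normal p x hx hc hp2 r a hnum K hK hpK hne
  obtain ⟨hcomm, hexp⟩ := elementary_of_normal p x hx hc hp2 r a hnum K hK hpK hne
  have hcent := card_centralizer p x hx hc hp2 r a hnum K hK hpK hne
  have hker : (MulAut.conjNormal : G →* MulAut K).ker = centralizer (K : Set G) := by
    ext g
    rw [MonoidHom.mem_ker, mem_centralizer_iff]
    constructor
    · intro h k hk
      have h1 := congrArg (fun f : MulAut K => ((f ⟨k, hk⟩ : K) : G)) h
      simp only [MulAut.conjNormal_apply, MulAut.one_apply] at h1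
      rw [mul_inv_eq_iff_eq_mul] at h1
      exact h1.symm
    · intro h
      ext k
      simp only [MulAut.conjNormal_apply, MulAut.one_apply]
      rw [mul_inv_eq_iff_eq_mul]
      exact (h k k.2).symm
  have h1 : Nat.card (G ⧸ (MulAut.conjNormal : G →* MulAut K).ker) ∣ Nat.card (MulAut K) :=
    card_dvd_of_injective _ (QuotientGroup.kerLift_injective (MulAut.conjNormal : G →* MulAut K))
  rw [hker] at h1
  let _ : CommGroup K := { (inferInstance : Group K) with
    mul_comm := fun k l => Subtype.ext (hcomm k k.2 l l.2) }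
  have h2 : Nat.card (MulAut K) ∣ Nat.card (GL (Fin a) (ZMod r)) :=
    card_mulAut_dvd r a (fun k => Subtype.ext (hexp k k.2)) hcard
  have h3 := (centralizer (K : Set G)).card_mul_index
  rw [hcent] at h3
  rw [← h3]
  exact mul_dvd_mul_left _ (h1.trans h2)

/-- No nontrivial normal `p'`-subgroup if `|G| ∤ r ^ a * |GL_a(r)|`. -/
theorem eq_bot_of_normal (hGL : ¬ Nat.card G ∣ r ^ a * Nat.card (GL (Fin a) (ZMod r)))
    (K : Subgroup G) (hK : K.Normal) (hpK : ¬ p ∣ Nat.card K) : K = ⊥ := by
  by_contra hne
  exact hGL (card_dvd p x hx hc hp2 r a hnum K hK hpK hne)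

end

end Cfsg.Agent.SporadicA.SelfCentTwo
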