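import Cfsg.Agent.SporadicA.ConwayShift
import Cfsg.Agent.SporadicA.SelfCentTwo
import Cfsg.Prelude.Def_Sporadic

/-!
Stabilisers in `Co0` of vectors of norm 32 and 48 are simple, given the order of `Co0`, transitivity
on the vectors of the given norm, their number, and the minimum norm.
-/

set_option autoImplicit false
open Cfsg
open scoped Pointwise

namespace Cfsg.Agent.SporadicA.ConwayStab

open Cfsg.Agent.SporadicA.Co0Basic Cfsg.Agent.SporadicA.ConwayShift

/-- Orbit-stabiliser for the vectors of a given norm. -/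
theorem card_stabilizer (n : ℤ) (N : ℕ) (v : leechLattice) (hv : sqNorm (v : GolayPt → ℤ) = n)
    (htrans : ∀ v w : leechLattice, sqNorm (v : GolayPt → ℤ) = n → sqNorm (w : GolayPt → ℤ) = n →
      ∃ g : Co0, g • v = w)
    (hcount : {x : GolayPt → ℤ | x ∈ leechLattice ∧ sqNorm x = n}.ncard = N) :
    Nat.card (MulAction.stabilizer Co0 v) * N = Nat.card Co0 := by
  have horb : MulAction.orbit Co0 v = {w : leechLattice | sqNorm (w : GolayPt → ℤ) = n} := by
    ext w
    constructor
    · rintro ⟨g, rfl⟩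
      change sqNorm (g.1 v : GolayPt → ℤ) = n
      rw [map_sqNorm, hv]
    · intro hw
      obtain ⟨g, hg⟩ := htrans v w hv hw
      exact ⟨g, hg⟩
  have h1 : (MulAction.stabilizer Co0 v).index = N := by
    rw [MulAction.index_stabilizer, horb, ← hcount]
    rw [← Set.ncard_image_of_injective _ Subtype.val_injective]
    congr 1
    ext x
    constructor
    · rintro ⟨w, hw, rfl⟩
      exact ⟨w.2, hw⟩
    · rintro ⟨hx, hn⟩
      exact ⟨⟨x, hx⟩, hn, rfl⟩
  rw [← h1]
  exact Subgroup.card_mul_index _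

theorem primes_of_dvd (s n : ℕ) (hs : s.Prime) (l : List ℕ) (hl : ∀ q ∈ l, q.Prime)
    (hn : n ∣ l.prod) (h : s ∣ n) : s ∈ l := by
  have h1 : s ∣ l.prod := h.trans hn
  obtain ⟨q, hq, hsq⟩ := (Prime.dvd_prod_iff hs.prime).1 h1
  rwa [(Nat.prime_dvd_prime_iff_eq hs (hl q hq)).1 hsq]

theorem num_co3 (r a : ℕ) (hr : r.Prime) (h23 : r ≠ 23) (hdvd : r ^ a ∣ 495766656000)
    (hmod : r ^ a ≡ 1 [MOD 23]) : a = 0 := by
  by_contra ha
  have hp1 : r ∣ 495766656000 := (dvd_pow_self r ha).trans hdvd
  have hfac : (495766656000 : ℕ) = 2 ^ 10 * 3 ^ 7 * 5 ^ 3 * 7 * 11 * 23 := by norm_num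
  have h : r = 2 ∨ r = 3 ∨ r = 5 ∨ r = 7 ∨ r = 11 := by
    rw [hfac] at hp1
    rcases (Nat.Prime.dvd_mul hr).1 hp1 with h | h
    · rcases (Nat.Prime.dvd_mul hr).1 h with h | h
      · rcases (Nat.Prime.dvd_mul hr).1 h with h | h
        · rcases (Nat.Prime.dvd_mul hr).1 h with h | h
          · rcases (Nat.Prime.dvd_mul hr).1 h with h | h
            · left
              exact (Nat.prime_dvd_prime_iff_eq hr (by norm_num)).1 (hr.dvd_of_dvd_pow h)
            · right; left
              exact (Nat.prime_dvd_prime_iff_eq hr (by norm_num)).1 (hr.dvd_of_dvd_pow h)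
          · right; right; left
            exact (Nat.prime_dvd_prime_iff_eq hr (by norm_num)).1 (hr.dvd_of_dvd_pow h)
        · right; right; right; left
          exact (Nat.prime_dvd_prime_iff_eq hr (by norm_num)).1 h
      · right; right; right; right
        exact (Nat.prime_dvd_prime_iff_eq hr (by norm_num)).1 h
    · exact absurd ((Nat.prime_dvd_prime_iff_eq hr (by norm_num)).1 h) h23
  rcases h with rfl | rfl | rfl | rfl | rfl
  · have : a ≤ 10 := by
      by_contra hlt
      have h7 : 2 ^ 11 ∣ 495766656000 := (pow_dvd_pow 2 (by omega)).trans hdvd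
      revert h7; norm_num
    interval_cases a <;> first | exact ha rfl | exact absurd hmod (by decide)
  · have : a ≤ 7 := by
      by_contra hlt
      have h7 : 3 ^ 8 ∣ 495766656000 := (pow_dvd_pow 3 (by omega)).trans hdvd
      revert h7; norm_num
    interval_cases a <;> first | exact ha rfl | exact absurd hmod (by decide)
  · have : a ≤ 3 := by
      by_contra hlt
      have h7 : 5 ^ 4 ∣ 495766656000 := (pow_dvd_pow 5 (by omega)).trans hdvd
      revert h7; norm_num
    interval_cases a <;> first | exact ha rfl | exact absurd hmod (by decide)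
  · have : a ≤ 1 := by
      by_contra hlt
      have h7 : 7 ^ 2 ∣ 495766656000 := (pow_dvd_pow 7 (by omega)).trans hdvd
      revert h7; norm_num
    interval_cases a <;> first | exact ha rfl | exact absurd hmod (by decide)
  · have : a ≤ 1 := by
      by_contra hlt
      have h7 : 11 ^ 2 ∣ 495766656000 := (pow_dvd_pow 11 (by omega)).trans hdvd
      revert h7; norm_num
    interval_cases a <;> first | exact ha rfl | exact absurd hmod (by decide)

theorem num_co2 (r a : ℕ) (hr : r.Prime) (h23 : r ≠ 23) (hdvd : r ^ a ∣ 42305421312000)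
    (hmod : r ^ a ≡ 1 [MOD 23]) : a = 0 ∨ (r = 2 ∧ a = 11) := by
  by_contra hcon
  push Not at hcon
  obtain ⟨ha, ha2⟩ := hcon
  have hp1 : r ∣ 42305421312000 := (dvd_pow_self r ha).trans hdvd
  have hfac : (42305421312000 : ℕ) = 2 ^ 18 * 3 ^ 6 * 5 ^ 3 * 7 * 11 * 23 := by norm_num
  have h : r = 2 ∨ r = 3 ∨ r = 5 ∨ r = 7 ∨ r = 11 := by
    rw [hfac] at hp1
    rcases (Nat.Prime.dvd_mul hr).1 hp1 with h | h
    · rcases (Nat.Prime.dvd_mul hr).1 h with h | h
      · rcases (Nat.Prime.dvd_mul hr).1 h with h | h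
        · rcases (Nat.Prime.dvd_mul hr).1 h with h | h
          · rcases (Nat.Prime.dvd_mul hr).1 h with h | h
            · left
              exact (Nat.prime_dvd_prime_iff_eq hr (by norm_num)).1 (hr.dvd_of_dvd_pow h)
            · right; left
              exact (Nat.prime_dvd_prime_iff_eq hr (by norm_num)).1 (hr.dvd_of_dvd_pow h)
          · right; right; left
            exact (Nat.prime_dvd_prime_iff_eq hr (by norm_num)).1 (hr.dvd_of_dvd_pow h)
        · right; right; right; left
          exact (Nat.prime_dvd_prime_iff_eq hr (by norm_num)).1 h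
      · right; right; right; right
        exact (Nat.prime_dvd_prime_iff_eq hr (by norm_num)).1 h
    · exact absurd ((Nat.prime_dvd_prime_iff_eq hr (by norm_num)).1 h) h23
  rcases h with rfl | rfl | rfl | rfl | rfl
  · have : a ≤ 18 := by
      by_contra hlt
      have h7 : 2 ^ 19 ∣ 42305421312000 := (pow_dvd_pow 2 (by omega)).trans hdvd
      revert h7; norm_num
    have ha3 : a ≠ 11 := ha2 rfl
    interval_cases a <;> first | exact ha rfl | exact ha3 rfl | exact absurd hmod (by decide)
  · have : a ≤ 6 := by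
      by_contra hlt
      have h7 : 3 ^ 7 ∣ 42305421312000 := (pow_dvd_pow 3 (by omega)).trans hdvd
      revert h7; norm_num
    interval_cases a <;> first | exact ha rfl | exact absurd hmod (by decide)
  · have : a ≤ 3 := by
      by_contra hlt
      have h7 : 5 ^ 4 ∣ 42305421312000 := (pow_dvd_pow 5 (by omega)).trans hdvd
      revert h7; norm_num
    interval_cases a <;> first | exact ha rfl | exact absurd hmod (by decide)
  · have : a ≤ 1 := by
      by_contra hlt
      have h7 : 7 ^ 2 ∣ 42305421312000 := (pow_dvd_pow 7 (by omega)).trans hdvd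
      revert h7; norm_num
    interval_cases a <;> first | exact ha rfl | exact absurd hmod (by decide)
  · have : a ≤ 1 := by
      by_contra hlt
      have h7 : 11 ^ 2 ∣ 42305421312000 := (pow_dvd_pow 11 (by omega)).trans hdvd
      revert h7; norm_num
    interval_cases a <;> first | exact ha rfl | exact absurd hmod (by decide)

theorem card_GL11 : Nat.card (GL (Fin 11) (ZMod 2)) = ∏ i : Fin 11, (2 ^ 11 - 2 ^ (i : ℕ)) := by
  have : Fact (Nat.Prime 2) := ⟨Nat.prime_two⟩
  rw [Matrix.card_GL_field, ZMod.card]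

theorem not_dvd_GL11 : ¬ (42305421312000 ∣ 2 ^ 11 * Nat.card (GL (Fin 11) (ZMod 2))) := by
  rw [card_GL11]
  simp only [Fin.prod_univ_succ, Fin.prod_univ_zero]
  norm_num

/-- The stabiliser of a vector of norm 48 is simple of order 495766656000. -/
theorem isCo3 (hcard0 : Nat.card Co0 = 8315553613086720000)
    (htrans : ∀ v w : leechLattice, sqNorm (v : GolayPt → ℤ) = 48 →
      sqNorm (w : GolayPt → ℤ) = 48 → ∃ g : Co0, g • v = w)
    (hcount : {x : GolayPt → ℤ | x ∈ leechLattice ∧ sqNorm x = 48}.ncard = 16773120)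
    (hmin : ∀ x : GolayPt → ℤ, x ∈ leechLattice → x ≠ 0 → 32 ≤ sqNorm x)
    (v : leechLattice) (hv : sqNorm (v : GolayPt → ℤ) = 48) :
    IsCo3 (MulAction.stabilizer Co0 v) := by
  have : Fact (Nat.Prime 23) := ⟨by norm_num⟩
  obtain ⟨g, hg⟩ := htrans (u 5 (Or.inr rfl)) v sqNorm_u_5 hv
  let e := MulAction.stabilizerEquivStabilizer (G := Co0) hg.symm
  have hc := card_stabilizer 48 16773120 (u 5 (Or.inr rfl)) sqNorm_u_5 htrans hcount
  have hcard : Nat.card (MulAction.stabilizer Co0 (u 5 (Or.inr rfl))) = 495766656000 := by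
    rw [hcard0] at hc
    refine Nat.eq_of_mul_eq_mul_right (by norm_num : 0 < 16773120) (hc.trans ?_)
    norm_num
  have hfin : Finite (MulAction.stabilizer Co0 (u 5 (Or.inr rfl))) := by
    apply Nat.finite_of_card_ne_zero
    rw [hcard]; norm_num
  have hsimple : IsSimpleGroup (MulAction.stabilizer Co0 (u 5 (Or.inr rfl))) := by
    refine SelfCent.isSimpleGroup_of_selfCent 23 (shiftStab 5 (Or.inr rfl))
      (orderOf_shiftStab 5 (Or.inr rfl)) (shiftStab_selfCent hmin 5 (Or.inr rfl)) ?_ 11
      (by norm_num) ?_ ?_ ?_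
    · rw [hcard]; norm_num
    · rw [hcard]
    · rw [hcard]; norm_num
    · rw [hcard]
      exact fun r a hr h23 hd hm => num_co3 r a hr h23 hd hm
  refine ⟨e.symm.isSimpleGroup, ?_⟩
  rw [← hcard]
  exact (Nat.card_congr e.toEquiv).symm

/-- The stabiliser of a vector of norm 32 is simple of order 42305421312000. -/
theorem isCo2 (hcard0 : Nat.card Co0 = 8315553613086720000)
    (htrans : ∀ v w : leechLattice, sqNorm (v : GolayPt → ℤ) = 32 →
      sqNorm (w : GolayPt → ℤ) = 32 → ∃ g : Co0, g • v = w)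
    (hcount : {x : GolayPt → ℤ | x ∈ leechLattice ∧ sqNorm x = 32}.ncard = 196560)
    (hmin : ∀ x : GolayPt → ℤ, x ∈ leechLattice → x ≠ 0 → 32 ≤ sqNorm x)
    (v : leechLattice) (hv : sqNorm (v : GolayPt → ℤ) = 32) :
    IsCo2 (MulAction.stabilizer Co0 v) := by
  have : Fact (Nat.Prime 23) := ⟨by norm_num⟩
  have h2 : Fact (Nat.Prime 2) := ⟨Nat.prime_two⟩
  obtain ⟨g, hg⟩ := htrans (u (-3) (Or.inl rfl)) v sqNorm_u_neg3 hv
  let e := MulAction.stabilizerEquivStabilizer (G := Co0) hg.symm
  have hc := card_stabilizer 32 196560 (u (-3) (Or.inl rfl)) sqNorm_u_neg3 htrans hcount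
  have hcard : Nat.card (MulAction.stabilizer Co0 (u (-3) (Or.inl rfl))) = 42305421312000 := by
    rw [hcard0] at hc
    refine Nat.eq_of_mul_eq_mul_right (by norm_num : 0 < 196560) (hc.trans ?_)
    norm_num
  have hfin : Finite (MulAction.stabilizer Co0 (u (-3) (Or.inl rfl))) := by
    apply Nat.finite_of_card_ne_zero
    rw [hcard]; norm_num
  have hp2 : ¬ 23 ^ 2 ∣ Nat.card (MulAction.stabilizer Co0 (u (-3) (Or.inl rfl))) := by
    rw [hcard]; norm_num
  have hsimple : IsSimpleGroup (MulAction.stabilizer Co0 (u (-3) (Or.inl rfl))) := by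
    refine SelfCent.isSimpleGroup_of_selfCent' 23 (shiftStab (-3) (Or.inl rfl))
      (orderOf_shiftStab (-3) (Or.inl rfl)) (shiftStab_selfCent hmin (-3) (Or.inl rfl)) hp2 11
      (by norm_num) ?_ ?_ ?_
    · rw [hcard]
    · rw [hcard]; norm_num
    · refine SelfCentTwo.eq_bot_of_normal 23 (shiftStab (-3) (Or.inl rfl))
        (orderOf_shiftStab (-3) (Or.inl rfl)) (shiftStab_selfCent hmin (-3) (Or.inl rfl)) hp2 2 11
        ?_ ?_
      · rw [hcard]
        exact fun r a hr h23 hd hm => num_co2 r a hr h23 hd hm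
      · rw [hcard]
        exact not_dvd_GL11
  refine ⟨e.symm.isSimpleGroup, ?_⟩
  rw [← hcard]
  exact (Nat.card_congr e.toEquiv).symm

end Cfsg.Agent.SporadicA.ConwayStab
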