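import Cfsg.Prelude.Def_Sporadic_a
import Cfsg.Prelude.Def_Spor_Conway

/-!
`leechSet` is closed under addition and negation: the linear description of `leechSet`.
No fact about the code beyond `1 ∈ golayCode` is used.
-/

set_option autoImplicit false
open Cfsg

namespace Cfsg.Agent.SporadicA.LeechSet

/-- A word over `ZMod 2` is determined by its support. -/
theorem support₂_injective {α : Type*} [Fintype α] :
    Function.Injective (support₂ : (α → ZMod 2) → Finset α) := by
  intro v w h
  funext a
  have h1 : a ∈ support₂ v ↔ a ∈ support₂ w := by rw [h]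
  simp only [support₂, Finset.mem_filter, Finset.mem_univ, true_and] at h1
  have key : ∀ x y : ZMod 2, (x ≠ 0 ↔ y ≠ 0) → x = y := by decide
  exact key _ _ h1

/-- Membership of a set in the supports of a code, by its characteristic word. -/
theorem mem_supports_iff {α : Type*} [Fintype α] [DecidableEq α] (C : Set (α → ZMod 2))
    (s : Finset α) : s ∈ supports C ↔ (fun a => if a ∈ s then (1 : ZMod 2) else 0) ∈ C := by
  have hs : support₂ (fun a => if a ∈ s then (1 : ZMod 2) else 0) = s := by
    ext a
    simp [support₂]
  constructor
  · rintro ⟨w, hw, rfl⟩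
    have : (fun a => if a ∈ support₂ w then (1 : ZMod 2) else 0) = w := by
      apply support₂_injective
      ext a
      simp [support₂]
    rw [this]
    exact hw
  · intro h
    exact ⟨_, h, hs⟩

theorem one_mem_golayCode : (1 : GolayPt → ZMod 2) ∈ golayCode :=
  Submodule.subset_span (Set.mem_union_right _ rfl)

/-- The linear description: `x = m + 2 z` with `∑ x ≡ 4 m` modulo 8 and `z` mod 2 a code word. -/
theorem mem_leechSet_iff (x : GolayPt → ℤ) :
    x ∈ leechSet ↔ ∃ (m : ℤ) (z : GolayPt → ℤ), (∀ i, x i = m + 2 * z i) ∧
      (∑ i, x i ≡ 4 * m [ZMOD 8]) ∧ (fun i => ((z i : ℤ) : ZMod 2)) ∈ golayCode := by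
  constructor
  · rintro ⟨m, hm, hs, hk⟩
    have hz : ∀ i, ∃ z : ℤ, x i = m + 2 * z := by
      intro i
      obtain ⟨z, hz⟩ := (Int.ModEq.dvd (hm i).symm)
      exact ⟨z, by linarith⟩
    choose z hz using hz
    refine ⟨m, z, hz, hs, ?_⟩
    have h2 := hk (m + 2)
    rw [mem_supports_iff] at h2
    have : (fun a => if a ∈ (Finset.univ.filter fun i => x i ≡ m + 2 [ZMOD 4]) then (1 : ZMod 2)
        else 0) = (fun i => ((z i : ℤ) : ZMod 2)) := by
      funext i
      simp only [Finset.mem_filter, Finset.mem_univ, true_and]
      have h3 : (x i ≡ m + 2 [ZMOD 4]) ↔ z i % 2 = 1 := by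
        rw [hz i]
        unfold Int.ModEq
        omega
      by_cases h : z i % 2 = 1
      · rw [if_pos (h3.2 h)]
        have : z i = 2 * (z i / 2) + 1 := by omega
        rw [this]
        push_cast
        have h20 : (2 : ZMod 2) = 0 := by decide
        rw [h20]
        ring
      · rw [if_neg (fun hh => h (h3.1 hh))]
        have : z i = 2 * (z i / 2) := by omega
        rw [this]
        push_cast
        have h20 : (2 : ZMod 2) = 0 := by decide
        rw [h20]
        ring
    rw [this] at h2
    exact h2
  · rintro ⟨m, z, hz, hs, hc⟩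
    refine ⟨m, ?_, hs, ?_⟩
    · intro i
      rw [hz i]
      unfold Int.ModEq
      omega
    · intro k
      rw [mem_supports_iff]
      have hcast : ∀ i, ((z i : ℤ) : ZMod 2) = if z i % 2 = 1 then 1 else 0 := by
        intro i
        by_cases h : z i % 2 = 1
        · rw [if_pos h]
          have : z i = 2 * (z i / 2) + 1 := by omega
          rw [this]
          push_cast
          have h20 : (2 : ZMod 2) = 0 := by decide
          rw [h20]
          ring
        · rw [if_neg h]
          have : z i = 2 * (z i / 2) := by omega
          rw [this]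
          push_cast
          have h20 : (2 : ZMod 2) = 0 := by decide
          rw [h20]
          ring
      have hk : k % 4 = m % 4 ∨ k % 4 = (m + 2) % 4 ∨ (k - m) % 2 = 1 := by omega
      simp only [Finset.mem_filter, Finset.mem_univ, true_and]
      rcases hk with hk | hk | hk
      · -- complement of z
        have : (fun a => if x a ≡ k [ZMOD 4] then (1 : ZMod 2) else 0) =
            1 + (fun i => ((z i : ℤ) : ZMod 2)) := by
          funext i
          have h3 : (x i ≡ k [ZMOD 4]) ↔ ¬ z i % 2 = 1 := by
            rw [hz i]
            unfold Int.ModEq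
            omega
          simp only [Pi.add_apply, Pi.one_apply, hcast i]
          by_cases h : z i % 2 = 1
          · rw [if_neg (fun hh => h3.1 hh h), if_pos h]
            decide
          · rw [if_pos (h3.2 h), if_neg h]
            decide
        rw [this]
        exact golayCode.add_mem one_mem_golayCode hc
      · have : (fun a => if x a ≡ k [ZMOD 4] then (1 : ZMod 2) else 0) =
            (fun i => ((z i : ℤ) : ZMod 2)) := by
          funext i
          have h3 : (x i ≡ k [ZMOD 4]) ↔ z i % 2 = 1 := by
            rw [hz i]
            unfold Int.ModEq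
            omega
          simp only [hcast i]
          by_cases h : z i % 2 = 1
          · rw [if_pos (h3.2 h), if_pos h]
          · rw [if_neg (fun hh => h (h3.1 hh)), if_neg h]
        rw [this]
        exact hc
      · have : (fun a => if x a ≡ k [ZMOD 4] then (1 : ZMod 2) else 0) = 0 := by
          funext i
          have h3 : ¬ (x i ≡ k [ZMOD 4]) := by
            rw [hz i]
            unfold Int.ModEq
            omega
          rw [if_neg h3]
          rfl
        rw [this]
        exact golayCode.zero_mem

/-- `leechSet` as an additive subgroup. -/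
def leechSub : AddSubgroup (GolayPt → ℤ) where
  carrier := leechSet
  zero_mem' := by
    rw [mem_leechSet_iff]
    refine ⟨0, 0, fun i => by simp, by simp, ?_⟩
    simp only [Pi.zero_apply, Int.cast_zero]
    exact golayCode.zero_mem
  add_mem' := by
    intro x y hx hy
    rw [mem_leechSet_iff] at hx hy ⊢
    obtain ⟨m, z, hz, hs, hc⟩ := hx
    obtain ⟨n, t, ht, hr, hd⟩ := hy
    refine ⟨m + n, z + t, fun i => ?_, ?_, ?_⟩
    · simp only [Pi.add_apply, hz i, ht i]; ring
    · simp only [Pi.add_apply, Finset.sum_add_distrib]
      have := hs.add hr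
      rwa [← mul_add] at this
    · have : (fun i => (((z + t) i : ℤ) : ZMod 2)) =
          (fun i => ((z i : ℤ) : ZMod 2)) + (fun i => ((t i : ℤ) : ZMod 2)) := by
        funext i
        simp
      rw [this]
      exact golayCode.add_mem hc hd
  neg_mem' := by
    intro x hx
    rw [mem_leechSet_iff] at hx ⊢
    obtain ⟨m, z, hz, hs, hc⟩ := hx
    refine ⟨-m, -z, fun i => ?_, ?_, ?_⟩
    · simp only [Pi.neg_apply, hz i]; ring
    · simp only [Pi.neg_apply, Finset.sum_neg_distrib]
      have := hs.neg
      rwa [← mul_neg] at this
    · have : (fun i => (((-z) i : ℤ) : ZMod 2)) = -(fun i => ((z i : ℤ) : ZMod 2)) := by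
        funext i
        simp
      rw [this]
      exact golayCode.neg_mem hc

theorem coe_leechSub : (leechSub : Set (GolayPt → ℤ)) = leechSet := rfl

/-- The lattice generated by `leechSet` is `leechSet`. -/
theorem leechLattice_eq : leechLattice = leechSub := by
  apply le_antisymm
  · exact (AddSubgroup.closure_le _).2 (fun x hx => hx)
  · exact AddSubgroup.subset_closure

theorem coe_leechLattice : (leechLattice : Set (GolayPt → ℤ)) = leechSet := by
  rw [leechLattice_eq]; rfl

theorem mem_leechLattice_iff (x : GolayPt → ℤ) : x ∈ leechLattice ↔ x ∈ leechSet := by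
  rw [leechLattice_eq]; rfl

/-- Working description of the lattice. -/
theorem mem_leechLattice_iff' (x : GolayPt → ℤ) :
    x ∈ leechLattice ↔ ∃ (m : ℤ) (z : GolayPt → ℤ), (∀ i, x i = m + 2 * z i) ∧
      (∑ i, x i ≡ 4 * m [ZMOD 8]) ∧ (fun i => ((z i : ℤ) : ZMod 2)) ∈ golayCode := by
  rw [mem_leechLattice_iff, mem_leechSet_iff]

end Cfsg.Agent.SporadicA.LeechSet
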