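import Cfsg.Prelude.Def_Sporadic_a

/-!
# A computational model of the binary Golay code `Cfsg.golayCode`

Words of length 24 are modelled by natural numbers (bit masks): bit `x.val` for the residue
`some x`, bit `23` for the point `none`.  All the functions used in kernel computations are
built from the accelerated operations on `ℕ`.
-/

set_option autoImplicit false

namespace Cfsg.Agent.SporadicA.GolayBase

open Cfsg

/-! ### Indices of points -/

/-- The index of a point: the residue `x` has index `x.val`, the extra point has index `23`. -/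
def idx : GolayPt → ℕ
  | none => 23
  | some x => x.val

/-- The point of index `i`. -/
def pt (i : ℕ) : GolayPt := if i < 23 then some (i : ZMod 23) else none

theorem idx_lt (p : GolayPt) : idx p < 24 := by
  revert p; decide

theorem pt_idx (p : GolayPt) : pt (idx p) = p := by
  revert p; decide

theorem idx_pt {i : ℕ} (hi : i < 24) : idx (pt i) = i := by
  revert i; decide

theorem idx_injective : Function.Injective idx := by
  intro p q h
  rw [← pt_idx p, ← pt_idx q, h]

/-! ### Words and supports of masks -/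

/-- The word of a mask. -/
def word (m : ℕ) : GolayPt → ZMod 2 := fun p => if m.testBit (idx p) then 1 else 0

/-- The set of points of a mask. -/
def fin (m : ℕ) : Finset GolayPt := Finset.univ.filter fun p => m.testBit (idx p) = true

theorem mem_fin {m : ℕ} {p : GolayPt} : p ∈ fin m ↔ m.testBit (idx p) = true := by
  simp only [fin, Finset.mem_filter, Finset.mem_univ, true_and]

theorem word_apply (m : ℕ) (p : GolayPt) : word m p = if m.testBit (idx p) then 1 else 0 := rfl

theorem mem_support₂ {w : GolayPt → ZMod 2} {p : GolayPt} : p ∈ support₂ w ↔ w p ≠ 0 := by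
  unfold support₂
  exact Finset.mem_filter_univ p

theorem support₂_word (m : ℕ) : support₂ (word m) = fin m := by
  ext p
  rw [mem_support₂, mem_fin, word_apply]
  cases m.testBit (idx p) <;> simp

/-- The mask of a set of points. -/
def maskOf (s : Finset GolayPt) : ℕ := Nat.ofBits fun i : Fin 24 => decide (pt i ∈ s)

/-- The mask of a word. -/
def maskW (w : GolayPt → ZMod 2) : ℕ := Nat.ofBits fun i : Fin 24 => decide (w (pt i) ≠ 0)

theorem maskOf_lt (s : Finset GolayPt) : maskOf s < 2 ^ 24 := Nat.ofBits_lt_two_pow _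

theorem maskW_lt (w : GolayPt → ZMod 2) : maskW w < 2 ^ 24 := Nat.ofBits_lt_two_pow _

theorem testBit_maskOf (s : Finset GolayPt) (p : GolayPt) :
    (maskOf s).testBit (idx p) = decide (p ∈ s) := by
  rw [maskOf, Nat.testBit_ofBits_lt _ _ (idx_lt p)]
  simp only [pt_idx]

theorem testBit_maskW (w : GolayPt → ZMod 2) (p : GolayPt) :
    (maskW w).testBit (idx p) = decide (w p ≠ 0) := by
  rw [maskW, Nat.testBit_ofBits_lt _ _ (idx_lt p)]
  simp only [pt_idx]

theorem fin_maskOf (s : Finset GolayPt) : fin (maskOf s) = s := by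
  ext p
  rw [mem_fin, testBit_maskOf, decide_eq_true_iff]

theorem ne_zero_iff_eq_one (a : ZMod 2) : a ≠ 0 ↔ a = 1 := by
  revert a; decide

theorem word_maskW (w : GolayPt → ZMod 2) : word (maskW w) = w := by
  funext p
  rw [word_apply, testBit_maskW]
  by_cases h : w p = 0
  · simp [h]
  · simp [(ne_zero_iff_eq_one _).1 h]

/-- Two masks below `2 ^ 24` with the same bits at all indices of points are equal. -/
theorem eq_of_testBit_idx {m n : ℕ} (hm : m < 2 ^ 24) (hn : n < 2 ^ 24)
    (h : ∀ p, m.testBit (idx p) = n.testBit (idx p)) : m = n := by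
  apply Nat.eq_of_testBit_eq
  intro i
  by_cases hi : i < 24
  · have := h (pt i)
    rwa [idx_pt hi] at this
  · have h2 : 2 ^ 24 ≤ 2 ^ i := Nat.pow_le_pow_right (by norm_num) (by omega)
    rw [Nat.testBit_lt_two_pow (lt_of_lt_of_le hm h2),
      Nat.testBit_lt_two_pow (lt_of_lt_of_le hn h2)]

theorem maskOf_fin {m : ℕ} (hm : m < 2 ^ 24) : maskOf (fin m) = m := by
  apply eq_of_testBit_idx (maskOf_lt _) hm
  intro p
  rw [testBit_maskOf, Bool.eq_iff_iff, decide_eq_true_iff, mem_fin]

theorem maskW_word {m : ℕ} (hm : m < 2 ^ 24) : maskW (word m) = m := by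
  apply eq_of_testBit_idx (maskW_lt _) hm
  intro p
  rw [testBit_maskW, word_apply]
  cases m.testBit (idx p) <;> simp

theorem maskOf_support₂ (w : GolayPt → ZMod 2) : maskOf (support₂ w) = maskW w := by
  apply eq_of_testBit_idx (maskOf_lt _) (maskW_lt _)
  intro p
  rw [testBit_maskW, testBit_maskOf, decide_eq_decide]
  exact mem_support₂

theorem fin_injective {m n : ℕ} (hm : m < 2 ^ 24) (hn : n < 2 ^ 24) (h : fin m = fin n) :
    m = n := by
  rw [← maskOf_fin hm, ← maskOf_fin hn, h]

theorem maskOf_injective {s t : Finset GolayPt} (h : maskOf s = maskOf t) : s = t := by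
  rw [← fin_maskOf s, ← fin_maskOf t, h]

theorem word_xor (m n : ℕ) : word (m ^^^ n) = word m + word n := by
  funext p
  rw [Pi.add_apply, word_apply, word_apply, word_apply, Nat.testBit_xor]
  cases m.testBit (idx p) <;> cases n.testBit (idx p) <;> decide

theorem word_zero : word 0 = 0 := by
  funext p
  simp [word_apply]

theorem maskW_add (v w : GolayPt → ZMod 2) : maskW (v + w) = maskW v ^^^ maskW w := by
  have h : word (maskW v ^^^ maskW w) = v + w := by
    rw [word_xor, word_maskW, word_maskW]
  rw [← h, maskW_word (Nat.xor_lt_two_pow (maskW_lt _) (maskW_lt _))]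

theorem fin_xor (m n : ℕ) : fin (m ^^^ n) = symmDiff (fin m) (fin n) := by
  ext p
  rw [mem_fin, Finset.mem_symmDiff, mem_fin, mem_fin, Nat.testBit_xor]
  cases m.testBit (idx p) <;> cases n.testBit (idx p) <;> simp

theorem fin_and (m n : ℕ) : fin (m &&& n) = fin m ∩ fin n := by
  ext p
  rw [mem_fin, Finset.mem_inter, mem_fin, mem_fin, Nat.testBit_and, Bool.and_eq_true]

theorem fin_or (m n : ℕ) : fin (m ||| n) = fin m ∪ fin n := by
  ext p
  rw [mem_fin, Finset.mem_union, mem_fin, mem_fin, Nat.testBit_or, Bool.or_eq_true]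

/-! ### Cardinalities -/

/-- The number of ones among the `24` low bits of `m`. -/
def popcount (m : ℕ) : ℕ :=
  m % 2 + (m >>> 1) % 2 + (m >>> 2) % 2 + (m >>> 3) % 2 + (m >>> 4) % 2 + (m >>> 5) % 2 +
  (m >>> 6) % 2 + (m >>> 7) % 2 + (m >>> 8) % 2 + (m >>> 9) % 2 + (m >>> 10) % 2 +
  (m >>> 11) % 2 + (m >>> 12) % 2 + (m >>> 13) % 2 + (m >>> 14) % 2 + (m >>> 15) % 2 +
  (m >>> 16) % 2 + (m >>> 17) % 2 + (m >>> 18) % 2 + (m >>> 19) % 2 + (m >>> 20) % 2 +
  (m >>> 21) % 2 + (m >>> 22) % 2 + (m >>> 23) % 2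

theorem ite_testBit (m i : ℕ) : (if m.testBit i = true then 1 else 0) = (m >>> i) % 2 := by
  rw [Nat.testBit_eq_decide_div_mod_eq, Nat.shiftRight_eq_div_pow]
  have : m / 2 ^ i % 2 < 2 := Nat.mod_lt _ (by norm_num)
  interval_cases h : m / 2 ^ i % 2 <;> simp

theorem sum_pt {M : Type*} [AddCommMonoid M] (f : GolayPt → M) :
    ∑ p, f p = ∑ i ∈ Finset.range 24, f (pt i) := by
  symm
  refine Finset.sum_bij (fun i _ => pt i) (fun _ _ => Finset.mem_univ _) ?_ ?_ (fun _ _ => rfl)
  · intro a ha b hb hab
    rw [← idx_pt (Finset.mem_range.1 ha), ← idx_pt (Finset.mem_range.1 hb), hab]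
  · intro p _
    exact ⟨idx p, Finset.mem_range.2 (idx_lt p), pt_idx p⟩

theorem card_fin (m : ℕ) : (fin m).card = popcount m := by
  rw [fin, Finset.card_filter, sum_pt]
  have : ∀ i ∈ Finset.range 24, (if m.testBit (idx (pt i)) = true then 1 else 0) = (m >>> i) % 2 := by
    intro i hi
    rw [idx_pt (Finset.mem_range.1 hi), ite_testBit]
  rw [Finset.sum_congr rfl this]
  simp only [Finset.sum_range_succ, Finset.sum_range_zero, zero_add, Nat.shiftRight_zero, popcount]

theorem card_eq_popcount (s : Finset GolayPt) : s.card = popcount (maskOf s) := by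
  rw [← card_fin, fin_maskOf]

/-! ### Bounded quantification by binary splitting -/

/-- `allR k s p` checks `p i` for all `s ≤ i < s + 2 ^ k`. -/
def allR : ℕ → ℕ → (ℕ → Bool) → Bool
  | 0, s, p => p s
  | k + 1, s, p => allR k s p && allR k (s + 2 ^ k) p

theorem allR_spec (k : ℕ) : ∀ (s : ℕ) (p : ℕ → Bool), allR k s p = true →
    ∀ i, s ≤ i → i < s + 2 ^ k → p i = true := by
  induction k with
  | zero =>
    intro s p h i h1 h2
    have : i = s := by omega
    subst this
    exact h
  | succ k ih =>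
    intro s p h i h1 h2
    have h' : (allR k s p && allR k (s + 2 ^ k) p) = true := h
    rw [Bool.and_eq_true] at h'
    by_cases hi : i < s + 2 ^ k
    · exact ih s p h'.1 i h1 hi
    · refine ih (s + 2 ^ k) p h'.2 i (by omega) ?_
      rw [pow_succ] at h2
      omega

theorem allR_zero_spec {k : ℕ} {p : ℕ → Bool} (h : allR k 0 p = true) :
    ∀ i, i < 2 ^ k → p i = true := by
  intro i hi
  exact allR_spec k 0 p h i (Nat.zero_le _) (by omega)

/-! ### The encoder -/

/-- The `k`-th basis word of the code, in systematic form: its low 12 bits are those of `2 ^ k`. -/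
def basisMask : ℕ → ℕ
  | 0 => 13062145
  | 1 => 4845570
  | 2 => 13938692
  | 3 => 7221256
  | 4 => 10170384
  | 5 => 11952160
  | 6 => 15515712
  | 7 => 2019456
  | 8 => 4038912
  | 9 => 8077824
  | 10 => 11654144
  | 11 => 14919680
  | _ => 0

/-- The code word with low 12 bits those of `i`. -/
def enc (i : ℕ) : ℕ :=
  (i % 2 * 13062145) ^^^ ((i >>> 1) % 2 * 4845570) ^^^ ((i >>> 2) % 2 * 13938692) ^^^
  ((i >>> 3) % 2 * 7221256) ^^^ ((i >>> 4) % 2 * 10170384) ^^^ ((i >>> 5) % 2 * 11952160) ^^^
  ((i >>> 6) % 2 * 15515712) ^^^ ((i >>> 7) % 2 * 2019456) ^^^ ((i >>> 8) % 2 * 4038912) ^^^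
  ((i >>> 9) % 2 * 8077824) ^^^ ((i >>> 10) % 2 * 11654144) ^^^ ((i >>> 11) % 2 * 14919680)

/-- Whether the mask `m` is the mask of a code word. -/
def isCode (m : ℕ) : Bool := Nat.beq (enc m) m

theorem bit_mul_xor (i j c : ℕ) :
    (i ^^^ j) % 2 * c = (i % 2 * c) ^^^ (j % 2 * c) := by
  have h : (i ^^^ j) % 2 = (i % 2) ^^^ (j % 2) := by
    have := Nat.xor_mod_two_pow (a := i) (b := j) (n := 1)
    simpa using this
  rw [h]
  have hi : i % 2 < 2 := Nat.mod_lt _ (by norm_num)
  have hj : j % 2 < 2 := Nat.mod_lt _ (by norm_num)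
  interval_cases i % 2 <;> interval_cases j % 2 <;> simp

theorem enc_xor (i j : ℕ) : enc (i ^^^ j) = enc i ^^^ enc j := by
  unfold enc
  simp only [Nat.shiftRight_xor_distrib, bit_mul_xor]
  ac_rfl

theorem word_bit_mul (i c : ℕ) (hc : word c ∈ golayCode) : word (i % 2 * c) ∈ golayCode := by
  have hi : i % 2 < 2 := Nat.mod_lt _ (by norm_num)
  interval_cases i % 2
  · rw [zero_mul, word_zero]; exact golayCode.zero_mem
  · rwa [one_mul]

theorem word_xor_mem {m n : ℕ} (hm : word m ∈ golayCode) (hn : word n ∈ golayCode) :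
    word (m ^^^ n) ∈ golayCode := by
  rw [word_xor]; exact golayCode.add_mem hm hn

/-- The mask of the translate by `t` of the set of squares modulo 23. -/
def qrMask (t : ℕ) : ℕ := ((340831 <<< t) ||| (340831 >>> (23 - t))) % 8388608

theorem word_qrMask (t : ZMod 23) : word (qrMask t.val) = qrWord t := by
  have h : ∀ t : ZMod 23, ∀ p : GolayPt, word (qrMask t.val) p = qrWord t p := by
    decide +kernel
  exact funext (h t)

theorem word_all : word 16777215 = 1 := by
  have h : ∀ p : GolayPt, word 16777215 p = 1 := by decide +kernel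
  exact funext h

theorem qrMask_mem (t : ℕ) (ht : t < 23) : word (qrMask t) ∈ golayCode := by
  have h := word_qrMask (t : ZMod 23)
  rw [ZMod.val_natCast, Nat.mod_eq_of_lt ht] at h
  rw [h]
  exact Submodule.subset_span (Or.inl ⟨_, rfl⟩)

theorem all_mem : word 16777215 ∈ golayCode := by
  rw [word_all]
  exact Submodule.subset_span (Or.inr rfl)

/-- The exclusive or of the generating masks with indices in a list (`23` is the all-ones word). -/
def xorGens (l : List ℕ) : ℕ :=
  l.foldr (fun t acc => (if t < 23 then qrMask t else 16777215) ^^^ acc) 0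

theorem xorGens_mem (l : List ℕ) : word (xorGens l) ∈ golayCode := by
  induction l with
  | nil => exact word_zero ▸ golayCode.zero_mem
  | cons t l ih =>
    apply word_xor_mem _ ih
    split_ifs with h
    · exact qrMask_mem t h
    · exact all_mem

theorem basis_mem : word 13062145 ∈ golayCode ∧ word 4845570 ∈ golayCode ∧
    word 13938692 ∈ golayCode ∧ word 7221256 ∈ golayCode ∧ word 10170384 ∈ golayCode ∧
    word 11952160 ∈ golayCode ∧ word 15515712 ∈ golayCode ∧ word 2019456 ∈ golayCode ∧
    word 4038912 ∈ golayCode ∧ word 8077824 ∈ golayCode ∧ word 11654144 ∈ golayCode ∧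
    word 14919680 ∈ golayCode := by
  refine ⟨?_, ?_, ?_, ?_, ?_, ?_, ?_, ?_, ?_, ?_, ?_, ?_⟩
  · exact xorGens_mem [0, 3, 5, 7, 9, 10, 23]
  · exact xorGens_mem [3, 4, 8]
  · exact xorGens_mem [0, 3, 4, 7, 10, 23]
  · exact xorGens_mem [3, 4, 5, 6, 8, 10]
  · exact xorGens_mem [1, 3, 4, 5, 7, 9, 10, 23]
  · exact xorGens_mem [0, 1, 2, 4, 7, 8, 9, 10, 23]
  · exact xorGens_mem [0, 2, 3, 6, 7, 8, 10, 23]
  · exact xorGens_mem [4, 6, 7, 8, 9, 10]
  · exact xorGens_mem [0, 1, 6, 8, 10]
  · exact xorGens_mem [0, 2, 5, 6]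
  · exact xorGens_mem [0, 1, 5, 6, 9, 10, 23]
  · exact xorGens_mem [0, 2, 5, 9, 10, 23]

theorem enc_mem (i : ℕ) : word (enc i) ∈ golayCode := by
  obtain ⟨h0, h1, h2, h3, h4, h5, h6, h7, h8, h9, h10, h11⟩ := basis_mem
  exact word_xor_mem (word_xor_mem (word_xor_mem (word_xor_mem (word_xor_mem (word_xor_mem
    (word_xor_mem (word_xor_mem (word_xor_mem (word_xor_mem (word_xor_mem
    (word_bit_mul _ _ h0) (word_bit_mul _ _ h1)) (word_bit_mul _ _ h2)) (word_bit_mul _ _ h3))
    (word_bit_mul _ _ h4)) (word_bit_mul _ _ h5)) (word_bit_mul _ _ h6)) (word_bit_mul _ _ h7))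
    (word_bit_mul _ _ h8)) (word_bit_mul _ _ h9)) (word_bit_mul _ _ h10)) (word_bit_mul _ _ h11)

theorem isCode_iff {m : ℕ} : isCode m = true ↔ enc m = m :=
  ⟨Nat.eq_of_beq_eq_true, fun h => by unfold isCode; rw [h]; exact Nat.beq_refl m⟩

theorem isCode_xor {m n : ℕ} (hm : isCode m = true) (hn : isCode n = true) :
    isCode (m ^^^ n) = true := by
  rw [isCode_iff] at *
  rw [enc_xor, hm, hn]

theorem isCode_zero : isCode 0 = true := by decide +kernel

/-- A word lies in the code exactly when its mask passes the check. -/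
theorem mem_golayCode_iff (w : GolayPt → ZMod 2) : w ∈ golayCode ↔ isCode (maskW w) = true := by
  constructor
  · intro h
    refine Submodule.span_induction (p := fun w _ => isCode (maskW w) = true) ?_ ?_ ?_ ?_ h
    · rintro x (⟨t, rfl⟩ | rfl)
      · rw [← word_qrMask, maskW_word]
        · revert t; decide +kernel
        · revert t; decide +kernel
      · rw [← word_all, maskW_word (by norm_num)]
        decide +kernel
    · rw [← word_zero, maskW_word (by norm_num)]
      exact isCode_zero
    · intro x y _ _ hx hy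
      rw [maskW_add]
      exact isCode_xor hx hy
    · intro a x _ hx
      have ha : a = 0 ∨ a = 1 := by revert a; decide
      rcases ha with rfl | rfl
      · rw [zero_smul, ← word_zero, maskW_word (by norm_num)]
        exact isCode_zero
      · rwa [one_smul]
  · intro h
    rw [isCode_iff] at h
    rw [← word_maskW w, ← h]
    exact enc_mem _
/-! ### Supports, octads, dodecads -/

theorem mem_supports_iff (s : Finset GolayPt) :
    s ∈ supports (golayCode : Set (GolayPt → ZMod 2)) ↔ isCode (maskOf s) = true := by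
  constructor
  · rintro ⟨w, hw, rfl⟩
    rw [maskOf_support₂]
    exact (mem_golayCode_iff w).1 hw
  · intro h
    refine ⟨word (maskOf s), ?_, ?_⟩
    · rw [SetLike.mem_coe, mem_golayCode_iff, maskW_word (maskOf_lt s)]
      exact h
    · rw [support₂_word, fin_maskOf]

theorem fin_mem_supports_iff {m : ℕ} (hm : m < 2 ^ 24) :
    fin m ∈ supports (golayCode : Set (GolayPt → ZMod 2)) ↔ isCode m = true := by
  rw [mem_supports_iff, maskOf_fin hm]

theorem mem_octads_iff (s : Finset GolayPt) :
    s ∈ octads ↔ isCode (maskOf s) = true ∧ popcount (maskOf s) = 8 := by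
  rw [← mem_supports_iff, ← card_eq_popcount]
  exact Iff.rfl

theorem fin_mem_octads_iff {m : ℕ} (hm : m < 2 ^ 24) :
    fin m ∈ octads ↔ isCode m = true ∧ popcount m = 8 := by
  rw [mem_octads_iff, maskOf_fin hm]

theorem mem_dodecads_iff (s : Finset GolayPt) :
    s ∈ dodecads ↔ isCode (maskOf s) = true ∧ popcount (maskOf s) = 12 := by
  rw [← mem_supports_iff, ← card_eq_popcount]
  exact Iff.rfl

theorem fin_mem_dodecads_iff {m : ℕ} (hm : m < 2 ^ 24) :
    fin m ∈ dodecads ↔ isCode m = true ∧ popcount m = 12 := by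
  rw [mem_dodecads_iff, maskOf_fin hm]

/-- `enc` depends only on the low 12 bits. -/
theorem enc_mod (i : ℕ) : enc (i % 4096) = enc i := by
  have h : ∀ k < 12, ((i % 4096) >>> k) % 2 = (i >>> k) % 2 := by
    intro k hk
    have h1 : (i % 4096).testBit k = i.testBit k := by
      have := Nat.testBit_mod_two_pow i 12 k
      simp only [hk, decide_true, Bool.true_and] at this
      exact this
    rw [← ite_testBit, ← ite_testBit, h1]
  have h0 : (i % 4096) % 2 = i % 2 := h 0 (by norm_num)
  unfold enc
  rw [h0, h 1 (by norm_num), h 2 (by norm_num), h 3 (by norm_num), h 4 (by norm_num),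
    h 5 (by norm_num), h 6 (by norm_num), h 7 (by norm_num), h 8 (by norm_num),
    h 9 (by norm_num), h 10 (by norm_num), h 11 (by norm_num)]

theorem enc_lt_aux : ∀ i, i < 2 ^ 12 →
    (Nat.blt (enc i) 16777216 && Nat.beq (enc i % 4096) i) = true := by
  apply allR_zero_spec
  decide +kernel

theorem enc_lt (i : ℕ) : enc i < 2 ^ 24 := by
  rw [← enc_mod]
  have h := enc_lt_aux (i % 4096) (Nat.mod_lt _ (by norm_num))
  rw [Bool.and_eq_true] at h
  exact Nat.blt_eq.mp h.1

theorem enc_mod_eq (i : ℕ) : enc i % 4096 = i % 4096 := by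
  rw [← enc_mod]
  have h := enc_lt_aux (i % 4096) (Nat.mod_lt _ (by norm_num))
  rw [Bool.and_eq_true] at h
  exact Nat.eq_of_beq_eq_true h.2

theorem isCode_enc (i : ℕ) : isCode (enc i) = true := by
  rw [isCode_iff, ← enc_mod (enc i), enc_mod_eq, enc_mod]

theorem isCode_lt {m : ℕ} (h : isCode m = true) : m < 2 ^ 24 := by
  rw [← isCode_iff.1 h]
  exact enc_lt m

/-- The code words are the words `enc i` with `i < 4096`. -/
theorem isCode_iff_exists {m : ℕ} : isCode m = true ↔ ∃ i, i < 4096 ∧ m = enc i := by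
  constructor
  · intro h
    refine ⟨m % 4096, Nat.mod_lt _ (by norm_num), ?_⟩
    rw [enc_mod, isCode_iff.1 h]
  · rintro ⟨i, -, rfl⟩
    exact isCode_enc i

theorem enc_injOn {i j : ℕ} (hi : i < 4096) (hj : j < 4096) (h : enc i = enc j) : i = j := by
  have := enc_mod_eq i
  rw [h, enc_mod_eq, Nat.mod_eq_of_lt hi, Nat.mod_eq_of_lt hj] at this
  exact this.symm

/-- Boolean test that a weight is among `0, 8, 12, 16, 24`. -/
def goodWeight (n : ℕ) : Bool :=
  Nat.beq n 0 || Nat.beq n 8 || Nat.beq n 12 || Nat.beq n 16 || Nat.beq n 24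

theorem goodWeight_iff {n : ℕ} :
    goodWeight n = true ↔ n = 0 ∨ n = 8 ∨ n = 12 ∨ n = 16 ∨ n = 24 := by
  unfold goodWeight
  simp only [Bool.or_eq_true, Nat.beq_eq, or_assoc]

theorem enc_weight_aux : ∀ i, i < 2 ^ 12 → goodWeight (popcount (enc i)) = true := by
  apply allR_zero_spec
  decide +kernel

theorem isCode_weight {m : ℕ} (h : isCode m = true) :
    popcount m = 0 ∨ popcount m = 8 ∨ popcount m = 12 ∨ popcount m = 16 ∨ popcount m = 24 := by
  obtain ⟨i, hi, rfl⟩ := isCode_iff_exists.1 h
  exact goodWeight_iff.1 (enc_weight_aux i hi)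

theorem card_of_mem_supports {s : Finset GolayPt}
    (h : s ∈ supports (golayCode : Set (GolayPt → ZMod 2))) :
    s.card = 0 ∨ s.card = 8 ∨ s.card = 12 ∨ s.card = 16 ∨ s.card = 24 := by
  rw [card_eq_popcount]
  exact isCode_weight ((mem_supports_iff s).1 h)

theorem symmDiff_mem_supports {s t : Finset GolayPt}
    (hs : s ∈ supports (golayCode : Set (GolayPt → ZMod 2)))
    (ht : t ∈ supports (golayCode : Set (GolayPt → ZMod 2))) :
    symmDiff s t ∈ supports (golayCode : Set (GolayPt → ZMod 2)) := by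
  rw [mem_supports_iff] at hs ht
  rw [← fin_maskOf s, ← fin_maskOf t, ← fin_xor,
    fin_mem_supports_iff (Nat.xor_lt_two_pow (maskOf_lt _) (maskOf_lt _))]
  exact isCode_xor hs ht

/-- Two members of the code (as sets) whose symmetric difference has fewer than 8 elements are
equal. -/
theorem eq_of_card_symmDiff_lt {s t : Finset GolayPt}
    (hs : s ∈ supports (golayCode : Set (GolayPt → ZMod 2)))
    (ht : t ∈ supports (golayCode : Set (GolayPt → ZMod 2)))
    (h : (symmDiff s t).card < 8) : s = t := by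
  have h0 : (symmDiff s t).card = 0 := by
    rcases card_of_mem_supports (symmDiff_mem_supports hs ht) with h | h | h | h | h <;> omega
  rw [Finset.card_eq_zero] at h0
  exact symmDiff_eq_bot.1 h0

theorem card_symmDiff_add (s t : Finset GolayPt) :
    (symmDiff s t).card + 2 * (s ∩ t).card = s.card + t.card := by
  have h1 : (symmDiff s t).card = (s \ t).card + (t \ s).card := by
    rw [Finset.symmDiff_def, Finset.card_union_of_disjoint]
    exact disjoint_sdiff_sdiff
  have h2 := Finset.card_sdiff_add_card_inter s t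
  have h3 := Finset.card_sdiff_add_card_inter t s
  rw [Finset.inter_comm t s] at h3
  omega

theorem octad_card {o : Finset GolayPt} (ho : o ∈ octads) : o.card = 8 := ho.2

/-- Two octads with five points in common are equal. -/
theorem octad_unique {s t : Finset GolayPt} (hs : s ∈ octads) (ht : t ∈ octads)
    (h : 5 ≤ (s ∩ t).card) : s = t := by
  apply eq_of_card_symmDiff_lt hs.1 ht.1
  have := card_symmDiff_add s t
  rw [octad_card hs, octad_card ht] at this
  omega

end Cfsg.Agent.SporadicA.GolayBase
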