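import Mathlib

/-!
Subgroups of order `p` of a permutation group of prime degree `p`: transitivity, self-centralising
property and the order of the normaliser; orders of sharply multiply transitive groups.
-/

set_option autoImplicit false

namespace Cfsg.Agent.SporadicA.PrimeDegNorm

open Subgroup MulAction

/-- A subgroup of order `p` of a faithful group of prime degree `p` is transitive. -/
theorem isPretransitive_of_card {G Ω : Type*} [Group G] [MulAction G Ω] [FaithfulSMul G Ω]
    {p : ℕ} [Fact p.Prime] (hΩ : Nat.card Ω = p) (P : Subgroup G) (hP : Nat.card P = p) :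
    IsPretransitive P Ω := by
  have hp : p.Prime := Fact.out
  have hfin : Finite Ω := Nat.finite_of_card_ne_zero (by rw [hΩ]; exact hp.ne_zero)
  have hfinP : Finite P := Nat.finite_of_card_ne_zero (by rw [hP]; exact hp.ne_zero)
  have hnt : Nontrivial P := by
    rw [← Finite.one_lt_card_iff_nontrivial, hP]
    exact hp.one_lt
  obtain ⟨g, hg⟩ := exists_ne (1 : P)
  have : ∃ a : Ω, g • a ≠ a := by
    by_contra hcon
    push Not at hcon
    apply hg
    apply FaithfulSMul.eq_of_smul_eq_smul (α := Ω)
    intro a
    rw [hcon a, one_smul]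
  obtain ⟨a, ha⟩ := this
  have h1 : (orbit P a).ncard ∣ p := by
    rw [← index_stabilizer, ← hP]
    exact Subgroup.index_dvd_card _
  have h2 : 1 < (orbit P a).ncard := by
    rw [Set.one_lt_ncard_iff]
    exact ⟨g • a, a, mem_orbit a g, mem_orbit_self a, ha⟩
  have h3 : (orbit P a).ncard = p := ((Nat.dvd_prime hp).1 h1).resolve_left h2.ne'
  have h4 : orbit P a = Set.univ := by
    apply Set.eq_of_subset_of_ncard_le (Set.subset_univ _) _ (Set.toFinite _)
    rw [Set.ncard_univ, hΩ, h3]
  exact (MulAction.isPretransitive_iff_orbit_eq_univ a).2 h4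

/-- A transitive abelian subgroup of a faithful permutation group contains its centraliser. -/
theorem centralizer_le_of_comm_transitive {G Ω : Type*} [Group G] [MulAction G Ω]
    [FaithfulSMul G Ω] [Nonempty Ω] (P : Subgroup G) [IsPretransitive P Ω] :
    ∀ g ∈ centralizer (P : Set G), (∀ a ∈ P, ∀ b ∈ P, a * b = b * a) → g ∈ P := by
  intro g hg hcomm
  obtain ⟨a⟩ := ‹Nonempty Ω›
  obtain ⟨x, hx⟩ := exists_smul_eq P a (g • a)
  have hx' : (x : G) • a = g • a := hx
  suffices h : (x : G) = g by rw [← h]; exact x.2
  apply FaithfulSMul.eq_of_smul_eq_smul (α := Ω)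
  intro b
  obtain ⟨y, hy⟩ := exists_smul_eq P a b
  have hy' : (y : G) • a = b := hy
  rw [← hy', smul_smul, smul_smul, hcomm _ x.2 _ y.2, ← (mem_centralizer_iff.1 hg) y y.2,
    mul_smul, mul_smul, hx']

/-- The normaliser of a subgroup of order `p` in a faithful group of prime degree `p` has order
dividing `p * (p - 1)`. -/
theorem card_normalizer_dvd {G Ω : Type*} [Group G] [MulAction G Ω] [FaithfulSMul G Ω]
    {p : ℕ} [Fact p.Prime] (hΩ : Nat.card Ω = p) (P : Subgroup G) (hP : Nat.card P = p) :
    Nat.card (normalizer (P : Set G)) ∣ p * (p - 1) := by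
  have hp : p.Prime := Fact.out
  have hfin : Finite Ω := Nat.finite_of_card_ne_zero (by rw [hΩ]; exact hp.ne_zero)
  have hne : Nonempty Ω := by
    rw [← Finite.card_pos_iff, hΩ]
    exact hp.pos
  have htr : IsPretransitive P Ω := isPretransitive_of_card hΩ P hP
  have hcyc : IsCyclic P := isCyclic_of_prime_card hP
  have hfinP : Finite P := Nat.finite_of_card_ne_zero (by rw [hP]; exact hp.ne_zero)
  have hcomm : ∀ a ∈ (P : Subgroup G), ∀ b ∈ (P : Subgroup G), a * b = b * a := by
    intro a ha b hb
    have := (IsCyclic.commGroup (α := P)).mul_comm ⟨a, ha⟩ ⟨b, hb⟩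
    exact congrArg Subtype.val this
  have hC : (centralizer (P : Set G)).subgroupOf (normalizer (P : Set G)) =
      P.subgroupOf (normalizer (P : Set G)) := by
    ext x
    rw [mem_subgroupOf, mem_subgroupOf]
    constructor
    · intro hx
      exact centralizer_le_of_comm_transitive (Ω := Ω) P _ hx hcomm
    · intro hx
      rw [mem_centralizer_iff]
      intro y hy
      exact hcomm _ hy _ hx
  have hker : Nat.card P.normalizerMonoidHom.ker = p := by
    rw [normalizerMonoidHom_ker, hC, ← hP]
    exact Nat.card_congr (subgroupOfEquivOfLe le_normalizer).toEquiv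
  have hrange : Nat.card P.normalizerMonoidHom.range ∣ p - 1 := by
    have h1 := Subgroup.card_subgroup_dvd_card P.normalizerMonoidHom.range
    rwa [hcyc.card_mulAut, hP, Nat.totient_prime hp] at h1
  have h2 : Nat.card (normalizer (P : Set G)) =
      Nat.card P.normalizerMonoidHom.ker * Nat.card P.normalizerMonoidHom.range := by
    rw [← Subgroup.card_mul_index P.normalizerMonoidHom.ker, Subgroup.index_ker]
  rw [h2, hker]
  exact Nat.mul_dvd_mul_left p hrange

/-- The order of a sharply `k`-transitive group. -/
theorem card_of_sharply {G Ω : Type*} [Group G] [MulAction G Ω] [Finite Ω] (k : ℕ)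
    (hk : k ≤ Nat.card Ω)
    (htr : IsMultiplyPretransitive G Ω k) (hsharp : ∀ x : Fin k ↪ Ω, stabilizer G x = ⊥) :
    Nat.card G = (Nat.card Ω).descFactorial k := by
  classical
  have := Fintype.ofFinite Ω
  have hne : Nonempty (Fin k ↪ Ω) := by
    apply Function.Embedding.nonempty_of_card_le
    rw [Fintype.card_fin, ← Nat.card_eq_fintype_card]
    exact hk
  obtain ⟨x⟩ := hne
  have htr' : IsPretransitive G (Fin k ↪ Ω) := htr
  have h1 : Nat.card G = Nat.card (Fin k ↪ Ω) := by
    have h2 := (index_stabilizer_of_transitive G x)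
    rw [hsharp x, Subgroup.index_bot] at h2
    exact h2
  rw [h1, Nat.card_eq_fintype_card, Fintype.card_embedding_eq, Fintype.card_fin,
    Nat.card_eq_fintype_card]

end Cfsg.Agent.SporadicA.PrimeDegNorm
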