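import Mathlib

/-!
# Finite arithmetic for simple groups of order 7920
-/

set_option autoImplicit false

namespace Cfsg.Agent.SporadicA.M11Arith

theorem invC_dec : ∀ a ∈ ([-10, -6, -2, 2, 6] : List ℤ), ∀ b ∈ ([-10, -6, -2, 2, 6] : List ℤ),
    ∀ c ∈ ([-10, -6, -2, 2, 6] : List ℤ),
    ∀ e ∈ ([-16, -12, -8, -4, 0, 4, 8, 12, 16] : List ℤ),
    720 - 72 * (a * a + b * b + c * c) + 16 * ((a + b + c + e - 1) * (a + b + c + e - 1)) -
      45 * (e * e) = 0 →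
    (a + b + c + e - 1 = -3 ∧ e = 0) ∧
      ((a = 2 ∧ b = -2 ∧ c = -2) ∨ (a = -2 ∧ b = 2 ∧ c = -2) ∨ (a = -2 ∧ b = -2 ∧ c = 2)) := by
  decide +kernel

theorem invC {a b c d e : ℤ} (ha : (4 : ℤ) ∣ 10 - a) (hb : (4 : ℤ) ∣ 10 - b) (hc : (4 : ℤ) ∣ 10 - c)
    (he : (4 : ℤ) ∣ 16 - e) (ha1 : -10 ≤ a) (ha2 : a < 10) (hb1 : -10 ≤ b) (hb2 : b < 10)
    (hc1 : -10 ≤ c) (hc2 : c < 10) (he1 : -16 ≤ e) (he2 : e ≤ 16)
    (hlin : 1 - a - b - c + d - e = 0)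
    (hq : 720 - 72 * (a * a + b * b + c * c) + 16 * (d * d) - 45 * (e * e) = 0) :
    (d = -3 ∧ e = 0) ∧
      ((a = 2 ∧ b = -2 ∧ c = -2) ∨ (a = -2 ∧ b = 2 ∧ c = -2) ∨ (a = -2 ∧ b = -2 ∧ c = 2)) := by
  obtain rfl : d = a + b + c + e - 1 := by omega
  refine invC_dec a ?_ b ?_ c ?_ e ?_ hq
  · simp only [List.mem_cons, List.not_mem_nil, or_false]; omega
  · simp only [List.mem_cons, List.not_mem_nil, or_false]; omega
  · simp only [List.mem_cons, List.not_mem_nil, or_false]; omega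
  · simp only [List.mem_cons, List.not_mem_nil, or_false]; omega

theorem invB_dec : ∀ a ∈ ([-12, -8, -4, 0, 4, 8] : List ℤ),
    ∀ b ∈ ([-12, -8, -4, 0, 4, 8] : List ℤ),
    ∀ c ∈ ([-10, -6, -2, 2, 6] : List ℤ), ∀ d ∈ ([-10, -6, -2, 2, 6] : List ℤ),
    ∀ e ∈ ([-3, 1] : List ℤ), 1 + a + b - c - d - e = 0 →
    60 + 5 * (a * a + b * b) - 6 * (c * c + d * d) - 12 * (e * e) = 0 →
    c = 2 ∨ c = -2 := by
  decide +kernel

theorem invB {a b c d e : ℤ} (ha : (4 : ℤ) ∣ 12 - a) (hb : (4 : ℤ) ∣ 12 - b) (hc : (4 : ℤ) ∣ 10 - c)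
    (hd : (4 : ℤ) ∣ 10 - d) (he : (4 : ℤ) ∣ 5 - e) (ha1 : -12 ≤ a) (ha2 : a < 12) (hb1 : -12 ≤ b)
    (hb2 : b < 12) (hc1 : -10 ≤ c) (hc2 : c < 10) (hd1 : -10 ≤ d) (hd2 : d < 10) (he1 : -5 ≤ e)
    (he2 : e < 5)
    (hlin : 1 + a + b - c - d - e = 0)
    (hq : 60 + 5 * (a * a + b * b) - 6 * (c * c + d * d) - 12 * (e * e) = 0) :
    c = 2 ∨ c = -2 := by
  refine invB_dec a ?_ b ?_ c ?_ d ?_ e ?_ hlin hq
  · simp only [List.mem_cons, List.not_mem_nil, or_false]; omega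
  · simp only [List.mem_cons, List.not_mem_nil, or_false]; omega
  · simp only [List.mem_cons, List.not_mem_nil, or_false]; omega
  · simp only [List.mem_cons, List.not_mem_nil, or_false]; omega
  · simp only [List.mem_cons, List.not_mem_nil, or_false]; omega

theorem three_dec : ∀ N ∈ ([9, 18, 36, 72] : List ℤ),
    ∀ a ∈ ([-8, -5, -2, 1, 4, 7] : List ℤ), ∀ b ∈ ([-8, -5, -2, 1, 4, 7] : List ℤ),
    ∀ c ∈ ([-8, -5, -2, 1, 4, 7] : List ℤ), ∀ d ∈ ([-6, -3, 0, 3, 6] : List ℤ),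
    2 + a * a + b * b + c * c + d * d + 2 * ((1 - a - b - c + d) * (1 - a - b - c + d)) ≤ N →
    (15 - 3 * (a - b - c) - d) % N = 0 →
    (1 + 2 * (a - b - c) - 3 * d) * (1 + 2 * (a - b - c) - 3 * d) ≤ 26 * (N - (1 + a * a + b * b +
      c * c + d * d + 2 * ((1 - a - b - c + d) * (1 - a - b - c + d)))) →
    N ≠ 9 ∧ (N = 18 → a = 1 ∧ 1 - a - b - c + d = -2) ∧
    (N = 36 → a = 4 ∧ 1 - a - b - c + d = -2) ∧
    (N = 72 → (a = 1 ∧ 1 - a - b - c + d = 4) ∨ (a = 4 ∧ 1 - a - b - c + d = -2)) := by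
  decide +kernel

theorem three {N a b c d e : ℤ} (hN : N = 9 ∨ N = 18 ∨ N = 36 ∨ N = 72)
    (ha : (3 : ℤ) ∣ 10 - a) (hb : (3 : ℤ) ∣ 10 - b) (hc : (3 : ℤ) ∣ 10 - c) (hd : (3 : ℤ) ∣ 45 - d)
    (hlin : 1 - a - b - c + d - e = 0)
    (hsum : 2 + a * a + b * b + c * c + d * d + 2 * (e * e) ≤ N)
    (hdvd : N ∣ 15 - 3 * (a - b - c) - d)
    (hCS : (1 + 2 * (a - b - c) - 3 * d) * (1 + 2 * (a - b - c) - 3 * d) ≤
      26 * (N - (1 + a * a + b * b + c * c + d * d + 2 * (e * e)))) :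
    N ≠ 9 ∧ (N = 18 → a = 1 ∧ e = -2) ∧ (N = 36 → a = 4 ∧ e = -2) ∧
    (N = 72 → (a = 1 ∧ e = 4) ∨ (a = 4 ∧ e = -2)) := by
  obtain rfl : e = 1 - a - b - c + d := by omega
  have hN72 : N ≤ 72 := by omega
  have hee := mul_self_nonneg (1 - a - b - c + d)
  have haa := mul_self_nonneg a
  have hbb := mul_self_nonneg b
  have hcc := mul_self_nonneg c
  have hdd := mul_self_nonneg d
  have ba : a * a ≤ 70 := by linarith
  have bb : b * b ≤ 70 := by linarith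
  have bc : c * c ≤ 70 := by linarith
  have bd : d * d ≤ 70 := by linarith
  have a1 : a ≤ 8 := by nlinarith
  have a2 : -8 ≤ a := by nlinarith
  have b1 : b ≤ 8 := by nlinarith
  have b2 : -8 ≤ b := by nlinarith
  have c1 : c ≤ 8 := by nlinarith
  have c2 : -8 ≤ c := by nlinarith
  have d1 : d ≤ 8 := by nlinarith
  have d2 : -8 ≤ d := by nlinarith
  refine three_dec N ?_ a ?_ b ?_ c ?_ d ?_ hsum (Int.emod_eq_zero_of_dvd hdvd) hCS
  · simp only [List.mem_cons, List.not_mem_nil, or_false]; omega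
  · simp only [List.mem_cons, List.not_mem_nil, or_false]; omega
  · simp only [List.mem_cons, List.not_mem_nil, or_false]; omega
  · simp only [List.mem_cons, List.not_mem_nil, or_false]; omega
  · simp only [List.mem_cons, List.not_mem_nil, or_false]; omega

end Cfsg.Agent.SporadicA.M11Arith
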