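import Mathlib
import Cfsg.Agent.Characters.Core
import Cfsg.Agent.Characters.GaloisBasic

/-!
# Character values at elements of small prime order

* `eleven_values` : values at an element `x` of order 11 that is conjugate to `x ^ 3`.
* `rational_values` : values at an element of prime order conjugate to all its powers.
* `involution_values` : values at an involution (with the determinant condition).
-/

set_option autoImplicit false

namespace Cfsg.Agent.SporadicA.M11CharBasic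

open Cfsg Cfsg.Agent.Characters.Core Cfsg.Agent.Characters.GaloisBasic
open scoped ComplexConjugate

universe u
variable {G : Type u} [Group G]

/-- A square root of `-11`. -/
noncomputable def s11 : ℂ := Complex.I * (Real.sqrt 11 : ℂ)

theorem s11_sq : s11 ^ 2 = -11 := by
  have h : ((Real.sqrt 11 : ℝ) : ℂ) ^ 2 = 11 := by
    rw [← Complex.ofReal_pow, Real.sq_sqrt (by norm_num)]
    norm_num
  rw [s11, mul_pow, Complex.I_sq, h]
  ring

theorem s11_ne_zero : s11 ≠ 0 := by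
  intro h
  have := s11_sq
  rw [h] at this
  norm_num at this

theorem conj_s11 : conj s11 = -s11 := by
  rw [s11, map_mul, Complex.conj_I, Complex.conj_ofReal]
  ring

/-- Gauss sum for the prime 11. -/
theorem gauss_eleven {z : ℂ} (hz : z ^ 11 = 1) (h1 : z ≠ 1) :
    (z + z ^ 3 + z ^ 4 + z ^ 5 + z ^ 9) + (z ^ 2 + z ^ 6 + z ^ 7 + z ^ 8 + z ^ 10) = -1 ∧
    ((z + z ^ 3 + z ^ 4 + z ^ 5 + z ^ 9) - (z ^ 2 + z ^ 6 + z ^ 7 + z ^ 8 + z ^ 10) = s11 ∨
     (z + z ^ 3 + z ^ 4 + z ^ 5 + z ^ 9) - (z ^ 2 + z ^ 6 + z ^ 7 + z ^ 8 + z ^ 10) = -s11) := by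
  have hPhi : 1 + z + z ^ 2 + z ^ 3 + z ^ 4 + z ^ 5 + z ^ 6 + z ^ 7 + z ^ 8 + z ^ 9 + z ^ 10 = 0 := by
    have h2 : (z - 1) * (1 + z + z ^ 2 + z ^ 3 + z ^ 4 + z ^ 5 + z ^ 6 + z ^ 7 + z ^ 8 + z ^ 9 +
        z ^ 10) = 0 := by
      linear_combination hz
    rcases mul_eq_zero.1 h2 with h | h
    · exact absurd (sub_eq_zero.1 h) h1
    · exact h
  have hsum : (z + z ^ 3 + z ^ 4 + z ^ 5 + z ^ 9) + (z ^ 2 + z ^ 6 + z ^ 7 + z ^ 8 + z ^ 10) = -1 := by
    linear_combination hPhi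
  refine ⟨hsum, ?_⟩
  have hprod : (z + z ^ 3 + z ^ 4 + z ^ 5 + z ^ 9) * (z ^ 2 + z ^ 6 + z ^ 7 + z ^ 8 + z ^ 10) = 3 := by
    linear_combination (-3 + 3 * z + z ^ 3 - z ^ 4 + z ^ 5 + z ^ 7 - z ^ 8 + z ^ 9) * hPhi
  have hsq : ((z + z ^ 3 + z ^ 4 + z ^ 5 + z ^ 9) - (z ^ 2 + z ^ 6 + z ^ 7 + z ^ 8 + z ^ 10)) ^ 2 =
      s11 ^ 2 := by
    rw [s11_sq]
    generalize z + z ^ 3 + z ^ 4 + z ^ 5 + z ^ 9 = E at *
    generalize z ^ 2 + z ^ 6 + z ^ 7 + z ^ 8 + z ^ 10 = F at *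
    linear_combination (E + F - 1) * hsum - 4 * hprod
  exact sq_eq_sq_iff_eq_or_eq_neg.1 hsq

theorem conj_pow_three {x : G} (h : IsConj x (x ^ 3)) (k : ℕ) : IsConj x (x ^ (3 ^ k)) := by
  induction k with
  | zero => simpa using IsConj.refl x
  | succ k ih =>
    have h2 : IsConj (x ^ (3 ^ k)) ((x ^ 3) ^ (3 ^ k)) := by
      obtain ⟨c, hc⟩ := isConj_iff.1 h
      refine isConj_iff.2 ⟨c, ?_⟩
      rw [← conj_pow, hc]
    rw [← pow_mul] at h2
    rw [pow_succ, mul_comm]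
    exact ih.trans h2

theorem isConj_pow_pow {x y : G} (h : IsConj x y) (k : ℕ) : IsConj (x ^ k) (y ^ k) := by
  obtain ⟨c, hc⟩ := isConj_iff.1 h
  exact isConj_iff.2 ⟨c, by rw [← conj_pow, hc]⟩

/-- Values of a character at an element `x` of order 11 conjugate to `x ^ 3`. -/
theorem eleven_values [Finite G] {χ : G → ℂ} (hχ : IsCharacter G χ) {x : G} (hx : x ^ 11 = 1)
    (h3 : IsConj x (x ^ 3)) :
    ∃ (n : ℕ) (A B : ℤ), χ 1 = n ∧ χ x = (A + B * s11) / 2 ∧ χ x⁻¹ = (A - B * s11) / 2 ∧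
      (2 : ℤ) ∣ A - B ∧ (11 : ℤ) ∣ 2 * n - A := by
  obtain ⟨n, μ, h1, hμ, hk⟩ := isCharacter_exists_fin_pow hχ x (n := 11) (by norm_num) hx
  have hcl := isCharacter_isClassFunction hχ
  have hpow : ∀ k : ℕ, χ (x ^ (3 ^ k)) = χ x := fun k =>
    (classFunction_apply_eq hcl (conj_pow_three h3 k)).symm
  have hpow10 : ∀ k : ℕ, χ ((x ^ 10) ^ (3 ^ k)) = χ (x ^ 10) := fun k => by
    have h4 : IsConj (x ^ 10) ((x ^ 10) ^ 3) := by
      have h5 := isConj_pow_pow h3 10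
      rwa [← pow_mul, mul_comm 3 10, pow_mul] at h5
    exact (classFunction_apply_eq hcl (conj_pow_three h4 k)).symm
  have hinv : x⁻¹ = x ^ 10 := by
    rw [inv_eq_iff_mul_eq_one, ← pow_succ', hx]
  have hmod : ∀ a b : ℕ, x ^ (11 * a + b) = x ^ b := by
    intro a b
    rw [pow_add, pow_mul, hx, one_pow, one_mul]
  -- values at the powers
  have v3 : χ (x ^ 3) = χ x := by simpa using hpow 1
  have v9 : χ (x ^ 9) = χ x := by simpa using hpow 2
  have v5 : χ (x ^ 5) = χ x := by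
    have := hpow 3
    rwa [show (3 : ℕ) ^ 3 = 11 * 2 + 5 by norm_num, hmod] at this
  have v4 : χ (x ^ 4) = χ x := by
    have := hpow 4
    rwa [show (3 : ℕ) ^ 4 = 11 * 7 + 4 by norm_num, hmod] at this
  have v8 : χ (x ^ 8) = χ (x ^ 10) := by
    have := hpow10 1
    rwa [← pow_mul, show 10 * (3 : ℕ) ^ 1 = 11 * 2 + 8 by norm_num, hmod] at this
  have v2 : χ (x ^ 2) = χ (x ^ 10) := by
    have := hpow10 2
    rwa [← pow_mul, show 10 * (3 : ℕ) ^ 2 = 11 * 8 + 2 by norm_num, hmod] at this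
  have v6 : χ (x ^ 6) = χ (x ^ 10) := by
    have := hpow10 3
    rwa [← pow_mul, show 10 * (3 : ℕ) ^ 3 = 11 * 24 + 6 by norm_num, hmod] at this
  have v7 : χ (x ^ 7) = χ (x ^ 10) := by
    have := hpow10 4
    rwa [← pow_mul, show 10 * (3 : ℕ) ^ 4 = 11 * 73 + 7 by norm_num, hmod] at this
  -- per eigenvalue
  have hper : ∀ i : Fin n, ∃ a e : ℤ,
      (μ i + μ i ^ 3 + μ i ^ 4 + μ i ^ 5 + μ i ^ 9) +
        (μ i ^ 2 + μ i ^ 6 + μ i ^ 7 + μ i ^ 8 + μ i ^ 10) = 11 * a - 1 ∧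
      (μ i + μ i ^ 3 + μ i ^ 4 + μ i ^ 5 + μ i ^ 9) -
        (μ i ^ 2 + μ i ^ 6 + μ i ^ 7 + μ i ^ 8 + μ i ^ 10) = e * s11 := by
    intro i
    by_cases h : μ i = 1
    · refine ⟨1, 0, ?_, ?_⟩
      · rw [h]; norm_num
      · rw [h]; norm_num
    · obtain ⟨g1, g2⟩ := gauss_eleven (hμ i) h
      rcases g2 with g2 | g2
      · exact ⟨0, 1, by rw [g1]; norm_num, by rw [g2]; norm_num⟩
      · exact ⟨0, -1, by rw [g1]; norm_num, by rw [g2]; norm_num⟩
  choose a e ha he using hper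
  have hk1 : χ (x ^ 1) = ∑ i, μ i := by rw [hk]; simp only [pow_one]
  have hS : 5 * (χ x + χ x⁻¹) = 11 * ((∑ i, a i : ℤ) : ℂ) - n := by
    have h5 : 5 * (χ x + χ x⁻¹) =
        (χ (x ^ 1) + χ (x ^ 3) + χ (x ^ 4) + χ (x ^ 5) + χ (x ^ 9)) +
        (χ (x ^ 2) + χ (x ^ 6) + χ (x ^ 7) + χ (x ^ 8) + χ (x ^ 10)) := by
      rw [v3, v4, v5, v9, v2, v6, v7, v8, hinv, pow_one]; ring
    rw [h5, hk1, hk 2, hk 3, hk 4, hk 5, hk 6, hk 7, hk 8, hk 9, hk 10]
    simp only [← Finset.sum_add_distrib]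
    rw [Finset.sum_congr rfl fun i _ => ha i, Finset.sum_sub_distrib, ← Finset.mul_sum]
    push_cast
    simp
  have hD : 5 * (χ x - χ x⁻¹) = ((∑ i, e i : ℤ) : ℂ) * s11 := by
    have h5 : 5 * (χ x - χ x⁻¹) =
        (χ (x ^ 1) + χ (x ^ 3) + χ (x ^ 4) + χ (x ^ 5) + χ (x ^ 9)) -
        (χ (x ^ 2) + χ (x ^ 6) + χ (x ^ 7) + χ (x ^ 8) + χ (x ^ 10)) := by
      rw [v3, v4, v5, v9, v2, v6, v7, v8, hinv, pow_one]; ring
    rw [h5, hk1, hk 2, hk 3, hk 4, hk 5, hk 6, hk 7, hk 8, hk 9, hk 10]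
    simp only [← Finset.sum_add_distrib, ← Finset.sum_sub_distrib]
    rw [Finset.sum_congr rfl fun i _ => he i, ← Finset.sum_mul]
    push_cast
    rfl
  generalize (∑ i, a i : ℤ) = a' at hS
  generalize (∑ i, e i : ℤ) = e' at hD
  have hint1 : IsIntegral ℤ (χ x) := isIntegral_apply hχ x
  have hint2 : IsIntegral ℤ (χ x⁻¹) := isIntegral_apply hχ x⁻¹
  obtain ⟨A, hA⟩ : ∃ A : ℤ, χ x + χ x⁻¹ = A := by
    apply exists_int_of_isIntegral (hint1.add hint2)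
    refine ⟨(11 * a' - n) / 5, ?_⟩
    push_cast
    rw [← hS]; ring
  obtain ⟨B, hB⟩ : ∃ B : ℤ, e' = 5 * B := by
    have h6 : IsIntegral ℤ ((χ x - χ x⁻¹) ^ 2) := (hint1.sub hint2).pow 2
    have h7 : ((5 : ℂ) * (χ x - χ x⁻¹)) ^ 2 = -11 * e' ^ 2 := by
      rw [hD, mul_pow, s11_sq]; ring
    obtain ⟨m, hm⟩ := exists_int_of_isIntegral h6 ⟨-11 * e' ^ 2 / 25, by
      push_cast
      rw [← h7]; ring⟩
    have h8 : 25 * m = -11 * e' ^ 2 := by
      have : (25 : ℂ) * m = -11 * e' ^ 2 := by rw [← hm, ← h7]; ring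
      exact_mod_cast this
    have h9 : (5 : ℤ) ∣ e' ^ 2 := by
      have : (5 : ℤ) ∣ 11 * e' ^ 2 := ⟨-5 * m, by linarith⟩
      exact (IsCoprime.dvd_of_dvd_mul_left (by norm_num : IsCoprime (5 : ℤ) 11) this)
    exact (Int.prime_iff_natAbs_prime.2 (by norm_num : Nat.Prime (5 : ℤ).natAbs)).dvd_of_dvd_pow h9
  have hD' : χ x - χ x⁻¹ = B * s11 := by
    have h5 : (5 : ℂ) * (χ x - χ x⁻¹) = 5 * (B * s11) := by
      rw [hD, hB]; push_cast; ring
    exact mul_left_cancel₀ (by norm_num) h5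
  refine ⟨n, A, B, h1, ?_, ?_, ?_, ?_⟩
  · rw [← hA, ← hD']; ring
  · rw [← hA, ← hD']; ring
  · have h6 : IsIntegral ℤ (χ x * χ x⁻¹) := hint1.mul hint2
    have h7 : 4 * (χ x * χ x⁻¹) = A ^ 2 + 11 * B ^ 2 := by
      have : 4 * (χ x * χ x⁻¹) = (χ x + χ x⁻¹) ^ 2 - (χ x - χ x⁻¹) ^ 2 := by ring
      rw [this, hA, hD', mul_pow, s11_sq]; ring
    obtain ⟨m, hm⟩ := exists_int_of_isIntegral h6 ⟨(A ^ 2 + 11 * B ^ 2) / 4, by
      push_cast
      rw [← h7]; ring⟩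
    have h8 : 4 * m = A ^ 2 + 11 * B ^ 2 := by
      have : (4 : ℂ) * m = A ^ 2 + 11 * B ^ 2 := by rw [← hm, ← h7]
      exact_mod_cast this
    have h9 : (2 : ℤ) ∣ (A - B) * (A + B) := ⟨2 * m - 6 * B ^ 2, by linarith⟩
    rcases Int.prime_two.dvd_or_dvd h9 with h | h
    · exact h
    · have : A - B = (A + B) - 2 * B := by ring
      rw [this]
      exact dvd_sub h (dvd_mul_right _ _)
  · have h8 : 5 * A = 11 * a' - n := by
      have : (5 : ℂ) * A = 11 * a' - n := by rw [← hA, hS]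
      exact_mod_cast this
    exact ⟨2 * a' - A, by linarith⟩

/-- Values of a character at an element of prime order conjugate to all its powers. -/
theorem rational_values [Finite G] {χ : G → ℂ} (hχ : IsCharacter G χ) {p : ℕ} (hp : p.Prime)
    {x : G} (hx : x ^ p = 1) (h : ∀ k : ℕ, 0 < k → k < p → IsConj x (x ^ k)) :
    ∃ (n : ℕ) (v : ℤ), χ 1 = n ∧ χ x = v ∧ (p : ℤ) ∣ n - v := by
  obtain ⟨n, μ, h1, hμ, hk⟩ := isCharacter_exists_fin_pow hχ x (n := p) hp.ne_zero hx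
  have hcl := isCharacter_isClassFunction hχ
  have hp1 : 1 < p := hp.one_lt
  have hper : ∀ i : Fin n, ∃ a : ℤ, ∑ k ∈ Finset.range p, μ i ^ k = p * a := by
    intro i
    by_cases h : μ i = 1
    · exact ⟨1, by simp [h]⟩
    · refine ⟨0, ?_⟩
      have h2 := mul_neg_geom_sum (μ i) p
      rw [hμ i, sub_self] at h2
      rcases mul_eq_zero.1 h2 with h3 | h3
      · exact absurd (sub_eq_zero.1 h3).symm h
      · rw [h3]; simp
  choose a ha using hper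
  have hS : ∑ k ∈ Finset.range p, χ (x ^ k) = p * ((∑ i, a i : ℤ) : ℂ) := by
    simp only [hk]
    rw [Finset.sum_comm]
    simp only [ha]
    rw [← Finset.mul_sum]
    push_cast
    rfl
  generalize (∑ i, a i : ℤ) = a' at hS
  have hS2 : ∑ k ∈ Finset.range p, χ (x ^ k) = n + (p - 1) * χ x := by
    obtain ⟨q, rfl⟩ : ∃ q, p = q + 1 := ⟨p - 1, by omega⟩
    rw [Finset.sum_range_succ']
    have h3 : ∀ k ∈ Finset.range q, χ (x ^ (k + 1)) = χ x := by
      intro k hk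
      rw [Finset.mem_range] at hk
      exact (classFunction_apply_eq hcl (h (k + 1) (by omega) (by omega))).symm
    rw [Finset.sum_congr rfl h3]
    simp [h1]
    ring
  have hp0 : ((p : ℂ) - 1) ≠ 0 := by
    have : ((p : ℂ)) ≠ 1 := by exact_mod_cast hp1.ne'
    exact sub_ne_zero.2 this
  obtain ⟨v, hv⟩ : ∃ v : ℤ, χ x = v := by
    apply exists_int_of_isIntegral (isIntegral_apply hχ x)
    refine ⟨(p * a' - n) / (p - 1), ?_⟩
    push_cast
    rw [eq_div_iff hp0]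
    have := hS.symm.trans hS2
    linear_combination -this
  refine ⟨n, v, h1, hv, ?_⟩
  have h4 : (p : ℤ) * a' = n + (p - 1) * v := by
    have : (p : ℂ) * a' = n + (p - 1) * v := by rw [← hv, ← hS, hS2]
    exact_mod_cast this
  exact ⟨a' - v, by linarith⟩

end Cfsg.Agent.SporadicA.M11CharBasic
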