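import Mathlib
import Cfsg.Agent.Characters.Core
import Cfsg.Agent.Characters.GaloisBasic
import Cfsg.Agent.Characters.Linear
import Cfsg.Agent.Characters.Values

/-!
# Characters of non-abelian simple groups: kernels, linear characters, values at involutions
-/

set_option autoImplicit false

namespace Cfsg.Agent.SporadicA.M11CharSimple

open Cfsg Cfsg.Agent.Characters.Core Cfsg.Agent.Characters.GaloisBasic
open scoped ComplexConjugate

universe u
variable {G : Type u} [Group G]

/-- A non-abelian simple group has only the trivial homomorphism to `ℂˣ`. -/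
theorem hom_eq_one [IsSimpleGroup G] (hnc : ¬ ∀ a b : G, a * b = b * a) (f : G →* ℂˣ) : f = 1 := by
  rcases (inferInstance : f.ker.Normal).eq_bot_or_eq_top with h | h
  · exfalso
    apply hnc
    intro a b
    have hinj := (MonoidHom.ker_eq_bot_iff f).1 h
    apply hinj
    rw [map_mul, map_mul, mul_comm]
  · exact (MonoidHom.ker_eq_top_iff).1 h

theorem eq_one_of_degree_one [IsSimpleGroup G] (hnc : ¬ ∀ a b : G, a * b = b * a) {χ : G → ℂ}
    (hχ : IsIrrCharacter G χ) (h1 : χ 1 = 1) : χ = 1 := by
  obtain ⟨f, rfl⟩ := Characters.Linear.exists_hom_of_isIrrCharacter hχ h1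
  rw [hom_eq_one hnc f]
  funext g
  simp

/-- In a simple group, only the trivial irreducible character has an element `g ≠ 1` in its
kernel. -/
theorem eq_one_of_apply_eq [Finite G] [IsSimpleGroup G] {χ : G → ℂ}
    (hχ : IsIrrCharacter G χ) {g : G} (hg : g ≠ 1) (h : χ g = χ 1) : χ = 1 := by
  have := Fintype.ofFinite G
  obtain ⟨n, ρ, hirr, rfl⟩ := hχ
  have h2 : ρ g = LinearMap.id := by
    rw [Representation.char_one] at h
    exact (Characters.Values.character_eq_finrank_iff ρ g).1 h
  have h3 : ∀ k : G, ρ k = 1 := by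
    rcases (inferInstance : (MonoidHom.ker ρ).Normal).eq_bot_or_eq_top with h4 | h4
    · exfalso
      apply hg
      have : g ∈ MonoidHom.ker ρ := h2
      rw [h4] at this
      exact this
    · intro k
      have : k ∈ MonoidHom.ker ρ := by rw [h4]; exact Subgroup.mem_top k
      exact this
  have h5 : ∀ k : G, ρ.character k = n := by
    intro k
    rw [Representation.character, h3, LinearMap.trace_one]
    simp
  have h6 := classInner_irr_self (G := G) ⟨n, ρ, hirr, rfl⟩
  rw [classInner_def] at h6
  simp only [h5, Complex.conj_natCast, Finset.sum_const, Finset.card_univ, nsmul_eq_mul] at h6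
  rw [← Nat.card_eq_fintype_card, ← mul_assoc, inv_mul_cancel₀ card_ne_zero_complex, one_mul] at h6
  have h7 : n * n = 1 := by exact_mod_cast h6
  have h8 : n = 1 := Nat.eq_one_of_mul_eq_one_right h7
  funext k
  rw [h5, h8]
  simp

/-- In a non-abelian simple group, only the trivial irreducible character has an element `g ≠ 1`
acting as a scalar. -/
theorem eq_one_of_norm_eq [Finite G] [IsSimpleGroup G] (hnc : ¬ ∀ a b : G, a * b = b * a)
    {χ : G → ℂ} (hχ : IsIrrCharacter G χ) {g : G} (hg : g ≠ 1) {n : ℕ} (h1 : χ 1 = n)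
    (h : ‖χ g‖ = n) : χ = 1 := by
  obtain ⟨m, ρ, hirr, rfl⟩ := id hχ
  have hm : m = n := by
    rw [Representation.char_one] at h1
    have : ((m : ℕ) : ℂ) = n := by simpa using h1
    exact_mod_cast this
  subst hm
  obtain ⟨w, hw⟩ := (Characters.Values.norm_character_eq_iff ρ g).1 (by rw [h]; simp)
  by_contra hne
  apply hnc
  have hcomm : ∀ k : G, k * g * k⁻¹ * g⁻¹ = 1 := by
    intro k
    by_contra hk
    apply hne
    apply eq_one_of_apply_eq hχ hk
    have h2 : ρ (k * g * k⁻¹ * g⁻¹) = 1 := by
      have h3 : ρ (k * g) = ρ (g * k) := by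
        rw [map_mul, map_mul, hw]
        ext v
        simp
      have h4 : k * g * k⁻¹ * g⁻¹ = (k * g) * (g * k)⁻¹ := by group
      rw [h4, map_mul, h3, ← map_mul, mul_inv_cancel, map_one]
    rw [Representation.character, Representation.character, h2, MonoidHom.map_one ρ]
  have hcen : g ∈ Subgroup.center G := by
    rw [Subgroup.mem_center_iff]
    intro k
    have h5 := hcomm k
    rw [mul_inv_eq_one, mul_inv_eq_iff_eq_mul] at h5
    exact h5
  rcases (inferInstance : (Subgroup.center G).Normal).eq_bot_or_eq_top with h6 | h6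
  · rw [h6, Subgroup.mem_bot] at hcen
    exact absurd hcen hg
  · intro a b
    have : a ∈ Subgroup.center G := by rw [h6]; exact Subgroup.mem_top a
    rw [Subgroup.mem_center_iff] at this
    exact (this b).symm

/-- Values of a character at an involution of a non-abelian simple group. -/
theorem involution_values [IsSimpleGroup G] (hnc : ¬ ∀ a b : G, a * b = b * a)
    {χ : G → ℂ} (hχ : IsCharacter G χ) {u : G} (hu : u ^ 2 = 1) :
    ∃ (n : ℕ) (v : ℤ), χ 1 = n ∧ χ u = v ∧ (4 : ℤ) ∣ n - v ∧ v ≤ n ∧ -(n : ℤ) ≤ v := by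
  classical
  obtain ⟨n, ρ, rfl⟩ := hχ
  have hf : (ρ u) ^ 2 = 1 := by rw [← map_pow, hu, map_one]
  obtain ⟨b, μ, h1, h2⟩ := exists_basis_eigenvectors (ρ u) two_ne_zero hf
  have hdet : ∏ i, μ i = 1 := by
    have h3 : LinearMap.toMatrix b b (ρ u) = Matrix.diagonal μ := by
      ext i j
      rw [LinearMap.toMatrix_apply, h1, map_smul, Finsupp.smul_apply, Module.Basis.repr_self,
        Matrix.diagonal_apply, Finsupp.single_apply]
      by_cases hij : i = j
      · rw [if_pos hij, if_pos hij.symm, hij]; simp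
      · rw [if_neg hij, if_neg (Ne.symm hij)]; simp
    have h4 : LinearMap.det (ρ u) = ∏ i, μ i := by
      rw [← LinearMap.det_toMatrix b, h3, Matrix.det_diagonal]
    rw [← h4]
    have h5 := hom_eq_one hnc (LinearMap.det.comp ρ).toHomUnits
    have h6 := congrArg (fun f => ((f u : ℂˣ) : ℂ)) h5
    simp only [MonoidHom.coe_toHomUnits] at h6
    exact h6
  have htr : ρ.character u = ∑ i, μ i := by
    have h3 := trace_pow_of_basis (ρ u) b μ h1 1
    rw [pow_one] at h3
    rw [Representation.character, h3]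
    simp only [pow_one]
  have hk : ∀ i, ∃ k : ℕ, μ i = (-1) ^ k ∧ k ≤ 1 := by
    intro i
    have h3 : (μ i - 1) * (μ i + 1) = 0 := by linear_combination h2 i
    rcases mul_eq_zero.1 h3 with h | h
    · exact ⟨0, by rw [pow_zero]; exact sub_eq_zero.1 h, by norm_num⟩
    · exact ⟨1, by rw [pow_one]; exact eq_neg_of_add_eq_zero_left h, le_refl _⟩
  choose k hk hk1 using hk
  have hsum : ∀ i, μ i = 1 - 2 * (k i : ℂ) := by
    intro i
    have := hk1 i
    rw [hk i]
    interval_cases k i <;> norm_num
  have hprod : (-1 : ℂ) ^ (∑ i, k i) = 1 := by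
    rw [← Finset.prod_pow_eq_pow_sum]
    refine Eq.trans ?_ hdet
    exact Finset.prod_congr rfl fun i _ => (hk i).symm
  have heven : Even (∑ i, k i) := by
    by_contra ho
    rw [Nat.not_even_iff_odd] at ho
    rw [ho.neg_one_pow] at hprod
    norm_num at hprod
  obtain ⟨m, hm⟩ := heven
  have hle : ∑ i, k i ≤ n := by
    calc ∑ i, k i ≤ ∑ i : Fin (Module.finrank ℂ (Fin n → ℂ)), 1 := Finset.sum_le_sum fun i _ => hk1 i
      _ = n := by simp
  refine ⟨n, n - 4 * m, ?_, ?_, ⟨m, by ring⟩, by omega, by omega⟩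
  · rw [Representation.char_one]; simp
  · rw [htr, Finset.sum_congr rfl fun i _ => hsum i, Finset.sum_sub_distrib, ← Finset.mul_sum,
      ← Nat.cast_sum, hm]
    push_cast
    simp
    ring

end Cfsg.Agent.SporadicA.M11CharSimple
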