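import Mathlib
import Cfsg.Agent.SporadicA.M11CharBasic
import Cfsg.Agent.SporadicA.M11CharSimple
import Cfsg.Agent.Characters.ClassMul
import Cfsg.Agent.S0145
import Cfsg.Agent.S0135

/-!
# The irreducible characters not vanishing at elements of order 11 in a simple group of order 7920
-/

set_option autoImplicit false

namespace Cfsg.Agent.SporadicA.M11Block

open Cfsg Cfsg.Agent.Characters.Core Cfsg.Agent.SporadicA.M11CharBasic
  Cfsg.Agent.SporadicA.M11CharSimple
open scoped ComplexConjugate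

universe u
variable {G : Type u} [Group G]

/-- The seven irreducible characters `v i` have degrees `deg i`, twice the real parts `wt i` at
`x`, and all others have real part zero at `x` and degree divisible by 11. -/
structure IsB0 (x : G) (v : Fin 7 → IrrCharacter G) (deg : Fin 7 → ℕ) (wt : Fin 7 → ℤ) : Prop where
  inj : Function.Injective v
  one : ((v 0 : IrrCharacter G) : G → ℂ) = 1
  degs : ∀ i, ((v i : IrrCharacter G) : G → ℂ) 1 = deg i
  conj65 : ∀ g, ((v 6 : IrrCharacter G) : G → ℂ) g = conj (((v 5 : IrrCharacter G) : G → ℂ) g)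
  wts : ∀ i, ((v i : IrrCharacter G) : G → ℂ) x + conj (((v i : IrrCharacter G) : G → ℂ) x) = wt i
  rest : ∀ χ : IrrCharacter G, (∀ i, v i ≠ χ) →
    (χ : G → ℂ) x + conj ((χ : G → ℂ) x) = 0 ∧ ∃ k : ℕ, (χ : G → ℂ) 1 = 11 * k

/-- The trivial character. -/
noncomputable def triv (G : Type u) [Group G] : IrrCharacter G := ⟨1, isIrr_one⟩

theorem not_comm [Finite G] [IsSimpleGroup G] (hcard : Nat.card G = 7920) :
    ¬ ∀ a b : G, a * b = b * a := by
  intro h
  let _ : CommGroup G := { ‹Group G› with mul_comm := h }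
  have hp : (Nat.card G).Prime := IsSimpleGroup.prime_card
  rw [hcard] at hp
  norm_num at hp

section arith

/-- Degree arithmetic: single exceptional sign `2`. -/
theorem arith_single {n t : ℕ} {r a : ℤ} (hr : r = 2 ∨ r = -2) (ha : a = 1 ∨ a = -1)
    (hn : (11 : ℤ) ∣ 2 * n - 2 * r) (ht : (11 : ℤ) ∣ 2 * t - a) (hnd : n ∣ 7920) (htd : t ∣ 7920)
    (h : 1 + r * n + a * t = 0) (hsq : n ^ 2 + 2 * t ^ 2 ≤ 7920) : n = 2 ∧ r = 2 ∧ t = 5 := by
  have hn88 : n ≤ 88 := by nlinarith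
  have hn0 : n ≠ 0 := by rintro rfl; norm_num at hnd
  rcases hr with rfl | rfl <;> rcases ha with rfl | rfl
  · omega
  · have h2 : t = 2 * n + 1 := by omega
    subst h2
    have h3 : n ≤ 31 := by nlinarith
    interval_cases n <;> omega
  · have h2 : t = 2 * n - 1 := by omega
    subst h2
    interval_cases n <;> omega
  · omega

/-- Degree arithmetic: sign `1`. -/
theorem arith_deg {n : ℕ} {r : ℤ} (hr : r = 1 ∨ r = -1)
    (hn : (11 : ℤ) ∣ 2 * n - 2 * r) (hnd : n ∣ 7920)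
    (hsq : n ^ 2 ≤ 7920) (h1 : n ≠ 1) :
    (n = 10 ∧ r = -1) ∨ (n = 12 ∧ r = 1) ∨ (n = 45 ∧ r = 1) := by
  have hn88 : n ≤ 88 := by nlinarith
  have hn0 : n ≠ 0 := by rintro rfl; norm_num at hnd
  rcases hr with rfl | rfl <;> interval_cases n <;> omega

/-- Degree arithmetic: the degree equation. -/
theorem arith_count {t a10 a12 a45 : ℕ} {a : ℤ} (ha : a = 1 ∨ a = -1)
    (ht : (11 : ℤ) ∣ 2 * t - a) (htd : t ∣ 7920) (hc : a10 + a12 + a45 = 4)
    (h : 1 - 10 * (a10 : ℤ) + 12 * a12 + 45 * a45 + a * t = 0)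
    (hsq : 1 + 100 * a10 + 144 * a12 + 2025 * a45 + 2 * t ^ 2 ≤ 7920) :
    a = -1 ∧ ((a10 = 3 ∧ a12 = 0 ∧ a45 = 1 ∧ t = 16) ∨ (a10 = 2 ∧ a12 = 2 ∧ a45 = 0 ∧ t = 5)) := by
  have hE : (t : ℤ) ^ 2 = (1 - 10 * (a10 : ℤ) + 12 * a12 + 45 * a45) ^ 2 := by
    rcases ha with rfl | rfl
    · have : (t : ℤ) = - (1 - 10 * (a10 : ℤ) + 12 * a12 + 45 * a45) := by linarith
      rw [this]; ring
    · have : (t : ℤ) = (1 - 10 * (a10 : ℤ) + 12 * a12 + 45 * a45) := by linarith
      rw [this]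
  have hsq' : 1 + 100 * (a10 : ℤ) + 144 * a12 + 2025 * a45 + 2 *
      (1 - 10 * (a10 : ℤ) + 12 * a12 + 45 * a45) ^ 2 ≤ 7920 := by
    rw [← hE]; exact_mod_cast hsq
  clear hsq hE
  have h10 : a10 ≤ 4 := by omega
  have h45 : a45 ≤ 4 := by omega
  have h12 : a12 ≤ 4 := by omega
  rcases ha with rfl | rfl
  · exfalso
    interval_cases a10 <;> interval_cases a45 <;> interval_cases a12 <;>
      first | omega | (norm_num at hsq'; done) |
        (have ht60 : t ≤ 60 := by omega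
         interval_cases t <;> omega)
  · refine ⟨rfl, ?_⟩
    interval_cases a10 <;> interval_cases a45 <;> interval_cases a12 <;>
      first | omega | (norm_num at hsq'; done) |
        (have ht60 : t ≤ 60 := by omega
         interval_cases t <;> omega)

end arith


/-- The complex conjugate of an irreducible character. -/
noncomputable def bar [Finite G] (χ : IrrCharacter G) : IrrCharacter G :=
  ⟨fun g => conj ((χ : G → ℂ) g), isIrr_conj χ.2⟩

theorem bar_apply [Finite G] (χ : IrrCharacter G) (g : G) :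
    (bar χ : G → ℂ) g = conj ((χ : G → ℂ) g) := rfl

theorem deg_dvd [Finite G] {χ : G → ℂ} (hχ : IsIrrCharacter G χ) {n : ℕ} (h : χ 1 = n) :
    n ∣ Nat.card G := by
  obtain ⟨m, ρ, hirr, rfl⟩ := hχ
  rw [Representation.char_one] at h
  have h2 : Module.finrank ℂ (Fin m → ℂ) = n := by exact_mod_cast h
  rw [← h2]
  exact S0135.result ρ

/-- If `∑ f ^ 2` over a finite set of integers with all `|f| = 1` is `4` then there are four. -/
theorem split_sum_sq {ι : Type*} (T : Finset ι) (r : ι → ℤ) (h0 : ∀ i ∈ T, r i ≠ 0)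
    (h : ∑ i ∈ T, r i ^ 2 = 4) :
    (∃ i, T = {i} ∧ (r i = 2 ∨ r i = -2)) ∨ (T.card = 4 ∧ ∀ i ∈ T, r i = 1 ∨ r i = -1) := by
  classical
  by_cases hbig : ∃ i ∈ T, ¬ (r i = 1 ∨ r i = -1)
  · left
    obtain ⟨i, hi, hr⟩ := hbig
    have h1 : 4 ≤ r i ^ 2 := by
      have h2 := h0 i hi
      have : r i ≤ -2 ∨ 2 ≤ r i := by omega
      rcases this with h3 | h3 <;> nlinarith
    have h2 : ∑ j ∈ T.erase i, r j ^ 2 + r i ^ 2 = 4 := by
      rw [Finset.sum_erase_add _ _ hi, h]
    have h3 : 0 ≤ ∑ j ∈ T.erase i, r j ^ 2 := Finset.sum_nonneg fun j _ => sq_nonneg _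
    have h4 : T.erase i = ∅ := by
      by_contra hne
      obtain ⟨j, hj⟩ := Finset.nonempty_iff_ne_empty.2 hne
      have h5 : r j ^ 2 ≤ ∑ j ∈ T.erase i, r j ^ 2 :=
        Finset.single_le_sum (f := fun j => r j ^ 2) (fun j _ => sq_nonneg _) hj
      have h6 : 0 < r j ^ 2 := by
        have := h0 j (Finset.mem_of_mem_erase hj)
        positivity
      omega
    refine ⟨i, ?_, ?_⟩
    · rw [← Finset.insert_erase hi, h4]; rfl
    · have h5 : r i ^ 2 = 4 := by rw [h4] at h2; simpa using h2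
      have : (r i - 2) * (r i + 2) = 0 := by linarith [h5]
      rcases mul_eq_zero.1 this with h | h
      · left; omega
      · right; omega
  · right
    have hbig' : ∀ i ∈ T, r i = 1 ∨ r i = -1 := by
      intro i hi
      by_contra h
      exact hbig ⟨i, hi, h⟩
    refine ⟨?_, hbig'⟩
    have h1 : ∑ i ∈ T, r i ^ 2 = ∑ i ∈ T, (1 : ℤ) := by
      refine Finset.sum_congr rfl fun i hi => ?_
      rcases hbig' i hi with h | h <;> rw [h] <;> norm_num
    rw [h1] at h
    simp only [Finset.sum_const, nsmul_eq_mul, mul_one] at h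
    exact_mod_cast h


/-- Column relation: an element not conjugate to `x` or `x⁻¹`. -/
theorem sum_mul_re [Finite G] [Fintype (IrrCharacter G)] {x g : G} (h : ¬ IsConj g x)
    (h' : ¬ IsConj g x⁻¹) :
    ∑ χ : IrrCharacter G, (χ : G → ℂ) g * ((χ : G → ℂ) x + conj ((χ : G → ℂ) x)) = 0 := by
  classical
  have := Fintype.ofFinite G
  have e1 := S0145.sum_irr_mul_conj g x
  have e2 := S0145.sum_irr_mul_conj g x⁻¹
  rw [if_neg h] at e1
  rw [if_neg h'] at e2
  have e3 : ∑ χ : IrrCharacter G, (χ : G → ℂ) g * ((χ : G → ℂ) x + conj ((χ : G → ℂ) x)) =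
      ∑ χ : IrrCharacter G, (χ : G → ℂ) g * conj ((χ : G → ℂ) x⁻¹) +
      ∑ χ : IrrCharacter G, (χ : G → ℂ) g * conj ((χ : G → ℂ) x) := by
    rw [← Finset.sum_add_distrib]
    refine Finset.sum_congr rfl fun χ _ => ?_
    rw [isCharacter_apply_inv (isIrr_isCharacter χ.2) x, Complex.conj_conj]
    ring
  rw [e3, e1, e2, add_zero]

theorem isB0_mk {x : G} (a b c d e f : IrrCharacter G) (n1 n2 n3 n4 n5 n6 : ℕ)
    (w0 w1 w2 w3 w4 w5 w6 : ℤ)
    (hnd : [triv G, a, b, c, d, e, f].Nodup)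
    (hd1 : (a : G → ℂ) 1 = n1) (hd2 : (b : G → ℂ) 1 = n2) (hd3 : (c : G → ℂ) 1 = n3)
    (hd4 : (d : G → ℂ) 1 = n4) (hd5 : (e : G → ℂ) 1 = n5) (hd6 : (f : G → ℂ) 1 = n6)
    (hef : ∀ g, (f : G → ℂ) g = conj ((e : G → ℂ) g))
    (hw0 : (triv G : G → ℂ) x + conj ((triv G : G → ℂ) x) = w0)
    (hw1 : (a : G → ℂ) x + conj ((a : G → ℂ) x) = w1)
    (hw2 : (b : G → ℂ) x + conj ((b : G → ℂ) x) = w2)
    (hw3 : (c : G → ℂ) x + conj ((c : G → ℂ) x) = w3)
    (hw4 : (d : G → ℂ) x + conj ((d : G → ℂ) x) = w4)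
    (hw5 : (e : G → ℂ) x + conj ((e : G → ℂ) x) = w5)
    (hw6 : (f : G → ℂ) x + conj ((f : G → ℂ) x) = w6)
    (hrest : ∀ χ : IrrCharacter G, χ ∉ [triv G, a, b, c, d, e, f] →
      (χ : G → ℂ) x + conj ((χ : G → ℂ) x) = 0 ∧ ∃ k : ℕ, (χ : G → ℂ) 1 = 11 * k) :
    IsB0 x ![triv G, a, b, c, d, e, f] ![1, n1, n2, n3, n4, n5, n6] ![w0, w1, w2, w3, w4, w5, w6] := by
  have hl : List.ofFn ![triv G, a, b, c, d, e, f] = [triv G, a, b, c, d, e, f] := by
    simp [List.ofFn_succ]
  refine ⟨?_, rfl, ?_, hef, ?_, ?_⟩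
  · rw [← List.nodup_ofFn, hl]
    exact hnd
  · intro i
    fin_cases i
    · show (1 : ℂ) = ((1 : ℕ) : ℂ)
      norm_num
    · exact hd1
    · exact hd2
    · exact hd3
    · exact hd4
    · exact hd5
    · exact hd6
  · intro i
    fin_cases i
    · exact hw0
    · exact hw1
    · exact hw2
    · exact hw3
    · exact hw4
    · exact hw5
    · exact hw6
  · intro χ hχ
    apply hrest
    rw [← hl, List.mem_ofFn]
    rintro ⟨i, hi⟩
    exact hχ i hi

/-- The main extraction: the irreducible characters of a simple group of order 7920 that do not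
vanish at an element `x` of order 11. -/
theorem exists_B0 [Finite G] [IsSimpleGroup G] (hcard : Nat.card G = 7920) {x : G}
    (hx : x ^ 11 = 1) (hC : Nat.card (Subgroup.centralizer ({x} : Set G)) = 11)
    (h3 : IsConj x (x ^ 3)) (hinv : ¬ IsConj x x⁻¹) :
    ∃ v : Fin 7 → IrrCharacter G,
      IsB0 x v ![1, 10, 10, 10, 45, 16, 16] ![2, -2, -2, -2, 2, -1, -1] ∨
      IsB0 x v ![1, 12, 12, 10, 10, 5, 5] ![2, 2, 2, -2, -2, -1, -1] := by
  classical
  have := Fintype.ofFinite G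
  have := finite_irr (G := G)
  have := Fintype.ofFinite (IrrCharacter G)
  have hnc := not_comm (G := G) hcard
  have hx1 : x ≠ 1 := by
    rintro rfl
    exact hinv (by rw [inv_one])
  have hev := fun χ : IrrCharacter G => eleven_values (isIrr_isCharacter χ.2) hx h3
  choose n A B hn hxA hxiA hpar hmod using hev
  have hconj : ∀ χ : IrrCharacter G, conj ((χ : G → ℂ) x) = (A χ - B χ * s11) / 2 := by
    intro χ
    rw [← isCharacter_apply_inv (isIrr_isCharacter χ.2) x]
    exact hxiA χ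
  have hAB : ∀ χ : IrrCharacter G, (χ : G → ℂ) x + conj ((χ : G → ℂ) x) = A χ := by
    intro χ
    rw [hconj, hxA]; ring
  -- orthogonality relations
  have o1 : ∑ χ : IrrCharacter G, (A χ ^ 2 + 11 * B χ ^ 2) = 44 := by
    have e := S0145.sum_irr_mul_conj x x
    rw [if_pos (IsConj.refl x), hC] at e
    have e2 : ∑ χ : IrrCharacter G, (χ : G → ℂ) x * conj ((χ : G → ℂ) x) =
        ((∑ χ : IrrCharacter G, (A χ ^ 2 + 11 * B χ ^ 2) : ℤ) : ℂ) / 4 := by
      push_cast
      rw [Finset.sum_div]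
      refine Finset.sum_congr rfl fun χ _ => ?_
      rw [hconj, hxA]
      linear_combination (-(B χ : ℂ) ^ 2 / 4) * s11_sq
    rw [e2] at e
    have e3 : ((∑ χ : IrrCharacter G, (A χ ^ 2 + 11 * B χ ^ 2) : ℤ) : ℂ) = (44 : ℤ) := by
      push_cast at e ⊢
      linear_combination 4 * e
    exact_mod_cast e3
  have o2 : ∑ χ : IrrCharacter G, (A χ ^ 2 - 11 * B χ ^ 2) = 0 := by
    have e := S0145.sum_irr_mul_conj x x⁻¹
    have e' := S0145.sum_irr_mul_conj x⁻¹ x
    rw [if_neg hinv] at e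
    rw [if_neg (fun h => hinv h.symm)] at e'
    have e2 : ∑ χ : IrrCharacter G, (χ : G → ℂ) x * conj ((χ : G → ℂ) x⁻¹) +
        ∑ χ : IrrCharacter G, (χ : G → ℂ) x⁻¹ * conj ((χ : G → ℂ) x) =
        ((∑ χ : IrrCharacter G, (A χ ^ 2 - 11 * B χ ^ 2) : ℤ) : ℂ) / 2 := by
      push_cast
      rw [Finset.sum_div, ← Finset.sum_add_distrib]
      refine Finset.sum_congr rfl fun χ _ => ?_
      rw [isCharacter_apply_inv (isIrr_isCharacter χ.2) x, Complex.conj_conj, hconj, hxA]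
      linear_combination ((B χ : ℂ) ^ 2 / 2) * s11_sq
    rw [e, e', add_zero] at e2
    have e3 : ((∑ χ : IrrCharacter G, (A χ ^ 2 - 11 * B χ ^ 2) : ℤ) : ℂ) = (0 : ℤ) := by
      push_cast at e2 ⊢
      linear_combination (-2) * e2
    exact_mod_cast e3
  have oA : ∑ χ : IrrCharacter G, A χ ^ 2 = 22 := by
    rw [Finset.sum_add_distrib] at o1
    rw [Finset.sum_sub_distrib] at o2
    omega
  have oB : ∑ χ : IrrCharacter G, B χ ^ 2 = 2 := by
    rw [Finset.sum_add_distrib, ← Finset.mul_sum] at o1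
    omega
  have o3 : ∑ χ : IrrCharacter G, (n χ : ℤ) * A χ = 0 := by
    have e := sum_mul_re (x := x) (g := 1) (fun h => hx1 (isConj_one_right.1 h))
      (fun h => hx1 (by simpa using (isConj_one_right.1 h)))
    have e2 : ((∑ χ : IrrCharacter G, (n χ : ℤ) * A χ : ℤ) : ℂ) = (0 : ℤ) := by
      push_cast
      rw [← e]
      exact Finset.sum_congr rfl fun χ _ => by rw [hAB, hn]
    exact_mod_cast e2
  have o4 : ∑ χ : IrrCharacter G, n χ ^ 2 = 7920 := by
    have e := S0145.sum_irr_mul_conj (1 : G) 1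
    rw [if_pos (IsConj.refl _)] at e
    have hc : Nat.card (Subgroup.centralizer ({1} : Set G)) = 7920 := by
      rw [Subgroup.centralizer_eq_top_iff_subset.2 (by
        rw [Set.singleton_subset_iff]; exact Subgroup.one_mem _), Subgroup.card_top, hcard]
    rw [hc] at e
    have e2 : ((∑ χ : IrrCharacter G, n χ ^ 2 : ℕ) : ℂ) = (7920 : ℕ) := by
      push_cast at e ⊢
      rw [← e]
      refine Finset.sum_congr rfl fun χ _ => ?_
      rw [hn, Complex.conj_natCast]; ring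
    exact_mod_cast e2
  -- conjugation
  have hs := s11_ne_zero
  have hbar : ∀ χ : IrrCharacter G, A (bar χ) = A χ ∧ B (bar χ) = - B χ ∧ n (bar χ) = n χ := by
    intro χ
    have e1 := hxA (bar χ)
    have e2 := hxiA (bar χ)
    rw [bar_apply, hconj] at e1
    rw [bar_apply, isCharacter_apply_inv (isIrr_isCharacter χ.2) x, Complex.conj_conj, hxA] at e2
    have e3 : (A (bar χ) : ℂ) = A χ := by linear_combination -e1 - e2
    have e4 : (B (bar χ) : ℂ) * s11 = (-B χ : ℤ) * s11 := by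
      push_cast
      linear_combination -e1 + e2
    have e5 := mul_right_cancel₀ hs e4
    refine ⟨by exact_mod_cast e3, by exact_mod_cast e5, ?_⟩
    have e6 := hn (bar χ)
    rw [bar_apply, hn, Complex.conj_natCast] at e6
    exact_mod_cast e6.symm
  have htriv : A (triv G) = 2 ∧ B (triv G) = 0 ∧ n (triv G) = 1 := by
    have e1 := hxA (triv G)
    have e2 := hxiA (triv G)
    have e3 := hn (triv G)
    change (1 : ℂ) = _ at e1 e2 e3
    have e4 : (A (triv G) : ℂ) = 2 := by linear_combination -e1 - e2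
    have e5 : (B (triv G) : ℂ) * s11 = (0 : ℤ) * s11 := by
      push_cast
      linear_combination -e1 + e2
    have e6 := mul_right_cancel₀ hs e5
    refine ⟨by exact_mod_cast e4, by exact_mod_cast e6, by exact_mod_cast e3.symm⟩
  -- the exceptional pair
  obtain ⟨θ, hθ⟩ : ∃ θ, B θ ≠ 0 := by
    by_contra h
    push Not at h
    simp [h] at oB
  have hθ' : B (bar θ) = - B θ := (hbar θ).2.1
  have hne1 : bar θ ≠ θ := fun h => by rw [h] at hθ'; omega
  have hne2 : triv G ≠ θ := fun h => by rw [← h] at hθ; exact hθ htriv.2.1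
  have hne3 : triv G ≠ bar θ := fun h => by
    have := htriv.2.1
    rw [h, hθ'] at this
    omega
  have hBsq : ∀ χ, χ ≠ θ → χ ≠ bar θ → B χ = 0 ∧ B θ ^ 2 = 1 := by
    intro χ h1 h2
    have h4 : ∑ ψ ∈ ({θ, bar θ, χ} : Finset (IrrCharacter G)), B ψ ^ 2 ≤ 2 := by
      rw [← oB]
      exact Finset.sum_le_sum_of_subset_of_nonneg (Finset.subset_univ _) fun _ _ _ => sq_nonneg _
    rw [Finset.sum_insert (by simp [hne1.symm, h1.symm]), Finset.sum_insert (by simp [h2.symm]),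
      Finset.sum_singleton, hθ', neg_sq] at h4
    have h5 : 0 < B θ ^ 2 := by positivity
    have h6 : 0 ≤ B χ ^ 2 := sq_nonneg _
    refine ⟨?_, by omega⟩
    have h7 : B χ ^ 2 = 0 := by omega
    exact pow_eq_zero_iff (two_ne_zero) |>.1 h7
  have hBθ : B θ ^ 2 = 1 := (hBsq (triv G) hne2 hne3).2
  have hB1 : B θ = 1 ∨ B θ = -1 := by
    have : (B θ - 1) * (B θ + 1) = 0 := by linarith
    rcases mul_eq_zero.1 this with h | h
    · left; omega
    · right; omega
  have hAodd : ¬ (2 : ℤ) ∣ A θ := by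
    have := hpar θ
    omega
  -- the set T of the other non-vanishing ones
  let S3 : Finset (IrrCharacter G) := {triv G, θ, bar θ}
  let T : Finset (IrrCharacter G) := (Finset.univ \ S3).filter (fun χ => A χ ≠ 0)
  have hmemT : ∀ χ, χ ∈ T ↔ (χ ≠ triv G ∧ χ ≠ θ ∧ χ ≠ bar θ) ∧ A χ ≠ 0 := by
    intro χ
    simp [T, S3]
  have hsplit : ∀ f : IrrCharacter G → ℤ, (∀ χ, A χ = 0 → f χ = 0) →
      ∑ χ, f χ = f (triv G) + f θ + f (bar θ) + ∑ χ ∈ T, f χ := by
    intro f hf
    rw [← Finset.sum_sdiff (Finset.subset_univ S3), add_comm]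
    congr 1
    · rw [Finset.sum_insert (by simp [hne2, hne3]), Finset.sum_insert (by simp [hne1.symm]),
        Finset.sum_singleton, add_assoc]
    · symm
      apply Finset.sum_subset (Finset.filter_subset _ _)
      intro χ h1 h2
      apply hf
      by_contra h
      exact h2 (Finset.mem_filter.2 ⟨h1, h⟩)
  have hTeven : ∀ χ ∈ T, ∃ r : ℤ, A χ = 2 * r := by
    intro χ hχ
    rw [hmemT] at hχ
    have h1 := (hBsq χ hχ.1.2.1 hχ.1.2.2).1
    have h2 := hpar χ
    rw [h1, sub_zero] at h2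
    exact h2
  let r : IrrCharacter G → ℤ := fun χ => A χ / 2
  have hr : ∀ χ ∈ T, A χ = 2 * r χ := by
    intro χ hχ
    obtain ⟨q, hq⟩ := hTeven χ hχ
    simp only [r]
    omega
  have hr0 : ∀ χ ∈ T, r χ ≠ 0 := by
    intro χ hχ h0
    have h1 := hr χ hχ
    rw [hmemT] at hχ
    rw [h0] at h1
    exact hχ.2 (by simpa using h1)
  have q1 : 4 + 2 * A θ ^ 2 + 4 * ∑ χ ∈ T, r χ ^ 2 = 22 := by
    have e := hsplit (fun χ => A χ ^ 2) (fun χ h => by rw [h]; norm_num)
    rw [oA, htriv.1, (hbar θ).1] at e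
    have e2 : ∑ χ ∈ T, A χ ^ 2 = 4 * ∑ χ ∈ T, r χ ^ 2 := by
      rw [Finset.mul_sum]
      refine Finset.sum_congr rfl fun χ hχ => ?_
      rw [hr χ hχ]; ring
    rw [e2] at e
    linarith
  have q2 : 1 + A θ * n θ + ∑ χ ∈ T, r χ * n χ = 0 := by
    have e := hsplit (fun χ => (n χ : ℤ) * A χ) (fun χ h => by rw [h, mul_zero])
    rw [o3, htriv.1, htriv.2.2, (hbar θ).1, (hbar θ).2.2] at e
    have e2 : ∑ χ ∈ T, (n χ : ℤ) * A χ = 2 * ∑ χ ∈ T, r χ * n χ := by
      rw [Finset.mul_sum]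
      refine Finset.sum_congr rfl fun χ hχ => ?_
      rw [hr χ hχ]; ring
    rw [e2] at e
    push_cast at e
    linarith
  have q3 : 1 + 2 * n θ ^ 2 + ∑ χ ∈ T, n χ ^ 2 ≤ 7920 := by
    rw [← o4, ← Finset.sum_sdiff (Finset.subset_univ S3), add_comm
      (∑ x ∈ Finset.univ \ S3, n x ^ 2)]
    have e1 : ∑ χ ∈ S3, n χ ^ 2 = 1 + 2 * n θ ^ 2 := by
      rw [Finset.sum_insert (by simp [hne2, hne3]), Finset.sum_insert (by simp [hne1.symm]),
        Finset.sum_singleton, htriv.2.2, (hbar θ).2.2]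
      ring
    rw [e1]
    exact Nat.add_le_add_left (Finset.sum_le_sum_of_subset (Finset.filter_subset _ _)) _
  have hnpos : ∀ χ, n χ ≠ 0 := by
    intro χ h
    have := isIrr_apply_one_ne_zero χ.2
    rw [hn, h] at this
    exact this (by norm_num)
  have hndvd : ∀ χ, n χ ∣ 7920 := fun χ => by rw [← hcard]; exact deg_dvd χ.2 (hn χ)
  have hn1 : ∀ χ, χ ≠ triv G → n χ ≠ 1 := by
    intro χ hχ h
    apply hχ
    have h1 := hn χ
    rw [h, Nat.cast_one] at h1
    exact Subtype.ext (eq_one_of_degree_one hnc χ.2 h1)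
  have hSnonneg : 0 ≤ ∑ χ ∈ T, r χ ^ 2 := Finset.sum_nonneg fun _ _ => sq_nonneg _
  have hA1 : A θ = 1 ∨ A θ = -1 := by
    have h1 : A θ ^ 2 ≤ 9 := by omega
    have h2 : A θ ≤ 3 := by nlinarith
    have h3 : -3 ≤ A θ := by nlinarith
    by_contra hcon
    have h4 : A θ = 3 ∨ A θ = -3 := by omega
    have h5 : ∑ χ ∈ T, r χ ^ 2 = 0 := by
      rcases h4 with h | h <;> rw [h] at q1 <;> omega
    have h6 : T = ∅ := by
      by_contra hne
      obtain ⟨j, hj⟩ := Finset.nonempty_iff_ne_empty.2 hne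
      have h7 := (Finset.sum_eq_zero_iff_of_nonneg (fun i _ => sq_nonneg (r i))).1 h5 j hj
      exact hr0 j hj (pow_eq_zero_iff two_ne_zero |>.1 h7)
    rw [h6, Finset.sum_empty] at q2
    have := hnpos θ
    rcases h4 with h | h <;> rw [h] at q2 <;> omega
  have hS4 : ∑ χ ∈ T, r χ ^ 2 = 4 := by
    rcases hA1 with h | h <;> rw [h] at q1 <;> omega
  rcases split_sum_sq T r hr0 hS4 with ⟨χ, hT, hrχ⟩ | ⟨hT4, hr1⟩
  · -- a single character of degree 2
    exfalso
    rw [hT, Finset.sum_singleton] at q2 q3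
    have hχT : χ ∈ T := by rw [hT]; exact Finset.mem_singleton_self χ
    have hm := hmod χ
    rw [hr χ hχT] at hm
    obtain ⟨h2, -, -⟩ := arith_single hrχ hA1 hm (hmod θ) (hndvd χ) (hndvd θ)
      (by linarith) (by omega)
    obtain ⟨u, hu⟩ := exists_prime_orderOf_dvd_card' (G := G) 2 (by rw [hcard]; norm_num)
    have hu1 : u ≠ 1 := by rintro rfl; simp at hu
    obtain ⟨m, w, e1, e2, e3, e4, e5⟩ := involution_values hnc (isIrr_isCharacter χ.2)
      (u := u) (by rw [← hu]; exact pow_orderOf_eq_one u)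
    have hm2 : m = 2 := by
      rw [hn, h2] at e1
      exact_mod_cast e1.symm
    subst hm2
    have hw : w = 2 ∨ w = -2 := by push_cast at e3 e4 e5; omega
    have h3' : (χ : G → ℂ) = 1 := by
      apply eq_one_of_norm_eq hnc χ.2 hu1 e1
      rw [e2]
      rcases hw with rfl | rfl <;> norm_num
    rw [hmemT] at hχT
    exact hχT.1.1 (Subtype.ext h3')
  · -- four characters
    have hdeg : ∀ χ ∈ T, (n χ = 10 ∧ r χ = -1) ∨ (n χ = 12 ∧ r χ = 1) ∨ (n χ = 45 ∧ r χ = 1) := by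
      intro χ hχ
      have hm := hmod χ
      rw [hr χ hχ] at hm
      refine arith_deg (hr1 χ hχ) hm (hndvd χ) ?_ (hn1 χ ((hmemT χ).1 hχ).1.1)
      have : n χ ^ 2 ≤ ∑ χ ∈ T, n χ ^ 2 :=
        Finset.single_le_sum (f := fun χ => n χ ^ 2) (fun _ _ => Nat.zero_le _) hχ
      omega
    let T10 := T.filter (fun χ => n χ = 10)
    let T12 := T.filter (fun χ => n χ = 12)
    let T45 := T.filter (fun χ => n χ = 45)
    have c1 : T10.card + T12.card + T45.card = 4 := by
      rw [← hT4, Finset.card_filter, Finset.card_filter, Finset.card_filter, Finset.card_eq_sum_ones,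
        ← Finset.sum_add_distrib, ← Finset.sum_add_distrib]
      refine Finset.sum_congr rfl fun χ hχ => ?_
      rcases hdeg χ hχ with h | h | h <;> simp [h.1]
    have c2 : ∑ χ ∈ T, r χ * n χ = -10 * (T10.card : ℤ) + 12 * T12.card + 45 * T45.card := by
      rw [Finset.card_filter, Finset.card_filter, Finset.card_filter]
      push_cast
      rw [Finset.mul_sum, Finset.mul_sum, Finset.mul_sum, ← Finset.sum_add_distrib,
        ← Finset.sum_add_distrib]
      refine Finset.sum_congr rfl fun χ hχ => ?_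
      rcases hdeg χ hχ with h | h | h <;> simp [h.1, h.2]
    have c3 : ∑ χ ∈ T, n χ ^ 2 = 100 * T10.card + 144 * T12.card + 2025 * T45.card := by
      rw [Finset.card_filter, Finset.card_filter, Finset.card_filter]
      rw [Finset.mul_sum, Finset.mul_sum, Finset.mul_sum, ← Finset.sum_add_distrib,
        ← Finset.sum_add_distrib]
      refine Finset.sum_congr rfl fun χ hχ => ?_
      rcases hdeg χ hχ with h | h | h <;> simp [h.1]
    obtain ⟨hAθ, hcase⟩ := arith_count (t := n θ) (a10 := T10.card) (a12 := T12.card)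
      (a45 := T45.card) hA1 (hmod θ) (hndvd θ) c1 (by rw [c2] at q2; linarith)
      (by rw [c3] at q3; omega)
    have hTu : ∀ χ, χ ∈ T ↔ χ ∈ T10 ∨ χ ∈ T12 ∨ χ ∈ T45 := by
      intro χ
      simp only [T10, T12, T45, Finset.mem_filter]
      constructor
      · intro h
        rcases hdeg χ h with h' | h' | h'
        · exact Or.inl ⟨h, h'.1⟩
        · exact Or.inr (Or.inl ⟨h, h'.1⟩)
        · exact Or.inr (Or.inr ⟨h, h'.1⟩)
      · rintro (h | h | h) <;> exact h.1
    have hT10 : ∀ χ ∈ T10, n χ = 10 ∧ A χ = -2 ∧ χ ≠ triv G ∧ χ ≠ θ ∧ χ ≠ bar θ := by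
      intro χ h
      obtain ⟨h1, h2⟩ := Finset.mem_filter.1 h
      refine ⟨h2, ?_, ((hmemT χ).1 h1).1⟩
      have h3 := hr χ h1
      rcases hdeg χ h1 with h' | h' | h' <;> omega
    have hT12 : ∀ χ ∈ T12, n χ = 12 ∧ A χ = 2 ∧ χ ≠ triv G ∧ χ ≠ θ ∧ χ ≠ bar θ := by
      intro χ h
      obtain ⟨h1, h2⟩ := Finset.mem_filter.1 h
      refine ⟨h2, ?_, ((hmemT χ).1 h1).1⟩
      have h3 := hr χ h1
      rcases hdeg χ h1 with h' | h' | h' <;> omega
    have hT45 : ∀ χ ∈ T45, n χ = 45 ∧ A χ = 2 ∧ χ ≠ triv G ∧ χ ≠ θ ∧ χ ≠ bar θ := by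
      intro χ h
      obtain ⟨h1, h2⟩ := Finset.mem_filter.1 h
      refine ⟨h2, ?_, ((hmemT χ).1 h1).1⟩
      have h3 := hr χ h1
      rcases hdeg χ h1 with h' | h' | h' <;> omega
    have hrest : ∀ χ, χ ∉ T → χ ≠ triv G → χ ≠ θ → χ ≠ bar θ →
        (χ : G → ℂ) x + conj ((χ : G → ℂ) x) = 0 ∧ ∃ k : ℕ, (χ : G → ℂ) 1 = 11 * k := by
      intro χ h1 h2 h3 h4
      have h5 : A χ = 0 := by
        by_contra h
        exact h1 ((hmemT χ).2 ⟨⟨h2, h3, h4⟩, h⟩)
      refine ⟨by rw [hAB, h5]; norm_num, ?_⟩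
      have h6 := hmod χ
      rw [h5] at h6
      refine ⟨n χ / 11, ?_⟩
      rw [hn]
      have h7 : n χ = 11 * (n χ / 11) := by omega
      exact_mod_cast h7
    rcases hcase with ⟨k10, k12, k45, kt⟩ | ⟨k10, k12, k45, kt⟩
    · obtain ⟨a, b, c, hab, hac, hbc, h10⟩ := Finset.card_eq_three.1 k10
      obtain ⟨d, h45⟩ := Finset.card_eq_one.1 k45
      have h12 := Finset.card_eq_zero.1 k12
      have ha := hT10 a (by rw [h10]; simp)
      have hb := hT10 b (by rw [h10]; simp)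
      have hc := hT10 c (by rw [h10]; simp)
      have hd := hT45 d (by rw [h45]; simp)
      have had : a ≠ d := fun h => by rw [h] at ha; omega
      have hbd : b ≠ d := fun h => by rw [h] at hb; omega
      have hcd : c ≠ d := fun h => by rw [h] at hc; omega
      refine ⟨_, Or.inl (isB0_mk a b c d θ (bar θ) 10 10 10 45 16 16 2 (-2) (-2) (-2) 2 (-1) (-1)
        ?_ ?_ ?_ ?_ ?_ ?_ ?_ (fun g => rfl) ?_ ?_ ?_ ?_ ?_ ?_ ?_ ?_)⟩
      · simp only [List.nodup_cons, List.mem_cons, List.not_mem_nil, or_false, not_or,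
          not_false_eq_true, List.nodup_nil, and_true]
        exact ⟨⟨ha.2.2.1.symm, hb.2.2.1.symm, hc.2.2.1.symm, hd.2.2.1.symm, hne2, hne3⟩,
          ⟨hab, hac, had, ha.2.2.2.1, ha.2.2.2.2⟩, ⟨hbc, hbd, hb.2.2.2.1, hb.2.2.2.2⟩,
          ⟨hcd, hc.2.2.2.1, hc.2.2.2.2⟩, ⟨hd.2.2.2.1, hd.2.2.2.2⟩, hne1.symm⟩
      · rw [hn, ha.1]
      · rw [hn, hb.1]
      · rw [hn, hc.1]
      · rw [hn, hd.1]
      · rw [hn, kt]
      · rw [hn, (hbar θ).2.2, kt]
      · rw [hAB, htriv.1]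
      · rw [hAB, ha.2.1]
      · rw [hAB, hb.2.1]
      · rw [hAB, hc.2.1]
      · rw [hAB, hd.2.1]
      · rw [hAB, hAθ]
      · rw [hAB, (hbar θ).1, hAθ]
      · intro χ hχ
        simp only [List.mem_cons, List.not_mem_nil, or_false, not_or] at hχ
        obtain ⟨g1, g2, g3, g4, g5, g6, g7⟩ := hχ
        refine hrest χ (fun h => ?_) g1 g6 g7
        rw [hTu, h10, h12, h45] at h
        simp only [Finset.mem_insert, Finset.mem_singleton, Finset.notMem_empty, false_or] at h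
        rcases h with (h | h | h) | h
        · exact g2 h
        · exact g3 h
        · exact g4 h
        · exact g5 h
    · obtain ⟨a, b, hab, h12⟩ := Finset.card_eq_two.1 k12
      obtain ⟨c, d, hcd, h10⟩ := Finset.card_eq_two.1 k10
      have h45 := Finset.card_eq_zero.1 k45
      have ha := hT12 a (by rw [h12]; simp)
      have hb := hT12 b (by rw [h12]; simp)
      have hc := hT10 c (by rw [h10]; simp)
      have hd := hT10 d (by rw [h10]; simp)
      have hac : a ≠ c := fun h => by rw [h] at ha; omega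
      have had : a ≠ d := fun h => by rw [h] at ha; omega
      have hbc : b ≠ c := fun h => by rw [h] at hb; omega
      have hbd : b ≠ d := fun h => by rw [h] at hb; omega
      refine ⟨_, Or.inr (isB0_mk a b c d θ (bar θ) 12 12 10 10 5 5 2 2 2 (-2) (-2) (-1) (-1)
        ?_ ?_ ?_ ?_ ?_ ?_ ?_ (fun g => rfl) ?_ ?_ ?_ ?_ ?_ ?_ ?_ ?_)⟩
      · simp only [List.nodup_cons, List.mem_cons, List.not_mem_nil, or_false, not_or,
          not_false_eq_true, List.nodup_nil, and_true]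
        exact ⟨⟨ha.2.2.1.symm, hb.2.2.1.symm, hc.2.2.1.symm, hd.2.2.1.symm, hne2, hne3⟩,
          ⟨hab, hac, had, ha.2.2.2.1, ha.2.2.2.2⟩, ⟨hbc, hbd, hb.2.2.2.1, hb.2.2.2.2⟩,
          ⟨hcd, hc.2.2.2.1, hc.2.2.2.2⟩, ⟨hd.2.2.2.1, hd.2.2.2.2⟩, hne1.symm⟩
      · rw [hn, ha.1]
      · rw [hn, hb.1]
      · rw [hn, hc.1]
      · rw [hn, hd.1]
      · rw [hn, kt]
      · rw [hn, (hbar θ).2.2, kt]
      · rw [hAB, htriv.1]
      · rw [hAB, ha.2.1]
      · rw [hAB, hb.2.1]
      · rw [hAB, hc.2.1]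
      · rw [hAB, hd.2.1]
      · rw [hAB, hAθ]
      · rw [hAB, (hbar θ).1, hAθ]
      · intro χ hχ
        simp only [List.mem_cons, List.not_mem_nil, or_false, not_or] at hχ
        obtain ⟨g1, g2, g3, g4, g5, g6, g7⟩ := hχ
        refine hrest χ (fun h => ?_) g1 g6 g7
        rw [hTu, h10, h12, h45] at h
        simp only [Finset.mem_insert, Finset.mem_singleton, Finset.notMem_empty, or_false] at h
        rcases h with (h | h) | (h | h)
        · exact g4 h
        · exact g5 h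
        · exact g2 h
        · exact g3 h

end Cfsg.Agent.SporadicA.M11Block
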