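import Mathlib
import Cfsg.Agent.SporadicA.M11Block
import Cfsg.Agent.S0141

/-!
# Relations between the values of the seven characters
-/

set_option autoImplicit false

namespace Cfsg.Agent.SporadicA.M11Rel

open Cfsg Cfsg.Agent.Characters.Core Cfsg.Agent.SporadicA.M11CharBasic
  Cfsg.Agent.SporadicA.M11CharSimple Cfsg.Agent.SporadicA.M11Block
open scoped ComplexConjugate

universe u
variable {G : Type u} [Group G]

section sums

variable {x : G} {v : Fin 7 → IrrCharacter G} {deg : Fin 7 → ℕ} {wt : Fin 7 → ℤ}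

open scoped Classical in
/-- The irreducible characters different from the seven. -/
noncomputable def others [Fintype (IrrCharacter G)] (v : Fin 7 → IrrCharacter G) :
    Finset (IrrCharacter G) :=
  Finset.univ \ Finset.univ.image v

theorem mem_others [Fintype (IrrCharacter G)] {v : Fin 7 → IrrCharacter G} {χ : IrrCharacter G} :
    χ ∈ others v ↔ ∀ i, v i ≠ χ := by
  classical
  simp [others]

theorem sum_split [Fintype (IrrCharacter G)] {M : Type*} [AddCommMonoid M]
    (hv : Function.Injective v) (F : IrrCharacter G → M) :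
    ∑ χ, F χ = ∑ i, F (v i) + ∑ χ ∈ others v, F χ := by
  classical
  rw [others, ← Finset.sum_sdiff (Finset.subset_univ (Finset.univ.image v)), add_comm,
    Finset.sum_image (fun a _ b _ h => hv h)]

theorem sum_wt [Fintype (IrrCharacter G)] (hB : IsB0 x v deg wt) (F : IrrCharacter G → ℂ) :
    ∑ χ : IrrCharacter G, F χ * ((χ : G → ℂ) x + conj ((χ : G → ℂ) x)) =
      ∑ i, F (v i) * wt i := by
  rw [sum_split hB.inj]
  have h1 : ∑ χ ∈ others v, F χ * ((χ : G → ℂ) x + conj ((χ : G → ℂ) x)) = 0 := by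
    apply Finset.sum_eq_zero
    intro χ hχ
    rw [(hB.rest χ (mem_others.1 hχ)).1, mul_zero]
  rw [h1, add_zero]
  exact Finset.sum_congr rfl fun i _ => by rw [hB.wts i]

/-- The linear relation. -/
theorem rel_linear [Finite G] (hB : IsB0 x v deg wt) {g : G}
    (h : ¬ IsConj g x) (h' : ¬ IsConj g x⁻¹) : ∑ i, (v i : G → ℂ) g * wt i = 0 := by
  have := finite_irr (G := G)
  have := Fintype.ofFinite (IrrCharacter G)
  rw [← sum_wt hB (fun χ => (χ : G → ℂ) g)]
  exact sum_mul_re h h'

/-- The class-algebra relation for two real elements. -/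
theorem rel_quad [Finite G] (hB : IsB0 x v deg wt) {g h : G}
    (hg : ∀ χ : IrrCharacter G, conj ((χ : G → ℂ) g) = (χ : G → ℂ) g)
    (hh : ∀ χ : IrrCharacter G, conj ((χ : G → ℂ) h) = (χ : G → ℂ) h) :
    2 * (Nat.card {p : G × G // IsConj g p.1 ∧ IsConj h p.2 ∧ p.1 * p.2 = x} : ℂ) =
      ((Subgroup.centralizer ({g} : Set G)).index : ℂ) *
      ((Subgroup.centralizer ({h} : Set G)).index : ℂ) / (Nat.card G : ℂ) *
      ∑ i, (v i : G → ℂ) g * (v i : G → ℂ) h * wt i / deg i := by
  have := finite_irr (G := G)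
  have := Fintype.ofFinite (IrrCharacter G)
  have e := Characters.ClassMul.card_class_mul g h x
  have e' := congrArg conj e
  rw [Complex.conj_natCast] at e'
  have e2 : conj (((Subgroup.centralizer ({g} : Set G)).index : ℂ) *
      ((Subgroup.centralizer ({h} : Set G)).index : ℂ) / (Nat.card G : ℂ) *
      ∑ χ : IrrCharacter G,
        (χ : G → ℂ) g * (χ : G → ℂ) h * conj ((χ : G → ℂ) x) / (χ : G → ℂ) 1) =
      ((Subgroup.centralizer ({g} : Set G)).index : ℂ) *
      ((Subgroup.centralizer ({h} : Set G)).index : ℂ) / (Nat.card G : ℂ) *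
      ∑ χ : IrrCharacter G,
        (χ : G → ℂ) g * (χ : G → ℂ) h * ((χ : G → ℂ) x) / (χ : G → ℂ) 1 := by
    rw [map_mul, map_div₀, map_mul, map_sum, Complex.conj_natCast, Complex.conj_natCast,
      Complex.conj_natCast]
    congr 1
    refine Finset.sum_congr rfl fun χ _ => ?_
    obtain ⟨n, -, hn⟩ := isIrr_apply_one χ.2
    rw [map_div₀, map_mul, map_mul, hg, hh, Complex.conj_conj, hn, Complex.conj_natCast]
  rw [e2] at e'
  have e3 : ∑ i, (v i : G → ℂ) g * (v i : G → ℂ) h * wt i / deg i =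
      ∑ χ : IrrCharacter G,
        (χ : G → ℂ) g * (χ : G → ℂ) h * conj ((χ : G → ℂ) x) / (χ : G → ℂ) 1 +
      ∑ χ : IrrCharacter G,
        (χ : G → ℂ) g * (χ : G → ℂ) h * ((χ : G → ℂ) x) / (χ : G → ℂ) 1 := by
    have e4 := sum_wt hB (fun χ => (χ : G → ℂ) g * (χ : G → ℂ) h / (χ : G → ℂ) 1)
    rw [← Finset.sum_add_distrib]
    refine Eq.trans ?_ (e4.symm.trans ?_)
    · refine Finset.sum_congr rfl fun i _ => ?_
      rw [hB.degs i]; ring
    · exact Finset.sum_congr rfl fun χ _ => by ring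
  rw [e3, mul_add, ← e, ← e']
  ring

end sums

/-- Integrality of central characters: for an integral value `w` of an irreducible character of
degree `d` at `g`, `d` divides `|G : C(g)| w`. -/
theorem dvd_index_mul [Finite G] {χ : G → ℂ} (hχ : IsIrrCharacter G χ) {g : G} {d : ℕ} {w : ℤ}
    (h1 : χ 1 = d) (hg : χ g = w) :
    (d : ℤ) ∣ (Subgroup.centralizer ({g} : Set G)).index * w := by
  have hd0 : (d : ℂ) ≠ 0 := by
    rw [← h1]
    exact isIrr_apply_one_ne_zero hχ
  obtain ⟨m, ρ, hirr, rfl⟩ := hχ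
  rw [Representation.char_one] at h1
  have hd : Module.finrank ℂ (Fin m → ℂ) = d := by exact_mod_cast h1
  have h2 := S0141.result ρ g
  rw [hg, hd] at h2
  obtain ⟨k, hk⟩ := Characters.GaloisBasic.exists_int_of_isIntegral h2
    ⟨(Subgroup.centralizer ({g} : Set G)).index * w / d, by push_cast; ring⟩
  refine ⟨k, ?_⟩
  rw [div_eq_iff hd0] at hk
  have : (((Subgroup.centralizer ({g} : Set G)).index * w : ℤ) : ℂ) = ((d * k : ℤ) : ℂ) := by
    push_cast
    rw [hk]; ring
  exact_mod_cast this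

end Cfsg.Agent.SporadicA.M11Rel
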