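import Mathlib
import Cfsg.Agent.SporadicA.M11Rel
import Cfsg.Agent.SporadicA.M11Arith

/-!
# Values of the seven characters at involutions; centralizers of involutions
-/

set_option autoImplicit false

namespace Cfsg.Agent.SporadicA.M11Inv

open Cfsg Cfsg.Agent.Characters.Core Cfsg.Agent.SporadicA.M11CharBasic
  Cfsg.Agent.SporadicA.M11CharSimple Cfsg.Agent.SporadicA.M11Block
  Cfsg.Agent.SporadicA.M11Rel Cfsg.Agent.SporadicA.M11Arith
open scoped ComplexConjugate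

universe u
variable {G : Type u} [Group G]

/-- Integer values at an involution. -/
theorem exists_inv_values [Finite G] [IsSimpleGroup G] (hcard : Nat.card G = 7920) {u : G}
    (hu : orderOf u = 2) :
    ∃ w : IrrCharacter G → ℤ, (∀ χ : IrrCharacter G, (χ : G → ℂ) u = w χ) ∧
      (∀ (χ : IrrCharacter G) (n : ℕ), (χ : G → ℂ) 1 = n →
        (4 : ℤ) ∣ n - w χ ∧ -(n : ℤ) ≤ w χ ∧ (χ ≠ triv G → w χ < n)) ∧ w (triv G) = 1 := by
  have hnc := not_comm (G := G) hcard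
  have hu2 : u ^ 2 = 1 := by rw [← hu]; exact pow_orderOf_eq_one u
  have hu1 : u ≠ 1 := by rintro rfl; simp at hu
  have h := fun χ : IrrCharacter G => involution_values hnc (isIrr_isCharacter χ.2) hu2
  choose n w h1 h2 h3 h4 h5 using h
  refine ⟨w, h2, ?_, ?_⟩
  · intro χ m hm
    have hmn : m = n χ := by
      rw [h1] at hm
      exact_mod_cast hm.symm
    subst hmn
    refine ⟨h3 χ, h5 χ, fun hχ => ?_⟩
    refine lt_of_le_of_ne (h4 χ) fun heq => hχ ?_
    apply Subtype.ext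
    apply eq_one_of_apply_eq χ.2 hu1
    rw [h1, h2, heq]
    simp
  · have := h2 (triv G)
    change (1 : ℂ) = _ at this
    exact_mod_cast this.symm

/-- An involution is not conjugate to an element of odd order `11`. -/
theorem not_isConj_of_orderOf {g x : G} (h : orderOf g ≠ orderOf x) : ¬ IsConj g x := by
  intro hc
  apply h
  obtain ⟨c, rfl⟩ := isConj_iff.1 hc
  exact (MulEquiv.orderOf_eq (MulAut.conj c) g).symm

/-- No product of two involutions is an element not conjugate to its inverse. -/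
theorem card_pairs_eq_zero {x u u' : G} (hinv : ¬ IsConj x x⁻¹) (hu : u ^ 2 = 1)
    (hu' : u' ^ 2 = 1) :
    Nat.card {p : G × G // IsConj u p.1 ∧ IsConj u' p.2 ∧ p.1 * p.2 = x} = 0 := by
  rw [Nat.card_eq_zero]
  left
  refine ⟨fun ⟨⟨a, b⟩, h1, h2, h3⟩ => hinv ?_⟩
  have ha : a * a = 1 := by
    obtain ⟨c, rfl⟩ := isConj_iff.1 h1
    rw [← pow_two, conj_pow, hu]; group
  have hb : b * b = 1 := by
    obtain ⟨c, rfl⟩ := isConj_iff.1 h2
    rw [← pow_two, conj_pow, hu']; group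
  simp only at h3
  refine isConj_iff.2 ⟨a, ?_⟩
  have ha' : a⁻¹ = a := inv_eq_of_mul_eq_one_left ha
  have hb' : b⁻¹ = b := inv_eq_of_mul_eq_one_left hb
  rw [← h3, mul_inv_rev, ha', hb', ← mul_assoc a a b, ha, one_mul]

/-- Values in case C. -/
theorem values_C [Finite G] [IsSimpleGroup G] (hcard : Nat.card G = 7920) {x u : G}
    (hx : orderOf x = 11) (hinv : ¬ IsConj x x⁻¹) {v : Fin 7 → IrrCharacter G}
    (hB : IsB0 x v ![1, 10, 10, 10, 45, 16, 16] ![2, -2, -2, -2, 2, -1, -1])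
    (hu : orderOf u = 2) {w : IrrCharacter G → ℤ}
    (hw : ∀ χ : IrrCharacter G, (χ : G → ℂ) u = w χ)
    (hw' : ∀ (χ : IrrCharacter G) (n : ℕ), (χ : G → ℂ) 1 = n →
        (4 : ℤ) ∣ n - w χ ∧ -(n : ℤ) ≤ w χ ∧ (χ ≠ triv G → w χ < n)) (hw1 : w (triv G) = 1) :
    w (v 0) = 1 ∧ w (v 4) = -3 ∧ w (v 5) = 0 ∧ w (v 6) = 0 ∧
      ((w (v 1) = 2 ∧ w (v 2) = -2 ∧ w (v 3) = -2) ∨
       (w (v 1) = -2 ∧ w (v 2) = 2 ∧ w (v 3) = -2) ∨
       (w (v 1) = -2 ∧ w (v 2) = -2 ∧ w (v 3) = 2)) := by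
  have hu2 : u ^ 2 = 1 := by rw [← hu]; exact pow_orderOf_eq_one u
  have hv0 : v 0 = triv G := Subtype.ext hB.one
  have hw0 : w (v 0) = 1 := by rw [hv0, hw1]
  have hne : ∀ i, i ≠ 0 → v i ≠ triv G := fun i hi h => hi (hB.inj (h.trans hv0.symm))
  have hw65 : w (v 6) = w (v 5) := by
    have h1 := hB.conj65 u
    rw [hw, hw] at h1
    have : ((w (v 6) : ℤ) : ℂ) = (w (v 5) : ℤ) := by simpa using h1
    exact_mod_cast this
  have hreal : ∀ χ : IrrCharacter G, conj ((χ : G → ℂ) u) = (χ : G → ℂ) u := by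
    intro χ; rw [hw]; simp
  have hlin := rel_linear hB (g := u) (not_isConj_of_orderOf (by rw [hu, hx]; norm_num))
    (not_isConj_of_orderOf (by rw [orderOf_inv, hu, hx]; norm_num))
  have hquad := rel_quad hB hreal hreal
  rw [card_pairs_eq_zero hinv hu2 hu2] at hquad
  have hidx : ((Subgroup.centralizer ({u} : Set G)).index : ℂ) ≠ 0 := by
    exact_mod_cast Subgroup.index_ne_zero_of_finite
  have hG0 : (Nat.card G : ℂ) ≠ 0 := by rw [hcard]; norm_num
  have hquad' : ∑ i, (v i : G → ℂ) u * (v i : G → ℂ) u *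
      ((![2, -2, -2, -2, 2, -1, -1] : Fin 7 → ℤ) i : ℂ) /
      ((![1, 10, 10, 10, 45, 16, 16] : Fin 7 → ℕ) i : ℂ) = 0 := by
    have h1 := hquad.symm
    rw [Nat.cast_zero, mul_zero] at h1
    rcases mul_eq_zero.1 h1 with h2 | h2
    · rw [div_eq_zero_iff, mul_eq_zero] at h2
      tauto
    · exact h2
  simp only [hw] at hlin hquad'
  rw [Fin.sum_univ_seven] at hlin hquad'
  simp only [Matrix.cons_val_zero, Matrix.cons_val_one, Matrix.cons_val] at hlin hquad'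
  rw [hw0, hw65] at hlin hquad'
  have hlin' : 1 - w (v 1) - w (v 2) - w (v 3) + w (v 4) - w (v 5) = 0 := by
    have : ((1 - w (v 1) - w (v 2) - w (v 3) + w (v 4) - w (v 5) : ℤ) : ℂ) = (0 : ℤ) := by
      push_cast at hlin ⊢
      linear_combination (1 / 2) * hlin
    exact_mod_cast this
  have hq : 720 - 72 * (w (v 1) * w (v 1) + w (v 2) * w (v 2) + w (v 3) * w (v 3)) +
      16 * (w (v 4) * w (v 4)) - 45 * (w (v 5) * w (v 5)) = 0 := by
    have : ((720 - 72 * (w (v 1) * w (v 1) + w (v 2) * w (v 2) + w (v 3) * w (v 3)) +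
      16 * (w (v 4) * w (v 4)) - 45 * (w (v 5) * w (v 5)) : ℤ) : ℂ) = (0 : ℤ) := by
      push_cast at hquad' ⊢
      linear_combination 360 * hquad'
    exact_mod_cast this
  have d1 := hw' (v 1) 10 (hB.degs 1)
  have d2 := hw' (v 2) 10 (hB.degs 2)
  have d3 := hw' (v 3) 10 (hB.degs 3)
  have d5 := hw' (v 5) 16 (hB.degs 5)
  have r := invC (a := w (v 1)) (b := w (v 2)) (c := w (v 3)) (d := w (v 4)) (e := w (v 5))
    d1.1 d2.1 d3.1 d5.1 d1.2.1 (d1.2.2 (hne 1 (by decide))) d2.2.1 (d2.2.2 (hne 2 (by decide)))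
    d3.2.1 (d3.2.2 (hne 3 (by decide))) d5.2.1 (d5.2.2 (hne 5 (by decide))).le hlin' hq
  exact ⟨hw0, r.1.1, r.1.2, hw65.trans r.1.2, r.2⟩

/-- Values in case B. -/
theorem values_B [Finite G] [IsSimpleGroup G] (hcard : Nat.card G = 7920) {x u : G}
    (hx : orderOf x = 11) (hinv : ¬ IsConj x x⁻¹) {v : Fin 7 → IrrCharacter G}
    (hB : IsB0 x v ![1, 12, 12, 10, 10, 5, 5] ![2, 2, 2, -2, -2, -1, -1])
    (hu : orderOf u = 2) {w : IrrCharacter G → ℤ}
    (hw : ∀ χ : IrrCharacter G, (χ : G → ℂ) u = w χ)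
    (hw' : ∀ (χ : IrrCharacter G) (n : ℕ), (χ : G → ℂ) 1 = n →
        (4 : ℤ) ∣ n - w χ ∧ -(n : ℤ) ≤ w χ ∧ (χ ≠ triv G → w χ < n)) (hw1 : w (triv G) = 1) :
    w (v 3) = 2 ∨ w (v 3) = -2 := by
  have hu2 : u ^ 2 = 1 := by rw [← hu]; exact pow_orderOf_eq_one u
  have hv0 : v 0 = triv G := Subtype.ext hB.one
  have hw0 : w (v 0) = 1 := by rw [hv0, hw1]
  have hne : ∀ i, i ≠ 0 → v i ≠ triv G := fun i hi h => hi (hB.inj (h.trans hv0.symm))
  have hw65 : w (v 6) = w (v 5) := by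
    have h1 := hB.conj65 u
    rw [hw, hw] at h1
    have : ((w (v 6) : ℤ) : ℂ) = (w (v 5) : ℤ) := by simpa using h1
    exact_mod_cast this
  have hreal : ∀ χ : IrrCharacter G, conj ((χ : G → ℂ) u) = (χ : G → ℂ) u := by
    intro χ; rw [hw]; simp
  have hlin := rel_linear hB (g := u) (not_isConj_of_orderOf (by rw [hu, hx]; norm_num))
    (not_isConj_of_orderOf (by rw [orderOf_inv, hu, hx]; norm_num))
  have hquad := rel_quad hB hreal hreal
  rw [card_pairs_eq_zero hinv hu2 hu2] at hquad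
  have hidx : ((Subgroup.centralizer ({u} : Set G)).index : ℂ) ≠ 0 := by
    exact_mod_cast Subgroup.index_ne_zero_of_finite
  have hG0 : (Nat.card G : ℂ) ≠ 0 := by rw [hcard]; norm_num
  have hquad' : ∑ i, (v i : G → ℂ) u * (v i : G → ℂ) u *
      ((![2, 2, 2, -2, -2, -1, -1] : Fin 7 → ℤ) i : ℂ) /
      ((![1, 12, 12, 10, 10, 5, 5] : Fin 7 → ℕ) i : ℂ) = 0 := by
    have h1 := hquad.symm
    rw [Nat.cast_zero, mul_zero] at h1
    rcases mul_eq_zero.1 h1 with h2 | h2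
    · rw [div_eq_zero_iff, mul_eq_zero] at h2
      tauto
    · exact h2
  simp only [hw] at hlin hquad'
  rw [Fin.sum_univ_seven] at hlin hquad'
  simp only [Matrix.cons_val_zero, Matrix.cons_val_one, Matrix.cons_val] at hlin hquad'
  rw [hw0, hw65] at hlin hquad'
  have hlin' : 1 + w (v 1) + w (v 2) - w (v 3) - w (v 4) - w (v 5) = 0 := by
    have : ((1 + w (v 1) + w (v 2) - w (v 3) - w (v 4) - w (v 5) : ℤ) : ℂ) = (0 : ℤ) := by
      push_cast at hlin ⊢
      linear_combination (1 / 2) * hlin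
    exact_mod_cast this
  have hq : 60 + 5 * (w (v 1) * w (v 1) + w (v 2) * w (v 2)) - 6 * (w (v 3) * w (v 3) +
      w (v 4) * w (v 4)) - 12 * (w (v 5) * w (v 5)) = 0 := by
    have : ((60 + 5 * (w (v 1) * w (v 1) + w (v 2) * w (v 2)) - 6 * (w (v 3) * w (v 3) +
      w (v 4) * w (v 4)) - 12 * (w (v 5) * w (v 5)) : ℤ) : ℂ) = (0 : ℤ) := by
      push_cast at hquad' ⊢
      linear_combination 30 * hquad'
    exact_mod_cast this
  have d1 := hw' (v 1) 12 (hB.degs 1)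
  have d2 := hw' (v 2) 12 (hB.degs 2)
  have d3 := hw' (v 3) 10 (hB.degs 3)
  have d4 := hw' (v 4) 10 (hB.degs 4)
  have d5 := hw' (v 5) 5 (hB.degs 5)
  exact invB (a := w (v 1)) (b := w (v 2)) (c := w (v 3)) (d := w (v 4)) (e := w (v 5))
    d1.1 d2.1 d3.1 d4.1 d5.1 d1.2.1 (d1.2.2 (hne 1 (by decide))) d2.2.1
    (d2.2.2 (hne 2 (by decide))) d3.2.1 (d3.2.2 (hne 3 (by decide))) d4.2.1
    (d4.2.2 (hne 4 (by decide))) d5.2.1 (d5.2.2 (hne 5 (by decide))) hlin' hq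

end Cfsg.Agent.SporadicA.M11Inv
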