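import Mathlib
import Cfsg.Agent.SporadicA.M11Inv

/-!
# Centralizers of involutions in simple groups of order 7920
-/

set_option autoImplicit false

namespace Cfsg.Agent.SporadicA.M11Cent

open Cfsg Cfsg.Agent.Characters.Core Cfsg.Agent.SporadicA.M11CharBasic
  Cfsg.Agent.SporadicA.M11CharSimple Cfsg.Agent.SporadicA.M11Block
  Cfsg.Agent.SporadicA.M11Rel Cfsg.Agent.SporadicA.M11Arith Cfsg.Agent.SporadicA.M11Inv
open scoped ComplexConjugate

universe u
variable {G : Type u} [Group G]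

theorem card_mul_index' [Finite G] (hcard : Nat.card G = 7920) (g : G) :
    Nat.card (Subgroup.centralizer ({g} : Set G)) *
      (Subgroup.centralizer ({g} : Set G)).index = 7920 := by
  rw [Subgroup.card_mul_index, hcard]

/-- Column orthogonality for integer-valued columns. -/
theorem col_conj [Finite G] [Fintype (IrrCharacter G)] {g h : G} {w w' : IrrCharacter G → ℤ}
    (hw : ∀ χ : IrrCharacter G, (χ : G → ℂ) g = w χ)
    (hw' : ∀ χ : IrrCharacter G, (χ : G → ℂ) h = w' χ) (hc : IsConj g h) :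
    ∑ χ : IrrCharacter G, w χ * w' χ = Nat.card (Subgroup.centralizer ({h} : Set G)) := by
  classical
  have := Fintype.ofFinite G
  have e := S0145.sum_irr_mul_conj g h
  rw [if_pos hc] at e
  have e2 : ((∑ χ : IrrCharacter G, w χ * w' χ : ℤ) : ℂ) =
      ((Nat.card (Subgroup.centralizer ({h} : Set G)) : ℤ) : ℂ) := by
    push_cast
    rw [← e]
    refine Finset.sum_congr rfl fun χ _ => ?_
    rw [hw, hw']; simp
  exact_mod_cast e2

theorem col_not_conj [Finite G] [Fintype (IrrCharacter G)] {g h : G} {w w' : IrrCharacter G → ℤ}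
    (hw : ∀ χ : IrrCharacter G, (χ : G → ℂ) g = w χ)
    (hw' : ∀ χ : IrrCharacter G, (χ : G → ℂ) h = w' χ) (hc : ¬ IsConj g h) :
    ∑ χ : IrrCharacter G, w χ * w' χ = 0 := by
  classical
  have := Fintype.ofFinite G
  have e := S0145.sum_irr_mul_conj g h
  rw [if_neg hc] at e
  have e2 : ((∑ χ : IrrCharacter G, w χ * w' χ : ℤ) : ℂ) = (0 : ℤ) := by
    push_cast
    rw [← e]
    refine Finset.sum_congr rfl fun χ _ => ?_
    rw [hw, hw']; simp
  exact_mod_cast e2

/-- Centralizers of involutions have order prime to 5. -/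
theorem not_five_dvd [Finite G] [IsSimpleGroup G] (hcard : Nat.card G = 7920) {x : G}
    (hx : orderOf x = 11) (hC : Nat.card (Subgroup.centralizer ({x} : Set G)) = 11)
    (h3 : IsConj x (x ^ 3)) (hinv : ¬ IsConj x x⁻¹) {u : G} (hu : orderOf u = 2) :
    ¬ 5 ∣ Nat.card (Subgroup.centralizer ({u} : Set G)) := by
  obtain ⟨w, hw, hw', hw1⟩ := exists_inv_values hcard hu
  have hci := card_mul_index' hcard u
  obtain ⟨v, hB | hB⟩ := exists_B0 hcard (by rw [← hx]; exact pow_orderOf_eq_one x) hC h3 hinv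
  · have h1 := (values_C hcard hx hinv hB hu hw hw' hw1).2.1
    have h2 := dvd_index_mul (v 4).2 (g := u) (d := 45) (w := w (v 4)) (hB.degs 4) (hw (v 4))
    rw [h1] at h2
    rintro ⟨k, hk⟩
    obtain ⟨m, hm⟩ := h2
    have h4 : 5 ∣ (Subgroup.centralizer ({u} : Set G)).index := by omega
    obtain ⟨l, hl⟩ := h4
    rw [hk, hl] at hci
    have : 25 * (k * l) = 7920 := by rw [← hci]; ring
    omega
  · have h1 := values_B hcard hx hinv hB hu hw hw' hw1
    have h2 := dvd_index_mul (v 3).2 (g := u) (d := 10) (w := w (v 3)) (hB.degs 3) (hw (v 3))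
    rintro ⟨k, hk⟩
    obtain ⟨m, hm⟩ := h2
    have h4 : 5 ∣ (Subgroup.centralizer ({u} : Set G)).index := by
      rcases h1 with h1 | h1 <;> rw [h1] at hm <;> omega
    obtain ⟨l, hl⟩ := h4
    rw [hk, hl] at hci
    have : 25 * (k * l) = 7920 := by rw [← hci]; ring
    omega

/-- Values at an element of order 5 conjugate to its square. -/
theorem exists_five_values [Finite G] {y : G} (hy : orderOf y = 5) (hy2 : IsConj y (y ^ 2)) :
    ∃ w : IrrCharacter G → ℤ, (∀ χ : IrrCharacter G, (χ : G → ℂ) y = w χ) ∧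
      (∀ (χ : IrrCharacter G) (n : ℕ), (χ : G → ℂ) 1 = n → (5 : ℤ) ∣ n - w χ) ∧
      w (triv G) = 1 := by
  have hy5 : y ^ 5 = 1 := by rw [← hy]; exact pow_orderOf_eq_one y
  have c2 : IsConj y (y ^ 4) := by
    have := isConj_pow_pow hy2 2
    rw [← pow_mul] at this
    exact hy2.trans this
  have c3 : IsConj y (y ^ 3) := by
    have := isConj_pow_pow hy2 4
    rw [← pow_mul, show 2 * 4 = 5 + 3 by norm_num, pow_add, hy5, one_mul] at this
    exact c2.trans this
  have hall : ∀ k : ℕ, 0 < k → k < 5 → IsConj y (y ^ k) := by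
    intro k h0 h5
    interval_cases k
    · rw [pow_one]
    · exact hy2
    · exact c3
    · exact c2
  have h := fun χ : IrrCharacter G => rational_values (isIrr_isCharacter χ.2)
    (p := 5) (by norm_num) hy5 hall
  choose n w h1 h2 h3 using h
  refine ⟨w, h2, ?_, ?_⟩
  · intro χ m hm
    have hmn : m = n χ := by
      rw [h1] at hm
      exact_mod_cast hm.symm
    subst hmn
    exact_mod_cast h3 χ
  · have := h2 (triv G)
    change (1 : ℂ) = _ at this
    exact_mod_cast this.symm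

/-- Case B is impossible. -/
theorem not_caseB [Finite G] {x y : G} (hy : orderOf y = 5) (hy2 : IsConj y (y ^ 2))
    (hyC : Nat.card (Subgroup.centralizer ({y} : Set G)) = 5) {v : Fin 7 → IrrCharacter G}
    (hB : IsB0 x v ![1, 12, 12, 10, 10, 5, 5] ![2, 2, 2, -2, -2, -1, -1]) : False := by
  classical
  have := finite_irr (G := G)
  have := Fintype.ofFinite (IrrCharacter G)
  obtain ⟨w, hw, hw', hw1⟩ := exists_five_values hy hy2
  have e := col_conj hw hw (IsConj.refl y)
  rw [hyC, sum_split hB.inj, Fin.sum_univ_seven] at e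
  have hv0 : v 0 = triv G := Subtype.ext hB.one
  rw [hv0, hw1] at e
  have hR : 0 ≤ ∑ χ ∈ others v, w χ * w χ := Finset.sum_nonneg fun _ _ => mul_self_nonneg _
  have d1 := hw' (v 1) 12 (hB.degs 1)
  have d2 := hw' (v 2) 12 (hB.degs 2)
  have k1 : 4 ≤ w (v 1) * w (v 1) := by
    have : w (v 1) ≤ -3 ∨ 2 ≤ w (v 1) := by omega
    rcases this with h | h <;> nlinarith
  have k2 : 4 ≤ w (v 2) * w (v 2) := by
    have : w (v 2) ≤ -3 ∨ 2 ≤ w (v 2) := by omega
    rcases this with h | h <;> nlinarith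
  have k3 := mul_self_nonneg (w (v 3))
  have k4 := mul_self_nonneg (w (v 4))
  have k5 := mul_self_nonneg (w (v 5))
  have k6 := mul_self_nonneg (w (v 6))
  push_cast at e
  linarith

/-- The order of a centralizer of an involution divides 48. -/
theorem card_dvd_48 [Finite G] [IsSimpleGroup G] (hcard : Nat.card G = 7920) {x u : G}
    (hx : orderOf x = 11) (hinv : ¬ IsConj x x⁻¹)
    (hC : ∀ z : G, orderOf z = 11 → Nat.card (Subgroup.centralizer ({z} : Set G)) = 11)
    {v : Fin 7 → IrrCharacter G}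
    (hB : IsB0 x v ![1, 10, 10, 10, 45, 16, 16] ![2, -2, -2, -2, 2, -1, -1])
    (hu : orderOf u = 2) : Nat.card (Subgroup.centralizer ({u} : Set G)) ∣ 48 := by
  obtain ⟨w, hw, hw', hw1⟩ := exists_inv_values hcard hu
  have hci := card_mul_index' hcard u
  have h1 := (values_C hcard hx hinv hB hu hw hw' hw1).2.1
  have h2 := dvd_index_mul (v 4).2 (g := u) (d := 45) (w := w (v 4)) (hB.degs 4) (hw (v 4))
  rw [h1] at h2
  have h3 : 15 ∣ (Subgroup.centralizer ({u} : Set G)).index := by omega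
  have h11 : ¬ 11 ∣ Nat.card (Subgroup.centralizer ({u} : Set G)) := by
    intro h
    have : Fact (Nat.Prime 11) := ⟨by norm_num⟩
    obtain ⟨⟨z, hz⟩, hz2⟩ := exists_prime_orderOf_dvd_card' (G := Subgroup.centralizer ({u} : Set G))
      11 h
    have hz3 : orderOf z = 11 := by rw [← hz2, ← Subgroup.orderOf_coe]
    have hu' : u ∈ Subgroup.centralizer ({z} : Set G) := by
      rw [Subgroup.mem_centralizer_singleton_iff] at hz ⊢
      exact hz.symm
    have h5 : orderOf (⟨u, hu'⟩ : Subgroup.centralizer ({z} : Set G)) = 2 := by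
      rw [← hu, ← Subgroup.orderOf_coe]
    have h6 := orderOf_dvd_natCard (⟨u, hu'⟩ : Subgroup.centralizer ({z} : Set G))
    rw [h5, hC z hz3] at h6
    omega
  obtain ⟨k, hk⟩ := h3
  rw [hk] at hci
  have h7 : Nat.card (Subgroup.centralizer ({u} : Set G)) * k = 48 * 11 := by
    have : 15 * (Nat.card (Subgroup.centralizer ({u} : Set G)) * k) = 15 * (48 * 11) := by
      rw [← mul_assoc, mul_comm 15, mul_assoc, hci]
    exact Nat.eq_of_mul_eq_mul_left (by norm_num) this
  have h8 : Nat.Coprime (Nat.card (Subgroup.centralizer ({u} : Set G))) 11 :=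
    ((Nat.Prime.coprime_iff_not_dvd (by norm_num)).2 h11).symm
  exact h8.dvd_of_dvd_mul_right ⟨k, h7.symm⟩

/-- In case C all involutions are conjugate. -/
theorem isConj_of_caseC [Finite G] [IsSimpleGroup G] (hcard : Nat.card G = 7920) {x u u' : G}
    (hx : orderOf x = 11) (hinv : ¬ IsConj x x⁻¹)
    (hC : ∀ z : G, orderOf z = 11 → Nat.card (Subgroup.centralizer ({z} : Set G)) = 11)
    {v : Fin 7 → IrrCharacter G}
    (hB : IsB0 x v ![1, 10, 10, 10, 45, 16, 16] ![2, -2, -2, -2, 2, -1, -1])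
    (hu : orderOf u = 2) (hu' : orderOf u' = 2) : IsConj u u' := by
  classical
  have := finite_irr (G := G)
  have := Fintype.ofFinite (IrrCharacter G)
  by_contra hcon
  obtain ⟨w, hw, hwp, hw1⟩ := exists_inv_values hcard hu
  obtain ⟨w', hw', hwp', hw1'⟩ := exists_inv_values hcard hu'
  obtain ⟨a0, a4, a5, a6, a123⟩ := values_C hcard hx hinv hB hu hw hwp hw1
  obtain ⟨b0, b4, b5, b6, b123⟩ := values_C hcard hx hinv hB hu' hw' hwp' hw1'
  have hu2 : u ^ 2 = 1 := by rw [← hu]; exact pow_orderOf_eq_one u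
  have hu2' : u' ^ 2 = 1 := by rw [← hu']; exact pow_orderOf_eq_one u'
  have hreal : ∀ χ : IrrCharacter G, conj ((χ : G → ℂ) u) = (χ : G → ℂ) u := by
    intro χ; rw [hw]; simp
  have hreal' : ∀ χ : IrrCharacter G, conj ((χ : G → ℂ) u') = (χ : G → ℂ) u' := by
    intro χ; rw [hw']; simp
  -- degrees
  have hn := fun χ : IrrCharacter G => isIrr_apply_one χ.2
  choose n hn0 hn1 using hn
  have hnz : ∀ χ : IrrCharacter G, (χ : G → ℂ) 1 = ((n χ : ℤ) : ℂ) := fun χ => by
    rw [hn1]; simp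
  have hu1 : u ≠ 1 := by rintro rfl; simp at hu
  have hu1' : u' ≠ 1 := by rintro rfl; simp at hu'
  -- column relations
  have e1 := col_conj hw hw (IsConj.refl u)
  have e2 := col_conj hw' hw' (IsConj.refl u')
  have e3 := col_not_conj hw hw' hcon
  have e4 := col_not_conj hnz hw (fun h => hu1 (isConj_one_right.1 h))
  have e5 := col_not_conj hnz hw' (fun h => hu1' (isConj_one_right.1 h))
  have e6 := col_conj hnz hnz (IsConj.refl 1)
  have hc1 : Nat.card (Subgroup.centralizer ({1} : Set G)) = 7920 := by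
    rw [Subgroup.centralizer_eq_top_iff_subset.2 (by
      rw [Set.singleton_subset_iff]; exact Subgroup.one_mem _), Subgroup.card_top, hcard]
  have m0 : n (v 0) = 1 := by exact_mod_cast (hn1 (v 0)).symm.trans (hB.degs 0)
  have m1 : n (v 1) = 10 := by exact_mod_cast (hn1 (v 1)).symm.trans (hB.degs 1)
  have m2 : n (v 2) = 10 := by exact_mod_cast (hn1 (v 2)).symm.trans (hB.degs 2)
  have m3 : n (v 3) = 10 := by exact_mod_cast (hn1 (v 3)).symm.trans (hB.degs 3)
  have m4 : n (v 4) = 45 := by exact_mod_cast (hn1 (v 4)).symm.trans (hB.degs 4)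
  have m5 : n (v 5) = 16 := by exact_mod_cast (hn1 (v 5)).symm.trans (hB.degs 5)
  have m6 : n (v 6) = 16 := by exact_mod_cast (hn1 (v 6)).symm.trans (hB.degs 6)
  rw [sum_split hB.inj, Fin.sum_univ_seven] at e1 e2 e3 e4 e5 e6
  rw [a0, a4, a5, a6] at e1 e3
  rw [b0, b4, b5, b6] at e2 e3
  rw [m0, m1, m2, m3, m4, m5, m6] at e4 e5 e6
  rw [a0, a4, a5, a6] at e4
  rw [b0, b4, b5, b6] at e5
  rw [hc1] at e6
  -- the quadratic relation between the two
  have hquad := rel_quad hB hreal hreal'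
  rw [card_pairs_eq_zero hinv hu2 hu2'] at hquad
  have hidx : ∀ g : G, ((Subgroup.centralizer ({g} : Set G)).index : ℂ) ≠ 0 := fun g => by
    exact_mod_cast Subgroup.index_ne_zero_of_finite
  have hG0 : (Nat.card G : ℂ) ≠ 0 := by rw [hcard]; norm_num
  have hquad' : ∑ i, (v i : G → ℂ) u * (v i : G → ℂ) u' *
      ((![2, -2, -2, -2, 2, -1, -1] : Fin 7 → ℤ) i : ℂ) /
      ((![1, 10, 10, 10, 45, 16, 16] : Fin 7 → ℕ) i : ℂ) = 0 := by
    have h1 := hquad.symm
    rw [Nat.cast_zero, mul_zero] at h1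
    rcases mul_eq_zero.1 h1 with h2 | h2
    · rw [div_eq_zero_iff, mul_eq_zero] at h2
      have i1 := hidx u
      have i2 := hidx u'
      tauto
    · exact h2
  simp only [hw, hw'] at hquad'
  rw [Fin.sum_univ_seven] at hquad'
  simp only [Matrix.cons_val_zero, Matrix.cons_val_one, Matrix.cons_val] at hquad'
  rw [a0, b0, a4, b4, a5, b5, a6, b6] at hquad'
  have hS : w (v 1) * w' (v 1) + w (v 2) * w' (v 2) + w (v 3) * w' (v 3) = 12 := by
    have : ((w (v 1) * w' (v 1) + w (v 2) * w' (v 2) + w (v 3) * w' (v 3) : ℤ) : ℂ) = (12 : ℤ) := by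
      push_cast at hquad' ⊢
      linear_combination (-5) * hquad'
    exact_mod_cast this
  have f1 := Nat.le_of_dvd (by norm_num) (card_dvd_48 hcard hx hinv hC hB hu)
  have f2 := Nat.le_of_dvd (by norm_num) (card_dvd_48 hcard hx hinv hC hB hu')
  set C1 := Nat.card (Subgroup.centralizer ({u} : Set G))
  set C2 := Nat.card (Subgroup.centralizer ({u'} : Set G))
  have g1 : (22 : ℤ) + ∑ χ ∈ others v, w χ * w χ = C1 := by
    rcases a123 with ⟨h1, h2, h3⟩ | ⟨h1, h2, h3⟩ | ⟨h1, h2, h3⟩ <;> rw [h1, h2, h3] at e1 <;>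
      linarith
  have g2 : (22 : ℤ) + ∑ χ ∈ others v, w' χ * w' χ = C2 := by
    rcases b123 with ⟨h1, h2, h3⟩ | ⟨h1, h2, h3⟩ | ⟨h1, h2, h3⟩ <;> rw [h1, h2, h3] at e2 <;>
      linarith
  have g3 : ∑ χ ∈ others v, w χ * w' χ = -22 := by linarith
  have g4 : ∑ χ ∈ others v, (n χ : ℤ) * w χ = 154 := by
    rcases a123 with ⟨h1, h2, h3⟩ | ⟨h1, h2, h3⟩ | ⟨h1, h2, h3⟩ <;> rw [h1, h2, h3] at e4 <;>
      push_cast at e4 <;> linarith
  have g5 : ∑ χ ∈ others v, (n χ : ℤ) * w' χ = 154 := by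
    rcases b123 with ⟨h1, h2, h3⟩ | ⟨h1, h2, h3⟩ | ⟨h1, h2, h3⟩ <;> rw [h1, h2, h3] at e5 <;>
      push_cast at e5 <;> linarith
  have g6 : ∑ χ ∈ others v, (n χ : ℤ) * n χ = 5082 := by
    push_cast at e6
    linarith
  have hCS := Finset.sum_mul_sq_le_sq_mul_sq (others v) (fun χ => (n χ : ℤ))
    (fun χ => w χ + w' χ)
  have k1 : ∑ χ ∈ others v, (n χ : ℤ) * (w χ + w' χ) = 308 := by
    simp only [mul_add, Finset.sum_add_distrib]
    linarith
  have k2 : ∑ χ ∈ others v, (n χ : ℤ) ^ 2 = 5082 := by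
    simp only [pow_two]
    exact g6
  have k3 : ∑ χ ∈ others v, (w χ + w' χ) ^ 2 = (C1 - 22) + (C2 - 22) - 44 := by
    have : ∀ χ, (w χ + w' χ) ^ 2 = w χ * w χ + w' χ * w' χ + 2 * (w χ * w' χ) := fun χ => by ring
    simp only [this, Finset.sum_add_distrib, ← Finset.mul_sum]
    linarith
  rw [k1, k2, k3] at hCS
  have f1' : (C1 : ℤ) ≤ 48 := by exact_mod_cast f1
  have f2' : (C2 : ℤ) ≤ 48 := by exact_mod_cast f2
  linarith

end Cfsg.Agent.SporadicA.M11Cent
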