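import Mathlib
import Cfsg.Prelude.Def_Sporadic

/-!
# Sylow 3-subgroups in a simple group of order 7920, given some centralizer orders
-/

set_option autoImplicit false
set_option linter.unusedSectionVars false

namespace Cfsg.Agent.SporadicA.M11Three

open Subgroup

/-! ### A 2-group acting faithfully on an elementary abelian group of order 9 -/

section action

variable {A U : Type*} [Group A] [Finite A] [Group U] [Finite U] [MulDistribMulAction U A]

/-- The subgroup of elements fixed by `g`. -/
def fixSub (g : U) : Subgroup A where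
  carrier := {x | g • x = x}
  one_mem' := smul_one g
  mul_mem' := by
    intro a b ha hb
    simp only [Set.mem_ofPred_eq] at ha hb ⊢
    rw [smul_mul', ha, hb]
  inv_mem' := by
    intro a ha
    simp only [Set.mem_ofPred_eq] at ha ⊢
    rw [smul_inv', ha]

/-- The subgroup of elements inverted by `g`. -/
def invSub (hc : ∀ x y : A, x * y = y * x) (g : U) : Subgroup A where
  carrier := {x | g • x = x⁻¹}
  one_mem' := by simp
  mul_mem' := by
    intro a b ha hb
    simp only [Set.mem_ofPred_eq] at ha hb ⊢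
    rw [smul_mul', ha, hb, mul_inv_rev, hc]
  inv_mem' := by
    intro a ha
    simp only [Set.mem_ofPred_eq] at ha ⊢
    rw [smul_inv', ha]

theorem mem_fixSub (g : U) (x : A) : x ∈ fixSub g ↔ g • x = x := Iff.rfl

theorem mem_invSub (hc : ∀ x y : A, x * y = y * x) (g : U) (x : A) :
    x ∈ invSub hc g ↔ g • x = x⁻¹ := Iff.rfl

omit [Finite A] in
theorem eq_one_of_eq_inv (h3 : ∀ x : A, x ^ 3 = 1) {x : A} (hx : x = x⁻¹) : x = 1 := by
  have h2 : x * x = 1 := by
    nth_rewrite 2 [hx]
    exact mul_inv_cancel x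
  have := h3 x
  rw [pow_succ, pow_two, h2, one_mul] at this
  exact this

/-- A subgroup of order 3 containing a nonidentity element `a` is `{1, a, a⁻¹}`. -/
theorem eq_or_of_card_three (h3 : ∀ x : A, x ^ 3 = 1) {H : Subgroup A} (hH : Nat.card H = 3)
    {a x : A} (ha : a ∈ H) (ha1 : a ≠ 1) (hx : x ∈ H) : x = 1 ∨ x = a ∨ x = a⁻¹ := by
  have hord : orderOf a = 3 := orderOf_eq_prime (h3 a) ha1
  have hz : zpowers a ≤ H := (zpowers_le).2 ha
  have hzc : Nat.card (zpowers a) = 3 := by rw [Nat.card_zpowers, hord]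
  have heq : zpowers a = H := by
    apply Subgroup.eq_of_le_of_card_ge hz
    rw [hzc, hH]
  rw [← heq, mem_zpowers_iff] at hx
  obtain ⟨k, rfl⟩ := hx
  have h1 : a ^ k = a ^ (k % 3) := by
    have := zpow_mod_orderOf a k
    rw [hord] at this
    exact_mod_cast this.symm
  have h2 : k % 3 = 0 ∨ k % 3 = 1 ∨ k % 3 = 2 := by omega
  rw [h1]
  rcases h2 with h | h | h <;> rw [h]
  · left; simp
  · right; left; simp
  · right; right
    rw [eq_inv_iff_mul_eq_one]
    have := h3 a
    rw [pow_succ] at this
    exact_mod_cast this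

theorem card_subgroup_cases (hA : Nat.card A = 9) (H : Subgroup A) :
    Nat.card H = 1 ∨ Nat.card H = 3 ∨ Nat.card H = 9 := by
  have h : Nat.card H ∣ 9 := hA ▸ card_subgroup_dvd_card H
  have h' : Nat.card H ∣ 3 ^ 2 := h
  rw [Nat.dvd_prime_pow Nat.prime_three] at h'
  obtain ⟨k, hk, hk'⟩ := h'
  interval_cases k <;> simp_all

theorem eq_top_of_card_gt (hA : Nat.card A = 9) {H : Subgroup A} (hH : 3 < Nat.card H) :
    H = ⊤ := by
  rcases card_subgroup_cases hA H with h | h | h
  · omega
  · omega
  · exact (card_eq_iff_eq_top H).1 (h.trans hA.symm)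

theorem eq_top_of_two_mem (hA : Nat.card A = 9) (h3 : ∀ x : A, x ^ 3 = 1) {H : Subgroup A}
    {a b : A} (ha : a ∈ H) (hb : b ∈ H) (ha1 : a ≠ 1) (hb1 : b ≠ 1) (hab : b ≠ a)
    (hab' : b ≠ a⁻¹) : H = ⊤ := by
  rcases card_subgroup_cases hA H with h | h | h
  · rw [card_eq_one] at h
    rw [h, mem_bot] at ha
    exact absurd ha ha1
  · rcases eq_or_of_card_three h3 h ha ha1 hb with h | h | h
    · exact absurd h hb1
    · exact absurd h hab
    · exact absurd h hab'
  · exact (card_eq_iff_eq_top H).1 (h.trans hA.symm)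

/-- A 2-group of order at least 4 acting faithfully on an elementary abelian group of order 9
contains an element inverting everything. -/
theorem exists_smul_eq_inv (hc : ∀ x y : A, x * y = y * x) (hA : Nat.card A = 9)
    (h3 : ∀ x : A, x ^ 3 = 1) (hU : IsPGroup 2 U) (hf : ∀ g : U, (∀ x : A, g • x = x) → g = 1)
    (h4 : 4 ≤ Nat.card U) : ∃ g : U, ∀ x : A, g • x = x⁻¹ := by
  classical
  have : Fact (Nat.Prime 2) := ⟨Nat.prime_two⟩
  -- a central involution
  have hnt : Nontrivial U := by
    rw [← Finite.one_lt_card_iff_nontrivial]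
    omega
  have hcn : Nontrivial (center U) := hU.center_nontrivial
  have h2 : 2 ∣ Nat.card (center U) := by
    rcases (hU.to_subgroup (center U)).card_eq_or_dvd with h | h
    · have := Finite.one_lt_card_iff_nontrivial.2 hcn
      omega
    · exact h
  obtain ⟨z, hz⟩ := exists_prime_orderOf_dvd_card' (G := center U) 2 h2
  have hzz : (z : U) * z = 1 := by
    have : z ^ 2 = 1 := by rw [← hz]; exact pow_orderOf_eq_one z
    rw [pow_two] at this
    exact_mod_cast congrArg Subtype.val this
  have hz1 : (z : U) ≠ 1 := by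
    intro h
    have : z = 1 := Subtype.ext h
    rw [this, orderOf_one] at hz
    omega
  have hcomm : ∀ g : U, g * (z : U) = (z : U) * g := fun g => mem_center_iff.1 z.2 g
  have hzz' : ∀ x : A, (z : U) • ((z : U) • x) = x := by
    intro x
    rw [smul_smul, hzz, one_smul]
  -- `z` moves something
  obtain ⟨c, hcz⟩ : ∃ c : A, (z : U) • c ≠ c := by
    by_contra h
    push Not at h
    exact hz1 (hf z h)
  set b := c⁻¹ * ((z : U) • c) with hb
  have hb1 : b ≠ 1 := by
    intro h
    rw [hb, inv_mul_eq_one] at h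
    exact hcz h.symm
  have hzb : (z : U) • b = b⁻¹ := by
    rw [hb, smul_mul', smul_inv', hzz', mul_inv_rev, inv_inv]
  by_cases hfix : ∀ a : A, (z : U) • a = a → a = 1
  · -- fixed point free: inversion
    refine ⟨z, fun x => ?_⟩
    have h1 : (z : U) • (x * (z : U) • x) = x * (z : U) • x := by
      rw [smul_mul', hzz', hc]
    have h2 := hfix _ h1
    exact (inv_eq_of_mul_eq_one_right h2).symm
  · push Not at hfix
    obtain ⟨a, hza, ha1⟩ := hfix
    have hab : b ≠ a := by
      intro h
      rw [h, hza] at hzb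
      exact ha1 (eq_one_of_eq_inv h3 hzb)
    have hab' : b ≠ a⁻¹ := by
      intro h
      rw [h, smul_inv', hza, inv_inv] at hzb
      exact ha1 (eq_one_of_eq_inv h3 hzb.symm)
    -- the two subgroups
    have hAc : Nat.card (fixSub (A := A) (z : U)) = 3 := by
      rcases card_subgroup_cases hA (fixSub (A := A) (z : U)) with h | h | h
      · rw [card_eq_one] at h
        have : a ∈ fixSub (A := A) (z : U) := hza
        rw [h, mem_bot] at this
        exact absurd this ha1
      · exact h
      · have := (card_eq_iff_eq_top _).1 (h.trans hA.symm)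
        have hc' : c ∈ fixSub (A := A) (z : U) := by rw [this]; exact mem_top c
        exact absurd hc' hcz
    have hBc : Nat.card (invSub hc (z : U)) = 3 := by
      rcases card_subgroup_cases hA (invSub hc (z : U)) with h | h | h
      · rw [card_eq_one] at h
        have : b ∈ invSub hc (z : U) := hzb
        rw [h, mem_bot] at this
        exact absurd this hb1
      · exact h
      · have := (card_eq_iff_eq_top _).1 (h.trans hA.symm)
        have ha' : a ∈ invSub hc (z : U) := by rw [this]; exact mem_top a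
        rw [mem_invSub, hza] at ha'
        exact absurd (eq_one_of_eq_inv h3 ha') ha1
    have hga : ∀ g : U, g • a = a ∨ g • a = a⁻¹ := by
      intro g
      have h1 : g • a ∈ fixSub (A := A) (z : U) := by
        rw [mem_fixSub, smul_smul, ← hcomm, mul_smul, hza]
      rcases eq_or_of_card_three h3 hAc hza ha1 h1 with h | h | h
      · exfalso
        apply ha1
        have := congrArg (fun y => g⁻¹ • y) h
        simpa using this
      · exact Or.inl h
      · exact Or.inr h
    have hgb : ∀ g : U, g • b = b ∨ g • b = b⁻¹ := by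
      intro g
      have h1 : g • b ∈ invSub hc (z : U) := by
        rw [mem_invSub, smul_smul, ← hcomm, mul_smul, hzb, smul_inv']
      rcases eq_or_of_card_three h3 hBc hzb hb1 h1 with h | h | h
      · exfalso
        apply hb1
        have := congrArg (fun y => g⁻¹ • y) h
        simpa using this
      · exact Or.inl h
      · exact Or.inr h
    -- injectivity
    have hinj : Function.Injective (fun g : U => (decide (g • a = a), decide (g • b = b))) := by
      intro g h hgh
      simp only [Prod.mk.injEq, decide_eq_decide] at hgh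
      have e1 : g • a = h • a := by
        by_cases hh : g • a = a
        · rw [hh, hgh.1.1 hh]
        · have h' : ¬ h • a = a := fun q => hh (hgh.1.2 q)
          rw [(hga g).resolve_left hh, (hga h).resolve_left h']
      have e2 : g • b = h • b := by
        by_cases hh : g • b = b
        · rw [hh, hgh.2.1 hh]
        · have h' : ¬ h • b = b := fun q => hh (hgh.2.2 q)
          rw [(hgb g).resolve_left hh, (hgb h).resolve_left h']
      have f1 : (h⁻¹ * g) • a = a := by rw [mul_smul, e1, inv_smul_smul]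
      have f2 : (h⁻¹ * g) • b = b := by rw [mul_smul, e2, inv_smul_smul]
      have htop : fixSub (A := A) (h⁻¹ * g) = ⊤ :=
        eq_top_of_two_mem hA h3 (H := fixSub (A := A) (h⁻¹ * g)) f1 f2 ha1 hb1 hab hab'
      have : h⁻¹ * g = 1 := by
        apply hf
        intro x
        have : x ∈ fixSub (A := A) (h⁻¹ * g) := by rw [htop]; exact mem_top x
        exact this
      rw [inv_mul_eq_one] at this
      exact this.symm
    have hsurj : Function.Surjective
        (fun g : U => (decide (g • a = a), decide (g • b = b))) := by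
      have := Fintype.ofFinite U
      have hcard : Fintype.card (Bool × Bool) = 4 := by simp
      have hle := Fintype.card_le_of_injective _ hinj
      rw [Nat.card_eq_fintype_card] at h4
      have heq : Fintype.card U = Fintype.card (Bool × Bool) := by omega
      exact ((Fintype.bijective_iff_injective_and_card _).2 ⟨hinj, heq⟩).2
    obtain ⟨g, hg⟩ := hsurj (false, false)
    simp only [Prod.mk.injEq, decide_eq_false_iff_not] at hg
    refine ⟨g, fun x => ?_⟩
    have g1 := (hga g).resolve_left hg.1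
    have g2 := (hgb g).resolve_left hg.2
    have htop : invSub hc g = ⊤ :=
      eq_top_of_two_mem hA h3 (H := invSub hc g) g1 g2 ha1 hb1 hab hab'
    have : x ∈ invSub hc g := by rw [htop]; exact mem_top x
    exact this

end action

/-! ### The group of order 7920 -/

section main

variable {G : Type*} [Group G] [Finite G]

theorem dvd_centralizer_of_commute {x y : G} (h : Commute x y) :
    orderOf y ∣ Nat.card (centralizer ({x} : Set G)) := by
  have hy : y ∈ centralizer ({x} : Set G) := by
    rw [mem_centralizer_singleton_iff]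
    exact h.symm.eq
  have : orderOf (⟨y, hy⟩ : centralizer ({x} : Set G)) = orderOf y := by
    rw [← orderOf_coe]
  rw [← this]
  exact orderOf_dvd_natCard _

theorem card_P (hG : Cfsg.IsM11 G) (P : Sylow 3 G) : Nat.card (P : Subgroup G) = 9 := by
  have h : Nat.card (P : Subgroup G) = 3 ^ (Nat.card G).factorization 3 := P.card_eq_multiplicity
  rw [h, hG.2]
  have h9 : (7920 : ℕ) = 3 ^ 2 * 880 := by norm_num
  have : (7920 : ℕ).factorization 3 = 2 := by
    rw [h9, Nat.factorization_mul (by norm_num) (by norm_num)]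
    simp only [Finsupp.add_apply]
    rw [Nat.Prime.factorization_pow Nat.prime_three, Finsupp.single_eq_same,
      Nat.factorization_eq_zero_of_not_dvd (by norm_num)]
  rw [this]
  norm_num

theorem comm_P (hG : Cfsg.IsM11 G) (P : Sylow 3 G) (x y : (P : Subgroup G)) :
    x * y = y * x := by
  have : Fact (Nat.Prime 3) := ⟨Nat.prime_three⟩
  have h : Nat.card (P : Subgroup G) = 3 ^ 2 := by rw [card_P hG P]; norm_num
  exact (IsPGroup.isMulCommutative_of_card_eq_prime_sq (p := 3) h).is_comm.comm x y

/-- the three centralizer hypotheses -/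
structure Hyp (G : Type*) [Group G] : Prop where
  h2 : ∀ u : G, orderOf u = 2 → Nat.card (centralizer ({u} : Set G)) = 48
  h5 : ∀ y : G, orderOf y = 5 → Nat.card (centralizer ({y} : Set G)) = 5
  h11 : ∀ x : G, orderOf x = 11 → Nat.card (centralizer ({x} : Set G)) = 11

/-- A nonidentity 3-element commutes with no element of order 5 or 11. -/
theorem not_five (h : Hyp G) {t y : G} (ht : t ^ 9 = 1) (ht1 : t ≠ 1) (hy : orderOf y = 5) :
    ¬ Commute y t := by
  intro hc
  have h1 := dvd_centralizer_of_commute hc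
  rw [h.h5 y hy] at h1
  have h2 : orderOf t ∣ 9 := orderOf_dvd_of_pow_eq_one ht
  have h3 : orderOf t ∣ 1 := by
    have := Nat.dvd_gcd h1 h2
    simpa using this
  rw [Nat.dvd_one, orderOf_eq_one_iff] at h3
  exact ht1 h3

theorem not_eleven (h : Hyp G) {t y : G} (ht : t ^ 9 = 1) (ht1 : t ≠ 1) (hy : orderOf y = 11) :
    ¬ Commute y t := by
  intro hc
  have h1 := dvd_centralizer_of_commute hc
  rw [h.h11 y hy] at h1
  have h2 : orderOf t ∣ 9 := orderOf_dvd_of_pow_eq_one ht
  have h3 : orderOf t ∣ 1 := by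
    have := Nat.dvd_gcd h1 h2
    simpa using this
  rw [Nat.dvd_one, orderOf_eq_one_iff] at h3
  exact ht1 h3

theorem pow_nine (hG : Cfsg.IsM11 G) (P : Sylow 3 G) {t : G} (ht : t ∈ (P : Subgroup G)) :
    t ^ 9 = 1 := by
  have : (⟨t, ht⟩ : (P : Subgroup G)) ^ Nat.card (P : Subgroup G) = 1 := pow_card_eq_one'
  rw [card_P hG P] at this
  simpa [Subtype.ext_iff] using this

/-- The centralizer of `P` is `P`. -/
theorem centralizer_P (hG : Cfsg.IsM11 G) (h : Hyp G) (P : Sylow 3 G) :
    centralizer ((P : Subgroup G) : Set G) = (P : Subgroup G) := by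
  have : Fact (Nat.Prime 3) := ⟨Nat.prime_three⟩
  have hle : (P : Subgroup G) ≤ centralizer ((P : Subgroup G) : Set G) := by
    intro x hx
    rw [mem_centralizer_iff]
    intro y hy
    exact congrArg Subtype.val (comm_P hG P ⟨y, hy⟩ ⟨x, hx⟩)
  symm
  apply Subgroup.eq_of_le_of_card_ge hle
  -- every prime divisor of the index of P in C is excluded
  have h9 := card_P hG P
  -- a nontrivial element of `P`
  obtain ⟨t, ht, ht1⟩ : ∃ t ∈ (P : Subgroup G), t ≠ 1 := by
    have : Nontrivial (P : Subgroup G) := by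
      rw [← Finite.one_lt_card_iff_nontrivial]
      omega
    obtain ⟨t, ht⟩ := exists_ne (1 : (P : Subgroup G))
    exact ⟨t, t.2, fun hh => ht (Subtype.ext hh)⟩
  have hPle : ∀ y ∈ centralizer ((P : Subgroup G) : Set G),
      (P : Subgroup G) ≤ centralizer ({y} : Set G) := by
    intro y hy x hx
    rw [mem_centralizer_singleton_iff]
    rw [mem_centralizer_iff] at hy
    exact hy x hx
  have hdvd : ∀ y ∈ centralizer ((P : Subgroup G) : Set G),
      9 ∣ Nat.card (centralizer ({y} : Set G)) := by
    intro y hy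
    rw [← h9]
    exact card_dvd_of_le (hPle y hy)
  have hcop : ∀ q : ℕ, q.Prime → q ∣ Nat.card (centralizer ((P : Subgroup G) : Set G)) →
      q = 3 := by
    intro q hq hqd
    have hq' : q ∣ 7920 := hG.2 ▸ hqd.trans (card_subgroup_dvd_card _)
    have hfac : q = 2 ∨ q = 3 ∨ q = 5 ∨ q = 11 := by
      have : (7920 : ℕ) = 2 ^ 4 * 3 ^ 2 * 5 * 11 := by norm_num
      rw [this] at hq'
      rcases (Nat.Prime.dvd_mul hq).1 hq' with h1 | h1
      · rcases (Nat.Prime.dvd_mul hq).1 h1 with h2 | h2
        · rcases (Nat.Prime.dvd_mul hq).1 h2 with h3 | h3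
          · exact Or.inl ((Nat.prime_dvd_prime_iff_eq hq Nat.prime_two).1
              (hq.dvd_of_dvd_pow h3))
          · exact Or.inr (Or.inl ((Nat.prime_dvd_prime_iff_eq hq Nat.prime_three).1
              (hq.dvd_of_dvd_pow h3)))
        · exact Or.inr (Or.inr (Or.inl
            ((Nat.prime_dvd_prime_iff_eq hq Nat.prime_five).1 h2)))
      · exact Or.inr (Or.inr (Or.inr
          ((Nat.prime_dvd_prime_iff_eq hq (by norm_num)).1 h1)))
    have : Fact q.Prime := ⟨hq⟩
    obtain ⟨y, hy⟩ := exists_prime_orderOf_dvd_card' q hqd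
    have hy' : orderOf (y : G) = q := by rw [orderOf_coe, hy]
    have hd := hdvd y y.2
    rcases hfac with rfl | rfl | rfl | rfl
    · rw [h.h2 _ hy'] at hd
      norm_num at hd
    · rfl
    · rw [h.h5 _ hy'] at hd
      norm_num at hd
    · rw [h.h11 _ hy'] at hd
      norm_num at hd
  -- hence the centralizer is a 3-group
  have hp : IsPGroup 3 (centralizer ((P : Subgroup G) : Set G)) := by
    rw [IsPGroup.iff_card]
    refine ⟨(Nat.card (centralizer ((P : Subgroup G) : Set G))).primeFactorsList.length, ?_⟩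
    apply Nat.eq_prime_pow_of_unique_prime_dvd Nat.card_pos.ne'
    intro d hd hd'
    exact hcop d hd hd'
  have := P.3 hp hle
  rw [this]

/-- An element of order `q` (with `q = 5` or `11`) does not normalize `P`. -/
theorem not_mem_normalizer (hG : Cfsg.IsM11 G) (P : Sylow 3 G) {q r : ℕ} (hq : q.Prime)
    (hqr : 9 % q = r) (hr : 3 < r ∨ 9 % q = 9) 
    (hno : ∀ t y : G, t ^ 9 = 1 → t ≠ 1 → orderOf y = q → ¬ Commute y t) :
    ¬ q ∣ Nat.card (normalizer ((P : Subgroup G) : Set G)) := by
  intro hd
  have : Fact q.Prime := ⟨hq⟩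
  obtain ⟨y, hy⟩ := exists_prime_orderOf_dvd_card' q hd
  have hy' : orderOf (y : G) = q := by rw [orderOf_coe, hy]
  have hpg : IsPGroup q (zpowers y) := by
    rw [IsPGroup.iff_card]
    exact ⟨1, by rw [Nat.card_zpowers, hy, pow_one]⟩
  have hmod := hpg.card_modEq_card_fixedPoints (P : Subgroup G)
  rw [card_P hG P] at hmod
  -- a nontrivial fixed point
  have h1lt : 1 < Nat.card (MulAction.fixedPoints (zpowers y) (P : Subgroup G)) := by
    by_contra hle
    have hle' : Nat.card (MulAction.fixedPoints (zpowers y) (P : Subgroup G)) ≤ 1 := by omega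
    have hq2 : 2 ≤ q := hq.two_le
    unfold Nat.ModEq at hmod
    rw [hqr] at hmod
    have hle3 : Nat.card (MulAction.fixedPoints (zpowers y) (P : Subgroup G)) % q ≤ 1 :=
      (Nat.mod_le _ _).trans hle'
    omega
  rw [Finite.one_lt_card_iff_nontrivial] at h1lt
  have h1mem : (1 : (P : Subgroup G)) ∈
      MulAction.fixedPoints (zpowers y) (P : Subgroup G) := by
    intro g
    exact smul_one _
  obtain ⟨⟨t, ht⟩, htne⟩ := exists_ne
    (⟨1, h1mem⟩ : MulAction.fixedPoints (zpowers y) (P : Subgroup G))
  have ht1 : t ≠ 1 := fun hh => htne (Subtype.ext hh)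
  have hfix := ht ⟨y, mem_zpowers y⟩
  have hfix' : (y : G) * t * (y : G)⁻¹ = t := congrArg Subtype.val hfix
  refine hno t y (pow_nine hG P t.2) (fun hh => ht1 (Subtype.ext hh)) hy' ?_
  rw [mul_inv_eq_iff_eq_mul] at hfix'
  exact hfix'

theorem card_normalizer_eq (hG : Cfsg.IsM11 G) (h : Hyp G) (P : Sylow 3 G) :
    Nat.card (normalizer ((P : Subgroup G) : Set G)) = 9 ∨
    Nat.card (normalizer ((P : Subgroup G) : Set G)) = 144 ∨
    Nat.card (normalizer ((P : Subgroup G) : Set G)) = 36 := by
  have : Fact (Nat.Prime 3) := ⟨Nat.prime_three⟩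
  have n5 : ¬ 5 ∣ Nat.card (normalizer ((P : Subgroup G) : Set G)) :=
    not_mem_normalizer hG P (q := 5) (r := 4) Nat.prime_five (by norm_num) (by norm_num)
      (fun t y ht ht1 hy => not_five h ht ht1 hy)
  have n11 : ¬ 11 ∣ Nat.card (normalizer ((P : Subgroup G) : Set G)) :=
    not_mem_normalizer hG P (q := 11) (r := 9) (by norm_num) (by norm_num) (by norm_num)
      (fun t y ht ht1 hy => not_eleven h ht ht1 hy)
  have hdvd9 : 9 ∣ Nat.card (normalizer ((P : Subgroup G) : Set G)) := by
    rw [← card_P hG P]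
    exact card_dvd_of_le le_normalizer
  obtain ⟨m, hm⟩ := hdvd9
  have hidx : Nat.card (normalizer ((P : Subgroup G) : Set G)) * Nat.card (Sylow 3 G) = 7920 := by
    rw [P.card_eq_index_normalizer, ← hG.2]
    exact card_mul_index _
  have hmod := card_sylow_modEq_one 3 G
  set n := Nat.card (Sylow 3 G) with hn
  have hmn : m * n = 880 := by
    rw [hm] at hidx
    have : 9 * (m * n) = 9 * 880 := by rw [← mul_assoc, hidx]
    exact Nat.eq_of_mul_eq_mul_left (by norm_num) this
  have hmd : m ∣ 880 := ⟨n, hmn.symm⟩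
  have m5 : ¬ 5 ∣ m := fun hh => n5 (hm ▸ Dvd.dvd.mul_left hh 9)
  have m11 : ¬ 11 ∣ m := fun hh => n11 (hm ▸ Dvd.dvd.mul_left hh 9)
  have hm16 : m ∣ 16 := by
    have hc : Nat.Coprime m 55 := by
      rw [show (55 : ℕ) = 5 * 11 by norm_num]
      apply Nat.Coprime.mul_right
      · exact ((Nat.Prime.coprime_iff_not_dvd Nat.prime_five).2 m5).symm
      · exact ((Nat.Prime.coprime_iff_not_dvd (by norm_num)).2 m11).symm
    exact hc.dvd_of_dvd_mul_right (show m ∣ 16 * 55 from hmd)
  have hmle : m ≤ 16 := Nat.le_of_dvd (by norm_num) hm16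
  have hmpos : 0 < m := Nat.pos_of_dvd_of_pos hm16 (by norm_num)
  unfold Nat.ModEq at hmod
  rw [hm]
  interval_cases m <;> omega

/-- **Burnside**: `P` is not its own normalizer. -/
theorem card_normalizer_ne_nine (hG : Cfsg.IsM11 G) (P : Sylow 3 G) :
    Nat.card (normalizer ((P : Subgroup G) : Set G)) ≠ 9 := by
  intro h9
  have : Fact (Nat.Prime 3) := ⟨Nat.prime_three⟩
  have heq : (P : Subgroup G) = normalizer ((P : Subgroup G) : Set G) := by
    apply Subgroup.eq_of_le_of_card_ge le_normalizer
    rw [h9, card_P hG P]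
  have hle : normalizer ((P : Subgroup G) : Set G) ≤ centralizer ((P : Subgroup G) : Set G) := by
    rw [← heq]
    intro x hx
    rw [mem_centralizer_iff]
    intro y hy
    exact congrArg Subtype.val (comm_P hG P ⟨y, hy⟩ ⟨x, hx⟩)
  have hcomp := MonoidHom.ker_transferSylow_isComplement' P hle
  have hmul := hcomp.card_mul_card
  have hs : IsSimpleGroup G := hG.1
  rcases hs.eq_bot_or_eq_top_of_normal (MonoidHom.transferSylow P hle).ker inferInstance with
    hb | ht
  · rw [hb, card_bot, card_P hG P, hG.2] at hmul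
    norm_num at hmul
  · rw [ht, card_top, card_P hG P, hG.2] at hmul
    norm_num at hmul

theorem normalizer_card' (hG : Cfsg.IsM11 G) (h : Hyp G) (P : Sylow 3 G) :
    Nat.card (normalizer ((P : Subgroup G) : Set G)) = 144 ∨
    Nat.card (normalizer ((P : Subgroup G) : Set G)) = 36 := by
  rcases card_normalizer_eq hG h P with h1 | h1
  · exact absurd h1 (card_normalizer_ne_nine hG P)
  · exact h1

theorem pow_three' (hG : Cfsg.IsM11 G) (h : Hyp G) (P : Sylow 3 G) (t : G)
    (ht : t ∈ (P : Subgroup G)) : t ^ 3 = 1 := by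
  by_contra hne
  have : Fact (Nat.Prime 3) := ⟨Nat.prime_three⟩
  have hord : orderOf t = 9 := by
    have h1 : orderOf t ∣ 3 ^ 2 := orderOf_dvd_of_pow_eq_one (pow_nine hG P ht)
    rw [Nat.dvd_prime_pow Nat.prime_three] at h1
    obtain ⟨k, hk, hk'⟩ := h1
    interval_cases k
    · rw [pow_zero, orderOf_eq_one_iff] at hk'
      rw [hk'] at hne
      simp at hne
    · rw [pow_one] at hk'
      exact absurd (hk' ▸ pow_orderOf_eq_one t) hne
    · rw [hk']
      norm_num
  have hcyc : IsCyclic (P : Subgroup G) := by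
    apply isCyclic_of_orderOf_eq_card (⟨t, ht⟩ : (P : Subgroup G))
    rw [card_P hG P, ← hord, ← orderOf_coe]
  have key := card_dvd_of_injective _
    (QuotientGroup.kerLift_injective (P : Subgroup G).normalizerMonoidHom)
  rw [normalizerMonoidHom_ker, hcyc.card_mulAut, card_P hG P, centralizer_P hG h P] at key
  have hphi : Nat.totient 9 = 6 := by decide
  rw [hphi, ← index] at key
  have hmul := card_mul_index ((P : Subgroup G).subgroupOf (normalizer ((P : Subgroup G) : Set G)))
  have hc : Nat.card ((P : Subgroup G).subgroupOf (normalizer ((P : Subgroup G) : Set G))) = 9 := by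
    rw [← card_P hG P]
    exact Nat.card_congr (subgroupOfEquivOfLe le_normalizer).toEquiv
  rw [hc] at hmul
  rcases normalizer_card' hG h P with h1 | h1
  · rw [h1] at hmul
    have : ((P : Subgroup G).subgroupOf (normalizer ((P : Subgroup G) : Set G))).index = 16 := by
      omega
    rw [this] at key
    norm_num at key
  · rw [h1] at hmul
    have : ((P : Subgroup G).subgroupOf (normalizer ((P : Subgroup G) : Set G))).index = 4 := by
      omega
    rw [this] at key
    norm_num at key

/-- Some element normalizing `P` inverts every element of `P`. -/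
theorem exists_inverting (hG : Cfsg.IsM11 G) (h : Hyp G) (P : Sylow 3 G) :
    ∃ g ∈ normalizer ((P : Subgroup G) : Set G), ∀ x ∈ (P : Subgroup G), g * x * g⁻¹ = x⁻¹ := by
  have : Fact (Nat.Prime 2) := ⟨Nat.prime_two⟩
  have : Fact (Nat.Prime 3) := ⟨Nat.prime_three⟩
  obtain ⟨U⟩ : Nonempty (Sylow 2 (normalizer ((P : Subgroup G) : Set G))) := inferInstance
  have h4 : 4 ≤ Nat.card (U : Subgroup (normalizer ((P : Subgroup G) : Set G))) := by
    have h1 : 2 ^ 2 ∣ Nat.card (normalizer ((P : Subgroup G) : Set G)) := by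
      rcases normalizer_card' hG h P with h1 | h1 <;> rw [h1] <;> norm_num
    exact Nat.le_of_dvd Nat.card_pos (U.pow_dvd_card_of_pow_dvd_card h1)
  have hf : ∀ g : (U : Subgroup (normalizer ((P : Subgroup G) : Set G))),
      (∀ x : (P : Subgroup G), g • x = x) → g = 1 := by
    intro g hg
    have hgc : ((g : normalizer ((P : Subgroup G) : Set G)) : G) ∈
        centralizer ((P : Subgroup G) : Set G) := by
      rw [mem_centralizer_iff]
      intro x hx
      have h1 : (g.1 : G) * x * (g.1 : G)⁻¹ = x := congrArg Subtype.val (hg ⟨x, hx⟩)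
      rw [mul_inv_eq_iff_eq_mul] at h1
      exact h1.symm
    rw [centralizer_P hG h P] at hgc
    have h9 := pow_nine hG P hgc
    obtain ⟨k, hk⟩ := U.2 g
    have h2k : (g.1 : G) ^ 2 ^ k = 1 := by
      have := congrArg (fun y : (U : Subgroup (normalizer ((P : Subgroup G) : Set G))) =>
        ((y : normalizer ((P : Subgroup G) : Set G)) : G)) hk
      simpa using this
    have ho1 : orderOf (g.1 : G) ∣ 9 := orderOf_dvd_of_pow_eq_one h9
    have ho2 : orderOf (g.1 : G) ∣ 2 ^ k := orderOf_dvd_of_pow_eq_one h2k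
    have hcop : Nat.Coprime 9 (2 ^ k) := Nat.Coprime.pow_right k (by norm_num)
    have ho : orderOf (g.1 : G) = 1 := Nat.eq_one_of_dvd_coprimes hcop ho1 ho2
    rw [orderOf_eq_one_iff] at ho
    apply Subtype.ext
    apply Subtype.ext
    exact ho
  obtain ⟨g, hg⟩ := exists_smul_eq_inv (A := (P : Subgroup G))
    (U := (U : Subgroup (normalizer ((P : Subgroup G) : Set G)))) (comm_P hG P) (card_P hG P)
    (fun x => Subtype.ext (pow_three' hG h P x x.2)) U.2 hf h4
  refine ⟨((g : normalizer ((P : Subgroup G) : Set G)) : G), g.1.2, fun x hx => ?_⟩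
  exact congrArg Subtype.val (hg ⟨x, hx⟩)

theorem ne_inv (hG : Cfsg.IsM11 G) (h : Hyp G) (P : Sylow 3 G) {t : G}
    (ht : t ∈ (P : Subgroup G)) (ht1 : t ≠ 1) : t ≠ t⁻¹ := by
  intro hh
  apply ht1
  have h2 : t * t = 1 := by
    nth_rewrite 2 [hh]
    exact mul_inv_cancel t
  have h3 := pow_three' hG h P t ht
  rw [pow_succ, pow_two, h2, one_mul] at h3
  exact h3

theorem isConj_inv' (hG : Cfsg.IsM11 G) (h : Hyp G) (P : Sylow 3 G) (t : G)
    (ht : t ∈ (P : Subgroup G)) : IsConj t t⁻¹ := by
  obtain ⟨g, -, hg⟩ := exists_inverting hG h P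
  rw [isConj_iff]
  exact ⟨g, hg t ht⟩

/-- The subgroup of elements mapping `t` to `t` or `t⁻¹`. -/
def pmCentralizer (t : G) : Subgroup G where
  carrier := {g | g * t * g⁻¹ = t ∨ g * t * g⁻¹ = t⁻¹}
  one_mem' := by left; simp
  mul_mem' := by
    intro a b ha hb
    rw [Set.mem_ofPred_eq] at ha hb ⊢
    have e : a * b * t * (a * b)⁻¹ = a * (b * t * b⁻¹) * a⁻¹ := by group
    rw [e]
    rcases hb with hb | hb <;> rw [hb]
    · exact ha
    · have e2 : a * t⁻¹ * a⁻¹ = (a * t * a⁻¹)⁻¹ := by group
      rw [e2]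
      rcases ha with ha | ha <;> rw [ha]
      · right; rfl
      · left; simp
  inv_mem' := by
    intro a ha
    rw [Set.mem_ofPred_eq] at ha ⊢
    rcases ha with ha | ha
    · left
      calc a⁻¹ * t * a⁻¹⁻¹ = a⁻¹ * (a * t * a⁻¹) * a⁻¹⁻¹ := by rw [ha]
        _ = t := by group
    · right
      calc a⁻¹ * t * a⁻¹⁻¹ = (a⁻¹ * t⁻¹ * a⁻¹⁻¹)⁻¹ := by group
        _ = (a⁻¹ * (a * t * a⁻¹) * a⁻¹⁻¹)⁻¹ := by rw [ha]
        _ = t⁻¹ := by group

/-- twice the centralizer order of an element conjugate to its inverse divides the group order -/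
theorem two_mul_card_centralizer_dvd {t g : G} (hne : t ≠ t⁻¹) (hg : g * t * g⁻¹ = t⁻¹) :
    2 * Nat.card (centralizer ({t} : Set G)) ∣ Nat.card G := by
  have hle : centralizer ({t} : Set G) ≤ pmCentralizer t := by
    intro x hx
    rw [mem_centralizer_singleton_iff] at hx
    left
    rw [hx, mul_inv_cancel_right]
  have hgm : g ∈ pmCentralizer t := Or.inr hg
  have hgc : g ∉ centralizer ({t} : Set G) := by
    intro hx
    rw [mem_centralizer_singleton_iff] at hx
    rw [hx, mul_inv_cancel_right] at hg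
    exact hne hg
  have hidx : (centralizer ({t} : Set G)).relIndex (pmCentralizer t) = 2 := by
    rw [relIndex, index_eq_two_iff_exists_notMem_and]
    refine ⟨⟨g, hgm⟩, fun hh => hgc (mem_subgroupOf.1 hh), fun b => ?_⟩
    rw [mem_subgroupOf, mem_subgroupOf, mem_centralizer_singleton_iff,
      mem_centralizer_singleton_iff]
    have hb : (b : G) * t * (b : G)⁻¹ = t ∨ (b : G) * t * (b : G)⁻¹ = t⁻¹ := b.2
    rcases hb with hb | hb
    · right
      rwa [mul_inv_eq_iff_eq_mul] at hb
    · left
      show (b : G) * g * t = t * ((b : G) * g)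
      have e : (b : G) * g * t * ((b : G) * g)⁻¹ = ((b : G) * t * (b : G)⁻¹)⁻¹ := by
        calc (b : G) * g * t * ((b : G) * g)⁻¹ = (b : G) * (g * t * g⁻¹) * (b : G)⁻¹ := by group
          _ = (b : G) * t⁻¹ * (b : G)⁻¹ := by rw [hg]
          _ = ((b : G) * t * (b : G)⁻¹)⁻¹ := by group
      rw [hb, inv_inv, mul_inv_eq_iff_eq_mul] at e
      exact e
  have hmul := card_mul_index ((centralizer ({t} : Set G)).subgroupOf (pmCentralizer t))
  have hc : Nat.card ((centralizer ({t} : Set G)).subgroupOf (pmCentralizer t)) =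
      Nat.card (centralizer ({t} : Set G)) :=
    Nat.card_congr (subgroupOfEquivOfLe hle).toEquiv
  have : 2 * Nat.card (centralizer ({t} : Set G)) = Nat.card (pmCentralizer t) := by
    rw [← hmul, hc, ← relIndex, hidx, mul_comm]
  rw [this]
  exact card_subgroup_dvd_card _

theorem card_centralizer_cases' (hG : Cfsg.IsM11 G) (h : Hyp G) (P : Sylow 3 G) (t : G)
    (ht : t ∈ (P : Subgroup G)) (ht1 : t ≠ 1) :
    Nat.card (centralizer ({t} : Set G)) ∈ ({9, 18, 36, 72} : Finset ℕ) := by
  obtain ⟨g, -, hg⟩ := exists_inverting hG h P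
  have h2 := two_mul_card_centralizer_dvd (ne_inv hG h P ht ht1) (hg t ht)
  rw [hG.2] at h2
  have h9 : 9 ∣ Nat.card (centralizer ({t} : Set G)) := by
    rw [← card_P hG P]
    apply card_dvd_of_le
    intro x hx
    rw [mem_centralizer_singleton_iff]
    exact congrArg Subtype.val (comm_P hG P ⟨x, hx⟩ ⟨t, ht⟩)
  have hnot : ∀ q : ℕ, q.Prime → (∀ t y : G, t ^ 9 = 1 → t ≠ 1 → orderOf y = q →
      ¬ Commute y t) → ¬ q ∣ Nat.card (centralizer ({t} : Set G)) := by
    intro q hq hno hd
    have : Fact q.Prime := ⟨hq⟩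
    obtain ⟨y, hy⟩ := exists_prime_orderOf_dvd_card' q hd
    have hy' : orderOf (y : G) = q := by rw [orderOf_coe, hy]
    exact hno t y (pow_nine hG P ht) ht1 hy' (mem_centralizer_singleton_iff.1 y.2)
  have n5 := hnot 5 Nat.prime_five (fun t y => not_five h)
  have n11 := hnot 11 (by norm_num) (fun t y => not_eleven h)
  obtain ⟨m, hm⟩ := h9
  rw [hm] at h2 n5 n11 ⊢
  have hmd : m ∣ 440 := by
    have : 18 * m ∣ 18 * 440 := by
      rw [show 18 * m = 2 * (9 * m) by ring]
      exact h2
    exact Nat.dvd_of_mul_dvd_mul_left (by norm_num) this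
  have m5 : ¬ 5 ∣ m := fun hh => n5 (Dvd.dvd.mul_left hh 9)
  have m11 : ¬ 11 ∣ m := fun hh => n11 (Dvd.dvd.mul_left hh 9)
  have hm8 : m ∣ 8 := by
    have hc : Nat.Coprime m 55 := by
      rw [show (55 : ℕ) = 5 * 11 by norm_num]
      apply Nat.Coprime.mul_right
      · exact ((Nat.Prime.coprime_iff_not_dvd Nat.prime_five).2 m5).symm
      · exact ((Nat.Prime.coprime_iff_not_dvd (by norm_num)).2 m11).symm
    exact hc.dvd_of_dvd_mul_right (show m ∣ 8 * 55 from hmd)
  have hmle : m ≤ 8 := Nat.le_of_dvd (by norm_num) hm8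
  have hmpos : 0 < m := Nat.pos_of_dvd_of_pos hm8 (by norm_num)
  interval_cases m <;> first | decide | (exfalso; revert hm8; decide)

/-! ### Sylow subgroups through a given element -/

/-- Sylow 3-subgroups of `G` containing `t ∈ P` are the Sylow 3-subgroups of the centralizer. -/
theorem card_sylow_containing (hG : Cfsg.IsM11 G) {t : G} (P : Sylow 3 G)
    (ht : t ∈ (P : Subgroup G)) :
    Nat.card {Q : Sylow 3 G // t ∈ (Q : Subgroup G)} =
      Nat.card (Sylow 3 (centralizer ({t} : Set G))) := by
  have : Fact (Nat.Prime 3) := ⟨Nat.prime_three⟩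
  have hle : ∀ Q : Sylow 3 G, t ∈ (Q : Subgroup G) →
      (Q : Subgroup G) ≤ centralizer ({t} : Set G) := by
    intro Q hQ x hx
    rw [mem_centralizer_singleton_iff]
    exact congrArg Subtype.val (comm_P hG Q ⟨x, hx⟩ ⟨t, hQ⟩)
  refine Nat.card_congr (Equiv.ofBijective
    (fun Q : {Q : Sylow 3 G // t ∈ (Q : Subgroup G)} => Q.1.subtype (hle Q.1 Q.2)) ⟨?_, ?_⟩)
  · intro Q Q' hQ
    exact Subtype.ext (Sylow.subtype_injective hQ)
  · intro R
    obtain ⟨Q, hQ⟩ := (R.2.map (centralizer ({t} : Set G)).subtype).exists_le_sylow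
    -- `t` lies in `R`
    have htR : (⟨t, by rw [mem_centralizer_singleton_iff]⟩ : centralizer ({t} : Set G)) ∈
        (R : Subgroup (centralizer ({t} : Set G))) := by
      have hcen : (⟨t, by rw [mem_centralizer_singleton_iff]⟩ : centralizer ({t} : Set G)) ∈
          center (centralizer ({t} : Set G)) := by
        rw [mem_center_iff]
        intro x
        apply Subtype.ext
        exact mem_centralizer_singleton_iff.1 x.2
      have hn : (zpowers (⟨t, by rw [mem_centralizer_singleton_iff]⟩ :
          centralizer ({t} : Set G))).Normal := by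
        constructor
        intro y hy x
        have hyc : y ∈ center (centralizer ({t} : Set G)) := (zpowers_le.2 hcen) hy
        rw [mem_center_iff.1 hyc x, mul_inv_cancel_right]
        exact hy
      have hpz : IsPGroup 3 (zpowers (⟨t, by rw [mem_centralizer_singleton_iff]⟩ :
          centralizer ({t} : Set G))) := by
        have h1 : orderOf (⟨t, by rw [mem_centralizer_singleton_iff]⟩ :
            centralizer ({t} : Set G)) ∣ 3 ^ 2 := by
          rw [← orderOf_coe]
          exact orderOf_dvd_of_pow_eq_one (pow_nine hG P ht)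
        rw [Nat.dvd_prime_pow Nat.prime_three] at h1
        obtain ⟨k, -, hk⟩ := h1
        rw [IsPGroup.iff_card]
        exact ⟨k, by rw [Nat.card_zpowers, hk]⟩
      exact (hpz.le_sylow_of_normal R) (mem_zpowers _)
    have htQ : t ∈ (Q : Subgroup G) := hQ ⟨_, htR, rfl⟩
    refine ⟨⟨Q, htQ⟩, ?_⟩
    apply Sylow.ext
    have hRQ : (R : Subgroup (centralizer ({t} : Set G))) ≤
        (Q.subtype (hle Q htQ) : Subgroup (centralizer ({t} : Set G))) := by
      intro x hx
      rw [Sylow.coe_subtype, mem_subgroupOf]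
      exact hQ ⟨x, hx, rfl⟩
    exact R.3 (Q.subtype (hle Q htQ)).2 hRQ

theorem card_containing_cases (hG : Cfsg.IsM11 G) (h : Hyp G) (P : Sylow 3 G)
    (h36 : Nat.card (normalizer ((P : Subgroup G) : Set G)) = 36) {t : G}
    (ht : t ∈ (P : Subgroup G)) (ht1 : t ≠ 1) :
    Nat.card {Q : Sylow 3 G // t ∈ (Q : Subgroup G)} =
      if 36 ≤ Nat.card (centralizer ({t} : Set G)) then 4 else 1 := by
  have : Fact (Nat.Prime 3) := ⟨Nat.prime_three⟩
  rw [card_sylow_containing hG P ht]
  have hle : (P : Subgroup G) ≤ centralizer ({t} : Set G) := by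
    intro x hx
    rw [mem_centralizer_singleton_iff]
    exact congrArg Subtype.val (comm_P hG P ⟨x, hx⟩ ⟨t, ht⟩)
  set R : Sylow 3 (centralizer ({t} : Set G)) := P.subtype hle with hR
  have hRc : Nat.card (R : Subgroup (centralizer ({t} : Set G))) = 9 := by
    rw [← card_P hG P]
    exact Nat.card_congr (subgroupOfEquivOfLe hle).toEquiv
  have hmod := card_sylow_modEq_one 3 (centralizer ({t} : Set G))
  have hdvd := R.card_dvd_index
  have hmul := card_mul_index (R : Subgroup (centralizer ({t} : Set G)))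
  rw [hRc] at hmul
  have hcases := card_centralizer_cases' hG h P t ht ht1
  have hne : 36 ≤ Nat.card (centralizer ({t} : Set G)) →
      Nat.card (Sylow 3 (centralizer ({t} : Set G))) ≠ 1 := by
    intro hge hone
    rw [R.card_eq_index_normalizer, index_eq_one] at hone
    obtain ⟨g, hgN, hg⟩ := exists_inverting hG h P
    have hCN : centralizer ({t} : Set G) < normalizer ((P : Subgroup G) : Set G) := by
      refine lt_of_le_of_ne ?_ ?_
      · intro c hc
        have hcn : (⟨c, hc⟩ : centralizer ({t} : Set G)) ∈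
            normalizer ((R : Subgroup (centralizer ({t} : Set G))) : Set _) := by
          rw [Sylow.coe_coe, hone]; exact mem_top _
        rw [mem_normalizer_iff] at hcn ⊢
        intro x
        constructor
        · intro hx
          have := (hcn ⟨x, hle hx⟩).1 (show (⟨x, hle hx⟩ : centralizer ({t} : Set G)) ∈
            (R : Subgroup _) from hx)
          exact this
        · intro hx
          have hx' : x ∈ centralizer ({t} : Set G) := by
            have h1 : c * x * c⁻¹ ∈ centralizer ({t} : Set G) := hle hx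
            have h2 := mul_mem (mul_mem (inv_mem hc) h1) hc
            have h3 : c⁻¹ * (c * x * c⁻¹) * c = x := by group
            rwa [h3] at h2
          exact (hcn ⟨x, hx'⟩).2 hx
      · intro heq
        rw [← heq, mem_centralizer_singleton_iff] at hgN
        have := hg t ht
        rw [hgN, mul_inv_cancel_right] at this
        exact ne_inv hG h P ht ht1 this
    have hlt : Nat.card (centralizer ({t} : Set G)) <
        Nat.card (normalizer ((P : Subgroup G) : Set G)) := by
      by_contra hh
      push Not at hh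
      exact hCN.ne (Subgroup.eq_of_le_of_card_ge hCN.le hh)
    omega
  set f := Nat.card (Sylow 3 (centralizer ({t} : Set G))) with hf
  unfold Nat.ModEq at hmod
  simp only [Finset.mem_insert, Finset.mem_singleton] at hcases
  rcases hcases with hc | hc | hc | hc
  · have hi : (R : Subgroup (centralizer ({t} : Set G))).index = 1 := by omega
    rw [hi] at hdvd
    rw [hc, if_neg (by norm_num)]
    exact Nat.dvd_one.1 hdvd
  · have hi : (R : Subgroup (centralizer ({t} : Set G))).index = 2 := by omega
    rw [hi] at hdvd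
    rw [hc, if_neg (by norm_num)]
    have := Nat.le_of_dvd (by norm_num) hdvd
    interval_cases f <;> omega
  · have hi : (R : Subgroup (centralizer ({t} : Set G))).index = 4 := by omega
    rw [hi] at hdvd
    have hne' := hne (by omega)
    rw [hc, if_pos (by norm_num)]
    have := Nat.le_of_dvd (by norm_num) hdvd
    interval_cases f <;> omega
  · have hi : (R : Subgroup (centralizer ({t} : Set G))).index = 8 := by omega
    rw [hi] at hdvd
    have hne' := hne (by omega)
    rw [hc, if_pos (by norm_num)]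
    have := Nat.le_of_dvd (by norm_num) hdvd
    interval_cases f <;> omega

open scoped Pointwise in
/-- The Sylow 3-subgroups meeting `P` trivially, as a `P`-set. -/
def disjointSet (P : Sylow 3 G) : SubMulAction (P : Subgroup G) (Sylow 3 G) where
  carrier := {Q | (P : Subgroup G) ⊓ (Q : Subgroup G) = ⊥}
  smul_mem' := by
    intro c Q hQ
    rw [Set.mem_ofPred_eq] at hQ ⊢
    rw [eq_bot_iff] at hQ ⊢
    intro x hx
    rw [mem_inf] at hx
    have hx2 : x ∈ MulAut.conj (c : G) • (Q : Subgroup G) := hx.2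
    rw [mem_pointwise_smul_iff_inv_smul_mem] at hx2
    have hx3 : (c : G)⁻¹ * x * (c : G) ∈ (Q : Subgroup G) := by
      simpa [MulAut.smul_def, ← map_inv] using hx2
    have hx4 : (c : G)⁻¹ * x * (c : G) ∈ (P : Subgroup G) :=
      mul_mem (mul_mem (inv_mem c.2) hx.1) c.2
    have h5 := hQ (mem_inf.2 ⟨hx4, hx3⟩)
    rw [mem_bot] at h5 ⊢
    have h6 : x = (c : G) * ((c : G)⁻¹ * x * (c : G)) * (c : G)⁻¹ := by group
    rw [h6, h5]
    group

theorem nine_dvd_card_disjoint (hG : Cfsg.IsM11 G) (P : Sylow 3 G) :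
    9 ∣ Nat.card {Q : Sylow 3 G // (P : Subgroup G) ⊓ (Q : Subgroup G) = ⊥} := by
  have hfree : ∀ b : disjointSet P, MulAction.stabilizer (P : Subgroup G) b = ⊥ := by
    intro b
    rw [eq_bot_iff]
    intro c hc
    rw [MulAction.mem_stabilizer_iff] at hc
    have h1 : (c : G) • (b : Sylow 3 G) = b := congrArg Subtype.val hc
    rw [Sylow.smul_eq_iff_mem_normalizer] at h1
    have h2 : (c : G) ∈ (P : Subgroup G) ⊓ normalizer ((b : Sylow 3 G) : Set G) := ⟨c.2, h1⟩
    rw [P.2.inf_normalizer_sylow] at h2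
    have h3 : (P : Subgroup G) ⊓ ((b : Sylow 3 G) : Subgroup G) = ⊥ := b.2
    rw [h3, mem_bot] at h2
    rw [mem_bot]
    exact Subtype.ext h2
  have e := MulAction.selfEquivOrbitsQuotientProd hfree
  have hc : Nat.card {Q : Sylow 3 G // (P : Subgroup G) ⊓ (Q : Subgroup G) = ⊥} =
      Nat.card (disjointSet P) := rfl
  rw [hc, Nat.card_congr e, Nat.card_prod, card_P hG P]
  exact Dvd.intro_left _ rfl

theorem count_inter (hG : Cfsg.IsM11 G) (P Q : Sylow 3 G) [Fintype (P : Subgroup G)]
    [DecidablePred fun t : (P : Subgroup G) => t ≠ 1 ∧ (t : G) ∈ (Q : Subgroup G)]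
    [Decidable ((P : Subgroup G) ⊓ (Q : Subgroup G) = ⊥)] [Decidable (Q = P)] :
    (Finset.univ.filter (fun t : (P : Subgroup G) => t ≠ 1 ∧ (t : G) ∈ (Q : Subgroup G))).card +
      2 * (if (P : Subgroup G) ⊓ (Q : Subgroup G) = ⊥ then 1 else 0) =
      2 + 6 * (if Q = P then 1 else 0) := by
  classical
  set D : Subgroup (P : Subgroup G) := (Q : Subgroup G).subgroupOf P with hD
  have h1 : (Finset.univ.filter
      (fun t : (P : Subgroup G) => t ≠ 1 ∧ (t : G) ∈ (Q : Subgroup G))).card + 1 =
      Nat.card D := by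
    have e1 : Nat.card D = (Finset.univ.filter (fun t : (P : Subgroup G) => t ∈ D)).card := by
      rw [← Fintype.card_subtype, ← Nat.card_eq_fintype_card]
    have e2 : Finset.univ.filter
        (fun t : (P : Subgroup G) => t ≠ 1 ∧ (t : G) ∈ (Q : Subgroup G)) =
        (Finset.univ.filter (fun t : (P : Subgroup G) => t ∈ D)).erase 1 := by
      ext t
      simp [hD, mem_subgroupOf]
    rw [e1, e2, Finset.card_erase_add_one]
    simp
  have hbot : D = ⊥ ↔ (P : Subgroup G) ⊓ (Q : Subgroup G) = ⊥ := by
    rw [hD, subgroupOf_eq_bot, disjoint_iff, inf_comm]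
  have htop : D = ⊤ ↔ Q = P := by
    rw [hD, subgroupOf_eq_top]
    constructor
    · intro hle
      apply Sylow.ext
      exact P.3 Q.2 hle
    · rintro rfl
      exact le_rfl
  have hA := card_P hG P
  rcases card_subgroup_cases hA D with hc | hc | hc
  · have hb : D = ⊥ := (card_eq_one).1 hc
    have hb' := hbot.1 hb
    have hne : ¬ Q = P := by
      intro hQP
      rw [hQP, inf_idem] at hb'
      rw [hb', card_bot] at hA
      omega
    rw [if_pos hb', if_neg hne]
    omega
  · have hnb : ¬ ((P : Subgroup G) ⊓ (Q : Subgroup G) = ⊥) := by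
      intro hb
      rw [hbot.2 hb, card_bot] at hc
      omega
    have hne : ¬ Q = P := by
      intro hQP
      rw [htop.2 hQP, card_top, hA] at hc
      omega
    rw [if_neg hnb, if_neg hne]
    omega
  · have ht : D = ⊤ := (card_eq_iff_eq_top D).1 (hc.trans hA.symm)
    have hnb : ¬ ((P : Subgroup G) ⊓ (Q : Subgroup G) = ⊥) := by
      intro hb
      rw [hbot.2 hb, card_bot] at hc
      omega
    rw [if_neg hnb, if_pos (htop.1 ht)]
    omega

theorem count_big' (hG : Cfsg.IsM11 G) (h : Hyp G) (P : Sylow 3 G)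
    (h36 : Nat.card (normalizer ((P : Subgroup G) : Set G)) = 36) :
    Nat.card {t : (P : Subgroup G) //
      t ≠ 1 ∧ 36 ≤ Nat.card (centralizer ({(t : G)} : Set G))} ∈ ({2, 8} : Finset ℕ) := by
  classical
  have : Fact (Nat.Prime 3) := ⟨Nat.prime_three⟩
  have := Fintype.ofFinite (P : Subgroup G)
  have := Fintype.ofFinite (Sylow 3 G)
  -- the number of Sylow subgroups
  have hn : Fintype.card (Sylow 3 G) = 220 := by
    have hidx : Nat.card (normalizer ((P : Subgroup G) : Set G)) * Nat.card (Sylow 3 G) = 7920 := by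
      rw [P.card_eq_index_normalizer, ← hG.2]
      exact card_mul_index _
    rw [h36, Nat.card_eq_fintype_card] at hidx
    omega
  have hP : Fintype.card (P : Subgroup G) = 9 := by
    rw [← Nat.card_eq_fintype_card, card_P hG P]
  -- double counting
  have hdc : ∑ t ∈ Finset.univ.filter (fun t : (P : Subgroup G) => t ≠ 1),
      (Finset.univ.filter (fun Q : Sylow 3 G => (t : G) ∈ (Q : Subgroup G))).card =
      ∑ Q : Sylow 3 G, (Finset.univ.filter
        (fun t : (P : Subgroup G) => t ≠ 1 ∧ (t : G) ∈ (Q : Subgroup G))).card := by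
    calc ∑ t ∈ Finset.univ.filter (fun t : (P : Subgroup G) => t ≠ 1),
        (Finset.univ.filter (fun Q : Sylow 3 G => (t : G) ∈ (Q : Subgroup G))).card
        = ∑ t : (P : Subgroup G), ∑ Q : Sylow 3 G,
            (if t ≠ 1 ∧ (t : G) ∈ (Q : Subgroup G) then 1 else 0) := by
          rw [Finset.sum_filter]
          refine Finset.sum_congr rfl fun t _ => ?_
          split_ifs with h1
          · rw [Finset.card_filter]
            refine Finset.sum_congr rfl fun Q _ => ?_
            simp [h1]
          · simp [h1]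
      _ = ∑ Q : Sylow 3 G, ∑ t : (P : Subgroup G),
            (if t ≠ 1 ∧ (t : G) ∈ (Q : Subgroup G) then 1 else 0) := Finset.sum_comm
      _ = _ := by
          refine Finset.sum_congr rfl fun Q _ => ?_
          rw [Finset.card_filter]
  -- the left hand side
  have hlhs : ∑ t ∈ Finset.univ.filter (fun t : (P : Subgroup G) => t ≠ 1),
      (Finset.univ.filter (fun Q : Sylow 3 G => (t : G) ∈ (Q : Subgroup G))).card =
      8 + 3 * Nat.card {t : (P : Subgroup G) //
      t ≠ 1 ∧ 36 ≤ Nat.card (centralizer ({(t : G)} : Set G))} := by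
    have e1 : ∀ t ∈ Finset.univ.filter (fun t : (P : Subgroup G) => t ≠ 1),
        (Finset.univ.filter (fun Q : Sylow 3 G => (t : G) ∈ (Q : Subgroup G))).card =
        1 + 3 * (if 36 ≤ Nat.card (centralizer ({(t : G)} : Set G)) then 1 else 0) := by
      intro t ht
      rw [Finset.mem_filter] at ht
      have h1 := card_containing_cases hG h P h36 t.2 (fun hh => ht.2 (Subtype.ext hh))
      rw [Nat.card_eq_fintype_card, Fintype.card_subtype] at h1
      rw [h1]
      split_ifs <;> rfl
    rw [Finset.sum_congr rfl e1, Finset.sum_add_distrib, ← Finset.mul_sum]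
    have e2 : ∑ _t ∈ Finset.univ.filter (fun t : (P : Subgroup G) => t ≠ 1), 1 = 8 := by
      rw [Finset.sum_const, smul_eq_mul, mul_one, Finset.filter_ne', Finset.card_erase_of_mem
        (Finset.mem_univ _), Finset.card_univ, hP]
    have e3 : ∑ t ∈ Finset.univ.filter (fun t : (P : Subgroup G) => t ≠ 1),
        (if 36 ≤ Nat.card (centralizer ({(t : G)} : Set G)) then 1 else 0) =
        Nat.card {t : (P : Subgroup G) //
          t ≠ 1 ∧ 36 ≤ Nat.card (centralizer ({(t : G)} : Set G))} := by
      rw [← Finset.card_filter, Finset.filter_filter, Nat.card_eq_fintype_card,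
        Fintype.card_subtype]
    rw [e2, e3]
  -- the right hand side
  have hrhs : ∑ Q : Sylow 3 G, (Finset.univ.filter
        (fun t : (P : Subgroup G) => t ≠ 1 ∧ (t : G) ∈ (Q : Subgroup G))).card +
      2 * Nat.card {Q : Sylow 3 G // (P : Subgroup G) ⊓ (Q : Subgroup G) = ⊥} = 446 := by
    have e1 : Nat.card {Q : Sylow 3 G // (P : Subgroup G) ⊓ (Q : Subgroup G) = ⊥} =
        ∑ Q : Sylow 3 G, (if (P : Subgroup G) ⊓ (Q : Subgroup G) = ⊥ then 1 else 0) := by
      rw [← Finset.card_filter, Nat.card_eq_fintype_card, Fintype.card_subtype]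
    rw [e1, Finset.mul_sum, ← Finset.sum_add_distrib]
    rw [Finset.sum_congr rfl (fun Q _ => count_inter hG P Q), Finset.sum_add_distrib,
      ← Finset.mul_sum, Finset.sum_const, Finset.card_univ, hn]
    have e2 : ∑ Q : Sylow 3 G, (if Q = P then 1 else 0) = 1 := by simp
    rw [e2]
    norm_num
  obtain ⟨k, hk⟩ := nine_dvd_card_disjoint hG P
  rw [hk, ← hdc, hlhs] at hrhs
  have hle : Nat.card {t : (P : Subgroup G) //
      t ≠ 1 ∧ 36 ≤ Nat.card (centralizer ({(t : G)} : Set G))} ≤ 8 := by
    rw [Nat.card_eq_fintype_card, Fintype.card_subtype]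
    have : Finset.univ.filter (fun t : (P : Subgroup G) =>
        t ≠ 1 ∧ 36 ≤ Nat.card (centralizer ({(t : G)} : Set G))) ⊆ Finset.univ.erase 1 := by
      intro t ht
      rw [Finset.mem_filter] at ht
      exact Finset.mem_erase.2 ⟨ht.2.1, Finset.mem_univ _⟩
    refine (Finset.card_le_card this).trans ?_
    rw [Finset.card_erase_of_mem (Finset.mem_univ _), Finset.card_univ, hP]
  simp only [Finset.mem_insert, Finset.mem_singleton]
  omega

end main

/-! ### The interface -/

section interface

variable {G : Type*} [Group G] [Finite G] (hG : Cfsg.IsM11 G)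
  (h2 : ∀ u : G, orderOf u = 2 → Nat.card (Subgroup.centralizer ({u} : Set G)) = 48)
  (h5 : ∀ y : G, orderOf y = 5 → Nat.card (Subgroup.centralizer ({y} : Set G)) = 5)
  (h11 : ∀ x : G, orderOf x = 11 → Nat.card (Subgroup.centralizer ({x} : Set G)) = 11)
  (P : Sylow 3 G)

include hG h2 h5 h11

theorem normalizer_card :
    Nat.card (Subgroup.normalizer ((P : Subgroup G) : Set G)) = 144 ∨
    Nat.card (Subgroup.normalizer ((P : Subgroup G) : Set G)) = 36 :=
  normalizer_card' hG ⟨h2, h5, h11⟩ P

theorem centralizer_eq :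
    Subgroup.centralizer ((P : Subgroup G) : Set G) = (P : Subgroup G) :=
  centralizer_P hG ⟨h2, h5, h11⟩ P

theorem pow_three : ∀ t ∈ (P : Subgroup G), t ^ 3 = 1 :=
  pow_three' hG ⟨h2, h5, h11⟩ P

theorem isConj_inv : ∀ t ∈ (P : Subgroup G), IsConj t t⁻¹ :=
  isConj_inv' hG ⟨h2, h5, h11⟩ P

theorem card_centralizer_cases : ∀ t ∈ (P : Subgroup G), t ≠ 1 →
    Nat.card (Subgroup.centralizer ({t} : Set G)) ∈ ({9, 18, 36, 72} : Finset ℕ) :=
  card_centralizer_cases' hG ⟨h2, h5, h11⟩ P

theorem count_big (h36 : Nat.card (Subgroup.normalizer ((P : Subgroup G) : Set G)) = 36) :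
    Nat.card {t : (P : Subgroup G) //
      t ≠ 1 ∧ 36 ≤ Nat.card (Subgroup.centralizer ({(t : G)} : Set G))} ∈
      ({2, 8} : Finset ℕ) :=
  count_big' hG ⟨h2, h5, h11⟩ P h36

end interface

end Cfsg.Agent.SporadicA.M11Three
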