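import Mathlib
import Cfsg.Agent.SporadicA.M11Cent
import Cfsg.Agent.SporadicA.M11Sylow
import Cfsg.Agent.SporadicA.M11Three

/-!
# Facts about simple groups of order 7920

* `card_centralizer_two` : centralizers of involutions have order 48.
* `isConj_involutions` : all involutions are conjugate.
* `card_centralizer_five`, `isConj_five`.
* `exists_caseC` : the seven characters of degrees 1, 10, 10, 10, 45, 16, 16 with their values at
  involutions.
-/

set_option autoImplicit false

namespace Cfsg.Agent.SporadicA.M11Facts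

open Cfsg Cfsg.Agent.Characters.Core Cfsg.Agent.SporadicA.M11CharBasic
  Cfsg.Agent.SporadicA.M11CharSimple Cfsg.Agent.SporadicA.M11Block
  Cfsg.Agent.SporadicA.M11Rel Cfsg.Agent.SporadicA.M11Arith Cfsg.Agent.SporadicA.M11Inv
  Cfsg.Agent.SporadicA.M11Cent
open scoped ComplexConjugate

universe u
variable {G : Type u} [Group G] [Finite G]

theorem exists_orderOf_eleven (hG : Cfsg.IsM11 G) : ∃ x : G, orderOf x = 11 := by
  have : Fact (Nat.Prime 11) := ⟨by norm_num⟩
  exact exists_prime_orderOf_dvd_card' 11 (by rw [hG.2]; norm_num)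

theorem not_five_dvd_centralizer (hG : Cfsg.IsM11 G) {u : G} (hu : orderOf u = 2) :
    ¬ 5 ∣ Nat.card (Subgroup.centralizer ({u} : Set G)) := by
  have := hG.1
  obtain ⟨x, hx⟩ := exists_orderOf_eleven hG
  exact not_five_dvd hG.2 hx (M11Sylow.card_centralizer_eleven hG hx)
    (M11Sylow.isConj_pow_three hG hx) (M11Sylow.not_isConj_inv hG hx) hu

theorem card_centralizer_five (hG : Cfsg.IsM11 G) {y : G} (hy : orderOf y = 5) :
    Nat.card (Subgroup.centralizer ({y} : Set G)) = 5 :=
  (M11Sylow.five_part hG (fun _ hu => not_five_dvd_centralizer hG hu) hy).1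

theorem isConj_five (hG : Cfsg.IsM11 G) {y : G} (hy : orderOf y = 5) : IsConj y (y ^ 2) :=
  (M11Sylow.five_part hG (fun _ hu => not_five_dvd_centralizer hG hu) hy).2

/-- The seven characters. -/
theorem exists_caseC (hG : Cfsg.IsM11 G) : ∃ x : G, orderOf x = 11 ∧
    ∃ v : Fin 7 → IrrCharacter G,
      IsB0 x v ![1, 10, 10, 10, 45, 16, 16] ![2, -2, -2, -2, 2, -1, -1] := by
  have := hG.1
  obtain ⟨x, hx⟩ := exists_orderOf_eleven hG
  have : Fact (Nat.Prime 5) := ⟨by norm_num⟩
  obtain ⟨y, hy⟩ := exists_prime_orderOf_dvd_card' (G := G) 5 (by rw [hG.2]; norm_num)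
  refine ⟨x, hx, ?_⟩
  obtain ⟨v, hB | hB⟩ := exists_B0 hG.2 (by rw [← hx]; exact pow_orderOf_eq_one x)
    (M11Sylow.card_centralizer_eleven hG hx)
    (M11Sylow.isConj_pow_three hG hx) (M11Sylow.not_isConj_inv hG hx)
  · exact ⟨v, hB⟩
  · exact (not_caseB hy (isConj_five hG hy) (card_centralizer_five hG hy) hB).elim

/-- All involutions are conjugate. -/
theorem isConj_involutions (hG : Cfsg.IsM11 G) {u u' : G} (hu : orderOf u = 2)
    (hu' : orderOf u' = 2) : IsConj u u' := by
  have := hG.1
  obtain ⟨x, hx, v, hB⟩ := exists_caseC hG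
  exact isConj_of_caseC hG.2 hx (M11Sylow.not_isConj_inv hG hx)
    (fun z hz => M11Sylow.card_centralizer_eleven hG hz) hB hu hu'

theorem exists_central_involution (hcard : Nat.card G = 7920) :
    ∃ z : G, orderOf z = 2 ∧ 16 ∣ Nat.card (Subgroup.centralizer ({z} : Set G)) := by
  have : Fact (Nat.Prime 2) := ⟨Nat.prime_two⟩
  obtain ⟨P⟩ : Nonempty (Sylow 2 G) := inferInstance
  have hP : Nat.card (P : Subgroup G) = 16 := by
    have h : Nat.card (P : Subgroup G) = 2 ^ (Nat.card G).factorization 2 := P.card_eq_multiplicity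
    rw [h, hcard]
    have h9 : (7920 : ℕ) = 2 ^ 4 * 495 := by norm_num
    have : (7920 : ℕ).factorization 2 = 4 := by
      rw [h9, Nat.factorization_mul (by norm_num) (by norm_num)]
      simp only [Finsupp.add_apply]
      rw [Nat.Prime.factorization_pow Nat.prime_two, Finsupp.single_eq_same,
        Nat.factorization_eq_zero_of_not_dvd (by norm_num)]
    rw [this]
    norm_num
  have hnt : Nontrivial (P : Subgroup G) := by
    rw [← Finite.one_lt_card_iff_nontrivial, hP]
    norm_num
  have hcen : Nontrivial (Subgroup.center (P : Subgroup G)) := P.isPGroup'.center_nontrivial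
  have hdvd : 2 ∣ Nat.card (Subgroup.center (P : Subgroup G)) := by
    have h1 : Nat.card (Subgroup.center (P : Subgroup G)) ∣ 2 ^ 4 := by
      have := Subgroup.card_subgroup_dvd_card (Subgroup.center (P : Subgroup G))
      rw [hP] at this
      exact this
    rw [Nat.dvd_prime_pow Nat.prime_two] at h1
    obtain ⟨k, -, hk⟩ := h1
    have h2 : 1 < Nat.card (Subgroup.center (P : Subgroup G)) :=
      Finite.one_lt_card_iff_nontrivial.2 hcen
    rw [hk] at h2 ⊢
    have : k ≠ 0 := by rintro rfl; norm_num at h2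
    exact dvd_pow_self 2 this
  obtain ⟨⟨⟨z, hzP⟩, hzc⟩, hz⟩ := exists_prime_orderOf_dvd_card'
    (G := Subgroup.center (P : Subgroup G)) 2 hdvd
  refine ⟨z, ?_, ?_⟩
  · rw [← hz, ← Subgroup.orderOf_coe, ← Subgroup.orderOf_coe]
  · rw [← hP]
    apply Subgroup.card_dvd_of_le
    intro g hg
    rw [Subgroup.mem_centralizer_singleton_iff]
    rw [Subgroup.mem_center_iff] at hzc
    exact congrArg Subtype.val (hzc ⟨g, hg⟩)

/-- Centralizers of involutions have order 48. -/
theorem card_centralizer_two (hG : Cfsg.IsM11 G) {u : G} (hu : orderOf u = 2) :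
    Nat.card (Subgroup.centralizer ({u} : Set G)) = 48 := by
  classical
  have := hG.1
  have := finite_irr (G := G)
  have := Fintype.ofFinite (IrrCharacter G)
  obtain ⟨x, hx, v, hB⟩ := exists_caseC hG
  have hinv := M11Sylow.not_isConj_inv hG hx
  have hdvd : ∀ g : G, orderOf g = 2 → Nat.card (Subgroup.centralizer ({g} : Set G)) ∣ 48 :=
    fun g hg => card_dvd_48 hG.2 hx hinv (fun z hz => M11Sylow.card_centralizer_eleven hG hz) hB hg
  obtain ⟨z, hz, h16⟩ := exists_central_involution hG.2
  obtain ⟨w, hw, hw', hw1⟩ := exists_inv_values hG.2 hz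
  obtain ⟨a0, a4, a5, a6, a123⟩ := values_C hG.2 hx hinv hB hz hw hw' hw1
  have e1 := col_conj hw hw (IsConj.refl z)
  rw [sum_split hB.inj, Fin.sum_univ_seven, a0, a4, a5, a6] at e1
  have hR : 0 ≤ ∑ χ ∈ others v, w χ * w χ := Finset.sum_nonneg fun _ _ => mul_self_nonneg _
  have h22 : 22 ≤ Nat.card (Subgroup.centralizer ({z} : Set G)) := by
    have : (22 : ℤ) ≤ Nat.card (Subgroup.centralizer ({z} : Set G)) := by
      rcases a123 with ⟨h1, h2, h3⟩ | ⟨h1, h2, h3⟩ | ⟨h1, h2, h3⟩ <;> rw [h1, h2, h3] at e1 <;>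
        linarith
    exact_mod_cast this
  have hz48 : Nat.card (Subgroup.centralizer ({z} : Set G)) = 48 := by
    obtain ⟨k, hk⟩ := h16
    have h2 := hdvd z hz
    rw [hk] at h2 h22 ⊢
    have h3 : k ∣ 3 := by
      have : 16 * k ∣ 16 * 3 := h2
      exact Nat.dvd_of_mul_dvd_mul_left (by norm_num) this
    rcases (Nat.dvd_prime (by norm_num : Nat.Prime 3)).1 h3 with rfl | rfl
    · omega
    · rfl
  -- transfer along conjugacy
  have e2 := col_conj hw hw (IsConj.refl z)
  have hcu : ∀ χ : IrrCharacter G, (χ : G → ℂ) u = w χ := by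
    intro χ
    rw [classFunction_apply_eq (isIrr_isClassFunction χ.2) (isConj_involutions hG hu hz), hw]
  have e3 := col_conj hcu hcu (IsConj.refl u)
  rw [e2, hz48] at e3
  exact_mod_cast e3.symm

end Cfsg.Agent.SporadicA.M11Facts
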