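import Mathlib
import Cfsg.Agent.SporadicA.M11Facts

/-!
# Elements of order 3 and Sylow 3-subgroups in simple groups of order 7920
-/

set_option autoImplicit false

namespace Cfsg.Agent.SporadicA.M11Three2

open Cfsg Cfsg.Agent.Characters.Core Cfsg.Agent.SporadicA.M11CharBasic
  Cfsg.Agent.SporadicA.M11CharSimple Cfsg.Agent.SporadicA.M11Block
  Cfsg.Agent.SporadicA.M11Rel Cfsg.Agent.SporadicA.M11Arith Cfsg.Agent.SporadicA.M11Inv
  Cfsg.Agent.SporadicA.M11Cent Cfsg.Agent.SporadicA.M11Facts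
open scoped ComplexConjugate

universe u
variable {G : Type u} [Group G]

theorem isB0_perm {x : G} {v : Fin 7 → IrrCharacter G} {deg : Fin 7 → ℕ} {wt : Fin 7 → ℤ}
    (hB : IsB0 x v deg wt) (σ : Equiv.Perm (Fin 7)) (h0 : σ 0 = 0) (h5 : σ 5 = 5) (h6 : σ 6 = 6)
    (hd : ∀ i, deg (σ i) = deg i) (hw : ∀ i, wt (σ i) = wt i) : IsB0 x (v ∘ σ) deg wt where
  inj := hB.inj.comp σ.injective
  one := by rw [Function.comp_apply, h0]; exact hB.one
  degs i := by rw [Function.comp_apply, hB.degs, hd]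
  conj65 g := by rw [Function.comp_apply, Function.comp_apply, h5, h6]; exact hB.conj65 g
  wts i := by rw [Function.comp_apply, hB.wts, hw]
  rest χ hχ := hB.rest χ fun i h => hχ (σ.symm i) (by
    rw [Function.comp_apply, Equiv.apply_symm_apply]; exact h)

/-- The seven characters, ordered so that `v 1` has value `2` at involutions. -/
theorem exists_normalized [Finite G] (hG : Cfsg.IsM11 G) : ∃ x : G, orderOf x = 11 ∧
    ∃ v : Fin 7 → IrrCharacter G,
      IsB0 x v ![1, 10, 10, 10, 45, 16, 16] ![2, -2, -2, -2, 2, -1, -1] ∧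
      ∀ u : G, orderOf u = 2 → (v 1 : G → ℂ) u = 2 ∧ (v 2 : G → ℂ) u = -2 ∧
        (v 3 : G → ℂ) u = -2 ∧ (v 4 : G → ℂ) u = -3 ∧ (v 5 : G → ℂ) u = 0 ∧
        (v 6 : G → ℂ) u = 0 := by
  have := hG.1
  obtain ⟨x, hx, v, hB⟩ := exists_caseC hG
  have hinv := M11Sylow.not_isConj_inv hG hx
  obtain ⟨z, hz, -⟩ := exists_central_involution hG.2
  obtain ⟨w, hw, hw', hw1⟩ := exists_inv_values hG.2 hz
  obtain ⟨a0, a4, a5, a6, a123⟩ := values_C hG.2 hx hinv hB hz hw hw' hw1
  have key : ∀ (χ : IrrCharacter G) (u : G), orderOf u = 2 → (χ : G → ℂ) u = w χ := by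
    intro χ u hu
    rw [classFunction_apply_eq (isIrr_isClassFunction χ.2) (isConj_involutions hG hu hz), hw]
  refine ⟨x, hx, ?_⟩
  rcases a123 with ⟨h1, h2, h3⟩ | ⟨h1, h2, h3⟩ | ⟨h1, h2, h3⟩
  · refine ⟨v, hB, fun u hu => ?_⟩
    rw [key _ u hu, key _ u hu, key _ u hu, key _ u hu, key _ u hu, key _ u hu, h1, h2, h3, a4, a5,
      a6]
    norm_num
  · refine ⟨v ∘ Equiv.swap 1 2, isB0_perm hB _ (by decide) (by decide) (by decide) (by decide)
      (by decide), fun u hu => ?_⟩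
    rw [Function.comp_apply, Function.comp_apply, Function.comp_apply, Function.comp_apply,
      Function.comp_apply, Function.comp_apply,
      show Equiv.swap (1 : Fin 7) 2 1 = 2 by decide, show Equiv.swap (1 : Fin 7) 2 2 = 1 by decide,
      show Equiv.swap (1 : Fin 7) 2 3 = 3 by decide, show Equiv.swap (1 : Fin 7) 2 4 = 4 by decide,
      show Equiv.swap (1 : Fin 7) 2 5 = 5 by decide, show Equiv.swap (1 : Fin 7) 2 6 = 6 by decide,
      key _ u hu, key _ u hu, key _ u hu, key _ u hu, key _ u hu, key _ u hu, h1, h2, h3, a4, a5,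
      a6]
    norm_num
  · refine ⟨v ∘ Equiv.swap 1 3, isB0_perm hB _ (by decide) (by decide) (by decide) (by decide)
      (by decide), fun u hu => ?_⟩
    rw [Function.comp_apply, Function.comp_apply, Function.comp_apply, Function.comp_apply,
      Function.comp_apply, Function.comp_apply,
      show Equiv.swap (1 : Fin 7) 3 1 = 3 by decide, show Equiv.swap (1 : Fin 7) 3 2 = 2 by decide,
      show Equiv.swap (1 : Fin 7) 3 3 = 1 by decide, show Equiv.swap (1 : Fin 7) 3 4 = 4 by decide,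
      show Equiv.swap (1 : Fin 7) 3 5 = 5 by decide, show Equiv.swap (1 : Fin 7) 3 6 = 6 by decide,
      key _ u hu, key _ u hu, key _ u hu, key _ u hu, key _ u hu, key _ u hu, h1, h2, h3, a4, a5,
      a6]
    norm_num

set_option maxHeartbeats 1000000 in
/-- Values at a real element of order 3. -/
theorem three_values [Finite G] (hG : Cfsg.IsM11 G) {x : G} (hx : orderOf x = 11)
    {v : Fin 7 → IrrCharacter G}
    (hB : IsB0 x v ![1, 10, 10, 10, 45, 16, 16] ![2, -2, -2, -2, 2, -1, -1])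
    (hinvol : ∀ u : G, orderOf u = 2 → (v 1 : G → ℂ) u = 2 ∧ (v 2 : G → ℂ) u = -2 ∧
        (v 3 : G → ℂ) u = -2 ∧ (v 4 : G → ℂ) u = -3 ∧ (v 5 : G → ℂ) u = 0 ∧
        (v 6 : G → ℂ) u = 0) {t : G} (ht : orderOf t = 3) (htinv : IsConj t t⁻¹)
    (hN : Nat.card (Subgroup.centralizer ({t} : Set G)) ∈ ({9, 18, 36, 72} : Finset ℕ)) :
    ∃ a e : ℤ, (v 1 : G → ℂ) t = a ∧ (v 5 : G → ℂ) t = e ∧
      ((Nat.card (Subgroup.centralizer ({t} : Set G)) = 18 ∧ a = 1 ∧ e = -2) ∨
       (Nat.card (Subgroup.centralizer ({t} : Set G)) = 36 ∧ a = 4 ∧ e = -2) ∨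
       (Nat.card (Subgroup.centralizer ({t} : Set G)) = 72 ∧ a = 1 ∧ e = 4) ∨
       (Nat.card (Subgroup.centralizer ({t} : Set G)) = 72 ∧ a = 4 ∧ e = -2)) := by
  classical
  have := hG.1
  have := finite_irr (G := G)
  have := Fintype.ofFinite (IrrCharacter G)
  have ht3 : t ^ 3 = 1 := by rw [← ht]; exact pow_orderOf_eq_one t
  have hall : ∀ k : ℕ, 0 < k → k < 3 → IsConj t (t ^ k) := by
    intro k h0 h3
    interval_cases k
    · rw [pow_one]
    · have : t ^ 2 = t⁻¹ := by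
        rw [eq_inv_iff_mul_eq_one, ← pow_succ, ht3]
      rw [this]; exact htinv
  have h := fun χ : IrrCharacter G => rational_values (isIrr_isCharacter χ.2)
    (p := 3) (by norm_num) ht3 hall
  choose n w hn hw hmod using h
  have hv0 : v 0 = triv G := Subtype.ext hB.one
  have hw0 : w (v 0) = 1 := by
    have := hw (v 0)
    rw [hB.one, Pi.one_apply] at this
    exact_mod_cast this.symm
  have hw65 : w (v 6) = w (v 5) := by
    have h1 := hB.conj65 t
    rw [hw, hw] at h1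
    have : ((w (v 6) : ℤ) : ℂ) = (w (v 5) : ℤ) := by simpa using h1
    exact_mod_cast this
  obtain ⟨u, hu, -⟩ := exists_central_involution hG.2
  obtain ⟨w2, hw2, -, -⟩ := exists_inv_values hG.2 hu
  obtain ⟨i1, i2, i3, i4, i5, i6⟩ := hinvol u hu
  have j0 : w2 (v 0) = 1 := by
    have := hw2 (v 0)
    rw [hB.one, Pi.one_apply] at this
    exact_mod_cast this.symm
  have j1 : w2 (v 1) = 2 := by rw [hw2] at i1; exact_mod_cast i1
  have j2 : w2 (v 2) = -2 := by rw [hw2] at i2; exact_mod_cast i2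
  have j3 : w2 (v 3) = -2 := by rw [hw2] at i3; exact_mod_cast i3
  have j4 : w2 (v 4) = -3 := by rw [hw2] at i4; exact_mod_cast i4
  have j5 : w2 (v 5) = 0 := by rw [hw2] at i5; exact_mod_cast i5
  have j6 : w2 (v 6) = 0 := by rw [hw2] at i6; exact_mod_cast i6
  -- degrees
  have m0 : n (v 0) = 1 := by exact_mod_cast (hn (v 0)).symm.trans (hB.degs 0)
  have m1 : n (v 1) = 10 := by exact_mod_cast (hn (v 1)).symm.trans (hB.degs 1)
  have m2 : n (v 2) = 10 := by exact_mod_cast (hn (v 2)).symm.trans (hB.degs 2)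
  have m3 : n (v 3) = 10 := by exact_mod_cast (hn (v 3)).symm.trans (hB.degs 3)
  have m4 : n (v 4) = 45 := by exact_mod_cast (hn (v 4)).symm.trans (hB.degs 4)
  have m5 : n (v 5) = 16 := by exact_mod_cast (hn (v 5)).symm.trans (hB.degs 5)
  have m6 : n (v 6) = 16 := by exact_mod_cast (hn (v 6)).symm.trans (hB.degs 6)
  have hnz : ∀ χ : IrrCharacter G, (χ : G → ℂ) 1 = ((n χ : ℤ) : ℂ) := fun χ => by
    rw [hn]; simp
  -- linear relation
  have hlin := rel_linear hB (g := t) (not_isConj_of_orderOf (by rw [ht, hx]; norm_num))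
    (not_isConj_of_orderOf (by rw [orderOf_inv, ht, hx]; norm_num))
  simp only [hw] at hlin
  rw [Fin.sum_univ_seven] at hlin
  simp only [Matrix.cons_val_zero, Matrix.cons_val_one, Matrix.cons_val] at hlin
  rw [hw0, hw65] at hlin
  have hlin' : 1 - w (v 1) - w (v 2) - w (v 3) + w (v 4) - w (v 5) = 0 := by
    have : ((1 - w (v 1) - w (v 2) - w (v 3) + w (v 4) - w (v 5) : ℤ) : ℂ) = (0 : ℤ) := by
      push_cast at hlin ⊢
      linear_combination (1 / 2) * hlin
    exact_mod_cast this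
  -- quadratic relation
  have hreal : ∀ χ : IrrCharacter G, conj ((χ : G → ℂ) t) = (χ : G → ℂ) t := by
    intro χ; rw [hw]; simp
  have hreal2 : ∀ χ : IrrCharacter G, conj ((χ : G → ℂ) u) = (χ : G → ℂ) u := by
    intro χ; rw [hw2]; simp
  have hquad := rel_quad hB hreal2 hreal
  have hiu : (Subgroup.centralizer ({u} : Set G)).index = 165 := by
    have h1 := card_mul_index' hG.2 u
    rw [card_centralizer_two hG hu] at h1
    omega
  have hit := card_mul_index' hG.2 t
  set N := Nat.card (Subgroup.centralizer ({t} : Set G)) with hNdef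
  set I := (Subgroup.centralizer ({t} : Set G)).index with hI
  rw [hiu, hG.2] at hquad
  simp only [hw, hw2] at hquad
  rw [Fin.sum_univ_seven] at hquad
  simp only [Matrix.cons_val_zero, Matrix.cons_val_one, Matrix.cons_val] at hquad
  rw [hw0, hw65, j0, j1, j2, j3, j4, j5, j6] at hquad
  set K := Nat.card {p : G × G // IsConj u p.1 ∧ IsConj t p.2 ∧ p.1 * p.2 = x} with hK
  have hKN : (N : ℤ) * K = 11 * (15 - 3 * (w (v 1) - w (v 2) - w (v 3)) - w (v 4)) := by
    have e1 : ((N : ℂ) * I) = 7920 := by exact_mod_cast hit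
    have : (((N : ℤ) * K : ℤ) : ℂ) =
        ((11 * (15 - 3 * (w (v 1) - w (v 2) - w (v 3)) - w (v 4)) : ℤ) : ℂ) := by
      push_cast at hquad ⊢
      linear_combination ((N : ℂ) / 2) * hquad + ((15 - 3 * ((w (v 1) : ℂ) - w (v 2) - w (v 3)) -
        w (v 4)) / 720) * e1
    exact_mod_cast this
  have hN4 : (N : ℤ) = 9 ∨ (N : ℤ) = 18 ∨ (N : ℤ) = 36 ∨ (N : ℤ) = 72 := by
    simp only [Finset.mem_insert, Finset.mem_singleton] at hN
    omega
  have hdvd : (N : ℤ) ∣ 15 - 3 * (w (v 1) - w (v 2) - w (v 3)) - w (v 4) := by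
    have h1 : (N : ℤ) ∣ 11 * (15 - 3 * (w (v 1) - w (v 2) - w (v 3)) - w (v 4)) := ⟨K, hKN.symm⟩
    refine IsCoprime.dvd_of_dvd_mul_left ?_ h1
    rcases hN4 with h | h | h | h <;> rw [h] <;> norm_num
  -- column relations
  have e1 := col_conj hw hw (IsConj.refl t)
  have e2 := col_conj hw2 hw2 (IsConj.refl u)
  have e3 := col_not_conj hw2 hw (not_isConj_of_orderOf (by rw [hu, ht]; norm_num))
  have e6 := col_conj hnz hnz (IsConj.refl 1)
  have hc1 : Nat.card (Subgroup.centralizer ({1} : Set G)) = 7920 := by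
    rw [Subgroup.centralizer_eq_top_iff_subset.2 (by
      rw [Set.singleton_subset_iff]; exact Subgroup.one_mem _), Subgroup.card_top, hG.2]
  rw [sum_split hB.inj, Fin.sum_univ_seven] at e1 e2 e3 e6
  rw [hw0, hw65, ← hNdef] at e1
  rw [j0, j1, j2, j3, j4, j5, j6, card_centralizer_two hG hu] at e2
  rw [j0, j1, j2, j3, j4, j5, j6, hw0] at e3
  rw [m0, m1, m2, m3, m4, m5, m6, hc1] at e6
  have g2 : ∑ χ ∈ others v, w2 χ * w2 χ = 26 := by push_cast at e2; linarith
  have g6 : ∑ χ ∈ others v, (n χ : ℤ) * n χ = 5082 := by push_cast at e6; linarith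
  have g1pos : 1 ≤ ∑ χ ∈ others v, w χ * w χ := by
    by_contra hcon
    have h0 : ∑ χ ∈ others v, w χ * w χ = 0 := by
      have : 0 ≤ ∑ χ ∈ others v, w χ * w χ := Finset.sum_nonneg fun _ _ => mul_self_nonneg _
      omega
    have h1 := (Finset.sum_eq_zero_iff_of_nonneg (fun i _ => mul_self_nonneg (w i))).1 h0
    have h2 : (9 : ℤ) ∣ ∑ χ ∈ others v, (n χ : ℤ) * n χ := by
      apply Finset.dvd_sum
      intro χ hχ
      have h3 := mul_self_eq_zero.1 (h1 χ hχ)
      have h4 := hmod χ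
      rw [h3, sub_zero] at h4
      obtain ⟨q, hq⟩ := h4
      exact ⟨q * q, by rw [hq]; push_cast; ring⟩
    rw [g6] at h2
    norm_num at h2
  have hCS := Finset.sum_mul_sq_le_sq_mul_sq (others v) w2 w
  have k1 : ∑ χ ∈ others v, w2 χ * w χ =
      -(1 + 2 * (w (v 1) - w (v 2) - w (v 3)) - 3 * w (v 4)) := by linarith
  have k2 : ∑ χ ∈ others v, w2 χ ^ 2 = 26 := by
    simp only [pow_two]; exact g2
  have k3 : ∑ χ ∈ others v, w χ ^ 2 = N - (1 + w (v 1) * w (v 1) + w (v 2) * w (v 2) +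
      w (v 3) * w (v 3) + w (v 4) * w (v 4) + 2 * (w (v 5) * w (v 5))) := by
    simp only [pow_two]; linarith
  rw [k1, k2, k3, neg_sq, pow_two] at hCS
  have d1 := hmod (v 1)
  have d2 := hmod (v 2)
  have d3 := hmod (v 3)
  have d4 := hmod (v 4)
  rw [m1] at d1
  rw [m2] at d2
  rw [m3] at d3
  rw [m4] at d4
  have r := three (N := (N : ℤ)) (a := w (v 1)) (b := w (v 2)) (c := w (v 3)) (d := w (v 4))
    (e := w (v 5)) hN4 (by exact_mod_cast d1) (by exact_mod_cast d2) (by exact_mod_cast d3)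
    (by exact_mod_cast d4) hlin' (by linarith) hdvd hCS
  refine ⟨w (v 1), w (v 5), hw _, hw _, ?_⟩
  obtain ⟨r1, r2, r3, r4⟩ := r
  rcases hN4 with h | h | h | h
  · exact absurd h r1
  · exact Or.inl ⟨by exact_mod_cast h, r2 h⟩
  · exact Or.inr (Or.inl ⟨by exact_mod_cast h, r3 h⟩)
  · rcases r4 h with h' | h'
    · exact Or.inr (Or.inr (Or.inl ⟨by exact_mod_cast h, h'⟩))
    · exact Or.inr (Or.inr (Or.inr ⟨by exact_mod_cast h, h'⟩))

end Cfsg.Agent.SporadicA.M11Three2
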