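import Mathlib
import Cfsg.Agent.SporadicA.M11Three2

/-!
# Normalizers of Sylow 3-subgroups in simple groups of order 7920
-/

set_option autoImplicit false

namespace Cfsg.Agent.SporadicA.M11Norm3

open Cfsg Cfsg.Agent.Characters.Core Cfsg.Agent.SporadicA.M11Block
  Cfsg.Agent.SporadicA.M11Facts Cfsg.Agent.SporadicA.M11Three2
open scoped ComplexConjugate

universe u
variable {G : Type u} [Group G]

/-- The sum of a character over a finite subgroup is a multiple of its order. -/
theorem exists_sum_eq [Finite G] {χ : G → ℂ} (hχ : IsCharacter G χ) (H : Subgroup G)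
    [Fintype H] : ∃ m : ℕ, ∑ h : H, χ h = (Nat.card H : ℂ) * m := by
  have h1 : IsCharacter H (fun h : H => χ h) := isCharacter_comp H.subtype hχ
  obtain ⟨m, hm⟩ := classInner_isNat h1 (isCharacter_one (G := H))
  refine ⟨m, ?_⟩
  rw [← hm, classInner_def, ← mul_assoc, mul_inv_cancel₀ card_ne_zero_complex, one_mul]
  exact Finset.sum_congr rfl fun h _ => by simp

theorem card_normalizer_three [Finite G] (hG : Cfsg.IsM11 G) (P : Sylow 3 G) :
    Nat.card (Subgroup.normalizer ((P : Subgroup G) : Set G)) = 144 := by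
  classical
  have h2 : ∀ u : G, orderOf u = 2 → Nat.card (Subgroup.centralizer ({u} : Set G)) = 48 :=
    fun u hu => card_centralizer_two hG hu
  have h5 : ∀ y : G, orderOf y = 5 → Nat.card (Subgroup.centralizer ({y} : Set G)) = 5 :=
    fun y hy => card_centralizer_five hG hy
  have h11 : ∀ x : G, orderOf x = 11 → Nat.card (Subgroup.centralizer ({x} : Set G)) = 11 :=
    fun x hx => M11Sylow.card_centralizer_eleven hG hx
  rcases M11Three.normalizer_card hG h2 h5 h11 P with h | h36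
  · exact h
  exfalso
  have hcount := M11Three.count_big hG h2 h5 h11 P h36
  obtain ⟨x, hx, v, hB, hinvol⟩ := exists_normalized hG
  have := Fintype.ofFinite (P : Subgroup G)
  -- values at the elements of P
  have hval : ∀ t : (P : Subgroup G), t ≠ 1 → ∃ a e : ℤ, (v 1 : G → ℂ) t = a ∧
      (v 5 : G → ℂ) t = e ∧
      ((Nat.card (Subgroup.centralizer ({(t : G)} : Set G)) = 18 ∧ a = 1 ∧ e = -2) ∨
       (Nat.card (Subgroup.centralizer ({(t : G)} : Set G)) = 36 ∧ a = 4 ∧ e = -2) ∨
       (Nat.card (Subgroup.centralizer ({(t : G)} : Set G)) = 72 ∧ a = 1 ∧ e = 4) ∨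
       (Nat.card (Subgroup.centralizer ({(t : G)} : Set G)) = 72 ∧ a = 4 ∧ e = -2)) := by
    intro t ht1
    have ht1' : (t : G) ≠ 1 := fun h => ht1 (Subtype.ext h)
    apply three_values hG hx hB hinvol
    · exact orderOf_eq_prime (M11Three.pow_three hG h2 h5 h11 P t t.2) ht1'
    · exact M11Three.isConj_inv hG h2 h5 h11 P t t.2
    · exact M11Three.card_centralizer_cases hG h2 h5 h11 P t t.2 ht1'
  choose! a e ha he hcase using hval
  have hP9 : Nat.card (P : Subgroup G) = 9 := M11Three.card_P hG P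
  set U : Finset (P : Subgroup G) := Finset.univ.erase 1 with hU
  have hUne : ∀ t ∈ U, t ≠ 1 := fun t ht => Finset.ne_of_mem_erase ht
  have hU8 : U.card = 8 := by
    rw [hU, Finset.card_erase_of_mem (Finset.mem_univ _), Finset.card_univ,
      ← Nat.card_eq_fintype_card, hP9]
  -- counts
  have hbig : Nat.card {t : (P : Subgroup G) //
      t ≠ 1 ∧ 36 ≤ Nat.card (Subgroup.centralizer ({(t : G)} : Set G))} =
      (U.filter (fun t => a t = 4)).card + (U.filter (fun t => e t = 4)).card := by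
    rw [Nat.card_eq_fintype_card, Fintype.card_subtype, Finset.card_filter, Finset.card_filter,
      Finset.card_filter, ← Finset.sum_add_distrib, ← Finset.sum_erase_add _ _ (Finset.mem_univ 1)]
    simp only [ne_eq, not_true_eq_false, false_and, if_false, add_zero]
    refine Finset.sum_congr rfl fun t ht => ?_
    have h1 := hUne t ht
    rcases hcase t h1 with ⟨c1, c2, c3⟩ | ⟨c1, c2, c3⟩ | ⟨c1, c2, c3⟩ | ⟨c1, c2, c3⟩ <;>
      simp [c1, c2, c3, h1]
  have hsa : ∑ t ∈ U, a t = 8 + 3 * (U.filter (fun t => a t = 4)).card := by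
    have h8 : (8 : ℤ) = ((∑ t ∈ U, 1 : ℕ) : ℤ) := by
      rw [← Finset.card_eq_sum_ones, hU8]; norm_num
    rw [h8, Finset.card_filter]
    push_cast
    rw [Finset.mul_sum, ← Finset.sum_add_distrib]
    refine Finset.sum_congr rfl fun t ht => ?_
    have h1 := hUne t ht
    rcases hcase t h1 with ⟨c1, c2, c3⟩ | ⟨c1, c2, c3⟩ | ⟨c1, c2, c3⟩ | ⟨c1, c2, c3⟩ <;>
      simp [c2]
  have hse : ∑ t ∈ U, e t = -2 * 8 + 6 * (U.filter (fun t => e t = 4)).card := by
    have h8 : (8 : ℤ) = ((∑ t ∈ U, 1 : ℕ) : ℤ) := by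
      rw [← Finset.card_eq_sum_ones, hU8]; norm_num
    rw [h8, Finset.card_filter]
    push_cast
    rw [Finset.mul_sum, Finset.mul_sum, ← Finset.sum_add_distrib]
    refine Finset.sum_congr rfl fun t ht => ?_
    have h1 := hUne t ht
    rcases hcase t h1 with ⟨c1, c2, c3⟩ | ⟨c1, c2, c3⟩ | ⟨c1, c2, c3⟩ | ⟨c1, c2, c3⟩ <;>
      simp [c3]
  -- divisibility
  have hd1 : (9 : ℤ) ∣ 10 + ∑ t ∈ U, a t := by
    obtain ⟨m, hm⟩ := exists_sum_eq (isIrr_isCharacter (v 1).2) (P : Subgroup G)
    rw [← Finset.sum_erase_add _ _ (Finset.mem_univ (1 : (P : Subgroup G))), hP9] at hm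
    have h1 : ∑ t ∈ U, (v 1 : G → ℂ) t = ((∑ t ∈ U, a t : ℤ) : ℂ) := by
      push_cast
      exact Finset.sum_congr rfl fun t ht => ha t (hUne t ht)
    rw [← hU, h1] at hm
    have h2 : (v 1 : G → ℂ) ((1 : (P : Subgroup G)) : G) = 10 := by
      have := hB.degs 1
      simpa using this
    rw [h2] at hm
    refine ⟨m, ?_⟩
    have : ((10 + ∑ t ∈ U, a t : ℤ) : ℂ) = ((9 * m : ℤ) : ℂ) := by
      push_cast at hm ⊢
      linear_combination hm
    exact_mod_cast this
  have hd2 : (9 : ℤ) ∣ 16 + ∑ t ∈ U, e t := by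
    obtain ⟨m, hm⟩ := exists_sum_eq (isIrr_isCharacter (v 5).2) (P : Subgroup G)
    rw [← Finset.sum_erase_add _ _ (Finset.mem_univ (1 : (P : Subgroup G))), hP9] at hm
    have h1 : ∑ t ∈ U, (v 5 : G → ℂ) t = ((∑ t ∈ U, e t : ℤ) : ℂ) := by
      push_cast
      exact Finset.sum_congr rfl fun t ht => he t (hUne t ht)
    rw [← hU, h1] at hm
    have h2 : (v 5 : G → ℂ) ((1 : (P : Subgroup G)) : G) = 16 := by
      have := hB.degs 5
      simpa using this
    rw [h2] at hm
    refine ⟨m, ?_⟩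
    have : ((16 + ∑ t ∈ U, e t : ℤ) : ℂ) = ((9 * m : ℤ) : ℂ) := by
      push_cast at hm ⊢
      linear_combination hm
    exact_mod_cast this
  rw [hsa] at hd1
  rw [hse] at hd2
  rw [hbig] at hcount
  simp only [Finset.mem_insert, Finset.mem_singleton] at hcount
  omega

end Cfsg.Agent.SporadicA.M11Norm3
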