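import Mathlib
import Cfsg.Agent.SporadicA.M11Norm3

/-!
# More facts about simple groups of order 7920

* `isConj_of_mem_sylow_three` : the non-identity elements of a Sylow 3-subgroup are conjugate.
* `card_centralizer_three` : centralizers of elements of order 3 have order 18.
* `irr_five` : values of the irreducible characters at elements of order 5.
-/

set_option autoImplicit false

namespace Cfsg.Agent.SporadicA.M11Facts2

open Cfsg Cfsg.Agent.Characters.Core Cfsg.Agent.SporadicA.M11Block Cfsg.Agent.SporadicA.M11Rel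
  Cfsg.Agent.SporadicA.M11Facts Cfsg.Agent.SporadicA.M11Three2 Cfsg.Agent.SporadicA.M11Norm3
  Cfsg.Agent.SporadicA.M11Cent
open scoped ComplexConjugate

universe u
variable {G : Type u} [Group G] [Finite G]

theorem hyp (hG : Cfsg.IsM11 G) : M11Three.Hyp G where
  h2 _ hu := card_centralizer_two hG hu
  h5 _ hy := card_centralizer_five hG hy
  h11 _ hx := M11Sylow.card_centralizer_eleven hG hx

theorem centralizer_sylow_three (hG : Cfsg.IsM11 G) (P : Sylow 3 G) :
    Subgroup.centralizer ((P : Subgroup G) : Set G) = (P : Subgroup G) :=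
  M11Three.centralizer_P hG (hyp hG) P

theorem pow_three_eq_one (hG : Cfsg.IsM11 G) (P : Sylow 3 G) {t : G} (ht : t ∈ (P : Subgroup G)) :
    t ^ 3 = 1 := M11Three.pow_three' hG (hyp hG) P t ht

/-- The non-identity elements of a Sylow 3-subgroup are conjugate in its normalizer. -/
theorem exists_conj_of_mem_sylow_three (hG : Cfsg.IsM11 G) (P : Sylow 3 G) {s t : G}
    (hs : s ∈ (P : Subgroup G)) (hs1 : s ≠ 1) (ht : t ∈ (P : Subgroup G)) (ht1 : t ≠ 1) :
    ∃ g ∈ Subgroup.normalizer ((P : Subgroup G) : Set G), g * t * g⁻¹ = s := by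
  classical
  have : Fact (Nat.Prime 2) := ⟨Nat.prime_two⟩
  have : Fact (Nat.Prime 3) := ⟨Nat.prime_three⟩
  have h := hyp hG
  set N := Subgroup.normalizer ((P : Subgroup G) : Set G) with hN
  have hN144 : Nat.card N = 144 := card_normalizer_three hG P
  let t' : (P : Subgroup G) := ⟨t, ht⟩
  have ht'1 : t' ≠ 1 := fun h => ht1 (congrArg Subtype.val h)
  obtain ⟨U⟩ : Nonempty (Sylow 2 (MulAction.stabilizer N t')) := inferInstance
  have hf : ∀ g : (U : Subgroup (MulAction.stabilizer N t')),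
      (∀ x : (P : Subgroup G), g • x = x) → g = 1 := by
    intro g hg
    have hgc : (((g : MulAction.stabilizer N t') : N) : G) ∈
        Subgroup.centralizer ((P : Subgroup G) : Set G) := by
      rw [Subgroup.mem_centralizer_iff]
      intro x hx
      have h1 : (g.1.1 : G) * x * (g.1.1 : G)⁻¹ = x := congrArg Subtype.val (hg ⟨x, hx⟩)
      rw [mul_inv_eq_iff_eq_mul] at h1
      exact h1.symm
    rw [centralizer_sylow_three hG P] at hgc
    have h9 := pow_three_eq_one hG P hgc
    obtain ⟨k, hk⟩ := U.2 g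
    have h2k : (g.1.1 : G) ^ 2 ^ k = 1 := by
      have := congrArg (fun y : (U : Subgroup (MulAction.stabilizer N t')) =>
        (((y : MulAction.stabilizer N t') : N) : G)) hk
      simpa using this
    have ho1 : orderOf (g.1.1 : G) ∣ 3 := orderOf_dvd_of_pow_eq_one h9
    have ho2 : orderOf (g.1.1 : G) ∣ 2 ^ k := orderOf_dvd_of_pow_eq_one h2k
    have hcop : Nat.Coprime 3 (2 ^ k) := Nat.Coprime.pow_right k (by norm_num)
    have ho : orderOf (g.1.1 : G) = 1 := Nat.eq_one_of_dvd_coprimes hcop ho1 ho2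
    rw [orderOf_eq_one_iff] at ho
    apply Subtype.ext
    apply Subtype.ext
    apply Subtype.ext
    exact ho
  have hU4 : ¬ 4 ≤ Nat.card (U : Subgroup (MulAction.stabilizer N t')) := by
    intro h4
    obtain ⟨g, hg⟩ := M11Three.exists_smul_eq_inv (A := (P : Subgroup G))
      (U := (U : Subgroup (MulAction.stabilizer N t'))) (M11Three.comm_P hG P)
      (M11Three.card_P hG P) (fun x => Subtype.ext (pow_three_eq_one hG P x.2)) U.2 hf h4
    have h1 : g • t' = t' := g.1.2
    rw [hg t'] at h1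
    exact M11Three.ne_inv hG h P ht ht1 (congrArg Subtype.val h1).symm
  have hS4 : ¬ 4 ∣ Nat.card (MulAction.stabilizer N t') := by
    intro h4
    apply hU4
    have h5 : 2 ^ 2 ∣ Nat.card (MulAction.stabilizer N t') := h4
    exact Nat.le_of_dvd Nat.card_pos (U.pow_dvd_card_of_pow_dvd_card h5)
  have := Fintype.ofFinite (P : Subgroup G)
  have hmul : Nat.card (MulAction.orbit N t') * Nat.card (MulAction.stabilizer N t') = 144 := by
    rw [← hN144, ← Nat.card_prod]
    exact Nat.card_congr (MulAction.orbitProdStabilizerEquivGroup N t')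
  have hdvd : Nat.card (MulAction.stabilizer N t') ∣ 144 := ⟨_, by rw [← hmul, mul_comm]⟩
  have hle18 : Nat.card (MulAction.stabilizer N t') ≤ 18 := by
    have hmem : Nat.card (MulAction.stabilizer N t') ∈ Nat.divisors 144 :=
      Nat.mem_divisors.2 ⟨hdvd, by norm_num⟩
    have hlist : ∀ m ∈ Nat.divisors 144, ¬ 4 ∣ m → m ≤ 18 := by decide
    exact hlist _ hmem hS4
  have h8 : 8 ≤ Nat.card (MulAction.orbit N t') := by
    by_contra hlt
    have : Nat.card (MulAction.orbit N t') * Nat.card (MulAction.stabilizer N t') ≤ 7 * 18 :=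
      Nat.mul_le_mul (by omega) hle18
    omega
  -- the orbit is everything except 1
  have hall : MulAction.orbit N t' = {x : (P : Subgroup G) | x ≠ 1} := by
    apply Set.eq_of_subset_of_ncard_le
    · rintro x ⟨g, rfl⟩ h1
      apply ht'1
      have h1' : g • t' = 1 := h1
      rw [← smul_one g] at h1'
      exact smul_left_cancel g h1'
    · have h9 : ({x : (P : Subgroup G) | x ≠ 1} : Set _).ncard = 8 := by
        have e1 : {x : (P : Subgroup G) | x ≠ 1} = {(1 : (P : Subgroup G))}ᶜ := rfl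
        rw [e1, Set.ncard_compl, Set.ncard_singleton, M11Three.card_P hG P]
      rw [h9]
      exact h8
    · exact Set.toFinite _
  have hs' : (⟨s, hs⟩ : (P : Subgroup G)) ∈ MulAction.orbit N t' := by
    rw [hall]
    exact fun h => hs1 (congrArg Subtype.val h)
  obtain ⟨g, hg⟩ := hs'
  exact ⟨g, g.2, congrArg Subtype.val hg⟩

theorem isConj_of_mem_sylow_three (hG : Cfsg.IsM11 G) (P : Sylow 3 G) {s t : G}
    (hs : s ∈ (P : Subgroup G)) (hs1 : s ≠ 1) (ht : t ∈ (P : Subgroup G)) (ht1 : t ≠ 1) :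
    IsConj t s := by
  obtain ⟨g, -, hg⟩ := exists_conj_of_mem_sylow_three hG P hs hs1 ht ht1
  exact isConj_iff.2 ⟨g, hg⟩

/-- An element of order 3 lies in a Sylow 3-subgroup. -/
theorem exists_sylow_of_orderOf_three {y : G} (hy : orderOf y = 3) :
    ∃ P : Sylow 3 G, y ∈ (P : Subgroup G) := by
  have : Fact (Nat.Prime 3) := ⟨Nat.prime_three⟩
  have hp : IsPGroup 3 (Subgroup.zpowers y) := by
    rw [IsPGroup.iff_card]
    exact ⟨1, by rw [Nat.card_zpowers, hy]; norm_num⟩
  obtain ⟨P, hP⟩ := hp.exists_le_sylow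
  exact ⟨P, hP (Subgroup.mem_zpowers y)⟩

/-- Centralizers of elements of order 3 have order 18. -/
theorem card_centralizer_three (hG : Cfsg.IsM11 G) {y : G} (hy : orderOf y = 3) :
    Nat.card (Subgroup.centralizer ({y} : Set G)) = 18 := by
  classical
  obtain ⟨P, hyP⟩ := exists_sylow_of_orderOf_three hy
  have hy1 : y ≠ 1 := by rintro rfl; simp at hy
  obtain ⟨x, hx, v, hB, hinvol⟩ := exists_normalized hG
  have h := hyp hG
  obtain ⟨a, e, ha, he, hcase⟩ := three_values hG hx hB hinvol hy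
    (M11Three.isConj_inv' hG h P y hyP) (M11Three.card_centralizer_cases' hG h P y hyP hy1)
  have := Fintype.ofFinite (P : Subgroup G)
  have hU8 : (Finset.univ.erase (1 : (P : Subgroup G))).card = 8 := by
    rw [Finset.card_erase_of_mem (Finset.mem_univ _), Finset.card_univ,
      ← Nat.card_eq_fintype_card, M11Three.card_P hG P]
  have hsum : ∀ (χ : IrrCharacter G) (d : ℕ) (c : ℤ), (χ : G → ℂ) 1 = d → (χ : G → ℂ) y = c →
      (9 : ℤ) ∣ d + 8 * c := by
    intro χ d c hd hc
    obtain ⟨m, hm⟩ := exists_sum_eq (isIrr_isCharacter χ.2) (P : Subgroup G)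
    rw [← Finset.sum_erase_add _ _ (Finset.mem_univ (1 : (P : Subgroup G))),
      M11Three.card_P hG P] at hm
    have h1 : ∑ t ∈ Finset.univ.erase (1 : (P : Subgroup G)), (χ : G → ℂ) t = 8 * c := by
      have h2 : ∀ t ∈ Finset.univ.erase (1 : (P : Subgroup G)), (χ : G → ℂ) t = c := by
        intro t ht
        rw [← hc]
        have ht1 : (t : G) ≠ 1 := fun h => Finset.ne_of_mem_erase ht (Subtype.ext h)
        exact classFunction_apply_eq (isIrr_isClassFunction χ.2)
          (isConj_of_mem_sylow_three hG P hyP hy1 t.2 ht1)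
      rw [Finset.sum_congr rfl h2, Finset.sum_const, hU8, nsmul_eq_mul]
      norm_num
    have h2 : (χ : G → ℂ) ((1 : (P : Subgroup G)) : G) = d := by
      simpa using hd
    rw [h1, h2] at hm
    refine ⟨m, ?_⟩
    have : ((d + 8 * c : ℤ) : ℂ) = ((9 * m : ℤ) : ℂ) := by
      push_cast at hm ⊢
      linear_combination hm
    exact_mod_cast this
  have d1 := hsum (v 1) 10 a (hB.degs 1) ha
  have d2 := hsum (v 5) 16 e (hB.degs 5) he
  rcases hcase with ⟨c1, c2, c3⟩ | ⟨c1, c2, c3⟩ | ⟨c1, c2, c3⟩ | ⟨c1, c2, c3⟩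
  · exact c1
  · rw [c2] at d1; norm_num at d1
  · rw [c3] at d2; norm_num at d2
  · rw [c2] at d1; norm_num at d1

/-- All elements of order 3 are conjugate. -/
theorem isConj_three (hG : Cfsg.IsM11 G) {s t : G} (hs : orderOf s = 3) (ht : orderOf t = 3) :
    IsConj s t := by
  have : Fact (Nat.Prime 3) := ⟨Nat.prime_three⟩
  obtain ⟨P, hsP⟩ := exists_sylow_of_orderOf_three hs
  obtain ⟨Q, htQ⟩ := exists_sylow_of_orderOf_three ht
  obtain ⟨g, hg⟩ := MulAction.exists_smul_eq G Q P
  have hs1 : s ≠ 1 := by rintro rfl; simp at hs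
  have ht1 : g * t * g⁻¹ ≠ 1 := by
    intro h
    rw [mul_inv_eq_one] at h
    have : t = 1 := by simpa using h
    rw [this] at ht
    simp at ht
  have htP : g * t * g⁻¹ ∈ (P : Subgroup G) := by
    rw [← hg]
    exact Subgroup.mem_map_of_mem (MulAut.conj g).toMonoidHom htQ
  exact (isConj_of_mem_sylow_three hG P htP ht1 hsP hs1).trans
    (isConj_iff.2 ⟨g⁻¹, by group⟩)

theorem abs_le_one {w : ℤ} (h : w * w ≤ 2) : -1 ≤ w ∧ w ≤ 1 := by
  constructor <;> nlinarith

theorem abs_le_two {w : ℤ} (h : w * w ≤ 5) : -2 ≤ w ∧ w ≤ 2 := by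
  constructor <;> nlinarith

theorem le_six {k : ℕ} (h : ((11 * k : ℕ) : ℤ) * ((11 * k : ℕ) : ℤ) ≤ 5082) : k ≤ 6 := by
  push_cast at h
  by_contra hcon
  have h7 : (7 : ℤ) ≤ k := by omega
  nlinarith

set_option maxHeartbeats 1000000 in
/-- Values of the irreducible characters at elements of order 5. -/
theorem irr_five (hG : Cfsg.IsM11 G) {χ : G → ℂ} (hχ : IsIrrCharacter G χ)
    (hχ1 : χ ≠ fun _ => 1) {y : G} (hy : orderOf y = 5) :
    ∃ d : ℕ, χ 1 = (d : ℂ) ∧ 10 ≤ d ∧ (χ y = 0 ∨ χ y = 1 ∨ (χ y = -1 ∧ d = 44)) := by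
  classical
  have := finite_irr (G := G)
  have := Fintype.ofFinite (IrrCharacter G)
  obtain ⟨x, hx, v, hB⟩ := exists_caseC hG
  obtain ⟨w, hw, hmod, hw1⟩ := exists_five_values hy (isConj_five hG hy)
  have hn := fun χ : IrrCharacter G => isIrr_apply_one χ.2
  choose n hn0 hn1 using hn
  have hnz : ∀ χ : IrrCharacter G, (χ : G → ℂ) 1 = ((n χ : ℤ) : ℂ) := fun χ => by
    rw [hn1]; simp
  have hv0 : v 0 = triv G := Subtype.ext hB.one
  have m0 : n (v 0) = 1 := by exact_mod_cast (hn1 (v 0)).symm.trans (hB.degs 0)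
  have m1 : n (v 1) = 10 := by exact_mod_cast (hn1 (v 1)).symm.trans (hB.degs 1)
  have m2 : n (v 2) = 10 := by exact_mod_cast (hn1 (v 2)).symm.trans (hB.degs 2)
  have m3 : n (v 3) = 10 := by exact_mod_cast (hn1 (v 3)).symm.trans (hB.degs 3)
  have m4 : n (v 4) = 45 := by exact_mod_cast (hn1 (v 4)).symm.trans (hB.degs 4)
  have m5 : n (v 5) = 16 := by exact_mod_cast (hn1 (v 5)).symm.trans (hB.degs 5)
  have m6 : n (v 6) = 16 := by exact_mod_cast (hn1 (v 6)).symm.trans (hB.degs 6)
  have e1 := col_conj hw hw (IsConj.refl y)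
  have e6 := col_conj hnz hnz (IsConj.refl 1)
  have hc1 : Nat.card (Subgroup.centralizer ({1} : Set G)) = 7920 := by
    rw [Subgroup.centralizer_eq_top_iff_subset.2 (by
      rw [Set.singleton_subset_iff]; exact Subgroup.one_mem _), Subgroup.card_top, hG.2]
  rw [card_centralizer_five hG hy] at e1
  have hle : ∀ ψ : IrrCharacter G, w ψ * w ψ ≤ 5 := by
    intro ψ
    have := Finset.single_le_sum (f := fun χ => w χ * w χ) (fun χ _ => mul_self_nonneg (w χ))
      (Finset.mem_univ ψ)
    rw [e1] at this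
    exact_mod_cast this
  have hz : ∀ ψ : IrrCharacter G, (5 : ℤ) ∣ n ψ → w ψ = 0 := by
    intro ψ h5
    have h1 := hmod ψ (n ψ) (hn1 ψ)
    have h2 : (5 : ℤ) ∣ w ψ := by omega
    obtain ⟨q, hq⟩ := h2
    have h3 := hle ψ
    rw [hq] at h3 ⊢
    have : q = 0 := by
      by_contra hq0
      have : 0 < q * q := mul_self_pos.2 hq0
      nlinarith
    rw [this]; norm_num
  have h16 : ∀ ψ : IrrCharacter G, n ψ = 16 → w ψ = 1 := by
    intro ψ h5
    have h1 := hmod ψ (n ψ) (hn1 ψ)
    rw [h5] at h1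
    have h3 := hle ψ
    have h4 := abs_le_two h3
    push_cast at h1
    omega
  have w1 := hz (v 1) (by rw [m1]; norm_num)
  have w2 := hz (v 2) (by rw [m2]; norm_num)
  have w3 := hz (v 3) (by rw [m3]; norm_num)
  have w4 := hz (v 4) (by rw [m4]; norm_num)
  have w5 := h16 (v 5) m5
  have w6 := h16 (v 6) m6
  rw [sum_split hB.inj, Fin.sum_univ_seven] at e1 e6
  rw [hv0, hw1, w1, w2, w3, w4, w5, w6] at e1
  rw [m0, m1, m2, m3, m4, m5, m6, hc1] at e6
  have g1 : ∑ χ ∈ others v, w χ * w χ = 2 := by push_cast at e1; linarith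
  have g6 : ∑ χ ∈ others v, (n χ : ℤ) * n χ = 5082 := by push_cast at e6; linarith
  by_cases hmem : ∃ i, ((v i : IrrCharacter G) : G → ℂ) = χ
  · obtain ⟨i, rfl⟩ := hmem
    have hi : i ≠ 0 := by
      rintro rfl
      exact hχ1 hB.one
    refine ⟨n (v i), hn1 _, ?_, ?_⟩
    · fin_cases i
      · exact absurd rfl hi
      · exact m1.symm.le
      · exact m2.symm.le
      · exact m3.symm.le
      · show 10 ≤ n (v 4)
        omega
      · show 10 ≤ n (v 5)
        omega
      · show 10 ≤ n (v 6)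
        omega
    · rw [hw]
      fin_cases i
      · exact absurd rfl hi
      · left; show ((w (v 1) : ℤ) : ℂ) = 0; rw [w1]; norm_num
      · left; show ((w (v 2) : ℤ) : ℂ) = 0; rw [w2]; norm_num
      · left; show ((w (v 3) : ℤ) : ℂ) = 0; rw [w3]; norm_num
      · left; show ((w (v 4) : ℤ) : ℂ) = 0; rw [w4]; norm_num
      · right; left; show ((w (v 5) : ℤ) : ℂ) = 1; rw [w5]; norm_num
      · right; left; show ((w (v 6) : ℤ) : ℂ) = 1; rw [w6]; norm_num
  · let χ' : IrrCharacter G := ⟨χ, hχ⟩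
    have hR : χ' ∈ others v := by
      rw [mem_others]
      intro i hi
      exact hmem ⟨i, congrArg Subtype.val hi⟩
    obtain ⟨-, k, hk⟩ := hB.rest χ' (mem_others.1 hR)
    have hk' : n χ' = 11 * k := by
      rw [hn1] at hk
      exact_mod_cast hk
    have hk0 : 0 < k := by
      rcases Nat.eq_zero_or_pos k with h | h
      · have := hn0 χ'
        omega
      · exact h
    have b1 : w χ' * w χ' ≤ 2 := by
      rw [← g1]
      exact Finset.single_le_sum (f := fun χ => w χ * w χ) (fun χ _ => mul_self_nonneg (w χ)) hR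
    have b6 : (n χ' : ℤ) * n χ' ≤ 5082 := by
      rw [← g6]
      exact Finset.single_le_sum (f := fun χ => (n χ : ℤ) * n χ)
        (fun χ _ => mul_self_nonneg (n χ : ℤ)) hR
    have hk6 : k ≤ 6 := le_six (by rw [hk'] at b6; exact b6)
    have h1 := hmod χ' (n χ') (hn1 χ')
    obtain ⟨u2, u1⟩ := abs_le_one b1
    refine ⟨n χ', hn1 χ', by omega, ?_⟩
    have hwχ : χ y = ((w χ' : ℤ) : ℂ) := hw χ'
    have hcases : w χ' = 0 ∨ w χ' = 1 ∨ (w χ' = -1 ∧ n χ' = 44) := by
      rw [hk'] at h1 ⊢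
      push_cast at h1
      omega
    rw [hwχ]
    rcases hcases with h | h | ⟨h, h'⟩
    · left; rw [h]; norm_num
    · right; left; rw [h]; norm_num
    · right; right; refine ⟨by rw [h]; norm_num, h'⟩

end Cfsg.Agent.SporadicA.M11Facts2
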