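import Cfsg.Agent.PermutationGroups.MultFree

/-!
# A transitive permutation character of degree 55 vanishing somewhere has rank 3
under the degree restrictions that hold in simple groups of order 7920.
-/

set_option autoImplicit false

namespace Cfsg.Agent.SporadicA.M11Rank

open Cfsg Representation
open Cfsg.Agent.PermutationGroups Cfsg.Agent.PermutationGroups.MultFree
open Cfsg.Agent.PermutationGroups.PermChar Cfsg.Agent.PermutationGroups.IrrSum
open Cfsg.Agent.PermutationGroups.Subdegree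

variable {G : Type*} [Group G] [Fintype G] {Ω : Type*} [Fintype Ω] [MulAction G Ω]
  [MulAction.IsPretransitive G Ω]

theorem rank_eq_three (hΩ : Nat.card Ω = 55) (y : G)
    (hfix : Nat.card (MulAction.fixedBy Ω y) = 0)
    (hirr : ∀ χ : G → ℂ, IsIrrCharacter G χ → χ ≠ (fun _ => 1) →
      ∃ d : ℕ, χ 1 = (d : ℂ) ∧ 10 ≤ d ∧ (χ y = 0 ∨ χ y = 1 ∨ (χ y = -1 ∧ d = 44))) (a : Ω) :
    Nat.card (MulAction.orbitRel.Quotient (MulAction.stabilizer G a) Ω) = 3 := by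
  classical
  obtain ⟨m, hm, hm1, hrank, hdeg⟩ := exists_decomp (G := G) (Ω := Ω) a
  obtain ⟨m', hm'⟩ := exists_sum_irr (isCharacter_of_rep (permRep ℂ G Ω))
  rw [← permChar_eq] at hm'
  have hmm : m' = m := by
    ext ψ
    have h1 := hm ψ
    rw [hm', classInner_finsupp_sum] at h1
    exact_mod_cast h1
  rw [hmm] at hm'
  rw [← hrank]
  set one : IrrCharacter G := ⟨fun _ => 1, isIrr_one⟩ with hone
  -- degrees
  have hd : ∀ ψ : IrrCharacter G, ∃ d : ℕ, (ψ : G → ℂ) 1 = (d : ℂ) ∧ (ψ ≠ one → 10 ≤ d ∧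
      ((ψ : G → ℂ) y = 0 ∨ (ψ : G → ℂ) y = 1 ∨ ((ψ : G → ℂ) y = -1 ∧ d = 44))) := by
    intro ψ
    by_cases h : ψ = one
    · exact ⟨1, by rw [h]; simp [hone], fun h' => absurd h h'⟩
    · obtain ⟨d, h1, h2, h3⟩ := hirr ψ.1 ψ.2 (fun h' => h (Subtype.ext h'))
      exact ⟨d, h1, fun _ => ⟨h2, h3⟩⟩
  choose d hd1 hd2 using hd
  have hd_one : d one = 1 := by
    have := hd1 one
    have h1 : ((one : IrrCharacter G) : G → ℂ) 1 = 1 := rfl
    rw [h1] at this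
    exact_mod_cast this.symm
  have hsum : ∑ ψ ∈ m.support, m ψ * d ψ = 55 := by
    have : ((∑ ψ ∈ m.support, m ψ * d ψ : ℕ) : ℂ) = ((55 : ℕ) : ℂ) := by
      push_cast
      rw [show (∑ ψ ∈ m.support, (m ψ : ℂ) * (d ψ : ℂ)) = ∑ ψ ∈ m.support, m ψ * (ψ : G → ℂ) 1 from
        Finset.sum_congr rfl fun ψ _ => by rw [hd1], ← hdeg, hΩ]
      norm_num
    exact_mod_cast this
  have hone_mem : one ∈ m.support := by
    rw [Finsupp.mem_support_iff]
    show m one ≠ 0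
    have : m one = 1 := hm1
    rw [this]; norm_num
  -- some constituent takes the value -1 at y
  have hy : ∑ ψ ∈ m.support, (m ψ : ℂ) * (ψ : G → ℂ) y = 0 := by
    have h2 := congrFun hm' y
    rw [hfix, Finsupp.sum, Finset.sum_apply] at h2
    rw [Nat.cast_zero] at h2
    rw [h2]
    refine Finset.sum_congr rfl fun ψ _ => ?_
    rw [Pi.smul_apply, nsmul_eq_mul]
  obtain ⟨ψ0, hψ0, hψ0y⟩ : ∃ ψ ∈ m.support, ψ ≠ one ∧ (ψ : G → ℂ) y = -1 := by
    by_contra hcon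
    push Not at hcon
    have hre : ∀ ψ ∈ m.support, 0 ≤ ((m ψ : ℂ) * (ψ : G → ℂ) y).re := by
      intro ψ hψ
      by_cases h : ψ = one
      · subst h
        simp [hone]
      · rcases (hd2 ψ h).2 with h1 | h1 | h1
        · rw [h1]; simp
        · rw [h1]; simp
        · exact absurd h1.1 (hcon ψ hψ h)
    have h1 : 0 < (∑ ψ ∈ m.support, (m ψ : ℂ) * (ψ : G → ℂ) y).re := by
      rw [Complex.re_sum]
      apply Finset.sum_pos' hre
      refine ⟨one, hone_mem, ?_⟩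
      have : m one = 1 := hm1
      rw [this]
      simp [hone]
    rw [hy] at h1
    simp at h1
  obtain ⟨hψ0ne, hψ0y⟩ := hψ0y
  have hd44 : d ψ0 = 44 := by
    rcases (hd2 ψ0 hψ0ne).2 with h1 | h1 | h1
    · rw [hψ0y] at h1; norm_num at h1
    · rw [hψ0y] at h1; norm_num at h1
    · exact h1.2
  set S := (m.support.erase one).erase ψ0 with hS
  have hψ0S : ψ0 ∈ m.support.erase one := Finset.mem_erase.2 ⟨hψ0ne, hψ0⟩
  have e1 : ∑ ψ ∈ m.support, m ψ * d ψ = m one * d one + (m ψ0 * d ψ0 + ∑ ψ ∈ S, m ψ * d ψ) := by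
    rw [← Finset.add_sum_erase _ _ hone_mem, ← Finset.add_sum_erase _ _ hψ0S]
  have e2 : ∑ ψ ∈ m.support, m ψ ^ 2 = m one ^ 2 + (m ψ0 ^ 2 + ∑ ψ ∈ S, m ψ ^ 2) := by
    rw [← Finset.add_sum_erase _ _ hone_mem, ← Finset.add_sum_erase _ _ hψ0S]
  have hmone : m one = 1 := hm1
  have hmψ0 : 0 < m ψ0 := Nat.pos_of_ne_zero (Finsupp.mem_support_iff.1 hψ0)
  rw [hsum, hmone, hd_one, hd44] at e1
  have hm01 : m ψ0 = 1 := by omega
  rw [hm01] at e1
  have hS10 : ∑ ψ ∈ S, m ψ * d ψ = 10 := by omega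
  have hSpos : ∀ ψ ∈ S, 10 ≤ m ψ * d ψ ∧ 0 < m ψ := by
    intro ψ hψ
    rw [hS, Finset.mem_erase, Finset.mem_erase] at hψ
    have h1 : 0 < m ψ := Nat.pos_of_ne_zero (Finsupp.mem_support_iff.1 hψ.2.2)
    have h2 := (hd2 ψ hψ.2.1).1
    refine ⟨?_, h1⟩
    calc 10 = 1 * 10 := by norm_num
      _ ≤ m ψ * d ψ := Nat.mul_le_mul h1 h2
  have hSne : S.Nonempty := by
    by_contra hcon
    rw [Finset.not_nonempty_iff_eq_empty] at hcon
    rw [hcon, Finset.sum_empty] at hS10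
    norm_num at hS10
  obtain ⟨ψ1, hψ1⟩ := hSne
  have e3 : ∑ ψ ∈ S, m ψ * d ψ = m ψ1 * d ψ1 + ∑ ψ ∈ S.erase ψ1, m ψ * d ψ := by
    rw [← Finset.add_sum_erase _ _ hψ1]
  have h10 := (hSpos ψ1 hψ1).1
  have hrest : S.erase ψ1 = ∅ := by
    by_contra hcon
    obtain ⟨ψ2, hψ2⟩ := Finset.nonempty_iff_ne_empty.2 hcon
    have h1 := (hSpos ψ2 (Finset.mem_of_mem_erase hψ2)).1
    have h2 : m ψ2 * d ψ2 ≤ ∑ ψ ∈ S.erase ψ1, m ψ * d ψ :=
      Finset.single_le_sum (f := fun ψ => m ψ * d ψ) (fun _ _ => Nat.zero_le _) hψ2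
    omega
  have hSe : S = {ψ1} := by
    rw [← Finset.insert_erase hψ1, hrest]
    rfl
  have hm11 : m ψ1 = 1 := by
    rw [hSe, Finset.sum_singleton] at hS10
    have h1 := hψ1
    rw [hS, Finset.mem_erase, Finset.mem_erase] at h1
    have h2 := (hd2 ψ1 h1.2.1).1
    have h3 := (hSpos ψ1 hψ1).2
    by_contra hcon
    have h4 : 2 ≤ m ψ1 := by omega
    have : 2 * 10 ≤ m ψ1 * d ψ1 := Nat.mul_le_mul h4 h2
    omega
  rw [e2, hmone, hm01, hSe, Finset.sum_singleton, hm11]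
  norm_num

end Cfsg.Agent.SporadicA.M11Rank
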