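import Cfsg.Agent.SporadicA.M11Param

/-!
# Rank 3 action of degree 55 with point stabiliser of order 144 gives an invariant srg(55,18,9,4)
-/

set_option autoImplicit false

namespace Cfsg.Agent.SporadicA.M11Srg

open MulAction

variable {G V : Type*} [Group G] [Finite G] [Fintype V] [MulAction G V]

/-- Order of the joint stabiliser of two points. -/
noncomputable def joint (G : Type*) {V : Type*} [Group G] [MulAction G V] (v w : V) : ℕ :=
  Nat.card (stabilizer G v ⊓ stabilizer G w : Subgroup G)

omit [Finite G] [Fintype V] in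
theorem joint_comm (v w : V) : joint G v w = joint G w v := by
  unfold joint
  rw [inf_comm]

omit [Finite G] [Fintype V] in
theorem joint_smul (g : G) (v w : V) : joint G (g • v) (g • w) = joint G v w := by
  unfold joint
  symm
  refine Nat.card_congr
    { toFun := fun x => ⟨g * x * g⁻¹, ?_⟩
      invFun := fun x => ⟨g⁻¹ * x * g, ?_⟩
      left_inv := ?_
      right_inv := ?_ }
  · have h1 : (x : G) • v = v := x.2.1
    have h2 : (x : G) • w = w := x.2.2
    rw [Subgroup.mem_inf, mem_stabilizer_iff, mem_stabilizer_iff]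
    refine ⟨?_, ?_⟩
    · rw [mul_smul, inv_smul_smul, mul_smul, h1]
    · rw [mul_smul, inv_smul_smul, mul_smul, h2]
  · have h1 : (x : G) • (g • v) = g • v := x.2.1
    have h2 : (x : G) • (g • w) = g • w := x.2.2
    rw [Subgroup.mem_inf, mem_stabilizer_iff, mem_stabilizer_iff]
    refine ⟨?_, ?_⟩
    · rw [mul_smul, mul_smul, h1, inv_smul_smul]
    · rw [mul_smul, mul_smul, h2, inv_smul_smul]
  · intro x
    apply Subtype.ext
    simp [mul_assoc]
  · intro x
    apply Subtype.ext
    simp [mul_assoc]

omit [Finite G] [Fintype V] in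
theorem joint_self (v : V) : joint G v v = Nat.card (stabilizer G v) := by
  unfold joint
  rw [inf_idem]

omit [Finite G] [Fintype V] in
theorem ncard_orbit_mul (v w : V) :
    (orbit (stabilizer G v) w).ncard * joint G v w = Nat.card (stabilizer G v) := by
  rw [← index_stabilizer, mul_comm]
  have h1 : joint G v w = Nat.card (stabilizer (stabilizer G v) w) := by
    unfold joint
    refine Nat.card_congr
      { toFun := fun x => ⟨⟨x.1, x.2.1⟩, ?_⟩
        invFun := fun x => ⟨x.1.1, ⟨x.1.2, ?_⟩⟩
        left_inv := fun x => rfl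
        right_inv := fun x => rfl }
    · rw [mem_stabilizer_iff]
      exact x.2.2
    · have := x.2
      rw [mem_stabilizer_iff] at this
      exact this
  rw [h1]
  exact Subgroup.card_mul_index _

theorem orbits_of_rank_three (hV : Nat.card V = 55)
    (hst : ∀ v : V, Nat.card (stabilizer G v) = 144)
    (h3 : ∀ v w : V, v ≠ w → ¬ 3 ∣ joint G v w)
    (hrank : ∀ v : V, Nat.card (orbitRel.Quotient (stabilizer G v) V) = 3) (v : V) :
    ∃ w₁ w₂ : V, (orbit (stabilizer G v) w₁).ncard = 18 ∧ (orbit (stabilizer G v) w₂).ncard = 36 ∧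
      ∀ w, w = v ∨ w ∈ orbit (stabilizer G v) w₁ ∨ w ∈ orbit (stabilizer G v) w₂ := by
  classical
  have hsz : ∀ w, w ≠ v → (orbit (stabilizer G v) w).ncard = 9 ∨
      (orbit (stabilizer G v) w).ncard = 18 ∨ (orbit (stabilizer G v) w).ncard = 36 ∨
      (orbit (stabilizer G v) w).ncard = 72 ∨ (orbit (stabilizer G v) w).ncard = 144 := by
    intro w hw
    have h1 := ncard_orbit_mul (G := G) v w
    rw [hst] at h1
    have h2 := h3 v w hw.symm
    have hd : joint G v w ∣ 16 := by
      have h4 : joint G v w ∣ 9 * 16 := ⟨(orbit (stabilizer G v) w).ncard, by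
        rw [mul_comm (joint G v w), h1]⟩
      have hc : Nat.Coprime (joint G v w) 9 := by
        rw [show (9 : ℕ) = 3 ^ 2 by norm_num]
        apply Nat.Coprime.pow_right
        exact ((Nat.Prime.coprime_iff_not_dvd (by norm_num)).2 h2).symm
      exact hc.dvd_of_dvd_mul_left h4
    have hle := Nat.le_of_dvd (by norm_num) hd
    interval_cases hj : joint G v w <;> omega
  have : Fintype (orbitRel.Quotient (stabilizer G v) V) := Fintype.ofFinite _
  have hq := hrank v
  rw [Nat.card_eq_fintype_card, ← Finset.card_univ] at hq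
  set q0 : orbitRel.Quotient (stabilizer G v) V := Quotient.mk _ v with hq0
  have h2 : (Finset.univ.erase q0).card = 2 := by
    rw [Finset.card_erase_of_mem (Finset.mem_univ _), hq]
  obtain ⟨b, c, hbc, hbce⟩ := Finset.card_eq_two.1 h2
  obtain ⟨w₁, hw₁⟩ := Quotient.exists_rep b
  obtain ⟨w₂, hw₂⟩ := Quotient.exists_rep c
  have hb0 : b ≠ q0 := by
    have : b ∈ Finset.univ.erase q0 := by rw [hbce]; simp
    exact Finset.ne_of_mem_erase this
  have hc0 : c ≠ q0 := by
    have : c ∈ Finset.univ.erase q0 := by rw [hbce]; simp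
    exact Finset.ne_of_mem_erase this
  have hmk : ∀ x y : V, (Quotient.mk (orbitRel (stabilizer G v) V) x = Quotient.mk _ y) ↔
      x ∈ orbit (stabilizer G v) y := by
    intro x y
    rw [Quotient.eq]
    exact Iff.rfl
  have hself : ∀ x, x ∈ orbit (stabilizer G v) v ↔ x = v := by
    intro x
    constructor
    · rintro ⟨g, rfl⟩
      exact g.2
    · rintro rfl
      exact mem_orbit_self _
  have hcov : ∀ w, w = v ∨ w ∈ orbit (stabilizer G v) w₁ ∨ w ∈ orbit (stabilizer G v) w₂ := by
    intro w
    by_cases h : Quotient.mk (orbitRel (stabilizer G v) V) w = q0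
    · left
      rw [hq0, hmk] at h
      exact (hself w).1 h
    · right
      have : Quotient.mk (orbitRel (stabilizer G v) V) w ∈ Finset.univ.erase q0 :=
        Finset.mem_erase.2 ⟨h, Finset.mem_univ _⟩
      rw [hbce, Finset.mem_insert, Finset.mem_singleton, ← hw₁, ← hw₂] at this
      rcases this with h1 | h1
      · left; exact (hmk w w₁).1 h1
      · right; exact (hmk w w₂).1 h1
  have hw1v : w₁ ≠ v := by
    rintro rfl; exact hb0 hw₁.symm
  have hw2v : w₂ ≠ v := by
    rintro rfl; exact hc0 hw₂.symm
  have hdisj : Disjoint (orbit (stabilizer G v) w₁) (orbit (stabilizer G v) w₂) := by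
    rw [Set.disjoint_left]
    intro x hx1 hx2
    apply hbc
    rw [← hw₁, ← hw₂, ← (hmk x w₁).2 hx1, ← (hmk x w₂).2 hx2]
  have hnv : v ∉ orbit (stabilizer G v) w₁ ∪ orbit (stabilizer G v) w₂ := by
    rintro (h | h)
    · have := (hmk v w₁).2 h
      rw [hw₁] at this
      exact hb0 this.symm
    · have := (hmk v w₂).2 h
      rw [hw₂] at this
      exact hc0 this.symm
  have htot : (orbit (stabilizer G v) w₁).ncard + (orbit (stabilizer G v) w₂).ncard = 54 := by
    rw [← Set.ncard_union_eq hdisj]
    have h4 : (insert v (orbit (stabilizer G v) w₁ ∪ orbit (stabilizer G v) w₂)).ncard = 55 := by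
      have : insert v (orbit (stabilizer G v) w₁ ∪ orbit (stabilizer G v) w₂) = Set.univ := by
        ext x
        simp only [Set.mem_insert_iff, Set.mem_union, Set.mem_univ, iff_true]
        exact hcov x
      rw [this, Set.ncard_univ, hV]
    rw [Set.ncard_insert_of_notMem hnv] at h4
    omega
  rcases hsz w₁ hw1v with h | h | h | h | h <;> rcases hsz w₂ hw2v with h' | h' | h' | h' | h' <;>
    first
    | omega
    | exact ⟨w₁, w₂, h, h', hcov⟩
    | exact ⟨w₂, w₁, h', h, fun w => by
        rcases hcov w with h5 | h5 | h5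
        · exact Or.inl h5
        · exact Or.inr (Or.inr h5)
        · exact Or.inr (Or.inl h5)⟩

/-- The graph: two points are adjacent when their joint stabiliser has order 8. -/
def graph (G V : Type*) [Group G] [MulAction G V] (hst : ∀ v : V, Nat.card (stabilizer G v) = 144) :
    SimpleGraph V where
  Adj v w := joint G v w = 8
  symm := ⟨fun v w h => by rw [joint_comm]; exact h⟩
  loopless := ⟨fun v h => by
    rw [joint_self, hst] at h
    norm_num at h⟩


variable (hst : ∀ v : V, Nat.card (stabilizer G v) = 144)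

omit [Finite G] [Fintype V] in
theorem graph_adj {v w : V} : (graph G V hst).Adj v w ↔ joint G v w = 8 := Iff.rfl

omit [Finite G] [Fintype V] in
theorem graph_smul (g : G) {v w : V} (h : (graph G V hst).Adj v w) :
    (graph G V hst).Adj (g • v) (g • w) := by
  rw [graph_adj] at h ⊢
  rw [joint_smul, h]

omit [Finite G] in
theorem card_common_smul [DecidableEq V] [DecidableRel (graph G V hst).Adj] (g : G) (v w : V) :
    Fintype.card ((graph G V hst).commonNeighbors (g • v) (g • w)) =
      Fintype.card ((graph G V hst).commonNeighbors v w) := by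
  symm
  refine Fintype.card_congr
    { toFun := fun x => ⟨g • x.1, graph_smul hst g x.2.1, graph_smul hst g x.2.2⟩
      invFun := fun x => ⟨g⁻¹ • x.1, ?_, ?_⟩
      left_inv := fun x => Subtype.ext (inv_smul_smul g x.1)
      right_inv := fun x => Subtype.ext (smul_inv_smul g x.1) }
  · have := graph_smul hst g⁻¹ x.2.1
    rw [inv_smul_smul] at this
    exact this
  · have := graph_smul hst g⁻¹ x.2.2
    rw [inv_smul_smul] at this
    exact this

theorem isSRG [DecidableEq V] [DecidableRel (graph G V hst).Adj] [IsPretransitive G V]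
    (hV : Nat.card V = 55)
    (h3 : ∀ v w : V, v ≠ w → ¬ 3 ∣ joint G v w)
    (hrank : ∀ v : V, Nat.card (orbitRel.Quotient (stabilizer G v) V) = 3) :
    (graph G V hst).IsSRGWith 55 18 9 4 := by
  have hloc := orbits_of_rank_three hV hst h3 hrank
  -- orbit lengths and joint stabilisers
  have hj : ∀ v w : V, (orbit (stabilizer G v) w).ncard * joint G v w = 144 := by
    intro v w; rw [ncard_orbit_mul, hst]
  have hself : ∀ v : V, (orbit (stabilizer G v) v).ncard = 1 := by
    intro v
    have := hj v v
    rw [joint_self, hst] at this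
    omega
  have horb : ∀ v w w' : V, w' ∈ orbit (stabilizer G v) w →
      (orbit (stabilizer G v) w').ncard = (orbit (stabilizer G v) w).ncard := by
    intro v w w' h
    rw [orbit_eq_iff.2 h]
  have key : ∀ v : V, ∃ w₁ w₂ : V, (∀ w, joint G v w = 8 ↔ w ∈ orbit (stabilizer G v) w₁) ∧
      (orbit (stabilizer G v) w₁).ncard = 18 ∧
      (∀ w, (w ≠ v ∧ joint G v w ≠ 8) ↔ w ∈ orbit (stabilizer G v) w₂) := by
    intro v
    obtain ⟨w₁, w₂, h1, h2, hcov⟩ := hloc v
    have e1 : ∀ w, w ∈ orbit (stabilizer G v) w₁ → joint G v w = 8 := by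
      intro w hw
      have := hj v w
      rw [horb v w₁ w hw, h1] at this
      omega
    have e2 : ∀ w, w ∈ orbit (stabilizer G v) w₂ → joint G v w = 4 := by
      intro w hw
      have := hj v w
      rw [horb v w₂ w hw, h2] at this
      omega
    refine ⟨w₁, w₂, ?_, h1, ?_⟩
    · intro w
      refine ⟨fun h => ?_, e1 w⟩
      rcases hcov w with h5 | h5 | h5
      · subst h5
        rw [joint_self, hst] at h
        norm_num at h
      · exact h5
      · rw [e2 w h5] at h
        norm_num at h
    · intro w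
      constructor
      · rintro ⟨h, h'⟩
        rcases hcov w with h5 | h5 | h5
        · exact absurd h5 h
        · exact absurd (e1 w h5) h'
        · exact h5
      · intro h
        refine ⟨?_, by rw [e2 w h]; norm_num⟩
        rintro rfl
        have := e2 w h
        rw [joint_self, hst] at this
        norm_num at this
  have t1 : ∀ v w w' : V, joint G v w = 8 → joint G v w' = 8 → ∃ g : G, g • v = v ∧ g • w = w' := by
    intro v w w' h h'
    obtain ⟨w₁, w₂, k1, -, -⟩ := key v
    have h4 := (k1 w).1 h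
    have h5 := (k1 w').1 h'
    rw [← orbit_eq_iff.2 h4] at h5
    obtain ⟨g, hg⟩ := h5
    exact ⟨g.1, g.2, hg⟩
  have t2 : ∀ v w w' : V, w ≠ v → joint G v w ≠ 8 → w' ≠ v → joint G v w' ≠ 8 →
      ∃ g : G, g • v = v ∧ g • w = w' := by
    intro v w w' h1 h2 h1' h2'
    obtain ⟨w₁, w₂, -, -, k2⟩ := key v
    have h4 := (k2 w).1 ⟨h1, h2⟩
    have h5 := (k2 w').1 ⟨h1', h2'⟩
    rw [← orbit_eq_iff.2 h4] at h5
    obtain ⟨g, hg⟩ := h5
    exact ⟨g.1, g.2, hg⟩
  -- base point and base pairs
  have hne : Nonempty V := by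
    rw [← not_isEmpty_iff]
    intro h
    rw [Nat.card_of_isEmpty] at hV
    norm_num at hV
  obtain ⟨v0⟩ := hne
  obtain ⟨a0, b0, ka, ka18, kb⟩ := key v0
  have ha0 : joint G v0 a0 = 8 := (ka a0).2 (mem_orbit_self _)
  have hb0 : b0 ≠ v0 ∧ joint G v0 b0 ≠ 8 := (kb b0).2 (mem_orbit_self _)
  have hsrg : (graph G V hst).IsSRGWith 55 18
      (Fintype.card ((graph G V hst).commonNeighbors v0 a0))
      (Fintype.card ((graph G V hst).commonNeighbors v0 b0)) := by
    refine ⟨by rw [← Nat.card_eq_fintype_card, hV], ?_, ?_, ?_⟩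
    · intro v
      obtain ⟨w₁, w₂, k1, k18, -⟩ := key v
      rw [← SimpleGraph.card_neighborSet_eq_degree, ← k18, ← Nat.card_eq_fintype_card,
        ← Nat.card_coe_set_eq]
      congr 1
      have : (graph G V hst).neighborSet v = orbit (stabilizer G v) w₁ := by
        ext w
        rw [SimpleGraph.mem_neighborSet, graph_adj]
        exact k1 w
      rw [this]
    · intro v w hvw
      rw [graph_adj] at hvw
      obtain ⟨g, hg⟩ := exists_smul_eq G v0 v
      obtain ⟨k, hk1, hk2⟩ := t1 v (g • a0) w (by rw [← hg, joint_smul, ha0]) hvw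
      have h1 := card_common_smul hst (k * g) v0 a0
      rw [mul_smul, mul_smul, hg, hk1, hk2] at h1
      exact h1
    · intro v w hvw hadj
      rw [graph_adj] at hadj
      obtain ⟨g, hg⟩ := exists_smul_eq G v0 v
      obtain ⟨k, hk1, hk2⟩ := t2 v (g • b0) w
        (by rw [← hg]; exact fun h => hb0.1 (smul_left_cancel g h))
        (by rw [← hg, joint_smul]; exact hb0.2) (Ne.symm hvw) hadj
      have h1 := card_common_smul hst (k * g) v0 b0
      rw [mul_smul, mul_smul, hg, hk1, hk2] at h1
      exact h1
  obtain ⟨e1, e2⟩ := M11Param.srg_param hsrg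
  rw [e1, e2] at hsrg
  exact hsrg

end Cfsg.Agent.SporadicA.M11Srg
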