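import Cfsg.Agent.SporadicA.SharpFour

/-!
# A criterion for a simple group of order 7920 acting on 11 points to be sharply 4-transitive
-/

set_option autoImplicit false

namespace Cfsg.Agent.SporadicA.SharpCrit

open Cfsg.Agent.SporadicA.SharpFour

variable {G X : Type*} [Group G] [Finite G] [MulAction G X] [Fintype X] [DecidableEq X]

/-- fixed points as a finset -/
def fix (X : Type*) {G : Type*} [Group G] [MulAction G X] [Fintype X] [DecidableEq X] (g : G) :
    Finset X := Finset.univ.filter fun x => g • x = x

omit [Finite G] in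
theorem mem_fix {g : G} {x : X} : x ∈ fix X g ↔ g • x = x := by
  simp [fix]

omit [Finite G] in
theorem fix_eq_compl_support (g : G) : fix X g = (MulAction.toPermHom G X g).supportᶜ := by
  ext x
  rw [mem_fix, Finset.mem_compl, Equiv.Perm.mem_support, not_not]
  rfl

omit [Finite G] in
theorem card_fix_mod {p : ℕ} [Fact p.Prime] {g : G} (hg : orderOf g = p) :
    (fix X g).card ≡ Fintype.card X [MOD p] := by
  rw [fix_eq_compl_support]
  apply Equiv.Perm.card_compl_support_modEq (n := 1)
  rw [pow_one, ← map_pow, ← hg, pow_orderOf_eq_one, map_one]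

/-- main criterion -/
theorem sharp4_of_fix (hsimple : IsSimpleGroup G) (hcard : Nat.card G = 7920)
    (hX : Fintype.card X = 11)
    (h3 : ∀ g : G, orderOf g = 3 → (fix X g).card ≤ 2)
    (h5 : ∀ g : G, orderOf g = 5 ∨ orderOf g = 11 → (fix X g).card ≤ 3)
    (h2 : ∀ u : G, orderOf u = 2 → ∃ y : G, orderOf y = 3 ∧ Commute u y) : Sharp4 G X := by
  classical
  have p2 : Fact (Nat.Prime 2) := ⟨by norm_num⟩
  have p3 : Fact (Nat.Prime 3) := ⟨by norm_num⟩
  -- faithful
  have hker : (MulAction.toPermHom G X).ker = ⊥ := by
    rcases (MulAction.toPermHom G X).normal_ker.eq_bot_or_eq_top with h | h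
    · exact h
    · exfalso
      obtain ⟨g, hg⟩ := exists_prime_orderOf_dvd_card' (G := G) 3 (by rw [hcard]; norm_num)
      have h1 := h3 g hg
      have h2 : fix X g = Finset.univ := by
        ext x
        rw [mem_fix]
        have : g ∈ (MulAction.toPermHom G X).ker := by rw [h]; trivial
        rw [MonoidHom.mem_ker] at this
        have h4 := congrArg (fun σ : Equiv.Perm X => σ x) this
        simpa using h4
      rw [h2, Finset.card_univ, hX] at h1
      omega
  have hinj : Function.Injective (MulAction.toPermHom G X) := (MonoidHom.ker_eq_bot_iff _).1 hker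
  -- even permutations
  have hsign : ∀ g : G, Equiv.Perm.sign (MulAction.toPermHom G X g) = 1 := by
    set f : G →* ℤˣ := (Equiv.Perm.sign).comp (MulAction.toPermHom G X) with hf
    have hk : f.ker = ⊤ := by
      rcases f.normal_ker.eq_bot_or_eq_top with h | h
      · exfalso
        have hfi : Function.Injective f := (MonoidHom.ker_eq_bot_iff _).1 h
        have h1 := Nat.card_le_card_of_injective f hfi
        rw [hcard] at h1
        have h2 : Nat.card ℤˣ = 2 := by
          rw [Nat.card_eq_fintype_card]; rfl
        omega
      · exact h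
    intro g
    have : g ∈ f.ker := by rw [hk]; trivial
    rw [MonoidHom.mem_ker] at this
    exact this
  -- involutions
  have hinv : ∀ u : G, orderOf u = 2 → (fix X u).card ≤ 3 := by
    intro u hu
    by_contra hcon
    push_neg at hcon
    have hmod := card_fix_mod (X := X) (p := 2) hu
    rw [hX] at hmod
    have hle : (fix X u).card ≤ 11 := by
      rw [← hX, ← Finset.card_univ]; exact Finset.card_le_univ _
    have hne11 : (fix X u).card ≠ 11 := by
      intro h11
      have h1 : fix X u = Finset.univ := by
        apply Finset.eq_univ_of_card; rw [h11, hX]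
      have h2 : u = 1 := by
        apply hinj
        rw [map_one]
        ext x
        have : x ∈ fix X u := by rw [h1]; exact Finset.mem_univ _
        rw [mem_fix] at this
        simpa using this
      rw [h2, orderOf_one] at hu
      omega
    have hsq : (MulAction.toPermHom G X u) ^ 2 = 1 := by
      rw [← map_pow, ← hu, pow_orderOf_eq_one, map_one]
    have hs := Equiv.Perm.sign_of_pow_two_eq_one hsq
    rw [hsign u] at hs
    have hfc : Fintype.card (Function.fixedPoints (MulAction.toPermHom G X u)) =
        (fix X u).card := by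
      rw [← Fintype.card_coe]
      apply Fintype.card_congr
      exact Equiv.subtypeEquivRight fun x => by
        rw [mem_fix]; rfl
    rw [hfc, hX] at hs
    have hF : (fix X u).card = 7 := by
      unfold Nat.ModEq at hmod
      have h5 : (fix X u).card = 5 ∨ (fix X u).card = 7 ∨ (fix X u).card = 9 := by omega
      rcases h5 with h5 | h5 | h5
      · exfalso
        rw [h5] at hs
        revert hs
        decide
      · exact h5
      · exfalso
        rw [h5] at hs
        revert hs
        decide
    obtain ⟨y, hy, huy⟩ := h2 u hu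
    have hymod := card_fix_mod (X := X) (p := 3) hy
    rw [hX] at hymod
    have hy2 : (fix X y).card = 2 := by
      have := h3 y hy
      unfold Nat.ModEq at hymod
      omega
    -- y acts on the fixed points of u
    have hyinv : ∀ x : X, (MulAction.toPermHom G X y x ∈ fix X u) ↔ x ∈ fix X u := by
      intro x
      rw [mem_fix, mem_fix]
      show u • (y • x) = y • x ↔ _
      rw [← mul_smul, huy.eq, mul_smul]
      constructor
      · intro h; exact smul_left_cancel y h
      · intro h; rw [h]
    set τ : Equiv.Perm {x // x ∈ fix X u} :=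
      (MulAction.toPermHom G X y).subtypePerm (p := fun x => x ∈ fix X u) hyinv with hτ
    have hτ3 : τ ^ 3 ^ 1 = 1 := by
      rw [pow_one, hτ, Equiv.Perm.subtypePerm_pow]
      ext x
      have : (MulAction.toPermHom G X y) ^ 3 = 1 := by
        rw [← map_pow, ← hy, pow_orderOf_eq_one, map_one]
      have h9 := congrArg (fun σ : Equiv.Perm X => σ x.1) this
      exact h9
    have hτmod := Equiv.Perm.card_compl_support_modEq hτ3
    rw [Fintype.card_coe, hF] at hτmod
    have himg : (τ.supportᶜ).card = (fix X y ∩ fix X u).card := by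
      rw [← Finset.card_map (Function.Embedding.subtype fun x => x ∈ fix X u)]
      congr 1
      ext x
      rw [Finset.mem_map, Finset.mem_inter]
      constructor
      · rintro ⟨⟨z, hz⟩, hz', rfl⟩
        rw [Finset.mem_compl, Equiv.Perm.mem_support, not_not] at hz'
        refine ⟨?_, hz⟩
        rw [mem_fix]
        have := congrArg Subtype.val hz'
        exact this
      · rintro ⟨h1, h2⟩
        refine ⟨⟨x, h2⟩, ?_, rfl⟩
        rw [Finset.mem_compl, Equiv.Perm.mem_support, not_not]
        apply Subtype.ext
        rw [mem_fix] at h1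
        exact h1
    rw [himg] at hτmod
    have hle2 : (fix X y ∩ fix X u).card ≤ 2 := by
      rw [← hy2]; exact Finset.card_le_card Finset.inter_subset_left
    have h1 : (fix X y ∩ fix X u).card = 1 := by
      unfold Nat.ModEq at hτmod
      omega
    obtain ⟨a, b, hab, hfab⟩ := Finset.card_eq_two.1 hy2
    have hufix : ∀ x ∈ fix X y, u • x ∈ fix X y := by
      intro x hx
      rw [mem_fix] at hx ⊢
      rw [← mul_smul, ← huy.eq, mul_smul, hx]
    have huu : ∀ x : X, u • (u • x) = x := by
      intro x
      rw [← mul_smul, ← pow_two, ← hu, pow_orderOf_eq_one, one_smul]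
    obtain ⟨c, hc⟩ := Finset.card_eq_one.1 h1
    have hcm : c ∈ fix X y ∩ fix X u := by rw [hc]; exact Finset.mem_singleton_self c
    rw [Finset.mem_inter] at hcm
    -- the other fixed point d of y
    obtain ⟨d, hd, hdc⟩ : ∃ d ∈ fix X y, d ≠ c := by
      have hc' := hcm.1
      rw [hfab, Finset.mem_insert, Finset.mem_singleton] at hc'
      rcases hc' with rfl | rfl
      · exact ⟨b, by rw [hfab]; simp, hab.symm⟩
      · exact ⟨a, by rw [hfab]; simp, hab⟩
    have hud : u • d ≠ d := by
      intro h
      have : d ∈ fix X y ∩ fix X u := Finset.mem_inter.2 ⟨hd, mem_fix.2 h⟩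
      rw [hc, Finset.mem_singleton] at this
      exact hdc this
    have hud2 : u • d ≠ c := by
      intro h
      have h5 := huu d
      rw [h, mem_fix.1 hcm.2] at h5
      exact hdc h5.symm
    have hud3 := hufix d hd
    have h3' : ({c, d, u • d} : Finset X) ⊆ fix X y := by
      intro x hx
      simp only [Finset.mem_insert, Finset.mem_singleton] at hx
      rcases hx with rfl | rfl | rfl
      · exact hcm.1
      · exact hd
      · exact hud3
    have h4 := Finset.card_le_card h3'
    rw [hy2, Finset.card_eq_three.2 ⟨c, d, u • d, hdc.symm, hud2.symm, hud.symm, rfl⟩] at h4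
    omega
  -- elements fixing four points are trivial
  have hfree : ∀ (g : G) (a b c d : X), [a, b, c, d].Nodup → g • a = a → g • b = b → g • c = c →
      g • d = d → g = 1 := by
    intro g a b c d hn ha hb hc hd
    by_contra hg
    have hord : orderOf g ≠ 1 := by rwa [Ne, orderOf_eq_one_iff]
    obtain ⟨p, hp, hpd⟩ := Nat.exists_prime_and_dvd hord
    have hpos : 0 < orderOf g := orderOf_pos g
    set k := orderOf g / p with hk
    have hgk : orderOf (g ^ k) = p := by
      rw [hk]
      have := orderOf_pow_orderOf_div (x := g) hpos.ne' hpd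
      exact this
    have hpow : ∀ x : X, g • x = x → (g ^ k) • x = x := by
      intro x hx
      have : ∀ n : ℕ, (g ^ n) • x = x := by
        intro n
        induction n with
        | zero => simp
        | succ n ih => rw [pow_succ, mul_smul, hx, ih]
      exact this k
    obtain ⟨hab, hac, had, hbc, hbd, hcd⟩ := nodup4_iff.1 hn
    have h4 : 4 ≤ (fix X (g ^ k)).card := by
      have hsub : ({a, b, c, d} : Finset X) ⊆ fix X (g ^ k) := by
        intro x hx
        simp only [Finset.mem_insert, Finset.mem_singleton] at hx
        rw [mem_fix]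
        rcases hx with rfl | rfl | rfl | rfl
        · exact hpow _ ha
        · exact hpow _ hb
        · exact hpow _ hc
        · exact hpow _ hd
      have := Finset.card_le_card hsub
      rwa [Finset.card_eq_four.2 ⟨a, b, c, d, hab, hac, had, hbc, hbd, hcd, rfl⟩] at this
    have hpd' : p ∣ 7920 := by
      rw [← hcard, ← hgk]; exact orderOf_dvd_natCard _
    have hp' : p = 2 ∨ p = 3 ∨ p = 5 ∨ p = 11 := by
      have : p ∈ Nat.primeFactors 7920 := Nat.mem_primeFactors.2 ⟨hp, hpd', by norm_num⟩
      have h7 : Nat.primeFactors 7920 = {2, 3, 5, 11} := by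
        rw [show (7920 : ℕ) = 2 ^ 4 * (3 ^ 2 * (5 * 11)) by norm_num,
          Nat.primeFactors_mul (by norm_num) (by norm_num),
          Nat.primeFactors_mul (by norm_num) (by norm_num),
          Nat.primeFactors_mul (by norm_num) (by norm_num),
          Nat.primeFactors_prime_pow (by norm_num) (by norm_num),
          Nat.primeFactors_prime_pow (by norm_num) (by norm_num),
          Nat.Prime.primeFactors (by norm_num), Nat.Prime.primeFactors (by norm_num)]
        rfl
      rw [h7] at this
      simpa using this
    rcases hp' with rfl | rfl | rfl | rfl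
    · have := hinv _ hgk; omega
    · have := h3 _ hgk; omega
    · have := h5 _ (Or.inl hgk); omega
    · have := h5 _ (Or.inr hgk); omega
  refine ⟨?_, hfree⟩
  -- transitivity by counting
  have hemb : Fintype.card (Fin 4 ↪ X) = 7920 := by
    rw [Fintype.card_embedding_eq, hX, Fintype.card_fin]
    rfl
  have hne : Nonempty (Fin 4 ↪ X) := by
    rw [← Fintype.card_pos_iff, hemb]; norm_num
  obtain ⟨x0⟩ := hne
  have : Fintype G := Fintype.ofFinite G
  let φ : G → (Fin 4 ↪ X) := fun g => ⟨fun i => g • x0 i, fun i j hij =>
    x0.injective (smul_left_cancel g hij)⟩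
  have nod : ∀ x : Fin 4 ↪ X, [x 0, x 1, x 2, x 3].Nodup := fun x =>
    nodup4_iff.2 ⟨x.injective.ne (by decide), x.injective.ne (by decide),
      x.injective.ne (by decide), x.injective.ne (by decide), x.injective.ne (by decide),
      x.injective.ne (by decide)⟩
  have hφinj : Function.Injective φ := by
    intro g g' hgg
    have hi : ∀ i, g • x0 i = g' • x0 i := fun i => by
      have := congrArg (fun e : Fin 4 ↪ X => e i) hgg
      exact this
    have h1 : ∀ i, (g'⁻¹ * g) • x0 i = x0 i := fun i => by
      rw [mul_smul, hi, inv_smul_smul]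
    have := hfree (g'⁻¹ * g) _ _ _ _ (nod x0) (h1 0) (h1 1) (h1 2) (h1 3)
    exact (inv_mul_eq_one.1 this).symm
  have hφbij : Function.Bijective φ := by
    rw [Fintype.bijective_iff_injective_and_card]
    refine ⟨hφinj, ?_⟩
    rw [hemb, ← Nat.card_eq_fintype_card, hcard]
  have hex : ∀ x : Fin 4 ↪ X, ∃ g : G, ∀ i, g • x0 i = x i := by
    intro x
    obtain ⟨g, hg⟩ := hφbij.2 x
    exact ⟨g, fun i => by rw [← hg]; rfl⟩
  intro a b c d a' b' c' d' hn hn'
  have mk : ∀ a b c d : X, [a, b, c, d].Nodup → ∃ x : Fin 4 ↪ X, x 0 = a ∧ x 1 = b ∧ x 2 = c ∧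
      x 3 = d := by
    intro a b c d hn
    refine ⟨⟨![a, b, c, d], ?_⟩, rfl, rfl, rfl, rfl⟩
    have := List.nodup_ofFn (f := ![a, b, c, d])
    rw [← this]
    simpa using hn
  obtain ⟨x, rfl, rfl, rfl, rfl⟩ := mk a b c d hn
  obtain ⟨y, rfl, rfl, rfl, rfl⟩ := mk a' b' c' d' hn'
  obtain ⟨g, hg⟩ := hex x
  obtain ⟨k, hk⟩ := hex y
  have hall : ∀ i, (k * g⁻¹) • x i = y i := by
    intro i
    rw [← hg i, mul_smul, inv_smul_smul, hk i]
  exact ⟨k * g⁻¹, hall 0, hall 1, hall 2, hall 3⟩

end Cfsg.Agent.SporadicA.SharpCrit
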