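import Cfsg.Agent.SporadicA.M11Action
import Cfsg.Agent.SporadicA.M11Srg
import Cfsg.Agent.SporadicA.M11Rank
import Cfsg.Agent.SporadicA.SharpCrit

/-!
# Simple groups of order 7920 act sharply 4-transitively on 11 points

The local and character-theoretic information on the group is an explicit hypothesis here
(`Facts`), the sharply 4-transitive action is on the eleven 10-cliques of the invariant graph on
the 55 Sylow 3-subgroups.
-/

set_option autoImplicit false

namespace Cfsg.Agent.SporadicA.M11Final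

open MulAction Cfsg
open Cfsg.Agent.SporadicA.SharpFour Cfsg.Agent.SporadicA.SharpCrit
open Cfsg.Agent.SporadicA.M11Lines Cfsg.Agent.SporadicA.M11Action Cfsg.Agent.SporadicA.M11Srg

/-- What we need to know about a simple group of order 7920. -/
structure Facts (G : Type*) [Group G] : Prop where
  simple : IsSimpleGroup G
  card : Nat.card G = 7920
  two : ∀ x : G, orderOf x = 2 → Nat.card (Subgroup.centralizer ({x} : Set G)) = 48
  three : ∀ x : G, orderOf x = 3 → Nat.card (Subgroup.centralizer ({x} : Set G)) = 18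
  norm : ∀ P : Sylow 3 G, Nat.card (Subgroup.normalizer ((P : Subgroup G) : Set G)) = 144
  irr : ∀ χ : G → ℂ, IsIrrCharacter G χ → χ ≠ (fun _ => 1) → ∀ y : G, orderOf y = 5 →
    ∃ d : ℕ, χ 1 = (d : ℂ) ∧ 10 ≤ d ∧ (χ y = 0 ∨ χ y = 1 ∨ (χ y = -1 ∧ d = 44))

variable {G : Type*} [Group G] [Finite G]

/-- Sylow 3-subgroups are TI. -/
theorem Facts.ti (hG : Facts G) {P Q : Sylow 3 G} {y : G} (hy : orderOf y = 3)
    (hP : y ∈ (P : Subgroup G)) (hQ : y ∈ (Q : Subgroup G)) : P = Q := by
  have p3 : Fact (Nat.Prime 3) := ⟨by norm_num⟩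
  have hcard9 : ∀ R : Sylow 3 G, Nat.card (R : Subgroup G) = 9 := by
    intro R
    rw [Sylow.card_eq_multiplicity, hG.card]
    have : Nat.factorization 7920 3 = 2 := by
      rw [show (7920 : ℕ) = 3 ^ 2 * 880 by norm_num]
      rw [Nat.factorization_mul (by norm_num) (by norm_num)]
      simp only [Finsupp.add_apply, Nat.Prime.factorization_pow (by norm_num : Nat.Prime 3),
        Finsupp.single_eq_same]
      rw [Nat.factorization_eq_zero_of_not_dvd (by norm_num)]
    rw [this]
    norm_num
  have hle : ∀ R : Sylow 3 G, y ∈ (R : Subgroup G) →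
      (R : Subgroup G) ≤ Subgroup.centralizer ({y} : Set G) := by
    intro R hR x hx
    have := IsPGroup.isMulCommutative_of_card_eq_prime_sq (p := 3) (G := (R : Subgroup G))
      (by rw [hcard9 R]; norm_num)
    rw [Subgroup.mem_centralizer_singleton_iff]
    have h1 := this.is_comm.comm ⟨x, hx⟩ ⟨y, hR⟩
    exact (congrArg Subtype.val h1)
  have hC := hG.three y hy
  have hidx : ((P : Subgroup G).subgroupOf (Subgroup.centralizer ({y} : Set G))).index = 2 := by
    have h1 := Subgroup.card_mul_index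
      ((P : Subgroup G).subgroupOf (Subgroup.centralizer ({y} : Set G)))
    have h2 : Nat.card ((P : Subgroup G).subgroupOf (Subgroup.centralizer ({y} : Set G))) = 9 := by
      rw [← hcard9 P]
      exact Nat.card_congr (Subgroup.subgroupOfEquivOfLe (hle P hP)).toEquiv
    rw [h2, hC] at h1
    omega
  have hsub : (Q : Subgroup G) ≤ (P : Subgroup G) := by
    intro x hx
    have hxC := hle Q hQ hx
    have h1 := Subgroup.sq_mem_of_index_two hidx ⟨x, hxC⟩
    rw [Subgroup.mem_subgroupOf] at h1
    have h2 : x ^ 2 ∈ (P : Subgroup G) := by simpa using h1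
    have h9 : x ^ 9 = 1 := by
      have := pow_card_eq_one' (x := (⟨x, hx⟩ : (Q : Subgroup G)))
      rw [hcard9 Q] at this
      have h3 := congrArg Subtype.val this
      simpa using h3
    have h4 : x = (x ^ 2) ^ 5 := by
      rw [← pow_mul, show 2 * 5 = 9 + 1 by norm_num, pow_add, h9, one_mul, pow_one]
    rw [h4]
    exact Subgroup.pow_mem _ h2 5
  apply Sylow.ext
  symm
  exact Subgroup.eq_of_le_of_card_ge hsub (by rw [hcard9, hcard9])

/-- an element of order 3 fixing a Sylow 3-subgroup lies in it -/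
theorem mem_of_smul_eq {P : Sylow 3 G} {y : G} (hy : orderOf y = 3) (h : y • P = P) :
    y ∈ (P : Subgroup G) := by
  have p3 : Fact (Nat.Prime 3) := ⟨by norm_num⟩
  have h1 : IsPGroup 3 (Subgroup.zpowers y) := by
    apply IsPGroup.of_card (n := 1)
    rw [Nat.card_zpowers, hy, pow_one]
  have h2 : Subgroup.zpowers y ⊓ Subgroup.normalizer ((P : Subgroup G) : Set G) =
      Subgroup.zpowers y ⊓ (P : Subgroup G) := h1.inf_normalizer_sylow P
  have h3 : y ∈ Subgroup.zpowers y ⊓ Subgroup.normalizer ((P : Subgroup G) : Set G) := by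
    refine ⟨Subgroup.mem_zpowers y, ?_⟩
    have : y ∈ stabilizer G P := h
    rw [Sylow.stabilizer_eq_normalizer] at this
    exact this
  rw [h2] at h3
  exact h3.2

theorem Facts.eq_of_fix_three (hG : Facts G) {P Q : Sylow 3 G} {y : G} (hy : orderOf y = 3)
    (hP : y • P = P) (hQ : y • Q = Q) : P = Q :=
  hG.ti hy (mem_of_smul_eq hy hP) (mem_of_smul_eq hy hQ)

omit [Finite G] in
theorem Facts.card_stabilizer (hG : Facts G) (P : Sylow 3 G) :
    Nat.card (stabilizer G P) = 144 := by
  rw [Sylow.stabilizer_eq_normalizer]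
  exact hG.norm P

theorem Facts.card_sylow (hG : Facts G) : Nat.card (Sylow 3 G) = 55 := by
  have p3 : Fact (Nat.Prime 3) := ⟨by norm_num⟩
  have P : Sylow 3 G := default
  have h1 := Subgroup.card_mul_index (Subgroup.normalizer ((P : Subgroup G) : Set G))
  have h2 : Nat.card (Sylow 3 G) = (Subgroup.normalizer ((P : Subgroup G) : Set G)).index :=
    Sylow.card_eq_index_normalizer P
  rw [← h2, hG.norm P, hG.card] at h1
  omega

theorem Facts.not_three_dvd (hG : Facts G) (P Q : Sylow 3 G) (hPQ : P ≠ Q) :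
    ¬ 3 ∣ joint G P Q := by
  intro h
  have p3 : Fact (Nat.Prime 3) := ⟨by norm_num⟩
  unfold joint at h
  obtain ⟨y, hy⟩ := exists_prime_orderOf_dvd_card'
    (G := (stabilizer G P ⊓ stabilizer G Q : Subgroup G)) 3 h
  rw [← Subgroup.orderOf_coe] at hy
  exact hPQ (hG.eq_of_fix_three hy y.2.1 y.2.2)

theorem Facts.rank (hG : Facts G) (P : Sylow 3 G) :
    Nat.card (orbitRel.Quotient (stabilizer G P) (Sylow 3 G)) = 3 := by
  have p3 : Fact (Nat.Prime 3) := ⟨by norm_num⟩
  have p5 : Fact (Nat.Prime 5) := ⟨by norm_num⟩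
  have : Fintype G := Fintype.ofFinite G
  have : Fintype (Sylow 3 G) := Fintype.ofFinite _
  obtain ⟨y, hy⟩ := exists_prime_orderOf_dvd_card' (G := G) 5 (by rw [hG.card]; norm_num)
  refine M11Rank.rank_eq_three hG.card_sylow y ?_ (fun χ hχ hχ1 => hG.irr χ hχ hχ1 y hy) P
  rw [Nat.card_eq_zero]
  left
  constructor
  rintro ⟨Q, hQ⟩
  rw [mem_fixedBy] at hQ
  have h1 : y ∈ stabilizer G Q := hQ
  have h2 := orderOf_dvd_natCard (⟨y, h1⟩ : stabilizer G Q)
  rw [← Subgroup.orderOf_coe, hG.card_stabilizer] at h2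
  have h3 : orderOf ((⟨y, h1⟩ : stabilizer G Q) : G) = 5 := hy
  rw [h3] at h2
  norm_num at h2

section lines

variable {V : Type*} [Fintype V] [DecidableEq V] {Γ : SimpleGraph V} [DecidableRel Γ.Adj]
  [MulAction G V] (hs : Γ.IsSRGWith 55 18 9 4)

omit [Finite G] in
include hs in
/-- fixed lines give fixed vertices -/
theorem fix_vertex (g : G) {c c' : Line Γ} (hne : c ≠ c')
    (hc : c.1.image (fun a => g • a) = c.1) (hc' : c'.1.image (fun a => g • a) = c'.1) :
    ∃ v : V, v ∈ c.1 ∧ v ∈ c'.1 ∧ g • v = v := by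
  have hne' : c.1 ≠ c'.1 := fun h => hne (Subtype.ext h)
  obtain ⟨v, ⟨h1, h2⟩, huniq⟩ := exists_unique_meet hs c.2 c'.2 hne'
  refine ⟨v, h1, h2, ?_⟩
  apply huniq
  constructor
  · rw [← hc]; exact Finset.mem_image_of_mem _ h1
  · rw [← hc']; exact Finset.mem_image_of_mem _ h2

end lines

/-- The main theorem: a sharply 4-transitive action on 11 points. -/
theorem Facts.exists_sharp4.{u} {G : Type u} [Group G] [Finite G] (hG : Facts G) :
    ∃ (X : Type u) (_ : Fintype X) (_ : DecidableEq X) (_ : MulAction G X),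
      Fintype.card X = 11 ∧ Sharp4 G X := by
  classical
  have p3 : Fact (Nat.Prime 3) := ⟨by norm_num⟩
  have : Fintype (Sylow 3 G) := Fintype.ofFinite _
  set Γ := graph G (Sylow 3 G) hG.card_stabilizer with hΓdef
  have hs : Γ.IsSRGWith 55 18 9 4 := isSRG hG.card_stabilizer hG.card_sylow
    (fun v w h => hG.not_three_dvd v w h) hG.rank
  have hΓ : ∀ (g : G) (a b : Sylow 3 G), Γ.Adj a b → Γ.Adj (g • a) (g • b) :=
    fun g a b h => graph_smul hG.card_stabilizer g h
  let act : MulAction G (Line Γ) := lineAction hΓ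
  refine ⟨Line Γ, inferInstance, inferInstance, act, card_line Γ hs, ?_⟩
  have hfix : ∀ (g : G) (c : Line Γ), c ∈ fix (Line Γ) g →
      c.1.image (fun a => g • a) = c.1 := by
    intro g c hc
    rw [mem_fix] at hc
    exact congrArg Subtype.val hc
  -- three fixed lines give two fixed vertices
  have h3fix : ∀ g : G, 2 < (fix (Line Γ) g).card →
      ∃ v w : Sylow 3 G, v ≠ w ∧ g • v = v ∧ g • w = w := by
    intro g hg
    obtain ⟨a, ha, b, hb, c, hc, hab, hac, hbc⟩ := Finset.two_lt_card.1 hg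
    obtain ⟨v, va, vb, hv⟩ := fix_vertex hs g hab (hfix g a ha) (hfix g b hb)
    obtain ⟨w, wa, wc, hw⟩ := fix_vertex hs g hac (hfix g a ha) (hfix g c hc)
    refine ⟨v, w, ?_, hv, hw⟩
    rintro rfl
    obtain ⟨c₁, c₂, hne, h1, h2, m1, m2, hint, hcov, hall⟩ := lines_through hs v
    have ea := hall a.1 a.2 va
    have eb := hall b.1 b.2 vb
    have ec := hall c.1 c.2 wc
    have nab : a.1 ≠ b.1 := fun h => hab (Subtype.ext h)
    have nac : a.1 ≠ c.1 := fun h => hac (Subtype.ext h)
    have nbc : b.1 ≠ c.1 := fun h => hbc (Subtype.ext h)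
    rcases ea with ea | ea <;> rcases eb with eb | eb <;> rcases ec with ec | ec <;>
      first
      | exact nab (ea.trans eb.symm)
      | exact nac (ea.trans ec.symm)
      | exact nbc (eb.trans ec.symm)
  apply sharp4_of_fix hG.simple hG.card (card_line Γ hs)
  · intro g hg
    by_contra hcon
    obtain ⟨v, w, hvw, hv, hw⟩ := h3fix g (by omega)
    exact hvw (hG.eq_of_fix_three hg hv hw)
  · intro g hg
    by_contra hcon
    obtain ⟨v, w, hvw, hv, hw⟩ := h3fix g (by omega)
    have h1 : g ∈ stabilizer G v := hv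
    have h2 := orderOf_dvd_natCard (⟨g, h1⟩ : stabilizer G v)
    rw [← Subgroup.orderOf_coe, hG.card_stabilizer] at h2
    change orderOf g ∣ 144 at h2
    rcases hg with hg | hg
    · rw [hg] at h2; norm_num at h2
    · rw [hg] at h2; norm_num at h2
  · intro u hu
    obtain ⟨y, hy⟩ := exists_prime_orderOf_dvd_card'
      (G := Subgroup.centralizer ({u} : Set G)) 3 (by rw [hG.two u hu]; norm_num)
    rw [← Subgroup.orderOf_coe] at hy
    refine ⟨y, hy, ?_⟩
    have := y.2
    rw [Subgroup.mem_centralizer_singleton_iff] at this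
    exact this.symm

end Cfsg.Agent.SporadicA.M11Final
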