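import Cfsg.Prelude.Def_Sporadic_a

/-!
# Sharply 4-transitive actions on 11 points preserve a Steiner system S(4,5,11)

`Sharp4 G α` : the action of `G` on `α` is sharply 4-transitive.
`exists_steiner` : if `α` has 11 points then there is an invariant Steiner system S(4,5,11).
-/

set_option autoImplicit false

namespace Cfsg.Agent.SporadicA.SharpFour

open Cfsg

/-- The action of `G` on `α` is sharply 4-transitive (elementwise form). -/
structure Sharp4 (G α : Type*) [Group G] [MulAction G α] : Prop where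
  exists_map : ∀ a b c d a' b' c' d' : α, [a, b, c, d].Nodup → [a', b', c', d'].Nodup →
    ∃ g : G, g • a = a' ∧ g • b = b' ∧ g • c = c' ∧ g • d = d'
  eq_one : ∀ (g : G) (a b c d : α), [a, b, c, d].Nodup → g • a = a → g • b = b → g • c = c →
    g • d = d → g = 1

variable {G α : Type*} [Group G] [MulAction G α]

theorem Sharp4.eq_of (h : Sharp4 G α) {g g' : G} {a b c d : α} (hn : [a, b, c, d].Nodup)
    (ha : g • a = g' • a) (hb : g • b = g' • b) (hc : g • c = g' • c) (hd : g • d = g' • d) :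
    g = g' := by
  have := h.eq_one (g'⁻¹ * g) a b c d hn
    (by rw [mul_smul, ha, inv_smul_smul]) (by rw [mul_smul, hb, inv_smul_smul])
    (by rw [mul_smul, hc, inv_smul_smul]) (by rw [mul_smul, hd, inv_smul_smul])
  exact (inv_mul_eq_one.1 this).symm

/-- `Fifth a b c d e`: some group element permutes `a → b → c → a` and fixes `d ≠ e`. -/
def Fifth (G : Type*) {α : Type*} [Group G] [MulAction G α] (a b c d e : α) : Prop :=
  ∃ g : G, g • a = b ∧ g • b = c ∧ g • c = a ∧ g • d = d ∧ g • e = e ∧ e ≠ d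

theorem nodup4_iff {a b c d : α} : [a, b, c, d].Nodup ↔
    a ≠ b ∧ a ≠ c ∧ a ≠ d ∧ b ≠ c ∧ b ≠ d ∧ c ≠ d := by
  simp [List.nodup_cons]
  tauto

/-- In a sharply 4-transitive action on 11 points, an element with a 3-cycle and a fixed point has
exactly two fixed points. -/
theorem exists_unique_other [Fintype α] [DecidableEq α] (h : Sharp4 G α) (h11 : Fintype.card α = 11)
    {a b c d : α} (hn : [a, b, c, d].Nodup) {g : G} (ha : g • a = b) (hb : g • b = c)
    (hc : g • c = a) (hd : g • d = d) : ∃! e, e ≠ d ∧ g • e = e := by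
  obtain ⟨hab, hac, had, hbc, hbd, hcd⟩ := nodup4_iff.1 hn
  set σ : Equiv.Perm α := MulAction.toPermHom G α g with hσ
  have hσa : ∀ x, σ x = g • x := fun x => rfl
  have hg3 : g ^ 3 = 1 := by
    apply h.eq_one _ a b c d hn
    · rw [pow_succ, pow_two, mul_smul, mul_smul, ha, hb, hc]
    · rw [pow_succ, pow_two, mul_smul, mul_smul, hb, hc, ha]
    · rw [pow_succ, pow_two, mul_smul, mul_smul, hc, ha, hb]
    · rw [pow_succ, pow_two, mul_smul, mul_smul, hd, hd, hd]
  have hσ3 : σ ^ 3 ^ 1 = 1 := by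
    rw [pow_one, hσ, ← map_pow, hg3, map_one]
  have : Fact (Nat.Prime 3) := ⟨by norm_num⟩
  have hmod := Equiv.Perm.card_compl_support_modEq hσ3
  rw [h11] at hmod
  have hmem : ∀ x, x ∈ σ.supportᶜ ↔ g • x = x := by
    intro x
    rw [Finset.mem_compl, Equiv.Perm.mem_support, not_not, hσa]
  have hle : σ.supportᶜ.card ≤ 3 := by
    by_contra hcon
    have h4 : 3 < σ.supportᶜ.card := by omega
    obtain ⟨s, hs, hs4⟩ := Finset.exists_subset_card_eq (show 4 ≤ σ.supportᶜ.card by omega)
    obtain ⟨x, y, z, w, hxy, hxz, hxw, hyz, hyw, hzw, rfl⟩ := Finset.card_eq_four.1 hs4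
    have h1 : g = 1 := by
      apply h.eq_one g x y z w (nodup4_iff.2 ⟨hxy, hxz, hxw, hyz, hyw, hzw⟩)
      · exact (hmem x).1 (hs (by simp))
      · exact (hmem y).1 (hs (by simp))
      · exact (hmem z).1 (hs (by simp))
      · exact (hmem w).1 (hs (by simp))
    rw [h1, one_smul] at ha
    exact hab ha
  have hpos : 0 < σ.supportᶜ.card := Finset.card_pos.2 ⟨d, (hmem d).2 hd⟩
  have h2 : σ.supportᶜ.card = 2 := by
    have := hmod
    unfold Nat.ModEq at this
    omega
  obtain ⟨x, y, hxy, hs⟩ := Finset.card_eq_two.1 h2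
  have hdm : d ∈ σ.supportᶜ := (hmem d).2 hd
  rw [hs] at hdm
  have hmem' : ∀ x', g • x' = x' ↔ x' = x ∨ x' = y := by
    intro x'
    rw [← hmem, hs]
    simp
  rcases (by simpa using hdm : d = x ∨ d = y) with rfl | rfl
  · refine ⟨y, ⟨hxy.symm, (hmem' y).2 (Or.inr rfl)⟩, ?_⟩
    rintro e ⟨he, hge⟩
    exact ((hmem' e).1 hge).resolve_left he
  · refine ⟨x, ⟨hxy, (hmem' x).2 (Or.inl rfl)⟩, ?_⟩
    rintro e ⟨he, hge⟩
    exact ((hmem' e).1 hge).resolve_right he

theorem exists_unique_fifth [Fintype α] [DecidableEq α] (h : Sharp4 G α)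
    (h11 : Fintype.card α = 11) {a b c d : α} (hn : [a, b, c, d].Nodup) :
    ∃! e, Fifth G a b c d e := by
  obtain ⟨hab, hac, had, hbc, hbd, hcd⟩ := nodup4_iff.1 hn
  obtain ⟨g, ha, hb, hc, hd⟩ := h.exists_map a b c d b c a d hn
    (nodup4_iff.2 ⟨hbc, hab.symm, hbd, hac.symm, hcd, had⟩)
  obtain ⟨e, ⟨he, hge⟩, huniq⟩ := exists_unique_other h h11 hn ha hb hc hd
  refine ⟨e, ⟨g, ha, hb, hc, hd, hge, he⟩, ?_⟩
  rintro e' ⟨g', ha', hb', hc', hd', hge', he'⟩
  have : g' = g := h.eq_of hn (by rw [ha', ha]) (by rw [hb', hb]) (by rw [hc', hc])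
    (by rw [hd', hd])
  subst this
  exact huniq e' ⟨he', hge'⟩

theorem Fifth.nodup {a b c d e : α} (hn : [a, b, c, d].Nodup) (hf : Fifth G a b c d e) :
    [a, b, c, d, e].Nodup := by
  obtain ⟨hab, hac, had, hbc, hbd, hcd⟩ := nodup4_iff.1 hn
  obtain ⟨g, ha, hb, hc, hd, he, hed⟩ := hf
  have hae : a ≠ e := by
    rintro rfl; exact hab (he.symm.trans ha)
  have hbe : b ≠ e := by
    rintro rfl; exact hbc (he.symm.trans hb)
  have hce : c ≠ e := by
    rintro rfl; exact hac (he.symm.trans hc).symm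
  simp only [List.nodup_cons, List.mem_cons, List.not_mem_nil, or_false, not_or, List.nodup_nil,
    not_false_eq_true, and_true]
  exact ⟨⟨hab, hac, had, hae⟩, ⟨hbc, hbd, hbe⟩, ⟨hcd, hce⟩, hed.symm⟩

theorem Fifth.rot {a b c d e : α} (hf : Fifth G a b c d e) : Fifth G b c a d e := by
  obtain ⟨g, ha, hb, hc, hd, he, hed⟩ := hf
  exact ⟨g, hb, hc, ha, hd, he, hed⟩

theorem Fifth.swap12 {a b c d e : α} (hf : Fifth G a b c d e) : Fifth G a c b d e := by
  obtain ⟨g, ha, hb, hc, hd, he, hed⟩ := hf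
  exact ⟨g⁻¹, by rw [← hc, inv_smul_smul], by rw [← hb, inv_smul_smul], by rw [← ha, inv_smul_smul],
    by rw [inv_smul_eq_iff, hd], by rw [inv_smul_eq_iff, he], hed⟩

theorem Fifth.swap01 {a b c d e : α} (hf : Fifth G a b c d e) : Fifth G b a c d e :=
  hf.swap12.rot.rot

theorem Fifth.swap34 {a b c d e : α} (hf : Fifth G a b c d e) : Fifth G a b c e d := by
  obtain ⟨g, ha, hb, hc, hd, he, hed⟩ := hf
  exact ⟨g, ha, hb, hc, he, hd, hed.symm⟩

theorem Fifth.swap23 [Fintype α] [DecidableEq α] (h : Sharp4 G α) (h11 : Fintype.card α = 11)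
    {a b c d e : α} (hn : [a, b, c, d].Nodup) (hf : Fifth G a b c d e) : Fifth G a b d c e := by
  obtain ⟨hab, hac, had, hbc, hbd, hcd⟩ := nodup4_iff.1 hn
  have hn' : [a, b, d, c].Nodup := nodup4_iff.2 ⟨hab, had, hac, hbd, hbc, hcd.symm⟩
  obtain ⟨e', he', -⟩ := exists_unique_fifth h h11 hn'
  have hnod := Fifth.nodup hn hf
  have hnod' := Fifth.nodup hn' he'
  have hf0 := hf
  have he0 := he'
  obtain ⟨g, ga, gb, gc, gd, ge, hed⟩ := hf
  obtain ⟨g', ga', gb', gd', gc', ge', hec'⟩ := he'
  obtain ⟨t, ta, tb, tc, td⟩ := h.exists_map a b c d b a c d hn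
    (nodup4_iff.2 ⟨hab.symm, hbc, hbd, hac, had, hcd⟩)
  have ta' : t⁻¹ • b = a := by rw [inv_smul_eq_iff, ta]
  have tb' : t⁻¹ • a = b := by rw [inv_smul_eq_iff, tb]
  have tc' : t⁻¹ • c = c := by rw [inv_smul_eq_iff, tc]
  have td' : t⁻¹ • d = d := by rw [inv_smul_eq_iff, td]
  -- t conjugates g to its inverse
  have key : t * g * t⁻¹ = g⁻¹ := by
    apply h.eq_of hn
    · rw [mul_smul, mul_smul, tb', gb, tc, eq_inv_smul_iff, gc]
    · rw [mul_smul, mul_smul, ta', ga, tb, eq_inv_smul_iff, ga]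
    · rw [mul_smul, mul_smul, tc', gc, ta, eq_inv_smul_iff, gb]
    · rw [mul_smul, mul_smul, td', gd, td, eq_inv_smul_iff, gd]
  have key' : t * g' * t⁻¹ = g'⁻¹ := by
    apply h.eq_of hn
    · rw [mul_smul, mul_smul, tb', gb', td, eq_inv_smul_iff, gd']
    · rw [mul_smul, mul_smul, ta', ga', tb, eq_inv_smul_iff, ga']
    · rw [mul_smul, mul_smul, tc', gc', tc, eq_inv_smul_iff, gc']
    · rw [mul_smul, mul_smul, td', gd', ta, eq_inv_smul_iff, gb']
  have te : t • e = e := by
    have h1 : g⁻¹ • (t • e) = t • e := by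
      rw [← key, mul_smul, mul_smul, inv_smul_smul, ge]
    have h2 : g • (t • e) = t • e := by
      rw [inv_smul_eq_iff] at h1; exact h1.symm
    have h3 : t • e ≠ d := by
      intro h4; rw [← td] at h4; exact hed (smul_left_cancel t h4)
    exact (exists_unique_other h h11 hn ga gb gc gd).unique ⟨h3, h2⟩ ⟨hed, ge⟩
  have te' : t • e' = e' := by
    have h1 : g'⁻¹ • (t • e') = t • e' := by
      rw [← key', mul_smul, mul_smul, inv_smul_smul, ge']
    have h2 : g' • (t • e') = t • e' := by
      rw [inv_smul_eq_iff] at h1; exact h1.symm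
    have h3 : t • e' ≠ c := by
      intro h4; rw [← tc] at h4; exact hec' (smul_left_cancel t h4)
    exact (exists_unique_other h h11 hn' ga' gb' gd' gc').unique ⟨h3, h2⟩ ⟨hec', ge'⟩
  have hee : e = e' := by
    by_contra hne
    simp only [List.nodup_cons, List.mem_cons, List.not_mem_nil, or_false, not_or, List.nodup_nil,
      not_false_eq_true, and_true] at hnod hnod'
    have h1 : t = 1 := h.eq_one t c d e e'
      (nodup4_iff.2 ⟨hcd, hnod.2.2.1.2, hec'.symm, hed.symm, hnod'.2.2.1.2, hne⟩) tc td te te'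
    rw [h1, one_smul] at ta
    exact hab ta
  rw [hee]
  exact he0

/-- Invariance of `Fifth` under all permutations of the five arguments. -/
theorem fifth_perm [Fintype α] [DecidableEq α] (h : Sharp4 G α) (h11 : Fintype.card α = 11)
    (σ : Equiv.Perm (Fin 5)) (x : Fin 5 → α) (hx : Function.Injective x)
    (hf : Fifth G (x 0) (x 1) (x 2) (x 3) (x 4)) :
    Fifth G (x (σ 0)) (x (σ 1)) (x (σ 2)) (x (σ 3)) (x (σ 4)) := by
  have hσ : σ ∈ Submonoid.closure
      (Set.range fun i : Fin 4 ↦ Equiv.swap i.castSucc i.succ) := by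
    rw [Equiv.Perm.mclosure_swap_castSucc_succ]; trivial
  induction hσ using Submonoid.closure_induction_right with
  | one => exact hf
  | mul_right τ _ s hs ih =>
    obtain ⟨i, rfl⟩ := hs
    have hinj : Function.Injective (fun j => x (τ j)) := hx.comp τ.injective
    have hn : [x (τ 0), x (τ 1), x (τ 2), x (τ 3)].Nodup :=
      nodup4_iff.2 ⟨hinj.ne (by decide : (0 : Fin 5) ≠ 1), hinj.ne (by decide : (0 : Fin 5) ≠ 2),
        hinj.ne (by decide : (0 : Fin 5) ≠ 3), hinj.ne (by decide : (1 : Fin 5) ≠ 2),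
        hinj.ne (by decide : (1 : Fin 5) ≠ 3), hinj.ne (by decide : (2 : Fin 5) ≠ 3)⟩
    simp only [Equiv.Perm.mul_apply]
    fin_cases i
    · exact ih.swap01
    · exact ih.swap12
    · exact ih.swap23 h h11 hn
    · exact ih.swap34

/-- The blocks: `{a,b,c,d,e}` with `Fifth a b c d e`. -/
def blocks (G α : Type*) [Group G] [MulAction G α] [DecidableEq α] : Set (Finset α) :=
  {s | ∃ x : Fin 5 → α, Function.Injective x ∧ Fifth G (x 0) (x 1) (x 2) (x 3) (x 4) ∧
    s = Finset.univ.image x}

theorem blocks_steiner [Fintype α] [DecidableEq α] (h : Sharp4 G α) (h11 : Fintype.card α = 11) :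
    IsSteinerSystem 4 5 (blocks G α) := by
  refine ⟨?_, ?_⟩
  · rintro s ⟨x, hx, -, rfl⟩
    rw [Finset.card_image_of_injective _ hx, Finset.card_univ, Fintype.card_fin]
  · intro t ht
    obtain ⟨a, b, c, d, hab, hac, had, hbc, hbd, hcd, rfl⟩ := Finset.card_eq_four.1 ht
    have hn : [a, b, c, d].Nodup := nodup4_iff.2 ⟨hab, hac, had, hbc, hbd, hcd⟩
    obtain ⟨e, he, huniq⟩ := exists_unique_fifth h h11 hn
    have hnod := Fifth.nodup hn he
    have hinj : Function.Injective ![a, b, c, d, e] := by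
      have := List.nodup_ofFn (f := ![a, b, c, d, e])
      rw [← this]
      simpa using hnod
    refine ⟨Finset.univ.image ![a, b, c, d, e], ⟨⟨![a, b, c, d, e], hinj, he, rfl⟩, ?_⟩, ?_⟩
    · intro z hz
      simp only [Finset.mem_insert, Finset.mem_singleton] at hz
      rw [Finset.mem_image]
      rcases hz with rfl | rfl | rfl | rfl
      · exact ⟨0, Finset.mem_univ _, rfl⟩
      · exact ⟨1, Finset.mem_univ _, rfl⟩
      · exact ⟨2, Finset.mem_univ _, rfl⟩
      · exact ⟨3, Finset.mem_univ _, rfl⟩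
    · rintro s ⟨⟨x, hx, hfx, rfl⟩, hsub⟩
      -- the fifth point of the block
      have hcard5 : (Finset.univ.image x).card = 5 := by
        rw [Finset.card_image_of_injective _ hx, Finset.card_univ, Fintype.card_fin]
      obtain ⟨e', he'⟩ : ∃ e', e' ∈ Finset.univ.image x \ {a, b, c, d} := by
        apply Finset.card_pos.1
        rw [Finset.card_sdiff_of_subset hsub, hcard5, ht]
        norm_num
      rw [Finset.mem_sdiff] at he'
      simp only [Finset.mem_insert, Finset.mem_singleton, not_or] at he'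
      obtain ⟨he'x, hea, heb, hec, hed⟩ := he'
      set y : Fin 5 → α := ![a, b, c, d, e'] with hy
      have hyinj : Function.Injective y := by
        have := List.nodup_ofFn (f := y)
        rw [← this]
        simp only [hy, List.ofFn_succ, Fin.isValue, Matrix.cons_val_zero, Matrix.cons_val_succ,
          Matrix.cons_val_fin_one, List.ofFn_zero, List.nodup_cons, List.mem_cons,
          List.not_mem_nil, or_false, not_or, List.nodup_nil, not_false_eq_true, and_true]
        exact ⟨⟨hab, hac, had, Ne.symm hea⟩, ⟨hbc, hbd, Ne.symm heb⟩, ⟨hcd, Ne.symm hec⟩,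
          Ne.symm hed⟩
      have hymem : ∀ i, ∃ j, x j = y i := by
        intro i
        have hm : y i ∈ Finset.univ.image x := by
          fin_cases i
          · exact hsub (by simp [hy])
          · exact hsub (by simp [hy])
          · exact hsub (by simp [hy])
          · exact hsub (by simp [hy])
          · exact he'x
        rw [Finset.mem_image] at hm
        obtain ⟨j, -, hj⟩ := hm
        exact ⟨j, hj⟩
      choose σ hσ using hymem
      have hσinj : Function.Injective σ := by
        intro i j hij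
        apply hyinj
        rw [← hσ i, ← hσ j, hij]
      have hσbij : Function.Bijective σ := Finite.injective_iff_bijective.1 hσinj
      have hfy : Fifth G (y 0) (y 1) (y 2) (y 3) (y 4) := by
        have := fifth_perm h h11 (Equiv.ofBijective σ hσbij) x hx hfx
        simp only [Equiv.ofBijective_apply, hσ] at this
        exact this
      have hee : e' = e := huniq e' hfy
      have himg : Finset.univ.image y = Finset.univ.image x := by
        apply Finset.eq_of_subset_of_card_le
        · intro z hz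
          rw [Finset.mem_image] at hz ⊢
          obtain ⟨i, -, rfl⟩ := hz
          exact ⟨σ i, Finset.mem_univ _, hσ i⟩
        · rw [Finset.card_image_of_injective _ hx, Finset.card_image_of_injective _ hyinj]
      rw [← himg, hy, hee]

theorem smul_mem_blocks [DecidableEq α] (g : G) {s : Finset α} (hs : s ∈ blocks G α) :
    s.image (fun a => g • a) ∈ blocks G α := by
  obtain ⟨x, hx, ⟨k, h0, h1, h2, h3, h4, h5⟩, rfl⟩ := hs
  refine ⟨fun i => g • x i, ?_, ⟨g * k * g⁻¹, ?_, ?_, ?_, ?_, ?_, ?_⟩, ?_⟩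
  · intro i j hij
    exact hx (smul_left_cancel g hij)
  · simp only [mul_smul, inv_smul_smul, h0]
  · simp only [mul_smul, inv_smul_smul, h1]
  · simp only [mul_smul, inv_smul_smul, h2]
  · simp only [mul_smul, inv_smul_smul, h3]
  · simp only [mul_smul, inv_smul_smul, h4]
  · intro h6
    exact h5 (smul_left_cancel g h6)
  · rw [Finset.image_image]
    rfl

end Cfsg.Agent.SporadicA.SharpFour
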