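import Mathlib
import Cfsg.Prelude.Def_Sporadic_a

/-!
# Computational search over Steiner systems `S(t, t+1, n)`, and strong uniqueness

Subsets of `Fin n` are coded by bit masks.  `search` explores, along a fixed schedule of
`t`-subsets, all the ways to complete a list of known blocks; its soundness theorem
`search_sound` turns a kernel computation into a statement about every Steiner system.

`exists_unique_iso_of_model` is the formal part: a model system `B0` on `Fin n` into which every
system can be relabelled without moving the first `t` points, and which has no nontrivial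
automorphism fixing the first `t` points, gives unique isomorphisms extending any bijection
between ordered `t`-tuples.
-/

set_option autoImplicit false

namespace Cfsg.Agent.SporadicA.SteinerSearch

open Cfsg

/-- the subset of `Fin n` coded by the binary digits of `m` -/
def fs (n m : ℕ) : Finset (Fin n) := Finset.univ.filter fun i => m.testBit i = true

theorem mem_fs {n m : ℕ} {i : Fin n} : i ∈ fs n m ↔ m.testBit i = true := by
  simp [fs]

theorem fs_land (n a b : ℕ) : fs n (a &&& b) = fs n a ∩ fs n b := by
  ext i; simp [mem_fs]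

theorem fs_lor_two_pow (n s : ℕ) (j : Fin n) : fs n (s ||| 2 ^ (j : ℕ)) = insert j (fs n s) := by
  ext i
  simp only [mem_fs, Nat.testBit_lor, Nat.testBit_two_pow, Finset.mem_insert, Bool.or_eq_true,
    decide_eq_true_eq, Fin.ext_iff]
  tauto

theorem fs_inj {n a b : ℕ} (ha : a < 2 ^ n) (hb : b < 2 ^ n) (h : fs n a = fs n b) : a = b := by
  apply Nat.eq_of_testBit_eq
  intro i
  by_cases hi : i < n
  · have := Finset.ext_iff.1 h ⟨i, hi⟩
    simp only [mem_fs] at this
    exact Bool.eq_iff_iff.2 this
  · rw [Nat.testBit_lt_two_pow (lt_of_lt_of_le ha (Nat.pow_le_pow_right (by norm_num) (not_lt.1 hi))),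
      Nat.testBit_lt_two_pow (lt_of_lt_of_le hb (Nat.pow_le_pow_right (by norm_num) (not_lt.1 hi)))]

theorem exists_fs {n : ℕ} (s : Finset (Fin n)) : ∃ m < 2 ^ n, fs n m = s := by
  have hinj : Function.Injective (fun m : Fin (2 ^ n) => fs n m) := by
    intro a b h
    exact Fin.ext (fs_inj a.2 b.2 h)
  have hbij := (Fintype.bijective_iff_injective_and_card (fun m : Fin (2 ^ n) => fs n m)).2
    ⟨hinj, by simp⟩
  obtain ⟨m, hm⟩ := hbij.2 s
  exact ⟨m, m.2, hm⟩

/-- fast population count, valid below `2 ^ 14` -/
def pc (m : ℕ) : ℕ := Nat.mod (Nat.land (Nat.mul m 0x200040008001) 0x111111111111111) 15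

/-- slow population count -/
def pcSlow : ℕ → ℕ → ℕ
  | 0, _ => 0
  | n + 1, m => (m.testBit n).toNat + pcSlow n m

theorem card_fs (n m : ℕ) : (fs n m).card = pcSlow n m := by
  induction n with
  | zero => simp [fs, pcSlow]
  | succ n ih =>
    have : fs (n + 1) m = (fs n m).map Fin.castSuccEmb ∪ (if m.testBit n then {Fin.last n} else ∅) := by
      ext i
      simp only [mem_fs, Finset.mem_union, Finset.mem_map]
      refine Fin.lastCases ?_ (fun i => ?_) i
      · by_cases h : m.testBit n = true
        · simp [h]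
        · simp only [Fin.val_last, h]
          simp only [Bool.false_eq_true, ↓reduceIte, Finset.notMem_empty, or_false, false_iff, not_exists, not_and]
          intro x _ hx
          exact absurd hx (Fin.castSucc_lt_last x).ne
      · have h1 : ((i.castSucc : Fin (n + 1)) : ℕ) = i := rfl
        rw [h1]
        constructor
        · intro h
          exact Or.inl ⟨i, h, rfl⟩
        · rintro (⟨x, hx, hxi⟩ | h)
          · have : x = i := by
              apply Fin.castSucc_injective n
              exact hxi
            rw [← this]; exact hx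
          · exfalso
            split_ifs at h
            · rw [Finset.mem_singleton] at h
              exact absurd h (Fin.castSucc_lt_last i).ne
            · simp at h
    rw [this, Finset.card_union_of_disjoint, Finset.card_map, ih, pcSlow]
    · by_cases h : m.testBit n = true
      · simp [h, add_comm]
      · simp [h]
    · rw [Finset.disjoint_left]
      intro x hx hx'
      split_ifs at hx'
      · rw [Finset.mem_singleton] at hx'
        subst hx'
        obtain ⟨y, _, hy⟩ := Finset.mem_map.1 hx
        exact absurd hy (Fin.castSucc_lt_last y).ne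
      · simp at hx'

/-- single-bit test by kernel-accelerated operations -/
def bit (m j : ℕ) : Bool := Nat.beq (Nat.land (Nat.shiftRight m j) 1) 1

theorem bit_eq (m j : ℕ) : bit m j = m.testBit j := by
  unfold bit Nat.testBit
  change Nat.beq (m >>> j &&& 1) 1 = (1 &&& (m >>> j) != 0)
  rw [Nat.and_comm 1]
  rw [Nat.and_one_is_mod]
  rcases Nat.mod_two_eq_zero_or_one (m >>> j) with h | h <;> rw [h] <;> rfl

/-- some known block meets `m` in exactly `t` points -/
def conflict (t m : ℕ) (known : List ℕ) : Bool :=
  known.any fun k => Nat.beq (pc (Nat.land m k)) t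

/-- some known block contains `s` -/
def covered (s : ℕ) (known : List ℕ) : Bool :=
  known.any fun k => Nat.beq (Nat.land k s) s

/-- explore all completions of the known blocks along a schedule of `t`-subsets -/
def search (t : ℕ) (pts : List ℕ) (leaf : List ℕ → Bool) : List ℕ → List ℕ → Bool
  | [], known => leaf known
  | s :: ss, known =>
    bif covered s known then search t pts leaf ss known
    else Nat.beq (pc s) t && pts.all fun j =>
      bit s j || conflict t (Nat.lor s (Nat.shiftLeft 1 j)) known ||
        search t pts leaf ss (Nat.lor s (Nat.shiftLeft 1 j) :: known)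

theorem shiftLeft_one (j : ℕ) : Nat.shiftLeft 1 j = 2 ^ j := by
  change 1 <<< j = 2 ^ j
  rw [Nat.shiftLeft_eq, one_mul]

section sound

variable {n t : ℕ} {C : Set (Finset (Fin n))}

theorem inter_card_ne (hC : IsSteinerSystem t (t + 1) C) {a b : Finset (Fin n)} (ha : a ∈ C) (hb : b ∈ C) :
    (a ∩ b).card ≠ t := by
  intro h
  obtain ⟨c, hc, hcu⟩ := hC.2 (a ∩ b) h
  have h1 : a = c := hcu a ⟨ha, Finset.inter_subset_left⟩
  have h2 : b = c := hcu b ⟨hb, Finset.inter_subset_right⟩
  rw [h1, h2, Finset.inter_self, hC.1 c hc.1] at h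
  omega

theorem exists_insert (hC : IsSteinerSystem t (t + 1) C) {s : Finset (Fin n)} (hs : s.card = t) :
    ∃ j : Fin n, j ∉ s ∧ insert j s ∈ C := by
  obtain ⟨b, ⟨hb, hsb⟩, _⟩ := hC.2 s hs
  have hcard := hC.1 b hb
  have h1 : (b \ s).card = 1 := by
    rw [Finset.card_sdiff_of_subset hsb, hcard, hs]; omega
  obtain ⟨j, hj⟩ := Finset.card_eq_one.1 h1
  have hjm : j ∈ b \ s := by rw [hj]; exact Finset.mem_singleton_self j
  refine ⟨j, (Finset.mem_sdiff.1 hjm).2, ?_⟩
  have : insert j s = b := by
    rw [Finset.insert_eq, ← hj, Finset.sdiff_union_of_subset hsb]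
  rw [this]; exact hb

/-- Soundness of the search. -/
theorem search_sound (hC : IsSteinerSystem t (t + 1) C) (hpc : ∀ m < 2 ^ n, pc m = (fs n m).card)
    {pts : List ℕ} (hpts : ∀ j < n, j ∈ pts) (leaf : List ℕ → Bool) :
    ∀ (ss known : List ℕ), (∀ s ∈ ss, s < 2 ^ n) → (∀ k ∈ known, k < 2 ^ n ∧ fs n k ∈ C) →
      search t pts leaf ss known = true →
      ∃ known' : List ℕ, (∀ k ∈ known', k < 2 ^ n ∧ fs n k ∈ C) ∧ leaf known' = true := by
  intro ss
  induction ss with
  | nil => intro known _ hk h; exact ⟨known, hk, h⟩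
  | cons s ss ih =>
    intro known hss hk h
    rw [search] at h
    have hs := hss s List.mem_cons_self
    have hss' : ∀ s ∈ ss, s < 2 ^ n := fun s' h' => hss s' (List.mem_cons_of_mem _ h')
    cases hcov : covered s known with
    | true =>
      rw [hcov] at h
      exact ih known hss' hk h
    | false =>
      rw [hcov, cond_false, Bool.and_eq_true] at h
      obtain ⟨h1, h2⟩ := h
      have hcard : (fs n s).card = t := by
        rw [← hpc s hs]; exact Nat.eq_of_beq_eq_true h1
      obtain ⟨j, hj, hjC⟩ := exists_insert hC hcard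
      rw [← fs_lor_two_pow] at hjC
      have hlt : s ||| 2 ^ (j : ℕ) < 2 ^ n :=
        Nat.or_lt_two_pow hs (Nat.pow_lt_pow_right (by norm_num) j.2)
      have h3 := List.all_eq_true.1 h2 j (hpts j j.2)
      rw [Bool.or_eq_true, Bool.or_eq_true, bit_eq, shiftLeft_one] at h3
      rcases h3 with (h3 | h3) | h3
      · exact absurd (mem_fs.2 h3) hj
      · exfalso
        obtain ⟨k, hkk, hk2⟩ := List.any_eq_true.1 h3
        obtain ⟨hk3, hk4⟩ := hk k hkk
        have h4 := Nat.eq_of_beq_eq_true hk2
        change pc ((s ||| 2 ^ (j : ℕ)) &&& k) = t at h4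
        rw [hpc _ (lt_of_le_of_lt Nat.and_le_right hk3), fs_land] at h4
        exact inter_card_ne hC hjC hk4 h4
      · exact ih _ hss' (by
          intro k hk'
          rcases List.mem_cons.1 hk' with rfl | hk'
          · exact ⟨hlt, hjC⟩
          · exact hk k hk') h3

/-- A system containing a family that covers every `t`-subset equals that family. -/
theorem eq_of_covering (hC : IsSteinerSystem t (t + 1) C) {B0 : Set (Finset (Fin n))} (hsub : B0 ⊆ C)
    (hcov : ∀ s : Finset (Fin n), s.card = t → ∃ b ∈ B0, s ⊆ b) : C = B0 := by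
  apply Set.Subset.antisymm _ hsub
  intro b hb
  have hbc := hC.1 b hb
  obtain ⟨s, hs, hsc⟩ := Finset.exists_subset_card_eq (show t ≤ b.card by omega)
  obtain ⟨b', hb', hsb'⟩ := hcov s hsc
  obtain ⟨c, _, hcu⟩ := hC.2 s hsc
  have h1 : b = c := hcu b ⟨hb, hs⟩
  have h2 : b' = c := hcu b' ⟨hsub hb', hsb'⟩
  rw [h1, ← h2]; exact hb'

end sound

/-! ### Pulling back along a bijection -/

theorem pull_steiner {α β : Type*} {t k : ℕ} {B : Set (Finset α)} (hB : IsSteinerSystem t k B) (e : β ≃ α) :
    IsSteinerSystem t k {s : Finset β | s.map e.toEmbedding ∈ B} := by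
  constructor
  · intro b hb
    rw [← hB.1 _ hb, Finset.card_map]
  · intro s hs
    obtain ⟨b, ⟨hb, hsb⟩, hbu⟩ := hB.2 (s.map e.toEmbedding) (by rw [Finset.card_map, hs])
    refine ⟨b.map e.symm.toEmbedding, ⟨?_, ?_⟩, ?_⟩
    · change (b.map e.symm.toEmbedding).map e.toEmbedding ∈ B
      rw [Finset.map_map]
      have : e.symm.toEmbedding.trans e.toEmbedding = Function.Embedding.refl α := by
        ext x; simp
      rw [this, Finset.map_refl]; exact hb
    · intro x hx
      rw [Finset.mem_map]
      exact ⟨e x, hsb (Finset.mem_map_of_mem _ hx), by simp⟩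
    · rintro c ⟨hc, hsc⟩
      have h1 := hbu (c.map e.toEmbedding) ⟨hc, Finset.map_subset_map.2 hsc⟩
      rw [← h1, Finset.map_map]
      have : e.toEmbedding.trans e.symm.toEmbedding = Function.Embedding.refl β := by
        ext x; simp
      rw [this, Finset.map_refl]

/-! ### Masks of images under a permutation given by a table -/

/-- image mask of `b` under the table `l` -/
def mapMask : List ℕ → ℕ → ℕ
  | [], _ => 0
  | a :: l, b => Nat.lor (bif bit b 0 then Nat.shiftLeft 1 a else 0) (mapMask l (Nat.shiftRight b 1))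

theorem testBit_mapMask (l : List ℕ) (b j : ℕ) :
    (mapMask l b).testBit j = true ↔ ∃ i : Fin l.length, l.get i = j ∧ b.testBit i = true := by
  induction l generalizing b with
  | nil => simp [mapMask]
  | cons a l ih =>
    change (((bif bit b 0 then Nat.shiftLeft 1 a else 0) ||| (mapMask l (b >>> 1))).testBit j = true) ↔ _
    rw [Nat.testBit_lor, Bool.or_eq_true, ih, bit_eq, shiftLeft_one]
    constructor
    · rintro (h | ⟨i, hi, hb⟩)
      · cases hb : b.testBit 0 with
        | true =>
          rw [hb, cond_true, Nat.testBit_two_pow, decide_eq_true_eq] at h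
          exact ⟨⟨0, by simp⟩, h, hb⟩
        | false =>
          rw [hb, cond_false] at h
          simp at h
      · refine ⟨i.succ, hi, ?_⟩
        rw [Nat.testBit_shiftRight, add_comm] at hb
        exact hb
    · rintro ⟨i, hi, hb⟩
      revert hi hb
      refine Fin.cases ?_ (fun i => ?_) i
      · intro hi hb
        left
        change b.testBit 0 = true at hb
        change a = j at hi
        rw [hb, cond_true, hi, Nat.testBit_two_pow_self]
      · intro hi hb
        right
        refine ⟨i, hi, ?_⟩
        rw [Nat.testBit_shiftRight, add_comm]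
        exact hb

theorem fs_mapMask {n : ℕ} (l : List ℕ) (hl : l.length ≤ n) (π : Equiv.Perm (Fin n))
    (hπ : ∀ i : Fin l.length, ((π (Fin.castLE hl i) : Fin n) : ℕ) = l.get i) (b : ℕ)
    (hb : ∀ i : Fin n, b.testBit i = true → (i : ℕ) < l.length) :
    fs n (mapMask l b) = (fs n b).map π.toEmbedding := by
  ext j
  rw [mem_fs, testBit_mapMask, Finset.mem_map]
  constructor
  · rintro ⟨i, hi, hb⟩
    refine ⟨Fin.castLE hl i, mem_fs.2 hb, ?_⟩
    apply Fin.ext
    rw [← hi]
    exact hπ _
  · rintro ⟨i, hi, hij⟩
    have hi' := mem_fs.1 hi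
    refine ⟨⟨i, hb i hi'⟩, ?_, hi'⟩
    rw [← hπ ⟨i, hb i hi'⟩, ← hij]; rfl

theorem mapMask_lt {n : ℕ} (l : List ℕ) (hl : ∀ a ∈ l, a < n) (b : ℕ) : mapMask l b < 2 ^ n := by
  apply Nat.lt_pow_two_of_testBit
  intro j hj
  cases h : (mapMask l b).testBit j with
  | false => rfl
  | true =>
    obtain ⟨i, hi, _⟩ := (testBit_mapMask l b j).1 h
    exact absurd (hl _ (List.get_mem l i)) (by rw [hi]; omega)

/-- a table of length `n` without repetition and with entries below `n` -/
def isPermTable (n : ℕ) (l : List ℕ) : Bool :=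
  Nat.beq l.length n && (l.all fun a => Nat.blt a n) && decide l.Nodup

theorem exists_perm_of_table {n : ℕ} {l : List ℕ} (h : isPermTable n l = true) :
    ∃ (hl : l.length = n) (π : Equiv.Perm (Fin n)), ∀ i : Fin n, ((π i : Fin n) : ℕ) = l.get (Fin.cast hl.symm i) := by
  rw [isPermTable, Bool.and_eq_true, Bool.and_eq_true, decide_eq_true_eq] at h
  obtain ⟨⟨h1, h2⟩, h3⟩ := h
  have hl : l.length = n := Nat.eq_of_beq_eq_true h1
  have h2' : ∀ a ∈ l, a < n := by
    intro a ha
    have := List.all_eq_true.1 h2 a ha
    exact (Nat.blt_eq (x := a) (y := n)).mp this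
  let f : Fin n → Fin n := fun i => ⟨l.get (Fin.cast hl.symm i), h2' _ (List.get_mem _ _)⟩
  have hf : Function.Injective f := by
    intro i j hij
    have h4 : l.get (Fin.cast hl.symm i) = l.get (Fin.cast hl.symm j) := congrArg Fin.val hij
    have h5 := (List.nodup_iff_injective_get.1 h3) h4
    exact Fin.cast_injective _ h5
  refine ⟨hl, Equiv.ofBijective f (Finite.injective_iff_bijective.1 hf), fun i => rfl⟩

/-! ### Reading a relabelling off the known blocks -/

/-- the point completing the `t`-subset `s` to a known block -/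
def partner (pts : List ℕ) (known : List ℕ) (s : ℕ) : ℕ :=
  (pts.find? fun j => (! bit s j) && known.any fun k => Nat.beq (Nat.lor s (Nat.shiftLeft 1 j)) k).getD 0

/-- leaf test: the table maps each of the base blocks to a known block, and fixes the first `t` points -/
def tableOk (n t : ℕ) (base known l : List ℕ) : Bool :=
  isPermTable n l && (decide (l.take t = List.range t)) &&
    base.all fun b => known.any fun k => Nat.beq (mapMask l b) k

theorem tableOk_sound {n t : ℕ} (htn : t ≤ n) {C : Set (Finset (Fin n))} {base known l : List ℕ}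
    (hk : ∀ k ∈ known, k < 2 ^ n ∧ fs n k ∈ C) (h : tableOk n t base known l = true) :
    ∃ π : Equiv.Perm (Fin n), (∀ i : Fin t, π (Fin.castLE htn i) = Fin.castLE htn i) ∧
      ∀ b ∈ base, (fs n b).map π.toEmbedding ∈ C := by
  rw [tableOk, Bool.and_eq_true, Bool.and_eq_true, decide_eq_true_eq] at h
  obtain ⟨⟨h1, h2⟩, h3⟩ := h
  obtain ⟨hl, π, hπ⟩ := exists_perm_of_table h1
  refine ⟨π, ?_, ?_⟩
  · intro i
    apply Fin.ext
    rw [hπ]
    have h4 : (l.take t)[(i : ℕ)]? = (List.range t)[(i : ℕ)]? := by rw [h2]
    rw [List.getElem?_take_of_lt i.2, List.getElem?_range i.2] at h4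
    have h5 : (i : ℕ) < l.length := by rw [hl]; exact lt_of_lt_of_le i.2 htn
    rw [List.getElem?_eq_getElem h5] at h4
    simpa using h4
  · intro b hb
    obtain ⟨k, hkk, hk2⟩ := List.any_eq_true.1 (List.all_eq_true.1 h3 b hb)
    have h4 := Nat.eq_of_beq_eq_true hk2
    rw [← fs_mapMask l hl.le π (fun i => hπ (Fin.castLE hl.le i)) b (fun i _ => by rw [hl]; exact i.2), h4]
    exact (hk k hkk).2

/-! ### Rigidity -/

/-- explore all tables extending `l` that map the blocks inside the first points to blocks -/
def rigid (n : ℕ) (hex : List ℕ) : ℕ → List ℕ → Bool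
  | 0, l => decide (l = List.range n)
  | d + 1, l => (List.range n).all fun j =>
      decide (j ∈ l) ||
      (hex.any fun b => Nat.blt b (2 ^ (l.length + 1)) &&
        !(hex.any fun k => Nat.beq (mapMask (l ++ [j]) b) k)) ||
      rigid n hex d (l ++ [j])

theorem rigid_sound {n : ℕ} {hex : List ℕ} (hlt : ∀ b ∈ hex, b < 2 ^ n) (σ : Equiv.Perm (Fin n))
    (hσ : ∀ b ∈ hex, ∃ k ∈ hex, (fs n b).map σ.toEmbedding = fs n k) :
    ∀ (d : ℕ) (l : List ℕ) (hl : l.length + d = n),
      (∀ i : Fin l.length, ((σ (Fin.castLE (by omega) i) : Fin n) : ℕ) = l.get i) →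
      rigid n hex d l = true → σ = 1 := by
  intro d
  induction d with
  | zero =>
    intro l hl hπ h
    rw [rigid, decide_eq_true_eq] at h
    ext i
    have h1 := hπ ⟨i, by omega⟩
    have h2 : (l.get ⟨i, by omega⟩ : ℕ) = (i : ℕ) := by
      simp [h]
    rw [h2] at h1
    exact h1
  | succ d ih =>
    intro l hl hπ h
    rw [rigid] at h
    have hlen : l.length < n := by omega
    set j : Fin n := σ ⟨l.length, hlen⟩ with hj
    have h1 := List.all_eq_true.1 h (j : ℕ) (List.mem_range.2 j.2)
    rw [Bool.or_eq_true, Bool.or_eq_true, decide_eq_true_eq] at h1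
    have hlen' : (l ++ [(j : ℕ)]).length = l.length + 1 := by simp
    have hπ' : ∀ i : Fin (l ++ [(j : ℕ)]).length,
        ((σ (Fin.castLE (by rw [hlen']; omega) i) : Fin n) : ℕ) = (l ++ [(j : ℕ)]).get i := by
      intro i
      by_cases hi : (i : ℕ) < l.length
      · have := hπ ⟨i, hi⟩
        rw [List.get_eq_getElem, List.getElem_append_left hi]
        exact this
      · have hi1 : (i : ℕ) < l.length + 1 := lt_of_lt_of_eq i.2 hlen'
        have hi2 : (i : ℕ) = l.length := by omega
        rw [List.get_eq_getElem, List.getElem_append_right (by omega)]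
        simp only [List.getElem_singleton]
        change _ = ((σ ⟨l.length, hlen⟩ : Fin n) : ℕ)
        congr 2
        apply Fin.ext
        exact hi2
    rcases h1 with (h1 | h1) | h1
    · exfalso
      obtain ⟨i, hi⟩ := List.get_of_mem h1
      have h2 := hπ i
      rw [hi] at h2
      have h3 := σ.injective (Fin.ext h2)
      have h4 := congrArg Fin.val h3
      have h5 := i.2
      change (i : ℕ) = l.length at h4
      omega
    · exfalso
      obtain ⟨b, hb, hb2⟩ := List.any_eq_true.1 h1
      rw [Bool.and_eq_true] at hb2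
      obtain ⟨hb3, hb4⟩ := hb2
      have hb5 : b < 2 ^ (l.length + 1) := (Nat.blt_eq (x := b) (y := 2 ^ (l.length + 1))).mp hb3
      obtain ⟨k, hk, hk2⟩ := hσ b hb
      have h6 : fs n (mapMask (l ++ [(j : ℕ)]) b) = (fs n b).map σ.toEmbedding := by
        apply fs_mapMask _ (by rw [hlen']; omega) σ hπ'
        intro i hi
        rw [hlen']
        by_contra hcon
        rw [Nat.testBit_lt_two_pow (lt_of_lt_of_le hb5 (Nat.pow_le_pow_right (by norm_num) (not_lt.1 hcon)))] at hi
        exact Bool.false_ne_true hi
      have h7 : mapMask (l ++ [(j : ℕ)]) b = k := by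
        apply fs_inj _ (hlt k hk) (h6.trans hk2)
        apply mapMask_lt
        intro a ha
        obtain ⟨i, hi⟩ := List.get_of_mem ha
        rw [← hi, ← hπ' i]
        exact Fin.is_lt _
      have h8 : (hex.any fun k => Nat.beq (mapMask (l ++ [(j : ℕ)]) b) k) = true := by
        rw [List.any_eq_true]
        exact ⟨k, hk, by rw [h7]; exact Nat.beq_refl k⟩
      rw [h8] at hb4
      simp at hb4
    · exact ih (l ++ [(j : ℕ)]) (by rw [hlen']; omega) hπ' h1

/-! ### From a model to unique isomorphisms -/

theorem image_eq_iff {α β : Type*} [DecidableEq β] {B : Set (Finset α)} {B' : Set (Finset β)} (e : α ≃ β) :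
    (fun b : Finset α => b.image e) '' B = B' ↔ ∀ b, b ∈ B ↔ b.map e.toEmbedding ∈ B' := by
  have hfun : (fun b : Finset α => b.image e) = fun b : Finset α => b.map e.toEmbedding := by
    funext b
    rw [Finset.map_eq_image]; rfl
  rw [hfun]
  constructor
  · rintro rfl b
    constructor
    · intro hb; exact ⟨b, hb, rfl⟩
    · rintro ⟨c, hc, hcb⟩
      rw [← Finset.map_injective _ hcb]; exact hc
  · intro h
    ext c
    constructor
    · rintro ⟨b, hb, rfl⟩; exact (h b).1 hb
    · intro hc
      refine ⟨c.map e.symm.toEmbedding, ?_, ?_⟩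
      · rw [h, Finset.map_map]
        have : e.symm.toEmbedding.trans e.toEmbedding = Function.Embedding.refl β := by
          ext x; simp
        rw [this, Finset.map_refl]; exact hc
      · change (c.map e.symm.toEmbedding).map e.toEmbedding = c
        rw [Finset.map_map]
        have : e.symm.toEmbedding.trans e.toEmbedding = Function.Embedding.refl β := by
          ext x; simp
        rw [this, Finset.map_refl]

theorem exists_equiv_extending {n t : ℕ} (htn : t ≤ n) {α : Type*} [Fintype α] (hα : Fintype.card α = n)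
    (x : Fin t ↪ α) : ∃ f : Fin n ≃ α, ∀ i : Fin t, f (Fin.castLE htn i) = x i := by
  classical
  let f0 : Fin n ≃ α := (Fintype.equivFinOfCardEq hα).symm
  let x0 : Fin t ↪ α := (Fin.castLEEmb htn).trans f0.toEmbedding
  obtain ⟨σ, hσ⟩ := (Equiv.Perm.isMultiplyPretransitive α t).exists_smul_eq x0 x
  refine ⟨f0.trans σ, fun i => ?_⟩
  have := DFunLike.congr_fun hσ i
  exact this

section model

variable {n t : ℕ} (htn : t ≤ n) {B0 : Set (Finset (Fin n))}
  (h1 : ∀ C : Set (Finset (Fin n)), IsSteinerSystem t (t + 1) C →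
    ∃ π : Equiv.Perm (Fin n), (∀ i : Fin t, π (Fin.castLE htn i) = Fin.castLE htn i) ∧
      {s : Finset (Fin n) | s.map π.toEmbedding ∈ C} = B0)
  (h2 : ∀ σ : Equiv.Perm (Fin n), (∀ i : Fin t, σ (Fin.castLE htn i) = Fin.castLE htn i) →
    (∀ s ∈ B0, s.map σ.toEmbedding ∈ B0) → σ = 1)

include h1 in
theorem exists_labelling {α : Type*} [Fintype α] (hα : Fintype.card α = n) {B : Set (Finset α)}
    (hB : IsSteinerSystem t (t + 1) B) (x : Fin t ↪ α) :
    ∃ g : Fin n ≃ α, (∀ i : Fin t, g (Fin.castLE htn i) = x i) ∧
      ∀ s : Finset (Fin n), s.map g.toEmbedding ∈ B ↔ s ∈ B0 := by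
  obtain ⟨f, hf⟩ := exists_equiv_extending htn hα x
  obtain ⟨π, hπ, hπ2⟩ := h1 _ (pull_steiner hB f)
  refine ⟨π.trans f, fun i => ?_, fun s => ?_⟩
  · rw [Equiv.trans_apply, hπ, hf]
  · rw [← hπ2]
    change _ ↔ (s.map π.toEmbedding).map f.toEmbedding ∈ B
    rw [Finset.map_map]; rfl

include h1 h2 in
/-- Strong uniqueness from a rigid model. -/
theorem exists_unique_iso_of_model {α β : Type*} [Fintype α] [DecidableEq α] [Fintype β] [DecidableEq β]
    (hα : Fintype.card α = n) (hβ : Fintype.card β = n) {B : Set (Finset α)} {B' : Set (Finset β)}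
    (hB : IsSteinerSystem t (t + 1) B) (hB' : IsSteinerSystem t (t + 1) B') (x : Fin t ↪ α)
    (y : Fin t ↪ β) :
    ∃! e : α ≃ β, (fun b : Finset α => b.image e) '' B = B' ∧ ∀ i, e (x i) = y i := by
  obtain ⟨g, hg, hgB⟩ := exists_labelling htn h1 hα hB x
  obtain ⟨g', hg', hgB'⟩ := exists_labelling htn h1 hβ hB' y
  have hsymm : ∀ i, g.symm (x i) = Fin.castLE htn i := fun i => by rw [← hg i, Equiv.symm_apply_apply]
  have key : ∀ b : Finset α, (b.map g.symm.toEmbedding).map g.toEmbedding = b := by
    intro b
    rw [Finset.map_map]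
    have : g.symm.toEmbedding.trans g.toEmbedding = Function.Embedding.refl α := by
      ext x; simp
    rw [this, Finset.map_refl]
  refine ⟨g.symm.trans g', ⟨?_, ?_⟩, ?_⟩
  · rw [image_eq_iff]
    intro b
    have h3 : b.map (g.symm.trans g').toEmbedding = (b.map g.symm.toEmbedding).map g'.toEmbedding := by
      rw [Finset.map_map]; rfl
    rw [h3, hgB', ← hgB, key]
  · intro i
    rw [Equiv.trans_apply, hsymm, hg']
  · rintro e ⟨he, hex⟩
    rw [image_eq_iff] at he
    have h3 : ((g.trans e).trans g'.symm : Equiv.Perm (Fin n)) = 1 := by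
      apply h2
      · intro i
        rw [Equiv.trans_apply, Equiv.trans_apply, hg, hex, ← hg' i, Equiv.symm_apply_apply]
      · intro s hs
        rw [← hgB'] 
        have h4 : (s.map ((g.trans e).trans g'.symm).toEmbedding).map g'.toEmbedding
            = (s.map g.toEmbedding).map e.toEmbedding := by
          rw [Finset.map_map, Finset.map_map]
          congr 1
          ext z
          simp
        rw [h4, ← he, hgB]
        exact hs
    ext a
    have h5 := DFunLike.congr_fun h3 (g.symm a)
    rw [Equiv.trans_apply, Equiv.trans_apply, Equiv.apply_symm_apply] at h5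
    rw [Equiv.trans_apply]
    have h6 : g'.symm (e a) = g.symm a := h5
    rw [← h6, Equiv.apply_symm_apply]

end model

end Cfsg.Agent.SporadicA.SteinerSearch
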