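import Mathlib
import Cfsg.Agent.SporadicA.SteinerSearch

/-!
# Strong uniqueness of the Steiner systems `S(5, 6, 12)` and `S(4, 5, 11)`

Between any two systems there is exactly one isomorphism with prescribed values on five (four)
points.
-/

set_option autoImplicit false

namespace Cfsg.Agent.SporadicA.Steiner12

open Cfsg Cfsg.Agent.SporadicA.SteinerSearch

theorem pc_eq_aux : ((List.range 64).all fun a => (List.range 64).all fun b =>
    Nat.beq (pc (64 * a + b)) (pcSlow 12 (64 * a + b))) = true := by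
  decide +kernel

theorem pc_eq {m : ℕ} (hm : m < 4096) : pc m = pcSlow 12 m := by
  have h1 := List.all_eq_true.1 pc_eq_aux (m / 64) (List.mem_range.2 (by omega))
  have h2 := List.all_eq_true.1 h1 (m % 64) (List.mem_range.2 (by omega))
  have h3 := Nat.eq_of_beq_eq_true h2
  rwa [Nat.div_add_mod] at h3

theorem pc_fs12 (m : ℕ) (hm : m < 2 ^ 12) : pc m = (fs 12 m).card := by
  rw [card_fs, pc_eq hm]

theorem pc_fs11 (m : ℕ) (hm : m < 2 ^ 11) : pc m = (fs 11 m).card := by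
  rw [card_fs, pc_eq (lt_trans hm (by norm_num)), pcSlow, Nat.testBit_lt_two_pow hm]
  simp

/-- one relabelling step: every completion of `K` along the schedule contains the image of `K'` under
one of the tables -/
def stepOk (n t : ℕ) (sched K K' : List ℕ) (tables : List (List ℕ)) : Bool :=
  search t (List.range n) (fun known => tables.any fun l => tableOk n t K' known l) sched K

section generic

variable {n t : ℕ} (htn : t ≤ n)

/-- every system containing `K` can be relabelled, without moving the first `t` points, so as to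
contain `K'` -/
def Rel (K K' : List ℕ) : Prop :=
  ∀ C : Set (Finset (Fin n)), IsSteinerSystem t (t + 1) C → (∀ k ∈ K, fs n k ∈ C) →
    ∃ π : Equiv.Perm (Fin n), (∀ i : Fin t, π (Fin.castLE htn i) = Fin.castLE htn i) ∧
      ∀ k ∈ K', (fs n k).map π.toEmbedding ∈ C

theorem Rel.trans {K K' K'' : List ℕ} (h : Rel htn K K') (h' : Rel htn K' K'') : Rel htn K K'' := by
  intro C hC hK
  obtain ⟨π, hπ, hπK⟩ := h C hC hK
  obtain ⟨π', hπ', hπK'⟩ := h' _ (pull_steiner hC π) hπK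
  refine ⟨π'.trans π, fun i => ?_, fun k hk => ?_⟩
  · rw [Equiv.trans_apply, hπ', hπ]
  · have := hπK' k hk
    change ((fs n k).map π'.toEmbedding).map π.toEmbedding ∈ C at this
    rw [Finset.map_map] at this
    exact this

theorem rel_of_stepOk (hpc : ∀ m < 2 ^ n, pc m = (fs n m).card) {sched K K' : List ℕ}
    {tables : List (List ℕ)} (h : stepOk n t sched K K' tables = true)
    (hs : ∀ s ∈ sched, s < 2 ^ n) (hK : ∀ k ∈ K, k < 2 ^ n) : Rel htn K K' := by
  intro C hC hKC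
  obtain ⟨known, hk, hleaf⟩ := search_sound hC hpc (fun j hj => List.mem_range.2 hj) _ sched K hs
    (fun k hk => ⟨hK k hk, hKC k hk⟩) h
  obtain ⟨l, _, hl⟩ := List.any_eq_true.1 hleaf
  exact tableOk_sound htn hk hl

/-- the family of subsets coded by a list of masks -/
def sys (n : ℕ) (hex : List ℕ) : Set (Finset (Fin n)) := {b | ∃ m ∈ hex, fs n m = b}

theorem model_h1 (hpc : ∀ m < 2 ^ n, pc m = (fs n m).card) {base hex sched : List ℕ}
    (hrel : Rel htn [] base)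
    (hsearch : search t (List.range n) (fun known => hex.all fun h => known.any fun k => Nat.beq h k)
      sched base = true)
    (hs : ∀ s ∈ sched, s < 2 ^ n) (hb : ∀ k ∈ base, k < 2 ^ n)
    (hcov : ∀ m < 2 ^ n, pc m = t → ∃ b ∈ hex, b &&& m = m)
    (C : Set (Finset (Fin n))) (hC : IsSteinerSystem t (t + 1) C) :
    ∃ π : Equiv.Perm (Fin n), (∀ i : Fin t, π (Fin.castLE htn i) = Fin.castLE htn i) ∧
      {s : Finset (Fin n) | s.map π.toEmbedding ∈ C} = sys n hex := by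
  obtain ⟨π, hπ, hπK⟩ := hrel C hC (by simp)
  refine ⟨π, hπ, ?_⟩
  have hC' := pull_steiner hC π
  obtain ⟨known, hk, hleaf⟩ := search_sound hC' hpc (fun j hj => List.mem_range.2 hj) _ sched base hs
    (fun k hk => ⟨hb k hk, hπK k hk⟩) hsearch
  apply eq_of_covering hC'
  · rintro b ⟨m, hm, rfl⟩
    obtain ⟨k, hkk, hk2⟩ := List.any_eq_true.1 (List.all_eq_true.1 hleaf m hm)
    have h4 := Nat.eq_of_beq_eq_true hk2
    rw [h4]
    exact (hk k hkk).2
  · intro s hs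
    obtain ⟨m, hm, rfl⟩ := exists_fs s
    obtain ⟨b, hb, hbm⟩ := hcov m hm ((hpc m hm).trans hs)
    refine ⟨fs n b, ⟨b, hb, rfl⟩, ?_⟩
    rw [← hbm, fs_land]
    exact Finset.inter_subset_left

theorem model_h2 {hex : List ℕ} (hlt : ∀ b ∈ hex, b < 2 ^ n)
    (hr : rigid n hex (n - t) (List.range t) = true) (σ : Equiv.Perm (Fin n))
    (hσ : ∀ i : Fin t, σ (Fin.castLE htn i) = Fin.castLE htn i)
    (hσ2 : ∀ s ∈ sys n hex, s.map σ.toEmbedding ∈ sys n hex) : σ = 1 := by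
  apply rigid_sound hlt σ _ (n - t) (List.range t) (by rw [List.length_range]; omega) _ hr
  · intro b hb
    obtain ⟨k, hk, hkb⟩ := hσ2 _ ⟨b, hb, rfl⟩
    exact ⟨k, hk, hkb.symm⟩
  · intro i
    have hi : (i : ℕ) < t := lt_of_lt_of_eq i.2 List.length_range
    have h1 := congrArg Fin.val (hσ ⟨i, hi⟩)
    have h2 : (List.range t).get i = (i : ℕ) := by simp
    rw [h2]
    exact h1

end generic

/-! ### The case `n = 12` -/

/-- blocks that pin down the labelling -/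
def base12 : List ℕ := [
    63, 207, 783, 3087, 407, 1559, 2135, 603, 2203, 1307, 1181, 349, 2589]

/-- the blocks of the model system -/
def hex12 : List ℕ := [
    63, 207, 246, 249, 349, 366, 371, 407, 427, 444, 474, 485, 603, 615, 636, 670, 685, 691,
    725, 746, 783, 821, 826, 854, 873, 921, 934, 963, 972, 1008, 1118, 1131, 1141, 1181, 1191,
    1210, 1235, 1260, 1307, 1325, 1334, 1351, 1400, 1422, 1457, 1481, 1492, 1506, 1559, 1582,
    1593, 1613, 1650, 1675, 1716, 1734, 1752, 1761, 1820, 1827, 1866, 1873, 1892, 1925, 1938,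
    1960, 2135, 2157, 2170, 2203, 2222, 2229, 2268, 2275, 2334, 2343, 2361, 2379, 2420, 2445,
    2482, 2502, 2513, 2536, 2589, 2603, 2614, 2638, 2673, 2695, 2744, 2761, 2770, 2788, 2835,
    2860, 2885, 2904, 2914, 2954, 2964, 2977, 3087, 3123, 3132, 3161, 3174, 3222, 3241, 3269,
    3274, 3312, 3349, 3370, 3404, 3410, 3425, 3459, 3480, 3492, 3610, 3621, 3651, 3668, 3688,
    3724, 3729, 3746, 3846, 3849, 3888, 4032]

/-- schedule for the final search -/
def sched12 : List ℕ := [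
    583, 327, 295, 167, 647, 1099, 299, 555, 331, 651, 1075, 339, 179, 211, 787, 227, 803, 451,
    1603, 1411, 109, 173, 301, 589, 397, 309, 1077, 181, 213, 1301, 229, 1573, 1221, 837, 901,
    121, 313, 569, 1113, 409, 361, 1193, 457, 713, 1801, 625, 433, 465, 849, 1681, 737, 1377,
    929, 94, 158, 286, 110, 174, 558, 590, 398, 118, 310, 566, 342, 1174, 1126, 422, 454, 710,
    1798, 122, 186, 314, 218, 1562, 234, 1322, 1226, 842, 906, 626, 434, 722, 1362, 914, 482,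
    866, 1698, 124, 188, 1084, 220, 796, 236, 812, 460, 1356, 1676, 372, 692, 468, 1620, 916,
    740, 868, 1444, 376, 696, 728, 856, 1432, 488, 1640, 936, 496, 1264, 1840, 1984]

/-- leaf test of the final search -/
def leaf12 (known : List ℕ) : Bool :=
  hex12.all fun h => known.any fun k => Nat.beq h k

theorem search12 : search 5 (List.range 12) leaf12 sched12 base12 = true := by
  decide +kernel

theorem rigid12 : rigid 12 hex12 7 (List.range 5) = true := by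
  decide +kernel

theorem cover12 : ((List.range 64).all fun a => (List.range 64).all fun b =>
    (!Nat.beq (pc (64 * a + b)) 5) || covered (64 * a + b) hex12) = true := by
  decide +kernel

theorem lt12 : (hex12.all fun h => Nat.blt h 4096 && Nat.beq (pc h) 6) = true := by
  decide +kernel

theorem ltBase12 : (base12.all fun h => Nat.blt h 4096) = true := by
  decide +kernel

theorem ltSched12 : (sched12.all fun h => Nat.blt h 4096) = true := by
  decide +kernel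

theorem step0_12 : stepOk 12 5 [31] [] [63]
    [[0, 1, 2, 3, 4, 5, 6, 7, 8, 9, 10, 11], [0, 1, 2, 3, 4, 6, 5, 7, 8, 9, 10, 11], [0, 1, 2, 3, 4, 7, 6, 5, 8, 9, 10, 11], [0, 1, 2, 3, 4, 8, 6, 7, 5, 9, 10, 11], [0, 1, 2, 3, 4, 9, 6, 7, 8, 5, 10, 11], [0, 1, 2, 3, 4, 10, 6, 7, 8, 9, 5, 11], [0, 1, 2, 3, 4, 11, 6, 7, 8, 9, 10, 5]] = true := by
  decide +kernel

theorem step1_12 : stepOk 12 5 [143, 271, 527, 1039, 2063] [63] [63, 207, 783, 3087]
    [[0, 1, 2, 3, 4, 5, 6, 7, 8, 9, 10, 11], [0, 1, 2, 3, 4, 5, 6, 7, 8, 10, 9, 11], [0, 1, 2, 3, 4, 5, 6, 7, 8, 11, 9, 10], [0, 1, 2, 3, 4, 5, 6, 9, 7, 8, 10, 11], [0, 1, 2, 3, 4, 5, 6, 11, 7, 8, 9, 10], [0, 1, 2, 3, 4, 5, 6, 10, 7, 8, 9, 11], [0, 1, 2, 3, 4, 5, 6, 8, 7, 9, 10, 11], [0, 1, 2, 3, 4, 5, 6, 11, 7, 9, 8, 10], [0, 1, 2, 3, 4, 5, 6, 10, 7, 9, 8, 11], [0, 1, 2, 3, 4, 5, 6, 8, 7, 10, 9, 11], [0, 1, 2, 3, 4, 5, 6, 11, 7, 10, 8, 9], [0, 1, 2, 3, 4, 5, 6, 9, 7, 10, 8, 11], [0,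 1, 2, 3, 4, 5, 6, 8, 7, 11, 9, 10], [0, 1, 2, 3, 4, 5, 6, 10, 7, 11, 8, 9], [0, 1, 2, 3, 4, 5, 6, 9, 7, 11, 8, 10]] = true := by
  decide +kernel

theorem step2_12 : stepOk 12 5 [151, 279, 535, 1047, 2071] [63, 207, 783, 3087] [63, 207, 783, 3087, 407, 1559, 2135]
    [[0, 1, 2, 3, 4, 5, 6, 7, 8, 9, 10, 11], [0, 1, 2, 3, 4, 5, 6, 7, 8, 9, 11, 10], [0, 1, 2, 3, 4, 5, 6, 7, 9, 8, 10, 11], [0, 1, 2, 3, 4, 5, 6, 7, 9, 8, 11, 10], [0, 1, 2, 3, 4, 5, 6, 7, 10, 11, 9, 8], [0, 1, 2, 3, 4, 5, 6, 7, 10, 11, 8, 9], [0, 1, 2, 3, 4, 5, 6, 7, 11, 10, 9, 8], [0, 1, 2, 3, 4, 5, 6, 7, 11, 10, 8, 9]] = true := by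
  decide +kernel

theorem step3_12 : stepOk 12 5 [155, 283, 539, 1051, 2075, 157, 285, 541, 1053, 2077] [63, 207, 783, 3087, 407, 1559, 2135] [63, 207, 783, 3087, 407, 1559, 2135, 603, 2203, 1307, 1181, 349, 2589]
    [[0, 1, 2, 3, 4, 5, 11, 10, 9, 8, 7, 6], [0, 1, 2, 3, 4, 5, 8, 9, 10, 11, 6, 7], [0, 1, 2, 3, 4, 5, 10, 11, 6, 7, 8, 9], [0, 1, 2, 3, 4, 5, 7, 6, 11, 10, 9, 8], [0, 1, 2, 3, 4, 5, 9, 8, 7, 6, 11, 10], [0, 1, 2, 3, 4, 5, 6, 7, 8, 9, 10, 11]] = true := by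
  decide +kernel

theorem lt12' : ∀ b ∈ hex12, b < 2 ^ 12 := by
  intro b hb
  have h := List.all_eq_true.1 lt12 b hb
  rw [Bool.and_eq_true] at h
  exact (Nat.blt_eq (x := b) (y := 4096)).mp h.1

theorem ltBase12' : ∀ b ∈ base12, b < 2 ^ 12 := by
  intro b hb
  exact (Nat.blt_eq (x := b) (y := 4096)).mp (List.all_eq_true.1 ltBase12 b hb)

theorem ltSched12' : ∀ b ∈ sched12, b < 2 ^ 12 := by
  intro b hb
  exact (Nat.blt_eq (x := b) (y := 4096)).mp (List.all_eq_true.1 ltSched12 b hb)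

theorem cover12' (m : ℕ) (hm : m < 2 ^ 12) (hmt : pc m = 5) : ∃ b ∈ hex12, b &&& m = m := by
  have h1 := List.all_eq_true.1 cover12 (m / 64) (List.mem_range.2 (by omega))
  have h2 := List.all_eq_true.1 h1 (m % 64) (List.mem_range.2 (by omega))
  rw [Nat.div_add_mod, hmt] at h2
  simp only [Nat.beq_refl, Bool.not_true, Bool.false_or] at h2
  obtain ⟨b, hb, hb2⟩ := List.any_eq_true.1 h2
  exact ⟨b, hb, Nat.eq_of_beq_eq_true hb2⟩

theorem rel12 : Rel (n := 12) (t := 5) (by norm_num) [] base12 := by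
  refine Rel.trans _ (rel_of_stepOk _ pc_fs12 step0_12 (by decide) (by decide)) ?_
  refine Rel.trans _ (rel_of_stepOk _ pc_fs12 step1_12 (by decide) (by decide)) ?_
  refine Rel.trans _ (rel_of_stepOk _ pc_fs12 step2_12 (by decide) (by decide)) ?_
  exact rel_of_stepOk _ pc_fs12 step3_12 (by decide) (by decide)

/-- Strong uniqueness of `S(5, 6, 12)`: exactly one isomorphism with given values on 5 points. -/
theorem exists_unique_iso {α β : Type*} [Fintype α] [DecidableEq α] [Fintype β] [DecidableEq β]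
    (hα : Fintype.card α = 12) (hβ : Fintype.card β = 12) {B : Set (Finset α)} {B' : Set (Finset β)}
    (hB : IsSteinerSystem 5 6 B) (hB' : IsSteinerSystem 5 6 B') (x : Fin 5 ↪ α) (y : Fin 5 ↪ β) :
    ∃! e : α ≃ β, (fun b : Finset α => b.image e) '' B = B' ∧ ∀ i, e (x i) = y i :=
  exists_unique_iso_of_model (B0 := sys 12 hex12) (by norm_num)
    (model_h1 _ pc_fs12 rel12 search12 ltSched12' ltBase12' cover12')
    (model_h2 _ lt12' rigid12) hα hβ hB hB' x y

/-! ### The case `n = 11` -/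

/-- blocks that pin down the labelling -/
def base11 : List ℕ := [
    31, 103, 391, 1543, 203, 779, 1067, 301, 1101, 653, 590, 174, 1294]

/-- the blocks of the model system -/
def hex11 : List ℕ := [
    31, 103, 124, 174, 185, 203, 213, 242, 301, 307, 342, 345, 362, 391, 410, 436, 460, 481,
    565, 570, 590, 595, 617, 653, 662, 675, 728, 740, 779, 796, 806, 837, 880, 913, 936, 962,
    1067, 1078, 1101, 1114, 1137, 1171, 1180, 1189, 1222, 1256, 1294, 1301, 1336, 1347, 1380,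
    1417, 1442, 1488, 1543, 1561, 1580, 1620, 1634, 1674, 1712, 1729, 1810, 1825, 1864, 1924]

/-- schedule for the final search -/
def sched11 : List ℕ := [
    291, 163, 147, 83, 323, 549, 149, 277, 165, 325, 537, 169, 89, 105, 393, 113, 401, 225, 801,
    705, 54, 86, 150, 294, 198, 154, 538, 90, 106, 650, 114, 786, 610, 418, 450, 60, 156, 284,
    556, 204, 180, 596, 228, 356, 900, 312, 216, 232, 424, 840, 368, 688, 464]

/-- leaf test of the final search -/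
def leaf11 (known : List ℕ) : Bool :=
  hex11.all fun h => known.any fun k => Nat.beq h k

theorem search11 : search 4 (List.range 11) leaf11 sched11 base11 = true := by
  decide +kernel

theorem rigid11 : rigid 11 hex11 7 (List.range 4) = true := by
  decide +kernel

theorem cover11 : ((List.range 64).all fun a => (List.range 32).all fun b =>
    (!Nat.beq (pc (32 * a + b)) 4) || covered (32 * a + b) hex11) = true := by
  decide +kernel

theorem lt11 : (hex11.all fun h => Nat.blt h 2048 && Nat.beq (pc h) 5) = true := by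
  decide +kernel

theorem ltBase11 : (base11.all fun h => Nat.blt h 2048) = true := by
  decide +kernel

theorem ltSched11 : (sched11.all fun h => Nat.blt h 2048) = true := by
  decide +kernel

theorem step0_11 : stepOk 11 4 [15] [] [31]
    [[0, 1, 2, 3, 4, 5, 6, 7, 8, 9, 10], [0, 1, 2, 3, 5, 4, 6, 7, 8, 9, 10], [0, 1, 2, 3, 6, 5, 4, 7, 8, 9, 10], [0, 1, 2, 3, 7, 5, 6, 4, 8, 9, 10], [0, 1, 2, 3, 8, 5, 6, 7, 4, 9, 10], [0, 1, 2, 3, 9, 5, 6, 7, 8, 4, 10], [0, 1, 2, 3, 10, 5, 6, 7, 8, 9, 4]] = true := by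
  decide +kernel

theorem step1_11 : stepOk 11 4 [71, 135, 263, 519, 1031] [31] [31, 103, 391, 1543]
    [[0, 1, 2, 3, 4, 5, 6, 7, 8, 9, 10], [0, 1, 2, 3, 4, 5, 6, 7, 9, 8, 10], [0, 1, 2, 3, 4, 5, 6, 7, 10, 8, 9], [0, 1, 2, 3, 4, 5, 8, 6, 7, 9, 10], [0, 1, 2, 3, 4, 5, 10, 6, 7, 8, 9], [0, 1, 2, 3, 4, 5, 9, 6, 7, 8, 10], [0, 1, 2, 3, 4, 5, 7, 6, 8, 9, 10], [0, 1, 2, 3, 4, 5, 10, 6, 8, 7, 9], [0, 1, 2, 3, 4, 5, 9, 6, 8, 7, 10], [0, 1, 2, 3, 4, 5, 7, 6, 9, 8, 10], [0, 1, 2, 3, 4, 5, 10, 6, 9, 7, 8], [0, 1, 2, 3, 4, 5, 8, 6, 9, 7, 10], [0, 1, 2, 3, 4, 5, 7, 6, 10, 8, 9], [0, 1, 2, 3, 4, 5, 9, 6, 10, 7, 8], [0, 1, 2, 3, 4, 5, 8, 6, 10, 7, 9]] = true := by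
  decide +kernel

theorem step2_11 : stepOk 11 4 [75, 139, 267, 523, 1035] [31, 103, 391, 1543] [31, 103, 391, 1543, 203, 779, 1067]
    [[0, 1, 2, 3, 4, 5, 6, 7, 8, 9, 10], [0, 1, 2, 3, 4, 5, 6, 7, 8, 10, 9], [0, 1, 2, 3, 4, 5, 6, 8, 7, 9, 10], [0, 1, 2, 3, 4, 5, 6, 8, 7, 10, 9], [0, 1, 2, 3, 4, 5, 6, 9, 10, 8, 7], [0, 1, 2, 3, 4, 5, 6, 9, 10, 7, 8], [0, 1, 2, 3, 4, 5, 6, 10, 9, 8, 7], [0, 1, 2, 3, 4, 5, 6, 10, 9, 7, 8]] = true := by
  decide +kernel

theorem step3_11 : stepOk 11 4 [77, 141, 269, 525, 1037, 78, 142, 270, 526, 1038] [31, 103, 391, 1543, 203, 779, 1067] [31, 103, 391, 1543, 203, 779, 1067, 301, 1101, 653, 590, 174, 1294]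
    [[0, 1, 2, 3, 4, 10, 9, 8, 7, 6, 5], [0, 1, 2, 3, 4, 7, 8, 9, 10, 5, 6], [0, 1, 2, 3, 4, 9, 10, 5, 6, 7, 8], [0, 1, 2, 3, 4, 6, 5, 10, 9, 8, 7], [0, 1, 2, 3, 4, 8, 7, 6, 5, 10, 9], [0, 1, 2, 3, 4, 5, 6, 7, 8, 9, 10]] = true := by
  decide +kernel

theorem lt11' : ∀ b ∈ hex11, b < 2 ^ 11 := by
  intro b hb
  have h := List.all_eq_true.1 lt11 b hb
  rw [Bool.and_eq_true] at h
  exact (Nat.blt_eq (x := b) (y := 2048)).mp h.1

theorem ltBase11' : ∀ b ∈ base11, b < 2 ^ 11 := by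
  intro b hb
  exact (Nat.blt_eq (x := b) (y := 2048)).mp (List.all_eq_true.1 ltBase11 b hb)

theorem ltSched11' : ∀ b ∈ sched11, b < 2 ^ 11 := by
  intro b hb
  exact (Nat.blt_eq (x := b) (y := 2048)).mp (List.all_eq_true.1 ltSched11 b hb)

theorem cover11' (m : ℕ) (hm : m < 2 ^ 11) (hmt : pc m = 4) : ∃ b ∈ hex11, b &&& m = m := by
  have h1 := List.all_eq_true.1 cover11 (m / 32) (List.mem_range.2 (by omega))
  have h2 := List.all_eq_true.1 h1 (m % 32) (List.mem_range.2 (by omega))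
  rw [Nat.div_add_mod, hmt] at h2
  simp only [Nat.beq_refl, Bool.not_true, Bool.false_or] at h2
  obtain ⟨b, hb, hb2⟩ := List.any_eq_true.1 h2
  exact ⟨b, hb, Nat.eq_of_beq_eq_true hb2⟩

theorem rel11 : Rel (n := 11) (t := 4) (by norm_num) [] base11 := by
  refine Rel.trans _ (rel_of_stepOk _ pc_fs11 step0_11 (by decide) (by decide)) ?_
  refine Rel.trans _ (rel_of_stepOk _ pc_fs11 step1_11 (by decide) (by decide)) ?_
  refine Rel.trans _ (rel_of_stepOk _ pc_fs11 step2_11 (by decide) (by decide)) ?_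
  exact rel_of_stepOk _ pc_fs11 step3_11 (by decide) (by decide)

/-- Strong uniqueness of `S(4, 5, 11)`: exactly one isomorphism with given values on 4 points. -/
theorem exists_unique_iso11 {α β : Type*} [Fintype α] [DecidableEq α] [Fintype β] [DecidableEq β]
    (hα : Fintype.card α = 11) (hβ : Fintype.card β = 11) {B : Set (Finset α)} {B' : Set (Finset β)}
    (hB : IsSteinerSystem 4 5 B) (hB' : IsSteinerSystem 4 5 B') (x : Fin 4 ↪ α) (y : Fin 4 ↪ β) :
    ∃! e : α ≃ β, (fun b : Finset α => b.image e) '' B = B' ∧ ∀ i, e (x i) = y i :=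
  exists_unique_iso_of_model (B0 := sys 11 hex11) (by norm_num)
    (model_h1 _ pc_fs11 rel11 search11 ltSched11' ltBase11' cover11')
    (model_h2 _ lt11' rigid11) hα hβ hB hB' x y

end Cfsg.Agent.SporadicA.Steiner12
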