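import Cfsg.Prelude.Def_Sporadic_a
import Cfsg.Agent.SporadicA.SharpFour
import Cfsg.Agent.SporadicA.Steiner12
import Cfsg.Agent.S0384

/-!
# Sharply 4-transitive groups of degree 11 are isomorphic to the concrete group `M₁₁`

* `nonempty_mulEquiv_of_sharp4`: two groups acting sharply 4-transitively on 11 points are
  isomorphic.
* `nonempty_mulEquiv_dodecad_point`: such a group is isomorphic to the joint stabiliser in `M24` of a
  dodecad and a point of it.
-/

set_option autoImplicit false

open scoped Pointwise
open Cfsg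

namespace Cfsg.Agent.SporadicA.M11Iso

open Cfsg.Agent.SporadicA.SharpFour

/-- An element of the group maps the set of blocks onto itself. -/
theorem image_blocks {G α : Type*} [Group G] [MulAction G α] [DecidableEq α] (g : G) :
    (fun b : Finset α => b.image (MulAction.toPerm g : Equiv.Perm α)) '' blocks G α =
      blocks G α := by
  apply Set.Subset.antisymm
  · rintro _ ⟨b, hb, rfl⟩
    exact smul_mem_blocks g hb
  · intro b hb
    refine ⟨b.image (fun a => g⁻¹ • a), smul_mem_blocks g⁻¹ hb, ?_⟩
    change Finset.image _ (Finset.image _ b) = b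
    rw [Finset.image_image]
    have : (⇑(MulAction.toPerm g : Equiv.Perm α)) ∘ (fun a => g⁻¹ • a) = id := by
      funext a
      change g • g⁻¹ • a = a
      rw [smul_inv_smul]
    rw [this, Finset.image_id]

/-- A sharply 4-transitive action on at least 4 points is faithful. -/
theorem toPermHom_injective {G α : Type*} [Group G] [MulAction G α] (h : Sharp4 G α)
    (x : Fin 4 ↪ α) : Function.Injective (MulAction.toPermHom G α) := by
  intro g g' hgg
  have hx : ∀ a : α, g • a = g' • a := fun a => congrArg (fun f : Equiv.Perm α => f a) hgg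
  have hn : [x 0, x 1, x 2, x 3].Nodup := nodup4_iff.2
    ⟨x.injective.ne (by decide), x.injective.ne (by decide), x.injective.ne (by decide),
      x.injective.ne (by decide), x.injective.ne (by decide), x.injective.ne (by decide)⟩
  exact h.eq_of hn (hx _) (hx _) (hx _) (hx _)

/-- In a sharply 4-transitive action, embeddings of `Fin 4` can be moved to each other. -/
theorem exists_smul_embedding {G α : Type*} [Group G] [MulAction G α] (h : Sharp4 G α)
    (x y : Fin 4 ↪ α) : ∃ g : G, ∀ i, g • x i = y i := by
  have hn : ∀ x : Fin 4 ↪ α, [x 0, x 1, x 2, x 3].Nodup := fun x => nodup4_iff.2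
    ⟨x.injective.ne (by decide), x.injective.ne (by decide), x.injective.ne (by decide),
      x.injective.ne (by decide), x.injective.ne (by decide), x.injective.ne (by decide)⟩
  obtain ⟨g, h0, h1, h2, h3⟩ := h.exists_map _ _ _ _ _ _ _ _ (hn x) (hn y)
  refine ⟨g, fun i => ?_⟩
  fin_cases i
  · exact h0
  · exact h1
  · exact h2
  · exact h3

/-- Two groups acting sharply 4-transitively on 11 points are isomorphic. -/
theorem nonempty_mulEquiv_of_sharp4 {G H α β : Type*} [Group G] [Group H] [MulAction G α]
    [MulAction H β] [Fintype α] [DecidableEq α] [Fintype β] [DecidableEq β]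
    (hα : Fintype.card α = 11) (hβ : Fintype.card β = 11) (hG : Sharp4 G α) (hH : Sharp4 H β) :
    Nonempty (G ≃* H) := by
  obtain ⟨x⟩ : Nonempty (Fin 4 ↪ α) := by
    apply Function.Embedding.nonempty_of_card_le
    rw [Fintype.card_fin, hα]; norm_num
  obtain ⟨y⟩ : Nonempty (Fin 4 ↪ β) := by
    apply Function.Embedding.nonempty_of_card_le
    rw [Fintype.card_fin, hβ]; norm_num
  have hB := blocks_steiner hG hα
  have hB' := blocks_steiner hH hβ
  obtain ⟨e, ⟨he, -⟩, -⟩ := Steiner12.exists_unique_iso11 hα hβ hB hB' x y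
  -- uniqueness for automorphisms of the second system
  have huniq : ∀ f f' : Equiv.Perm β, (fun b : Finset β => b.image f) '' blocks H β = blocks H β →
      (fun b : Finset β => b.image f') '' blocks H β = blocks H β → (∀ i, f (y i) = f' (y i)) →
      f = f' := by
    intro f f' hf hf' hff
    obtain ⟨k, -, hk⟩ := Steiner12.exists_unique_iso11 hβ hβ hB' hB' y (y.trans f.toEmbedding)
    rw [hk f ⟨hf, fun i => rfl⟩, hk f' ⟨hf', fun i => (hff i).symm⟩]
  -- the conjugate action of G preserves the second system
  have hconj : ∀ g : G, (fun b : Finset β => b.image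
      (e.permCongr (MulAction.toPerm g : Equiv.Perm α))) '' blocks H β = blocks H β := by
    intro g
    conv_lhs => rw [← he, ← Set.image_comp]
    conv_rhs => rw [← he, ← image_blocks g, ← Set.image_comp]
    congr 1
    funext b
    change Finset.image _ (Finset.image _ b) = Finset.image _ (Finset.image _ b)
    rw [Finset.image_image, Finset.image_image]
    congr 1
    funext a
    simp [Equiv.permCongr_apply]
  let φ : G →* Equiv.Perm β := (e.permCongrHom : Equiv.Perm α →* Equiv.Perm β).comp
    (MulAction.toPermHom G α)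
  let ψ : H →* Equiv.Perm β := MulAction.toPermHom H β
  have hφ : ∀ g : G, φ g = e.permCongr (MulAction.toPerm g : Equiv.Perm α) := fun g => rfl
  have hψ : ∀ h : H, ψ h = (MulAction.toPerm h : Equiv.Perm β) := fun g => rfl
  have hφinj : Function.Injective φ :=
    e.permCongrHom.injective.comp (toPermHom_injective hG x)
  have hψinj : Function.Injective ψ := toPermHom_injective hH y
  have hrange : φ.range = ψ.range := by
    apply le_antisymm
    · rintro _ ⟨g, rfl⟩
      obtain ⟨h, hh⟩ := exists_smul_embedding hH y (y.trans (φ g).toEmbedding)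
      refine ⟨h, ?_⟩
      apply huniq
      · rw [hψ]; exact image_blocks h
      · rw [hφ]; exact hconj g
      · exact hh
    · rintro _ ⟨h, rfl⟩
      obtain ⟨g, hg⟩ := exists_smul_embedding hG (y.trans e.symm.toEmbedding)
        (y.trans ((ψ h).trans e.symm).toEmbedding)
      refine ⟨g, ?_⟩
      apply huniq
      · rw [hφ]; exact hconj g
      · rw [hψ]; exact image_blocks h
      · intro i
        have := hg i
        change g • e.symm (y i) = e.symm (ψ h (y i)) at this
        rw [hφ, Equiv.permCongr_apply]
        change e (g • e.symm (y i)) = _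
        rw [this, Equiv.apply_symm_apply]
  exact ⟨(MonoidHom.ofInjective hφinj).trans
    ((MulEquiv.subgroupCongr hrange).trans (MonoidHom.ofInjective hψinj).symm)⟩

/-- The concrete `M₁₁`: the joint stabiliser of a dodecad and a point. -/
abbrev M11 (d : Finset GolayPt) (p : GolayPt) : Subgroup M24 :=
  MulAction.stabilizer M24 d ⊓ MulAction.stabilizer M24 p

theorem apply_mem {d : Finset GolayPt} {p : GolayPt} (g : M11 d p) {q : GolayPt}
    (hq : q ∈ d.erase p) : ((g : M24) : Equiv.Perm GolayPt) q ∈ d.erase p := by
  have hg := g.2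
  rw [Subgroup.mem_inf] at hg
  obtain ⟨hq1, hq2⟩ := Finset.mem_erase.1 hq
  refine Finset.mem_erase.2 ⟨?_, ?_⟩
  · intro h
    have hgp : ((g : M24) : Equiv.Perm GolayPt) p = p := hg.2
    exact hq1 (((g : M24) : Equiv.Perm GolayPt).injective (h.trans hgp.symm))
  · have h1 : (g : M24) • d = d := hg.1
    have h2 : (g : M24) • q ∈ (g : M24) • d := Finset.smul_mem_smul_finset hq2
    rw [h1] at h2
    exact h2

/-- The action on the remaining eleven points of the dodecad. -/
@[reducible] def actionM11 (d : Finset GolayPt) (p : GolayPt) :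
    MulAction (M11 d p) {q // q ∈ d.erase p} where
  smul g q := ⟨((g : M24) : Equiv.Perm GolayPt) q, apply_mem g q.2⟩
  one_smul _ := rfl
  mul_smul _ _ _ := rfl

theorem sharp4_M11 (d : Finset GolayPt) (hd : d ∈ dodecads) (p : GolayPt) (hp : p ∈ d) :
    @Sharp4 (M11 d p) {q // q ∈ d.erase p} _ (actionM11 d p) := by
  let := actionM11 d p
  -- extension by `p`
  have ext : ∀ a b c e : {q // q ∈ d.erase p}, [a, b, c, e].Nodup →
      Function.Injective ![p, (a : GolayPt), b, c, e] := by
    intro a b c e hn
    obtain ⟨hab, hac, had, hbc, hbd, hcd⟩ := nodup4_iff.1 hn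
    have hne : ∀ a : {q // q ∈ d.erase p}, (a : GolayPt) ≠ p := fun a =>
      (Finset.mem_erase.1 a.2).1
    rw [← List.nodup_ofFn]
    simp only [List.ofFn_succ, Fin.isValue, Matrix.cons_val_zero, Matrix.cons_val_succ,
      Matrix.cons_val_fin_one, List.ofFn_zero, List.nodup_cons, List.mem_cons,
      List.not_mem_nil, or_false, not_or, List.nodup_nil, not_false_eq_true, and_true]
    refine ⟨⟨(hne a).symm, (hne b).symm, (hne c).symm, (hne e).symm⟩, ⟨?_, ?_, ?_⟩, ⟨?_, ?_⟩, ?_⟩
    · exact fun h => hab (Subtype.ext h)
    · exact fun h => hac (Subtype.ext h)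
    · exact fun h => had (Subtype.ext h)
    · exact fun h => hbc (Subtype.ext h)
    · exact fun h => hbd (Subtype.ext h)
    · exact fun h => hcd (Subtype.ext h)
  have hmem : ∀ (a b c e : {q // q ∈ d.erase p}) (i : Fin 5), ![p, (a : GolayPt), b, c, e] i ∈ d := by
    intro a b c e i
    have hm : ∀ a : {q // q ∈ d.erase p}, (a : GolayPt) ∈ d := fun a =>
      (Finset.mem_erase.1 a.2).2
    fin_cases i
    · exact hp
    · exact hm a
    · exact hm b
    · exact hm c
    · exact hm e
  constructor
  · intro a b c e a' b' c' e' hn hn'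
    obtain ⟨g, hg, -⟩ := Cfsg.Agent.S0384.result d hd ⟨_, ext a b c e hn⟩ ⟨_, ext a' b' c' e' hn'⟩
      (hmem a b c e) (hmem a' b' c' e')
    have hgp : ((g : M24) : Equiv.Perm GolayPt) p = p := hg 0
    refine ⟨⟨(g : M24), Subgroup.mem_inf.2 ⟨g.2, hgp⟩⟩, ?_, ?_, ?_, ?_⟩
    · exact Subtype.ext (hg 1)
    · exact Subtype.ext (hg 2)
    · exact Subtype.ext (hg 3)
    · exact Subtype.ext (hg 4)
  · intro g a b c e hn ha hb hc he
    obtain ⟨k, -, hk⟩ := Cfsg.Agent.S0384.result d hd ⟨_, ext a b c e hn⟩ ⟨_, ext a b c e hn⟩
      (hmem a b c e) (hmem a b c e)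
    have hg := Subgroup.mem_inf.1 g.2
    have h1 : (⟨(g : M24), hg.1⟩ : MulAction.stabilizer M24 d) = k := by
      apply hk
      intro i
      fin_cases i
      · exact hg.2
      · exact congrArg Subtype.val ha
      · exact congrArg Subtype.val hb
      · exact congrArg Subtype.val hc
      · exact congrArg Subtype.val he
    have h2 : (1 : MulAction.stabilizer M24 d) = k := by
      apply hk
      intro i
      rfl
    have h3 : (g : M24) = 1 :=
      congrArg (fun z : MulAction.stabilizer M24 d => (z : M24)) (h1.trans h2.symm)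
    exact Subtype.ext h3

/-- A group acting sharply 4-transitively on 11 points is isomorphic to the concrete `M₁₁`. -/
theorem nonempty_mulEquiv_dodecad_point {G α : Type*} [Group G] [MulAction G α] [Fintype α]
    [DecidableEq α] (hα : Fintype.card α = 11) (hG : Sharp4 G α) (d : Finset GolayPt)
    (hd : d ∈ dodecads) (p : GolayPt) (hp : p ∈ d) :
    Nonempty (G ≃* ↥(MulAction.stabilizer M24 d ⊓ MulAction.stabilizer M24 p)) := by
  let := actionM11 d p
  have hcard : Fintype.card {q // q ∈ d.erase p} = 11 := by
    rw [Fintype.card_coe, Finset.card_erase_of_mem hp]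
    have : d.card = 12 := hd.2
    rw [this]
  exact nonempty_mulEquiv_of_sharp4 hα hcard hG (sharp4_M11 d hd p hp)

end Cfsg.Agent.SporadicA.M11Iso
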