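import Cfsg.Prelude.Def_Sporadic_a

/-!
Membership criteria for `Cfsg.M24`: a permutation `σ` of the 24 points is in `M24` iff
precomposition with `σ.symm` (equivalently with `σ`) maps `golayCode` into itself, and it is enough
to check the words `qrWord t`.
-/

set_option autoImplicit false

namespace Cfsg.Agent.SporadicA.M24Mem

open Cfsg
open scoped Pointwise

/-- In `ZMod 2`, a nonzero element is `1`. -/
theorem zmod2_ne_zero_iff (a : ZMod 2) : a ≠ 0 ↔ a = 1 := by
  revert a; decide

theorem zmod2_eq_iff (a b : ZMod 2) : a = b ↔ (a ≠ 0 ↔ b ≠ 0) := by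
  revert a b; decide

theorem mem_support₂ {α : Type*} [Fintype α] (w : α → ZMod 2) (a : α) :
    a ∈ support₂ w ↔ w a ≠ 0 := by
  unfold support₂
  simp

/-- A binary word is determined by its support. -/
theorem support₂_injective {α : Type*} [Fintype α] :
    Function.Injective (support₂ : (α → ZMod 2) → Finset α) := by
  intro v w h
  funext a
  rw [zmod2_eq_iff, ← mem_support₂, ← mem_support₂, h]

@[simp]
theorem support₂_inj {α : Type*} [Fintype α] {v w : α → ZMod 2} :
    support₂ v = support₂ w ↔ v = w := support₂_injective.eq_iff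

/-- The support of a word lies in `supports C` iff the word lies in `C`. -/
theorem support₂_mem_supports {α : Type*} [Fintype α] (C : Set (α → ZMod 2)) (w : α → ZMod 2) :
    support₂ w ∈ supports C ↔ w ∈ C := by
  unfold supports
  exact support₂_injective.mem_set_image

/-- Permuting the support of a word. -/
theorem smul_support₂ {α : Type*} [Fintype α] [DecidableEq α] (σ : Equiv.Perm α)
    (w : α → ZMod 2) : σ • support₂ w = support₂ (w ∘ σ.symm) := by
  ext a
  rw [mem_support₂, Finset.mem_smul_finset]
  constructor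
  · rintro ⟨b, hb, rfl⟩
    rw [mem_support₂] at hb
    simpa using hb
  · intro h
    exact ⟨σ.symm a, by rw [mem_support₂]; exact h, by simp⟩

/-- A permutation is an automorphism of the family of supports of a binary code iff it maps the code
into itself. -/
theorem mem_setSystemAut_supports_iff {α : Type*} [Fintype α] [DecidableEq α]
    (C : Set (α → ZMod 2)) (σ : Equiv.Perm α) :
    σ ∈ setSystemAut (supports C) ↔ ∀ w ∈ C, w ∘ σ.symm ∈ C := by
  have hfin : (supports C).Finite := Set.toFinite _
  rw [show (σ ∈ setSystemAut (supports C)) ↔ σ • supports C ⊆ supports C from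
    MulAction.mem_stabilizer_set_iff_smul_set_subset hfin]
  constructor
  · intro h w hw
    have : σ • support₂ w ∈ supports C :=
      h (Set.smul_mem_smul_set ((support₂_mem_supports C w).2 hw))
    rw [smul_support₂, support₂_mem_supports] at this
    exact this
  · rintro h _ ⟨_, ⟨w, hw, rfl⟩, rfl⟩
    show σ • support₂ w ∈ supports C
    rw [smul_support₂, support₂_mem_supports]
    exact h w hw

/-- Membership in `M24`: the code is preserved. -/
theorem mem_M24_iff (σ : Equiv.Perm GolayPt) :
    σ ∈ M24 ↔ ∀ w ∈ golayCode, w ∘ σ.symm ∈ golayCode :=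
  mem_setSystemAut_supports_iff _ σ

/-- Membership in `M24`: the code is preserved (precomposition with `σ` itself). -/
theorem mem_M24_iff' (σ : Equiv.Perm GolayPt) :
    σ ∈ M24 ↔ ∀ w ∈ golayCode, w ∘ σ ∈ golayCode := by
  rw [← inv_mem_iff, mem_M24_iff]
  rfl

/-- If a map `f` of the 24 points pulls back each `qrWord t` into the code, it pulls the code back
into itself. -/
theorem comp_mem_golayCode_of_qrWord (f : GolayPt → GolayPt)
    (h : ∀ t : ZMod 23, qrWord t ∘ f ∈ golayCode) (w : GolayPt → ZMod 2) (hw : w ∈ golayCode) :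
    w ∘ f ∈ golayCode := by
  have key : golayCode ≤ golayCode.comap (LinearMap.funLeft (ZMod 2) (ZMod 2) f) := by
    conv_lhs => unfold golayCode
    rw [Submodule.span_le]
    rintro _ (⟨t, rfl⟩ | rfl)
    · exact h t
    · show (1 : GolayPt → ZMod 2) ∘ f ∈ golayCode
      exact Submodule.subset_span (Or.inr rfl)
  exact key hw

/-- Criterion: if `σ.symm` pulls back each `qrWord t` into the code then `σ ∈ M24`. -/
theorem mem_M24_of_qrWord_symm (σ : Equiv.Perm GolayPt)
    (h : ∀ t : ZMod 23, qrWord t ∘ σ.symm ∈ golayCode) : σ ∈ M24 :=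
  (mem_M24_iff σ).2 fun w hw => comp_mem_golayCode_of_qrWord _ h w hw

/-- Criterion: if `σ` pulls back each `qrWord t` into the code then `σ ∈ M24`. -/
theorem mem_M24_of_qrWord (σ : Equiv.Perm GolayPt)
    (h : ∀ t : ZMod 23, qrWord t ∘ σ ∈ golayCode) : σ ∈ M24 :=
  (mem_M24_iff' σ).2 fun w hw => comp_mem_golayCode_of_qrWord _ h w hw

theorem qrWord_mem_golayCode (t : ZMod 23) : qrWord t ∈ golayCode :=
  Submodule.subset_span (Or.inl ⟨t, rfl⟩)

theorem one_mem_golayCode : (1 : GolayPt → ZMod 2) ∈ golayCode :=
  Submodule.subset_span (Or.inr rfl)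

theorem qrWord_none (t : ZMod 23) : qrWord t none = 0 := rfl

theorem qrWord_some (t x : ZMod 23) :
    qrWord t (some x) = if ∃ r : ZMod 23, x = r ^ 2 + t then 1 else 0 := rfl

/-- An affine map `x ↦ s² x + a` (`s ≠ 0`), fixing the extra point, permutes the words `qrWord t`. -/
theorem qrWord_comp_affine (σ : GolayPt → GolayPt) (s a : ZMod 23) (hs : s ≠ 0)
    (h0 : σ none = none) (h1 : ∀ x : ZMod 23, σ (some x) = some (s ^ 2 * x + a)) (t : ZMod 23) :
    qrWord (s ^ 2 * t + a) ∘ σ = qrWord t := by
  have : Fact (Nat.Prime 23) := ⟨by norm_num⟩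
  funext p
  cases p with
  | none => simp only [Function.comp_apply, h0, qrWord_none]
  | some x =>
    simp only [Function.comp_apply, h1, qrWord_some]
    congr 1
    refine propext ⟨?_, ?_⟩
    · rintro ⟨r, hr⟩
      refine ⟨s⁻¹ * r, ?_⟩
      have h2 : s ^ 2 * x = r ^ 2 + s ^ 2 * t := by
        have := hr
        linear_combination this
      have hs2 : s ^ 2 ≠ 0 := pow_ne_zero _ hs
      apply mul_left_cancel₀ hs2
      rw [h2]
      field_simp
    · rintro ⟨r, hr⟩
      refine ⟨s * r, ?_⟩
      rw [hr]
      ring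

end Cfsg.Agent.SporadicA.M24Mem
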