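/-
The "Norton trick": from a chain of real irreducible characters of degree `n` to a subgroup of index `n + 1`.
-/
import Mathlib
import Cfsg.Agent.Characters.Core
import Cfsg.Agent.PermChar.TensorSquare
import Cfsg.Agent.Blocks.Orthogonality
import Cfsg.Agent.S0152

set_option autoImplicit false

open scoped ComplexConjugate TensorProduct
open Cfsg Representation Module Cfsg.Agent.PermChar.TensorSquare

namespace Cfsg.Agent.SporadicA.NortonTrick

universe u

section lin

variable {W : Type*} [AddCommGroup W] [Module ℂ W] [FiniteDimensional ℂ W]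

/-- The trace of an idempotent is the dimension of its range. -/
theorem trace_idem {T : Module.End ℂ W} (h : T * T = T) :
    LinearMap.trace ℂ W T = (finrank ℂ (LinearMap.range T) : ℂ) := by
  have hp : LinearMap.IsProj (LinearMap.range T) T := by
    refine ⟨fun x => LinearMap.mem_range_self T x, ?_⟩
    rintro _ ⟨y, rfl⟩
    exact congrArg (fun f : Module.End ℂ W => f y) h
  exact hp.trace

theorem eq_zero_of_trace {T : Module.End ℂ W} (h : T * T = T) (h0 : LinearMap.trace ℂ W T = 0) :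
    T = 0 := by
  rw [trace_idem h] at h0
  have h1 : finrank ℂ (LinearMap.range T) = 0 := by exact_mod_cast h0
  have h2 : LinearMap.range T = ⊥ := Submodule.finrank_eq_zero.mp h1
  exact LinearMap.range_eq_bot.mp h2

/-- A rank one idempotent. -/
theorem exists_form {T : Module.End ℂ W} (h : T * T = T) (h1 : LinearMap.trace ℂ W T = 1) :
    ∃ (u : W) (l : W →ₗ[ℂ] ℂ), (∀ w, T w = l w • u) ∧ l u = 1 := by
  rw [trace_idem h] at h1
  have h2 : finrank ℂ (LinearMap.range T) = 1 := by exact_mod_cast h1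
  obtain ⟨⟨u, hu⟩, hu0, hspan⟩ := finrank_eq_one_iff'.mp h2
  have hune : u ≠ 0 := fun h => hu0 (Subtype.ext h)
  have hT : T u = u := by
    obtain ⟨y, rfl⟩ := hu
    exact congrArg (fun f : Module.End ℂ W => f y) h
  -- a functional
  obtain ⟨f, hf⟩ : ∃ f : W →ₗ[ℂ] ℂ, f u = 1 := by
    obtain ⟨f, hf⟩ := Module.Projective.exists_dual_ne_zero ℂ hune
    exact ⟨(f u)⁻¹ • f, by simp [hf]⟩
  refine ⟨u, f ∘ₗ T, fun w => ?_, by simp [hT, hf]⟩
  obtain ⟨c, hc⟩ := hspan ⟨T w, LinearMap.mem_range_self T w⟩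
  have hc' : c • u = T w := congrArg Subtype.val hc
  rw [LinearMap.comp_apply, ← hc', map_smul, hf, smul_eq_mul, mul_one]

/-- A rank one idempotent `T` satisfies `T X T = tr (X T) T`. -/
theorem mul_mul_eq {T : Module.End ℂ W} (h : T * T = T) (h1 : LinearMap.trace ℂ W T = 1)
    (X : Module.End ℂ W) : ∃ c : ℂ, T * X * T = c • T := by
  obtain ⟨u, l, hl, -⟩ := exists_form h h1
  refine ⟨l (X u), ?_⟩
  ext w
  simp only [Module.End.mul_apply, hl, map_smul, LinearMap.smul_apply, smul_smul]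
  ring_nf

end lin

section sph

variable {G : Type u} [Group G] [Fintype G] (N : Subgroup G) [Fintype N]

/-- The average of `χ` over the coset `N g`. -/
noncomputable def sph (χ : G → ℂ) (g : G) : ℂ := (Nat.card N : ℂ)⁻¹ * ∑ m : N, χ (m * g)

omit [Fintype G] in
theorem card_ne : (Nat.card N : ℂ) ≠ 0 := by
  have : Finite N := inferInstance
  exact_mod_cast Nat.card_pos.ne'

omit [Fintype G] in
theorem sph_one {χ : G → ℂ} (h1 : ∑ m : N, χ m = Nat.card N) : sph N χ 1 = 1 := by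
  simp only [sph, mul_one, h1]
  exact inv_mul_cancel₀ (card_ne N)

theorem conv {χ : G → ℂ} (hχ : IsIrrCharacter G χ) (x y : G) :
    ∑ g, χ (x * g) * χ (g⁻¹ * y) = (Nat.card G : ℂ) * χ (x * y) / χ 1 := by
  classical
  have h := Blocks.Orthogonality.sum_irr_mul_irr (⟨χ, hχ⟩ : IrrCharacter G) ⟨χ, hχ⟩ (x * y)
  rw [if_pos rfl] at h
  rw [← h, ← Equiv.sum_comp (Equiv.mulLeft x) (fun g => χ g * χ (g⁻¹ * (x * y)))]
  refine Finset.sum_congr rfl fun g _ => ?_
  simp only [Equiv.coe_mulLeft, mul_inv_rev]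
  congr 2
  group

theorem sph_conv {χ : G → ℂ} (hχ : IsIrrCharacter G χ) (k : G) :
    ∑ g, sph N χ (g * k) * sph N χ g⁻¹ = (Nat.card G : ℂ) / χ 1 * sph N χ k := by
  have hcl := Characters.Core.isIrr_isClassFunction hχ
  have hsw : ∀ a b : G, χ (a * b) = χ (b * a) := by
    intro a b
    have := hcl (b * a) a
    rw [← this]
    congr 1
    group
  have h1 : ∀ g, sph N χ (g * k) * sph N χ g⁻¹ = (Nat.card N : ℂ)⁻¹ * (Nat.card N : ℂ)⁻¹ *
      ∑ a : N, ∑ b : N, χ ((k * a) * g) * χ (g⁻¹ * b) := by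
    intro g
    simp only [sph]
    have e1 : ∀ a : N, χ (a * (g * k)) = χ (k * a * g) := by
      intro a
      rw [← mul_assoc, hsw, ← mul_assoc]
    have e2 : ∀ b : N, χ (b * g⁻¹) = χ (g⁻¹ * b) := fun b => hsw _ _
    simp only [e1, e2]
    rw [← Finset.sum_mul_sum]
    ring
  simp only [h1]
  rw [← Finset.mul_sum, Finset.sum_comm]
  have h2 : ∀ a : N, ∑ g, ∑ b : N, χ (k * a * g) * χ (g⁻¹ * b) =
      (Nat.card G : ℂ) / χ 1 * ∑ b : N, χ (b * k) := by
    intro a
    rw [Finset.sum_comm, Finset.mul_sum, ← Equiv.sum_comp (Equiv.mulLeft a) (fun b : N => _ * χ (b * k))]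
    refine Finset.sum_congr rfl fun b _ => ?_
    rw [conv hχ]
    have : χ (((Equiv.mulLeft a) b : N) * k) = χ (k * a * b) := by
      rw [hsw]
      simp only [Equiv.coe_mulLeft, Subgroup.coe_mul, mul_assoc]
    rw [this]
    ring
  simp only [h2]
  rw [Finset.sum_const, Finset.card_univ, ← Nat.card_eq_fintype_card, nsmul_eq_mul, sph]
  field_simp [card_ne N]

theorem sph_real {χ : G → ℂ} (hr : ∀ g, conj (χ g) = χ g) (g : G) :
    conj (sph N χ g) = sph N χ g := by
  simp only [sph, map_mul, map_sum, hr, map_inv₀, Complex.conj_natCast]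

theorem sph_inv {χ : G → ℂ} (hχ : IsIrrCharacter G χ) (hr : ∀ g, conj (χ g) = χ g) (g : G) :
    sph N χ g⁻¹ = sph N χ g := by
  have hcl := Characters.Core.isIrr_isClassFunction hχ
  have hsw : ∀ a b : G, χ (a * b) = χ (b * a) := by
    intro a b
    have := hcl (b * a) a
    rw [← this]
    congr 1
    group
  have hinv : ∀ x, χ x⁻¹ = χ x := by
    intro x
    rw [Characters.Core.isCharacter_apply_inv (Characters.Core.isIrr_isCharacter hχ), hr]
  simp only [sph]
  congr 1
  rw [← Equiv.sum_comp (Equiv.inv N)]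
  refine Finset.sum_congr rfl fun m _ => ?_
  rw [Equiv.inv_apply, Subgroup.coe_inv, ← mul_inv_rev, hinv, hsw]

/-- The real spherical function. -/
noncomputable def rsph (χ : G → ℂ) (g : G) : ℝ := (sph N χ g).re

theorem rsph_coe {χ : G → ℂ} (hr : ∀ g, conj (χ g) = χ g) (g : G) :
    ((rsph N χ g : ℝ) : ℂ) = sph N χ g :=
  Complex.conj_eq_iff_re.mp (sph_real N hr g)

theorem rsph_conv {χ : G → ℂ} (hχ : IsIrrCharacter G χ) (hr : ∀ g, conj (χ g) = χ g) {n : ℕ}
    (hn : χ 1 = n) (k : G) :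
    ∑ g, rsph N χ (g * k) * rsph N χ g = (Nat.card G : ℝ) / n * rsph N χ k := by
  have h := sph_conv N hχ k
  simp only [sph_inv N hχ hr, ← rsph_coe N hr, hn] at h
  apply Complex.ofReal_injective
  push_cast
  exact h

theorem rsph_one {χ : G → ℂ} (h1 : ∑ m : N, χ m = Nat.card N) : rsph N χ 1 = 1 := by
  simp [rsph, sph_one N h1]

theorem sum_sq_shift {χ : G → ℂ} (k : G) : ∑ g, rsph N χ (g * k) ^ 2 = ∑ g, rsph N χ g ^ 2 :=
  Equiv.sum_comp (Equiv.mulRight k) (fun g => rsph N χ g ^ 2)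

theorem rsph_sq {χ : G → ℂ} (hχ : IsIrrCharacter G χ) (hr : ∀ g, conj (χ g) = χ g) {n : ℕ}
    (hn : χ 1 = n) (h1 : ∑ m : N, χ m = Nat.card N) :
    ∑ g, rsph N χ g ^ 2 = (Nat.card G : ℝ) / n := by
  have h := rsph_conv N hχ hr hn 1
  simp only [mul_one, rsph_one N h1] at h
  rw [← h]
  exact Finset.sum_congr rfl fun g _ => sq _

theorem rsph_diff {χ : G → ℂ} (hχ : IsIrrCharacter G χ) (hr : ∀ g, conj (χ g) = χ g) {n : ℕ}
    (hn : χ 1 = n) (h1 : ∑ m : N, χ m = Nat.card N) (c : ℝ) (hc : c ^ 2 = 1) (k : G) :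
    ∑ g, (rsph N χ (g * k) - c * rsph N χ g) ^ 2 = (Nat.card G : ℝ) / n * (2 - 2 * c * rsph N χ k) := by
  have e : ∀ g, (rsph N χ (g * k) - c * rsph N χ g) ^ 2 =
      rsph N χ (g * k) ^ 2 + c ^ 2 * rsph N χ g ^ 2 - 2 * c * (rsph N χ (g * k) * rsph N χ g) := by
    intro g; ring
  simp only [e]
  rw [Finset.sum_sub_distrib, Finset.sum_add_distrib, ← Finset.mul_sum, ← Finset.mul_sum, sum_sq_shift,
    rsph_conv N hχ hr hn, rsph_sq N hχ hr hn h1, hc]
  ring

theorem rsph_le {χ : G → ℂ} (hχ : IsIrrCharacter G χ) (hr : ∀ g, conj (χ g) = χ g) {n : ℕ}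
    (hn0 : 0 < n) (hn : χ 1 = n) (h1 : ∑ m : N, χ m = Nat.card N) (k : G) : |rsph N χ k| ≤ 1 := by
  have hpos : (0 : ℝ) < (Nat.card G : ℝ) / n := by
    have : 0 < Nat.card G := Nat.card_pos
    positivity
  rw [abs_le]
  constructor
  · have h := rsph_diff N hχ hr hn h1 (-1) (by norm_num) k
    have h' : 0 ≤ (Nat.card G : ℝ) / n * (2 - 2 * (-1) * rsph N χ k) := by
      rw [← h]; exact Finset.sum_nonneg fun _ _ => sq_nonneg _
    have := nonneg_of_mul_nonneg_right h' hpos
    linarith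
  · have h := rsph_diff N hχ hr hn h1 1 (by norm_num) k
    have h' : 0 ≤ (Nat.card G : ℝ) / n * (2 - 2 * 1 * rsph N χ k) := by
      rw [← h]; exact Finset.sum_nonneg fun _ _ => sq_nonneg _
    have := nonneg_of_mul_nonneg_right h' hpos
    linarith

theorem rsph_mul {χ : G → ℂ} (hχ : IsIrrCharacter G χ) (hr : ∀ g, conj (χ g) = χ g) {n : ℕ}
    (hn : χ 1 = n) (h1 : ∑ m : N, χ m = Nat.card N) {k : G} (hk : rsph N χ k = 1) (g : G) :
    rsph N χ (g * k) = rsph N χ g := by
  have h := rsph_diff N hχ hr hn h1 1 (by norm_num) k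
  rw [hk] at h
  have h0 : ∑ g, (rsph N χ (g * k) - 1 * rsph N χ g) ^ 2 = 0 := by rw [h]; ring
  have h2 := (Finset.sum_eq_zero_iff_of_nonneg (fun _ _ => sq_nonneg _)).mp h0 g (Finset.mem_univ _)
  have h3 := pow_eq_zero_iff (two_ne_zero) |>.mp h2
  linarith

end sph

section tensor

variable {G : Type u} [Group G] [Fintype G] {V : Type*} [AddCommGroup V] [Module ℂ V] [FiniteDimensional ℂ V]
  (ρ : Representation ℂ G V)

/-- The tensor square. -/
noncomputable def R (g : G) : Module.End ℂ (V ⊗[ℂ] V) := TensorProduct.map (ρ g) (ρ g)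

omit [Fintype G] [FiniteDimensional ℂ V] in
theorem R_mul (g h : G) : R ρ (g * h) = R ρ g * R ρ h := by
  rw [R, map_mul, TensorProduct.map_mul]
  rfl

omit [Fintype G] [FiniteDimensional ℂ V] in
theorem R_one : R ρ 1 = 1 := by
  rw [R, map_one]
  exact TensorProduct.map_one

/-- The symmetrizer. -/
noncomputable def S (V : Type*) [AddCommGroup V] [Module ℂ V] : Module.End ℂ (V ⊗[ℂ] V) :=
  (1 / 2 : ℂ) • (1 + swap V)

omit [FiniteDimensional ℂ V] in
theorem S_mul_S : S V * S V = S V := by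
  rw [S, smul_mul_smul_comm, add_mul, mul_add, mul_add, swap_mul_swap, one_mul, mul_one, one_mul]
  rw [show (1 : Module.End ℂ (V ⊗[ℂ] V)) + swap V + (swap V + 1) = (2 : ℂ) • (1 + swap V) by
    rw [two_smul]; abel]
  rw [smul_smul]
  norm_num

omit [Fintype G] [FiniteDimensional ℂ V] in
theorem S_comm (g : G) : S V * R ρ g = R ρ g * S V := by
  rw [S, smul_mul_assoc, mul_smul_comm, add_mul, mul_add, one_mul, mul_one, R, swap_comm_map]

/-- The character of the symmetric square. -/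
noncomputable def sig (χ : G → ℂ) (g : G) : ℂ := (χ g ^ 2 + χ (g * g)) / 2

omit [Fintype G] in
theorem trace_S_R (g : G) : LinearMap.trace ℂ _ (S V * R ρ g) = sig ρ.character g := by
  have h2 : ρ g * ρ g = ρ (g * g) := (map_mul ρ g g).symm
  rw [S_comm, S, mul_smul_comm, mul_add, mul_one, map_smul, map_add, R, LinearMap.trace_tensorProduct',
    trace_map_swap, h2, sig, smul_eq_mul]
  show (1 / 2 : ℂ) * (ρ.character g * ρ.character g + ρ.character (g * g)) = _
  ring

/-- The action of a function. -/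
noncomputable def act (f : G → ℂ) : Module.End ℂ (V ⊗[ℂ] V) := ∑ g, f g • R ρ g

omit [FiniteDimensional ℂ V] in
theorem act_mul_act (f f' : G → ℂ) :
    act ρ f * act ρ f' = act ρ (fun k => ∑ g, f g * f' (g⁻¹ * k)) := by
  rw [act, act, Finset.sum_mul_sum, act]
  simp only [Finset.sum_smul]
  rw [Finset.sum_comm]
  have h1 : ∀ g : G, ∑ k, (f g * f' (g⁻¹ * k)) • R ρ k = ∑ h, f g • R ρ g * f' h • R ρ h := by
    intro g
    rw [← Equiv.sum_comp (Equiv.mulLeft g)]
    refine Finset.sum_congr rfl fun h _ => ?_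
    rw [Equiv.coe_mulLeft, inv_mul_cancel_left, R_mul, smul_mul_smul_comm]
  rw [Finset.sum_comm]
  conv_rhs => rw [Finset.sum_comm]
  exact Finset.sum_congr rfl fun g _ => (h1 g).symm

omit [FiniteDimensional ℂ V] in
theorem S_act (f : G → ℂ) : S V * act ρ f = act ρ f * S V := by
  rw [act, Finset.mul_sum, Finset.sum_mul]
  refine Finset.sum_congr rfl fun g _ => ?_
  rw [mul_smul_comm, smul_mul_assoc, S_comm]

omit [FiniteDimensional ℂ V] in
theorem act_R {f : G → ℂ} (hf : IsClassFunction G f) (h : G) :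
    act ρ f * R ρ h = R ρ h * act ρ f := by
  rw [act, Finset.mul_sum, Finset.sum_mul, ← Equiv.sum_comp (MulAut.conj h).toEquiv]
  refine Finset.sum_congr rfl fun g _ => ?_
  rw [mul_smul_comm, smul_mul_assoc, ← R_mul, ← R_mul]
  have e1 : (MulAut.conj h).toEquiv g = h * g * h⁻¹ := rfl
  rw [e1, hf]
  congr 2
  group

/-- The isotypic projection. -/
noncomputable def P (θ : G → ℂ) : Module.End ℂ (V ⊗[ℂ] V) :=
  act ρ (fun g => θ 1 / Nat.card G * θ g⁻¹)

theorem classFun_inv {θ : G → ℂ} (h : IsClassFunction G θ) (c : ℂ) :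
    IsClassFunction G (fun g => c * θ g⁻¹) := by
  intro g k
  show c * θ (k * g * k⁻¹)⁻¹ = c * θ g⁻¹
  rw [← h g⁻¹ k]
  congr 2
  group

omit [FiniteDimensional ℂ V] in
theorem P_mul_self {θ : G → ℂ} (hθ : IsIrrCharacter G θ) : P ρ θ * P ρ θ = P ρ θ := by
  classical
  rw [P, act_mul_act]
  congr 1
  ext k
  have h := Blocks.Orthogonality.sum_irr_mul_irr (⟨θ, hθ⟩ : IrrCharacter G) ⟨θ, hθ⟩ k⁻¹
  rw [if_pos rfl] at h
  have h1 : θ 1 ≠ 0 := Characters.Core.isIrr_apply_one_ne_zero hθ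
  have h2 : (Nat.card G : ℂ) ≠ 0 := Characters.Core.card_ne_zero_complex
  have e : ∀ g : G, θ 1 / Nat.card G * θ g⁻¹ * (θ 1 / Nat.card G * θ (g⁻¹ * k)⁻¹) =
      (θ 1 / Nat.card G) ^ 2 * (θ (k⁻¹ * g) * θ ((k⁻¹ * g)⁻¹ * k⁻¹)) := by
    intro g
    rw [show (g⁻¹ * k)⁻¹ = k⁻¹ * g by group, show (k⁻¹ * g)⁻¹ * k⁻¹ = g⁻¹ by group]
    ring
  simp only [e]
  have hs : ∑ g, θ (k⁻¹ * g) * θ ((k⁻¹ * g)⁻¹ * k⁻¹) = ∑ x, θ x * θ (x⁻¹ * k⁻¹) :=
    Equiv.sum_comp (Equiv.mulLeft k⁻¹) (fun x => θ x * θ (x⁻¹ * k⁻¹))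
  simp only at h
  rw [← Finset.mul_sum, hs, h]
  field_simp

omit [FiniteDimensional ℂ V] in
theorem P_mul_ne {θ θ' : G → ℂ} (hθ : IsIrrCharacter G θ) (hθ' : IsIrrCharacter G θ') (hne : θ ≠ θ') :
    P ρ θ * P ρ θ' = 0 := by
  classical
  rw [P, P, act_mul_act]
  have : (fun k => ∑ g, θ 1 / Nat.card G * θ g⁻¹ * (θ' 1 / Nat.card G * θ' (g⁻¹ * k)⁻¹)) =
      fun _ : G => (0 : ℂ) := by
    ext k
    have h := Blocks.Orthogonality.sum_irr_mul_irr (⟨θ', hθ'⟩ : IrrCharacter G) ⟨θ, hθ⟩ k⁻¹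
    rw [if_neg (fun hh => hne (congrArg Subtype.val hh).symm)] at h
    have e : ∀ g : G, θ 1 / Nat.card G * θ g⁻¹ * (θ' 1 / Nat.card G * θ' (g⁻¹ * k)⁻¹) =
        (θ 1 / Nat.card G) * (θ' 1 / Nat.card G) * (θ' (k⁻¹ * g) * θ ((k⁻¹ * g)⁻¹ * k⁻¹)) := by
      intro g
      rw [show (g⁻¹ * k)⁻¹ = k⁻¹ * g by group, show (k⁻¹ * g)⁻¹ * k⁻¹ = g⁻¹ by group]
      ring
    simp only [e]
    have hs : ∑ g, θ' (k⁻¹ * g) * θ ((k⁻¹ * g)⁻¹ * k⁻¹) = ∑ x, θ' x * θ (x⁻¹ * k⁻¹) :=
      Equiv.sum_comp (Equiv.mulLeft k⁻¹) (fun x => θ' x * θ (x⁻¹ * k⁻¹))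
    simp only at h
    rw [← Finset.mul_sum, hs, h, mul_zero]
  rw [this, act]
  simp

/-- The trace of `P θ S R g`. -/
theorem trace_P_S_R {θ : G → ℂ} (hθ : IsIrrCharacter G θ) (g : G) :
    LinearMap.trace ℂ _ (P ρ θ * S V * R ρ g) = classInner (sig ρ.character) θ * θ g := by
  classical
  have : Finite (IrrCharacter G) := Characters.Core.finite_irr
  have := Fintype.ofFinite (IrrCharacter G)
  set σ := sig ρ.character with hσ
  have hcl : IsClassFunction G σ := by
    have hc := Characters.Core.isCharacter_isClassFunction (Characters.Core.isCharacter_of_rep ρ)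
    intro x h
    simp only [hσ, sig]
    rw [hc, show h * x * h⁻¹ * (h * x * h⁻¹) = h * (x * x) * h⁻¹ by group, hc]
  have hdec := Characters.Core.classFunction_eq_sum hcl
  have hθcl := Characters.Core.isIrr_isClassFunction hθ
  have e1 : LinearMap.trace ℂ _ (P ρ θ * S V * R ρ g) =
      ∑ h, θ 1 / Nat.card G * θ h⁻¹ * σ (h * g) := by
    rw [P, act, Finset.sum_mul, Finset.sum_mul, map_sum]
    refine Finset.sum_congr rfl fun h _ => ?_
    rw [smul_mul_assoc, smul_mul_assoc, map_smul, smul_eq_mul, ← S_comm, mul_assoc (S V), ← R_mul, trace_S_R]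
  rw [e1]
  have e2 : ∀ h, σ (h * g) = ∑ μ : IrrCharacter G, classInner σ (μ : G → ℂ) * (μ : G → ℂ) (h * g) := by
    intro h
    conv_lhs => rw [hdec]
    simp [Finset.sum_apply]
  simp only [e2, Finset.mul_sum]
  rw [Finset.sum_comm]
  have e3 : ∀ μ : IrrCharacter G, ∑ h, θ 1 / Nat.card G * θ h⁻¹ * (classInner σ (μ : G → ℂ) * (μ : G → ℂ) (h * g)) =
      θ 1 / Nat.card G * classInner σ (μ : G → ℂ) *
        (if μ = ⟨θ, hθ⟩ then (Nat.card G : ℂ) * (μ : G → ℂ) g / (μ : G → ℂ) 1 else 0) := by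
    intro μ
    rw [← Blocks.Orthogonality.sum_irr_mul_irr μ ⟨θ, hθ⟩ g, Finset.mul_sum,
      ← Equiv.sum_comp (Equiv.mulRight g) (fun x => _ * ((μ : G → ℂ) x * _))]
    refine Finset.sum_congr rfl fun h _ => ?_
    have : θ h⁻¹ = θ ((h * g)⁻¹ * g) := by
      rw [← hθcl h⁻¹ g⁻¹]
      congr 1
      group
    simp only [Equiv.coe_mulRight]
    rw [this]
    ring
  simp only [e3]
  rw [Finset.sum_eq_single ⟨θ, hθ⟩ (fun μ _ hμ => by rw [if_neg hμ, mul_zero])
    (fun h => absurd (Finset.mem_univ _) h), if_pos rfl]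
  have h1 : θ 1 ≠ 0 := Characters.Core.isIrr_apply_one_ne_zero hθ
  have h2 : (Nat.card G : ℂ) ≠ 0 := Characters.Core.card_ne_zero_complex
  simp only
  field_simp

/-- The average over the subgroup `N`. -/
noncomputable def E (N : Subgroup G) [Fintype N] : Module.End ℂ V := (Nat.card N : ℂ)⁻¹ • ∑ m : N, ρ m

/-- The average over the subgroup `N` on the tensor square. -/
noncomputable def F (N : Subgroup G) [Fintype N] : Module.End ℂ (V ⊗[ℂ] V) :=
  (Nat.card N : ℂ)⁻¹ • ∑ m : N, R ρ m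

variable (N : Subgroup G) [Fintype N]

omit [Fintype G] [FiniteDimensional ℂ V] in
theorem rep_mul_E (m : N) : ρ m * E ρ N = E ρ N := by
  rw [E, mul_smul_comm, Finset.mul_sum, ← Equiv.sum_comp (Equiv.mulLeft m) (fun x : N => ρ x)]
  congr 1
  refine Finset.sum_congr rfl fun x _ => ?_
  rw [← map_mul]
  rfl

omit [Fintype G] [FiniteDimensional ℂ V] in
theorem E_mul_rep (m : N) : E ρ N * ρ m = E ρ N := by
  rw [E, smul_mul_assoc, Finset.sum_mul, ← Equiv.sum_comp (Equiv.mulRight m) (fun x : N => ρ x)]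
  congr 1
  refine Finset.sum_congr rfl fun x _ => ?_
  rw [← map_mul]
  rfl

omit [Fintype G] [FiniteDimensional ℂ V] in
theorem E_mul_E : E ρ N * E ρ N = E ρ N := by
  conv_lhs => enter [1]; rw [E]
  rw [smul_mul_assoc, Finset.sum_mul]
  simp only [rep_mul_E]
  rw [Finset.sum_const, Finset.card_univ, ← Nat.card_eq_fintype_card, ← Nat.cast_smul_eq_nsmul ℂ, smul_smul,
    inv_mul_cancel₀ (card_ne N), one_smul]

omit [Fintype G] [FiniteDimensional ℂ V] in
theorem trace_E_mul (g : G) : LinearMap.trace ℂ V (E ρ N * ρ g) = sph N ρ.character g := by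
  rw [E, smul_mul_assoc, Finset.sum_mul, map_smul, map_sum, smul_eq_mul, sph]
  congr 1
  refine Finset.sum_congr rfl fun m _ => ?_
  rw [← map_mul]
  rfl

omit [Fintype G] [FiniteDimensional ℂ V] in
theorem R_mul_F (m : N) : R ρ m * F ρ N = F ρ N := by
  rw [F, mul_smul_comm, Finset.mul_sum, ← Equiv.sum_comp (Equiv.mulLeft m) (fun x : N => R ρ x)]
  congr 1
  refine Finset.sum_congr rfl fun x _ => ?_
  rw [← R_mul]
  rfl

omit [Fintype G] [FiniteDimensional ℂ V] in
theorem F_mul_F : F ρ N * F ρ N = F ρ N := by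
  conv_lhs => enter [1]; rw [F]
  rw [smul_mul_assoc, Finset.sum_mul]
  simp only [R_mul_F]
  rw [Finset.sum_const, Finset.card_univ, ← Nat.card_eq_fintype_card, ← Nat.cast_smul_eq_nsmul ℂ, smul_smul,
    inv_mul_cancel₀ (card_ne N), one_smul]

omit [Fintype G] [FiniteDimensional ℂ V] in
theorem S_F : S V * F ρ N = F ρ N * S V := by
  rw [F, mul_smul_comm, smul_mul_assoc, Finset.mul_sum, Finset.sum_mul]
  simp only [S_comm]

omit [FiniteDimensional ℂ V] in
theorem P_F {θ : G → ℂ} (hθ : IsIrrCharacter G θ) : P ρ θ * F ρ N = F ρ N * P ρ θ := by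
  rw [F, mul_smul_comm, smul_mul_assoc, Finset.mul_sum, Finset.sum_mul, P]
  simp only [act_R ρ (classFun_inv (Characters.Core.isIrr_isClassFunction hθ) _)]

/-- The rank one operator. -/
noncomputable def XX : Module.End ℂ (V ⊗[ℂ] V) := TensorProduct.map (E ρ N) (E ρ N)

omit [Fintype G] [FiniteDimensional ℂ V] in
theorem F_XX : F ρ N * XX ρ N = XX ρ N := by
  rw [F, smul_mul_assoc, Finset.sum_mul]
  have : ∀ m : N, R ρ m * XX ρ N = XX ρ N := by
    intro m
    rw [R, XX, ← TensorProduct.map_mul, rep_mul_E]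
  simp only [this]
  rw [Finset.sum_const, Finset.card_univ, ← Nat.card_eq_fintype_card, ← Nat.cast_smul_eq_nsmul ℂ, smul_smul,
    inv_mul_cancel₀ (card_ne N), one_smul]

omit [Fintype G] [FiniteDimensional ℂ V] in
theorem XX_F : XX ρ N * F ρ N = XX ρ N := by
  rw [F, mul_smul_comm, Finset.mul_sum]
  have : ∀ m : N, XX ρ N * R ρ m = XX ρ N := by
    intro m
    rw [R, XX, ← TensorProduct.map_mul, E_mul_rep]
  simp only [this]
  rw [Finset.sum_const, Finset.card_univ, ← Nat.card_eq_fintype_card, ← Nat.cast_smul_eq_nsmul ℂ, smul_smul,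
    inv_mul_cancel₀ (card_ne N), one_smul]

omit [Fintype G] in
theorem swap_XX (h1 : LinearMap.trace ℂ V (E ρ N) = 1) : swap V * XX ρ N = XX ρ N := by
  obtain ⟨u, l, hl, -⟩ := exists_form (E_mul_E ρ N) h1
  apply TensorProduct.ext'
  intro a b
  rw [Module.End.mul_apply, XX, TensorProduct.map_tmul, hl, hl, swap_tmul, TensorProduct.smul_tmul_smul,
    TensorProduct.smul_tmul_smul, mul_comm]

omit [Fintype G] in
theorem XX_swap (h1 : LinearMap.trace ℂ V (E ρ N) = 1) : XX ρ N * swap V = XX ρ N := by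
  obtain ⟨u, l, hl, -⟩ := exists_form (E_mul_E ρ N) h1
  apply TensorProduct.ext'
  intro a b
  rw [Module.End.mul_apply, swap_tmul, XX, TensorProduct.map_tmul, TensorProduct.map_tmul, hl, hl,
    TensorProduct.smul_tmul_smul, TensorProduct.smul_tmul_smul, mul_comm]

omit [Fintype G] in
theorem S_XX (h1 : LinearMap.trace ℂ V (E ρ N) = 1) : S V * XX ρ N = XX ρ N := by
  rw [S, smul_mul_assoc, add_mul, one_mul, swap_XX ρ N h1, ← two_smul ℂ, smul_smul]
  norm_num

omit [Fintype G] in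
theorem XX_S (h1 : LinearMap.trace ℂ V (E ρ N) = 1) : XX ρ N * S V = XX ρ N := by
  rw [S, mul_smul_comm, mul_add, mul_one, XX_swap ρ N h1, ← two_smul ℂ, smul_smul]
  norm_num

omit [Fintype G] in
theorem trace_XX_R (g : G) : LinearMap.trace ℂ _ (XX ρ N * R ρ g) = sph N ρ.character g ^ 2 := by
  rw [XX, R, ← TensorProduct.map_mul, LinearMap.trace_tensorProduct', trace_E_mul, sq]

/-- **Main identity.** -/
theorem step_rep {ψ : G → ℂ} (hρ : ρ.IsIrreducible) (hψ : IsIrrCharacter G ψ)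
    (hr : ∀ g, conj (ρ.character g) = ρ.character g) (hrψ : ∀ g, conj (ψ g) = ψ g)
    (h1 : ∑ m : N, ρ.character m = Nat.card N)
    (h2 : ∑ m : N, (ρ.character m ^ 2 + ρ.character (m * m)) = 4 * Nat.card N)
    (h1ψ : ∑ m : N, ψ m = Nat.card N) (hψ1 : ψ ≠ 1)
    (hS : ∑ g : G, (ρ.character g ^ 2 + ρ.character (g * g)) * ψ g ≠ 0) (g : G) :
    ρ.character 1 * sph N ρ.character g ^ 2 = 1 + (ρ.character 1 - 1) * sph N ψ g := by
  classical
  have hχ : IsIrrCharacter G ρ.character := Characters.Core.isIrrCharacter_of_rep ρ hρ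
  have hG : (Nat.card G : ℂ) ≠ 0 := Characters.Core.card_ne_zero_complex
  have hχ1 : ρ.character 1 ≠ 0 := Characters.Core.isIrr_apply_one_ne_zero hχ
  have hN := card_ne N
  have hone : IsIrrCharacter G (1 : G → ℂ) := Characters.Core.isIrr_one
  have htrE : LinearMap.trace ℂ V (E ρ N) = 1 := by
    have := trace_E_mul ρ N 1
    rw [map_one, mul_one, sph_one N h1] at this
    exact this
  set P1 := P ρ (1 : G → ℂ) with hP1
  set Pψ := P ρ ψ with hPψ
  set s := S V with hs
  set f := F ρ N with hf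
  set X := XX ρ N with hX
  have p1 : P1 * P1 = P1 := P_mul_self ρ hone
  have p2 : Pψ * Pψ = Pψ := P_mul_self ρ hψ
  have p12 : P1 * Pψ = 0 := P_mul_ne ρ hone hψ (fun h => hψ1 h.symm)
  have p21 : Pψ * P1 = 0 := P_mul_ne ρ hψ hone hψ1
  have sP1 : s * P1 = P1 * s := S_act ρ _
  have sPψ : s * Pψ = Pψ * s := S_act ρ _
  have fP1 : P1 * f = f * P1 := P_F ρ N hone
  have fPψ : Pψ * f = f * Pψ := P_F ρ N hψ
  have ss : s * s = s := S_mul_S
  have ff : f * f = f := F_mul_F ρ N
  have sf : s * f = f * s := S_F ρ N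
  have fX : f * X = X := F_XX ρ N
  have Xf : X * f = X := XX_F ρ N
  have sX : s * X = X := S_XX ρ N htrE
  have Xs : X * s = X := XX_S ρ N htrE
  have P1R : ∀ g, P1 * R ρ g = R ρ g * P1 := fun g => act_R ρ (classFun_inv (Characters.Core.isIrr_isClassFunction hone) _) g
  have PψR : ∀ g, Pψ * R ρ g = R ρ g * Pψ := fun g => act_R ρ (classFun_inv (Characters.Core.isIrr_isClassFunction hψ) _) g
  -- the idempotents
  have idem : ∀ Q : Module.End ℂ (V ⊗[ℂ] V), Q * Q = Q → s * Q = Q * s → Q * f = f * Q →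
      (Q * s * f) * (Q * s * f) = Q * s * f := by
    intro Q hQ hsQ hfQ
    calc (Q * s * f) * (Q * s * f) = Q * s * (f * Q) * s * f := by noncomm_ring
      _ = Q * s * (Q * f) * s * f := by rw [hfQ]
      _ = Q * (s * Q) * f * s * f := by noncomm_ring
      _ = Q * (Q * s) * f * s * f := by rw [hsQ]
      _ = (Q * Q) * s * (f * s) * f := by noncomm_ring
      _ = Q * s * (s * f) * f := by rw [hQ, sf]
      _ = Q * (s * s) * (f * f) := by noncomm_ring
      _ = Q * s * f := by rw [ss, ff]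
  -- traces
  have htrP : ∀ θ : G → ℂ, IsIrrCharacter G θ → LinearMap.trace ℂ _ (P ρ θ * s * f) =
      classInner (sig ρ.character) θ * sph N θ 1 := by
    intro θ hθ
    rw [hf, F, mul_smul_comm, map_smul, Finset.mul_sum, map_sum, smul_eq_mul, sph, Finset.mul_sum, Finset.mul_sum,
      Finset.mul_sum]
    refine Finset.sum_congr rfl fun m _ => ?_
    rw [hs, trace_P_S_R ρ hθ, mul_one]
    ring
  have htrsf : LinearMap.trace ℂ _ (s * f) = 2 := by
    rw [hf, F, mul_smul_comm, map_smul, Finset.mul_sum, map_sum, smul_eq_mul]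
    simp only [hs, trace_S_R, sig]
    rw [← Finset.sum_div, h2]
    field_simp
    norm_num
  have hψN : sph N ψ 1 = 1 := sph_one N h1ψ
  have hmψ : classInner (sig ρ.character) ψ ≠ 0 := by
    rw [Characters.Core.classInner_def]
    refine mul_ne_zero (inv_ne_zero hG) ?_
    intro h0
    apply hS
    have : ∑ g : G, (ρ.character g ^ 2 + ρ.character (g * g)) * ψ g =
        2 * ∑ g : G, sig ρ.character g * conj (ψ g) := by
      rw [Finset.mul_sum]
      refine Finset.sum_congr rfl fun g _ => ?_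
      rw [hrψ, sig]
      ring
    rw [this, h0, mul_zero]
  -- the three traces are natural numbers with sum 2
  set T1 := P1 * s * f with hT1
  set Tψ := Pψ * s * f with hTψ
  set T0 := (1 - P1 - Pψ) * s * f with hT0
  have i1 : T1 * T1 = T1 := idem P1 p1 sP1 fP1
  have iψ : Tψ * Tψ = Tψ := idem Pψ p2 sPψ fPψ
  have i0 : T0 * T0 = T0 := by
    apply idem
    · simp only [sub_mul, mul_sub, one_mul, mul_one, p1, p2, p12, p21]
      abel
    · rw [mul_sub, mul_sub, sub_mul, sub_mul, sP1, sPψ, one_mul, mul_one]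
    · rw [mul_sub, mul_sub, sub_mul, sub_mul, fP1, fPψ, one_mul, mul_one]
  have hsum : T1 + Tψ + T0 = s * f := by
    rw [hT1, hTψ, hT0]
    simp only [sub_mul, one_mul]
    abel
  have htr := congrArg (LinearMap.trace ℂ (V ⊗[ℂ] V)) hsum
  rw [map_add, map_add, htrsf, trace_idem i1, trace_idem iψ, trace_idem i0] at htr
  have htrN : finrank ℂ (LinearMap.range T1) + finrank ℂ (LinearMap.range Tψ) +
      finrank ℂ (LinearMap.range T0) = 2 := by exact_mod_cast htr
  have hTψpos : 0 < finrank ℂ (LinearMap.range Tψ) := by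
    rw [Nat.pos_iff_ne_zero]
    intro h0
    have h3 := trace_idem iψ
    rw [h0, hTψ, hPψ, htrP ψ hψ, hψN, mul_one, Nat.cast_zero] at h3
    exact hmψ h3
  -- c = trace (X P1)
  have hP1def : P1 = (Nat.card G : ℂ)⁻¹ • ∑ g, R ρ g := by
    rw [hP1, P, act, Finset.smul_sum]
    refine Finset.sum_congr rfl fun g _ => ?_
    simp
  have hc : LinearMap.trace ℂ _ (X * P1) = 1 / ρ.character 1 := by
    rw [hP1def, mul_smul_comm, map_smul, Finset.mul_sum, map_sum, smul_eq_mul]
    simp only [hX, trace_XX_R]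
    have h3 := sph_conv N hχ 1
    simp only [sph_inv N hχ hr, mul_one, sph_one N h1] at h3
    have h4 : ∑ g, sph N ρ.character g ^ 2 = (Nat.card G : ℂ) / ρ.character 1 := by
      rw [← h3]
      exact Finset.sum_congr rfl fun g _ => sq _
    rw [h4]
    field_simp
  have hP1X : P1 * X = T1 * X := by
    rw [hT1, mul_assoc, mul_assoc, fX, sX]
  have hT1pos : 0 < finrank ℂ (LinearMap.range T1) := by
    rw [Nat.pos_iff_ne_zero]
    intro h0
    have h3 := trace_idem i1
    rw [h0, Nat.cast_zero] at h3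
    have h4 := eq_zero_of_trace i1 h3
    have h5 : LinearMap.trace ℂ _ (X * P1) = 0 := by
      rw [LinearMap.trace_mul_comm, hP1X, h4, zero_mul, map_zero]
    rw [hc] at h5
    exact one_div_ne_zero hχ1 h5
  have hT0 : T0 = 0 := by
    apply eq_zero_of_trace i0
    rw [trace_idem i0]
    have : finrank ℂ (LinearMap.range T0) = 0 := by omega
    rw [this, Nat.cast_zero]
  have hTψ1 : LinearMap.trace ℂ _ Tψ = 1 := by
    rw [trace_idem iψ]
    have : finrank ℂ (LinearMap.range Tψ) = 1 := by omega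
    rw [this, Nat.cast_one]
  have hm1 : classInner (sig ρ.character) ψ = 1 := by
    have h3 := htrP ψ hψ
    rw [hψN, mul_one] at h3
    rw [← h3]
    exact hTψ1
  obtain ⟨c, hTXT⟩ := mul_mul_eq iψ hTψ1 X
  -- decomposition of X
  have hX0 : (1 - P1 - Pψ) * X = 0 := by
    have : (1 - P1 - Pψ) * X = T0 * X := by
      rw [mul_assoc, mul_assoc, fX, sX]
    rw [this, hT0, zero_mul]
  have hXdec : X = P1 * X + Pψ * X := by
    have h4 : X - P1 * X - Pψ * X = 0 := by
      rw [← hX0, sub_mul, sub_mul, one_mul]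
    calc X = (X - P1 * X - Pψ * X) + (P1 * X + Pψ * X) := by abel
      _ = P1 * X + Pψ * X := by rw [h4, zero_add]
  have hPψX : Pψ * X = Tψ * X := by
    rw [hTψ, mul_assoc, mul_assoc, fX, sX]
  have hXPψ : X * Pψ = X * Tψ := by
    have : X * Tψ = X * (Pψ * s) * f := by rw [hTψ]; noncomm_ring
    rw [this, ← sPψ]
    calc X * Pψ = X * f * Pψ := by rw [Xf]
      _ = X * (f * Pψ) := by rw [mul_assoc]
      _ = X * (Pψ * f) := by rw [fPψ]
      _ = X * s * (Pψ * f) := by rw [Xs]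
      _ = X * (s * Pψ) * f := by noncomm_ring
  have key : ∀ g, sph N ρ.character g ^ 2 = 1 / ρ.character 1 + c * sph N ψ g := by
    intro g
    rw [← trace_XX_R, ← hX]
    have h3 : X * R ρ g = P1 * X * R ρ g + Pψ * X * R ρ g := by
      rw [← add_mul, ← hXdec]
    rw [h3, map_add]
    congr 1
    · -- P1 part
      have hP1R : P1 * R ρ g = P1 := by
        rw [hP1def, smul_mul_assoc, Finset.sum_mul, ← Equiv.sum_comp (Equiv.mulRight g) (fun x => R ρ x)]
        congr 1
        refine Finset.sum_congr rfl fun x _ => ?_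
        rw [← R_mul]
        rfl
      rw [← hc, mul_assoc, LinearMap.trace_mul_comm, mul_assoc, ← P1R, hP1R]
    · have h4 : LinearMap.trace ℂ _ (Pψ * X * R ρ g) = LinearMap.trace ℂ _ (Tψ * X * Tψ * R ρ g) := by
        calc LinearMap.trace ℂ _ (Pψ * X * R ρ g) = LinearMap.trace ℂ _ (Pψ * (Pψ * X * R ρ g)) := by
              rw [← mul_assoc, ← mul_assoc, p2]
          _ = LinearMap.trace ℂ _ (Pψ * X * R ρ g * Pψ) := by rw [LinearMap.trace_mul_comm]
          _ = LinearMap.trace ℂ _ (Pψ * (X * Pψ) * R ρ g) := by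
              rw [mul_assoc (Pψ * X), ← PψR, ← mul_assoc, mul_assoc Pψ X Pψ]
          _ = LinearMap.trace ℂ _ (Pψ * X * Tψ * R ρ g) := by rw [hXPψ, ← mul_assoc]
          _ = LinearMap.trace ℂ _ (Tψ * X * Tψ * R ρ g) := by rw [hPψX]
      rw [h4, hTXT, smul_mul_assoc, map_smul, smul_eq_mul]
      congr 1
      rw [hTψ, hf, F, mul_smul_comm, smul_mul_assoc, Finset.mul_sum, Finset.sum_mul, map_smul, map_sum, smul_eq_mul,
        sph]
      congr 1
      refine Finset.sum_congr rfl fun m _ => ?_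
      rw [mul_assoc, ← R_mul, hs, hPψ, trace_P_S_R ρ hψ, hm1, one_mul]
  have h1' := key 1
  rw [sph_one N h1, hψN, one_pow, mul_one] at h1'
  have hcval : c = 1 - 1 / ρ.character 1 := by rw [eq_sub_iff_add_eq, add_comm]; exact h1'.symm
  rw [key g, hcval]
  field_simp

end tensor

/-- The dynamics `b ↦ (n b² - 1)/(n - 1)`: a periodic point in `[-1, 1]` is `1` or `-1/n`. -/
theorem periodic {n : ℕ} (hn : 4 ≤ n) (b : ℕ → ℝ) (hb : ∀ i, |b i| ≤ 1)
    (hstep : ∀ i, (n : ℝ) * b i ^ 2 = 1 + (n - 1) * b (i + 1)) {k : ℕ} (hk : 0 < k)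
    (hper : ∀ i, b (i + k) = b i) : b 0 = 1 ∨ (n : ℝ) * b 0 = -1 := by
  have hn' : (4 : ℝ) ≤ n := by exact_mod_cast hn
  by_contra hcon
  push Not at hcon
  obtain ⟨hne1, hne2⟩ := hcon
  -- all values are > -1/(n-1)
  have hlow : ∀ i, -1 ≤ (n - 1 : ℝ) * b i := by
    intro i
    have h := hstep (i + k - 1)
    rw [show i + k - 1 + 1 = i + k by omega, hper i] at h
    nlinarith [sq_nonneg (b (i + k - 1))]
  -- one stays one
  have hone : ∀ i, b i ≠ 1 := by
    intro i hi
    have h1 : ∀ j, b (i + j) = 1 := by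
      intro j
      induction j with
      | zero => exact hi
      | succ j ih =>
        have h := hstep (i + j)
        rw [ih] at h
        have h2 : (n - 1 : ℝ) * (b (i + j + 1) - 1) = 0 := by linarith
        rcases mul_eq_zero.mp h2 with h3 | h3
        · linarith
        · rw [← add_assoc]; linarith
    have hm : ∀ m, b (m * k) = b 0 := by
      intro m
      induction m with
      | zero => simp
      | succ m ih => rw [Nat.succ_mul, hper, ih]
    have h2 := h1 (i * k - i)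
    have h3 : i ≤ i * k := Nat.le_mul_of_pos_right _ hk
    rw [show i + (i * k - i) = i * k by omega, hm] at h2
    exact hne1 h2
  have hzero : ∀ i, (n : ℝ) * b i ≠ -1 := by
    intro i hi
    have h1 : ∀ j, (n : ℝ) * b (i + j) = -1 := by
      intro j
      induction j with
      | zero => exact hi
      | succ j ih =>
        have h := hstep (i + j)
        have h2 : (n : ℝ) * b (i + j) ^ 2 = - b (i + j) := by
          calc (n : ℝ) * b (i + j) ^ 2 = (n * b (i + j)) * b (i + j) := by ring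
            _ = - b (i + j) := by rw [ih]; ring
        have h3 : (n - 1 : ℝ) * (n * b (i + j + 1) + 1) = 0 := by
          have : (n - 1 : ℝ) * (n * b (i + j + 1) + 1) = n * ((1 + (n - 1) * b (i + j + 1)) - 1) + (n - 1) := by ring
          rw [this, ← h, h2]
          have : (n : ℝ) * (-b (i + j) - 1) + (n - 1) = -(n * b (i + j)) - 1 := by ring
          rw [this, ih]; ring
        rcases mul_eq_zero.mp h3 with h4 | h4
        · linarith
        · rw [← add_assoc]; linarith
    have hm : ∀ m, b (m * k) = b 0 := by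
      intro m
      induction m with
      | zero => simp
      | succ m ih => rw [Nat.succ_mul, hper, ih]
    have h2 := h1 (i * k - i)
    have h3 : i ≤ i * k := Nat.le_mul_of_pos_right _ hk
    rw [show i + (i * k - i) = i * k by omega, hm] at h2
    exact hne2 h2
  -- strict decrease of (n b + 1)^2
  have hdec : ∀ i, (n * b (i + 1) + 1) ^ 2 < (n * b i + 1) ^ 2 := by
    intro i
    have h := hstep i
    have h1 : (n - 1 : ℝ) * (n * b (i + 1) + 1) = (n * b i - 1) * (n * b i + 1) := by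
      have : (n - 1 : ℝ) * (n * b (i + 1) + 1) = n * ((1 + (n - 1) * b (i + 1)) - 1) + (n - 1) := by ring
      rw [this, ← h]; ring
    have h2 : (n * b i - 1) ^ 2 < (n - 1 : ℝ) ^ 2 := by
      have hb1 : b i < 1 := lt_of_le_of_ne (le_trans (le_abs_self _) (hb i)) (hone i)
      have hb2 := hlow i
      have h3 : (n : ℝ) * b i - 1 < n - 1 := by nlinarith
      have h4 : -(n - 1 : ℝ) < n * b i - 1 := by
        -- (n-1) (n b) ≥ -n ; need n b > 2 - n
        have h5 : -(n : ℝ) ≤ (n - 1) * (n * b i) := by nlinarith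
        by_contra h6
        push Not at h6
        have h7 : (n - 1 : ℝ) * (n * b i) ≤ (n - 1) * (2 - n) := by
          apply mul_le_mul_of_nonneg_left _ (by linarith)
          linarith
        nlinarith
      exact sq_lt_sq' h4 h3
    have h3 : 0 < (n * b i + 1 : ℝ) ^ 2 := by
      have h0 : (n * b i + 1 : ℝ) ≠ 0 := fun h0 => hzero i (by linarith)
      positivity
    have h4 : (n - 1 : ℝ) ^ 2 * (n * b (i + 1) + 1) ^ 2 = (n * b i - 1) ^ 2 * (n * b i + 1) ^ 2 := by
      rw [← mul_pow, h1, mul_pow]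
    have h5 : (n - 1 : ℝ) ^ 2 * (n * b (i + 1) + 1) ^ 2 < (n - 1 : ℝ) ^ 2 * (n * b i + 1) ^ 2 := by
      rw [h4]
      exact mul_lt_mul_of_pos_right h2 h3
    exact lt_of_mul_lt_mul_left h5 (sq_nonneg _)
  have hanti : ∀ m, (n * b (m + 1) + 1 : ℝ) ^ 2 < (n * b 0 + 1) ^ 2 := by
    intro m
    induction m with
    | zero => exact hdec 0
    | succ m ih => exact lt_trans (hdec _) ih
  have hfin := hanti (k - 1)
  rw [show k - 1 + 1 = 0 + k by omega, hper 0] at hfin
  exact lt_irrefl _ hfin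

section main

variable {G : Type u} [Group G] [Fintype G] (N : Subgroup G) [Fintype N]

theorem step_real {χ ψ : G → ℂ} (hχ : IsIrrCharacter G χ) (hψ : IsIrrCharacter G ψ)
    (hr : ∀ g, conj (χ g) = χ g) (hrψ : ∀ g, conj (ψ g) = ψ g) {n : ℕ} (hn : χ 1 = n)
    (h1 : ∑ m : N, χ m = Nat.card N)
    (h2 : ∑ m : N, (χ m ^ 2 + χ (m * m)) = 4 * Nat.card N)
    (h1ψ : ∑ m : N, ψ m = Nat.card N) (hψ1 : ψ ≠ 1)
    (hS : ∑ g : G, (χ g ^ 2 + χ (g * g)) * ψ g ≠ 0) (g : G) :
    (n : ℝ) * rsph N χ g ^ 2 = 1 + (n - 1) * rsph N ψ g := by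
  obtain ⟨d, ρ, hρ, rfl⟩ := hχ
  have h := step_rep ρ N hρ hψ hr hrψ h1 h2 h1ψ hψ1 hS g
  rw [hn, ← rsph_coe N hr, ← rsph_coe N hrψ] at h
  exact_mod_cast h

/-- If the spherical function takes only the values `1` and `-1/n` we get a subgroup of index `n + 1`. -/
theorem exists_of_two_values {χ : G → ℂ} (hχ : IsIrrCharacter G χ) (hr : ∀ g, conj (χ g) = χ g)
    {n : ℕ} (hn2 : 2 ≤ n) (hn : χ 1 = n) (h1 : ∑ m : N, χ m = Nat.card N)
    (hval : ∀ g, rsph N χ g = 1 ∨ (n : ℝ) * rsph N χ g = -1) :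
    ∃ H : Subgroup G, N ≤ H ∧ H.index = n + 1 := by
  classical
  let H : Subgroup G :=
    { carrier := {g | rsph N χ g = 1}
      one_mem' := rsph_one N h1
      mul_mem' := by
        intro a b ha hb
        show rsph N χ (a * b) = 1
        rw [rsph_mul N hχ hr hn h1 hb]
        exact ha
      inv_mem' := by
        intro a ha
        show rsph N χ a⁻¹ = 1
        rw [rsph, sph_inv N hχ hr]
        exact ha }
  have hmem : ∀ g, g ∈ H ↔ rsph N χ g = 1 := fun g => Iff.rfl
  refine ⟨H, ?_, ?_⟩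
  · intro m hm
    rw [hmem, rsph]
    have : sph N χ m = 1 := by
      rw [← sph_one N h1, sph, sph]
      congr 1
      rw [← Equiv.sum_comp (Equiv.mulRight (⟨m, hm⟩ : N)) (fun x : N => χ (x * 1))]
      refine Finset.sum_congr rfl fun x _ => ?_
      rw [mul_one]
      rfl
    rw [this, Complex.one_re]
  · have hsum : ∑ g, rsph N χ g = 0 := by
      apply Complex.ofReal_injective
      push_cast
      simp only [rsph_coe N hr, sph]
      rw [← Finset.mul_sum, Finset.sum_comm]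
      have h0 : ∑ g, χ g = 0 := by
        have h3 := Characters.Core.classInner_irr_ne hχ Characters.Core.isIrr_one
          (fun h => by
            have : χ 1 = 1 := by rw [h]; rfl
            rw [hn] at this
            have h4 : n = 1 := by exact_mod_cast this
            omega)
        rw [Characters.Core.classInner_def] at h3
        rcases mul_eq_zero.mp h3 with h4 | h4
        · exact absurd h4 (inv_ne_zero Characters.Core.card_ne_zero_complex)
        · simpa using h4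
      have : ∀ m : N, ∑ g, χ (m * g) = 0 := by
        intro m
        rw [← h0]
        exact Equiv.sum_comp (Equiv.mulLeft (m : G)) χ
      simp [this]
    have hn0 : (n : ℝ) ≠ 0 := by
      have : n ≠ 0 := by omega
      exact_mod_cast this
    have hval' : ∀ g, (n : ℝ) * rsph N χ g = if g ∈ H then (n + 1 : ℝ) - 1 else 0 - 1 := by
      intro g
      split_ifs with hg
      · rw [(hmem g).mp hg]; ring
      · rcases hval g with h | h
        · exact absurd h hg
        · rw [h]; ring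
    have hcount : ∑ g, (n : ℝ) * rsph N χ g = (n + 1) * (Nat.card H : ℝ) - Nat.card G := by
      simp only [hval']
      have e : ∀ g, (if g ∈ H then (n + 1 : ℝ) - 1 else 0 - 1) = (if g ∈ H then (n + 1 : ℝ) else 0) - 1 := by
        intro g; split_ifs <;> ring
      simp only [e]
      rw [Finset.sum_sub_distrib, ← Finset.sum_filter, Finset.sum_const, Finset.sum_const, Finset.card_univ,
        ← Nat.card_eq_fintype_card, nsmul_eq_mul, nsmul_eq_mul, mul_one]
      have : (Finset.univ.filter (fun g => g ∈ H)).card = Nat.card H := by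
        rw [Nat.card_eq_fintype_card, Fintype.card_subtype]
      rw [this]; ring
    rw [← Finset.mul_sum, hsum, mul_zero] at hcount
    have hcard : (Nat.card G : ℝ) = (n + 1) * Nat.card H := by linarith
    have hcardN : Nat.card G = (n + 1) * Nat.card H := by exact_mod_cast hcard
    have h5 := Subgroup.card_mul_index H
    have h6 : 0 < Nat.card H := Nat.card_pos
    rw [hcardN, mul_comm] at h5
    exact Nat.eq_of_mul_eq_mul_right h6 h5

/-- **Norton trick.** -/
theorem exists_subgroup_index (n : ℕ) (hn : 4 ≤ n)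
    (S : Set (G → ℂ)) (hne : S.Nonempty) (hirr : ∀ χ ∈ S, IsIrrCharacter G χ)
    (hreal : ∀ χ ∈ S, ∀ g, conj (χ g) = χ g)
    (hdeg : ∀ χ ∈ S, χ 1 = n) (h1 : ∀ χ ∈ S, ∑ m : N, χ m = Nat.card N)
    (h2 : ∀ χ ∈ S, ∑ m : N, (χ m ^ 2 + χ (m * m)) = 4 * Nat.card N)
    (hS : ∀ χ ∈ S, ∃ ψ ∈ S, ∑ g : G, (χ g ^ 2 + χ (g * g)) * ψ g ≠ 0) :
    ∃ H : Subgroup G, N ≤ H ∧ H.index = n + 1 := by
  classical
  have hfin : Finite (IrrCharacter G) := Characters.Core.finite_irr
  have hSfin : Finite S := by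
    refine Finite.of_injective (fun χ : S => (⟨χ.1, hirr χ.1 χ.2⟩ : IrrCharacter G)) ?_
    intro a b hab
    have h : a.1 = b.1 := congrArg (fun x : IrrCharacter G => (x : G → ℂ)) hab
    exact Subtype.ext h
  choose F hF hFS using hS
  let f : S → S := fun χ => ⟨F χ.1 χ.2, hF χ.1 χ.2⟩
  obtain ⟨χ0, hχ0⟩ := hne
  let s : ℕ → S := fun i => f^[i] ⟨χ0, hχ0⟩
  have hsucc : ∀ i, s (i + 1) = f (s i) := fun i => Function.iterate_succ_apply' f i _
  obtain ⟨i, j, hij, hne⟩ := Finite.exists_ne_map_eq_of_infinite s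
  -- WLOG i < j
  obtain ⟨i, k, hk, hik⟩ : ∃ i k, 0 < k ∧ s (i + k) = s i := by
    rcases lt_or_gt_of_ne hij with h | h
    · exact ⟨i, j - i, by omega, by rw [show i + (j - i) = j by omega]; exact hne.symm⟩
    · exact ⟨j, i - j, by omega, by rw [show j + (i - j) = i by omega]; exact hne⟩
  have hper : ∀ m, s (i + (m + k)) = s (i + m) := by
    intro m
    induction m with
    | zero => simpa using hik
    | succ m ih =>
      rw [show i + (m + 1 + k) = (i + (m + k)) + 1 by omega, hsucc, ih, ← hsucc]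
      rfl
  have hone : ∀ χ ∈ S, χ ≠ 1 := by
    intro χ hχ h
    have h3 : χ 1 = 1 := by rw [h]; rfl
    rw [hdeg χ hχ] at h3
    have h4 : n = 1 := by exact_mod_cast h3
    omega
  have hmem : ∀ m, (s m : G → ℂ) ∈ S := fun m => (s m).2
  refine exists_of_two_values N (hirr _ (hmem i)) (hreal _ (hmem i)) (by omega) (hdeg _ (hmem i)) (h1 _ (hmem i)) ?_
  intro g
  have hp := periodic hn (fun m => rsph N (s (i + m) : G → ℂ) g)
    (fun m => rsph_le N (hirr _ (hmem _)) (hreal _ (hmem _)) (by omega) (hdeg _ (hmem _)) (h1 _ (hmem _)) g)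
    (fun m => by
      have hs : (s (i + (m + 1)) : G → ℂ) = F (s (i + m)).1 (s (i + m)).2 := by
        rw [← add_assoc, hsucc]
      rw [hs]
      exact step_real N (hirr _ (hmem _)) (hirr _ (hF _ _)) (hreal _ (hmem _)) (hreal _ (hF _ _)) (hdeg _ (hmem _))
        (h1 _ (hmem _)) (h2 _ (hmem _)) (h1 _ (hF _ _)) (hone _ (hF _ _)) (hFS _ _) g)
    hk (fun m => by simp only [hper])
  simpa using hp

end main

end Cfsg.Agent.SporadicA.NortonTrick
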