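import Cfsg.Agent.SporadicA.GolayWalk

/-!
Transitivity of `Cfsg.M24` on the dodecads, by a walk certificate checked in the kernel: from every
code word of weight 12 the steps chosen by `certT` lead to the base dodecad.
-/

set_option autoImplicit false

namespace Cfsg.Agent.SporadicA.DodecadWalk

open Cfsg
open scoped Pointwise
open Cfsg.Agent.SporadicA.M24Mem
open Cfsg.Agent.SporadicA.GolayWalk

/-- Number of nonzero binary digits among the first `n`. -/
def popc : ℕ → ℕ → ℕ
  | 0, _ => 0
  | n + 1, m => m % 2 + popc n (m / 2)

theorem popc_eq_sum : ∀ (n m : ℕ), popc n m = ∑ i : Fin n, (m.testBit i).toNat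
  | 0, m => rfl
  | n + 1, m => by
    rw [popc, popc_eq_sum n (m / 2), Fin.sum_univ_succ]
    congr 1
    · rw [Fin.val_zero, Nat.testBit_zero]
      rcases Nat.mod_two_eq_zero_or_one m with h | h <;> simp [h]
    · refine Finset.sum_congr rfl fun i _ => ?_
      rw [Fin.val_succ, Nat.testBit_succ]

theorem card_support_word (m : ℕ) : (support₂ (word m)).card = popc 24 m := by
  have h1 : (support₂ (word m)).card = ∑ p : GolayPt, (m.testBit (idx p)).toNat := by
    unfold support₂
    rw [Finset.card_filter]
    refine Finset.sum_congr rfl fun p _ => ?_
    rw [word_apply]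
    cases m.testBit (idx p) <;> simp
  rw [h1, popc_eq_sum, Fintype.sum_option, add_comm, Fin.sum_univ_castSucc]
  rfl

/-- The translation `x ↦ x + 1`. -/
abbrev shift : Equiv.Perm GolayPt := Equiv.optionCongr (Equiv.addRight (1 : ZMod 23))

def tabShift : List ℕ :=
  [1, 2, 3, 4, 5, 6, 7, 8, 9, 10, 11, 12, 13, 14, 15, 16, 17, 18, 19, 20, 21, 22, 0, 23]

def tabInv : List ℕ :=
  [23, 22, 11, 15, 17, 9, 19, 13, 20, 5, 16, 2, 21, 7, 18, 3, 10, 4, 14, 6, 8, 12, 1, 0]

def tabTwist : List ℕ :=
  [0, 18, 6, 3, 2, 21, 1, 5, 16, 12, 7, 19, 8, 9, 17, 15, 13, 11, 4, 22, 10, 20, 14, 23]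

theorem tabShift_spec : ∀ p : GolayPt, tabShift.getD (idx p) 0 = idx (shift p) := by
  decide +kernel

theorem tabInv_spec : ∀ p : GolayPt, tabInv.getD (idx p) 0 = idx (projInv p) := by
  decide +kernel

theorem tabTwist_spec : ∀ p : GolayPt, tabTwist.getD (idx p) 0 = idx (cubeTwistFun p) := by
  decide +kernel

theorem shift_mem_M24 : shift ∈ M24 :=
  mem_M24_of_table shift tabShift rfl tabShift_spec (by decide +kernel)

theorem projInv_mem_M24 : projInv ∈ M24 :=
  mem_M24_of_table projInv tabInv rfl tabInv_spec (by decide +kernel)

theorem cubeTwist_mem_M24 : cubeTwist ∈ M24 :=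
  mem_M24_of_table cubeTwist tabTwist rfl tabTwist_spec (by decide +kernel)

/-- Certificate: two bits for each code word (indexed by its bits `0, ..., 11`). -/
def certT : ℕ := 0x100000022008000120028002860022000082082002100804240116900800002202000081182008001214098228042408222000009801021812088008a80001000808020022008282281009821a010080a0021026a801a2222205022250000000211182022002001a0000812040000a1620100181a10082180099a08a4400000202011400600021060002000a120001202420122052028082aa5220000400101009202022018202a6a0224025900112008822816808aa6a280010006881000400a98000a0042024401a80222a9804a20a0a1816421902000810818088082208201a011aa084880a00802010a02a21209218922800100462820082a00000020080020086012000082026202090010020210008100a820040091020a2a08000220222062a2848228204a20949080400009020122122a80a1822a029010820001002290202808210040a201428084822100090a02092084a02024062a864102004a800222aa82026088020105000202a81209288480a280102800020200000000028202002261a0021258a80a0201008a2028268404098222a114a2028a800062218020088282022500088288820600088102022202a08a0a8a88020080010880809012a81058000922a20912a10801000989019201a002a80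208081808400922801a86442802004a00420980002001288080161848080101828848000000000000002121828060102924940222284000200aa08100a15085001122260008200020242028802a800a00028002a10012202aa8a08288200004051a8889020a20800200900222a0a20a10981000022000988622aa20009a80824a601aaa0089001201808a182a8282602001982888a000080090022900804a698800808180000100000040000809028212112aa0850a800200500080222900122a9088019902004112a492220a0a12082080a0800008021a10998582411049106808062800400084000402a8828902a454882284642002020a1a019008280292828908880860012484a2804208100828844200040000080050828a8082000480012000000008000001a900292899008002844249628a8980a00001228a0201209a040a90810802021029288000180048819245020aa1021a88900a4211008100840411800a00042aa00880020a9221029420822a08040069011800a98408268a800041104a00010212a0559820080812880004800401020a0008000a04000821024408040000011200a220020920a414290902a90a00001184200902880a088808290490020001588001288804240199019800a228040a0aa600028028200a000a02020804000260002a01424a0802800810888201810088a6114840020082042000090880000200a8440581020048208a0820000840092800200084000200080000028000000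

/-- The table chosen by the certificate. -/
def tabOf (c : ℕ) : List ℕ := if c = 0 then tabShift else if c = 1 then tabInv else tabTwist

/-- One step of the walk. -/
def step (m : ℕ) : ℕ := pull (tabOf ((certT >>> (2 * (m % 4096))) % 4)) m

/-- Walk at most `n` steps, until the base mask is reached. -/
def walk : ℕ → ℕ → Bool
  | 0, m => m == 340831
  | n + 1, m => m == 340831 || walk n (step m)

/-- The base dodecad. -/
def baseDodecad : Finset GolayPt := support₂ (word 340831)

theorem exists_smul_pull (c m : ℕ) :
    ∃ g ∈ M24, g • support₂ (word m) = support₂ (word (pull (tabOf c) m)) := by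
  unfold tabOf
  split_ifs
  · refine ⟨shift⁻¹, inv_mem shift_mem_M24, ?_⟩
    rw [smul_support₂, ← word_comp shift tabShift rfl tabShift_spec]
    rfl
  · refine ⟨projInv⁻¹, inv_mem projInv_mem_M24, ?_⟩
    rw [smul_support₂, ← word_comp projInv tabInv rfl tabInv_spec]
    rfl
  · refine ⟨cubeTwist⁻¹, inv_mem cubeTwist_mem_M24, ?_⟩
    rw [smul_support₂, ← word_comp cubeTwist tabTwist rfl tabTwist_spec]
    rfl

theorem walk_sound : ∀ (n m : ℕ), walk n m = true →
    ∃ g ∈ M24, g • support₂ (word m) = baseDodecad
  | 0, m, h => by
    rw [walk, beq_iff_eq] at h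
    exact ⟨1, one_mem _, by rw [h, one_smul]; rfl⟩
  | n + 1, m, h => by
    rw [walk, Bool.or_eq_true, beq_iff_eq] at h
    rcases h with h | h
    · exact ⟨1, one_mem _, by rw [h, one_smul]; rfl⟩
    · obtain ⟨g, hg, hgm⟩ := walk_sound n _ h
      obtain ⟨k, hk, hkm⟩ := exists_smul_pull ((certT >>> (2 * (m % 4096))) % 4) m
      refine ⟨g * k, mul_mem hg hk, ?_⟩
      rw [mul_smul, hkm]
      exact hgm

/-- The Boolean check: weight 12 implies that the walk reaches the base. -/
def check (m : ℕ) : Bool := !(popc 24 m == 12) || walk 13 m

theorem check_all : forallSpan check basis 0 = true := by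
  decide +kernel

theorem exists_smul_eq_base {d : Finset GolayPt} (hd : d ∈ dodecads) :
    ∃ g ∈ M24, g • d = baseDodecad := by
  obtain ⟨⟨w, hw, rfl⟩, hcard⟩ := hd
  obtain ⟨m, rfl, hm⟩ := golay_forall check check_all hw
  rw [check, ← card_support_word, hcard] at hm
  exact walk_sound 13 m (by simpa using hm)

/-- `M24` is transitive on the dodecads. -/
theorem dodecad_transitive {d d' : Finset GolayPt} (hd : d ∈ dodecads) (hd' : d' ∈ dodecads) :
    ∃ g ∈ M24, g • d = d' := by
  obtain ⟨g, hg, h⟩ := exists_smul_eq_base hd
  obtain ⟨g', hg', h'⟩ := exists_smul_eq_base hd'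
  refine ⟨g'⁻¹ * g, mul_mem (inv_mem hg') hg, ?_⟩
  rw [mul_smul, h, ← h', inv_smul_smul]

end Cfsg.Agent.SporadicA.DodecadWalk
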