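import Mathlib

set_option autoImplicit false

namespace Cfsg.Agent.SporadicA.SharpSimple

open MulAction Subgroup

/-- In a permutation group of degree `p` or `p + 1`, `p` prime, the normalizer of a subgroup of
order `p` has order dividing `p * (p - 1)`. -/
theorem card_normalizer_dvd {α : Type*} [Fintype α] [DecidableEq α] {p : ℕ} (hp : p.Prime)
    (hα : Fintype.card α = p ∨ Fintype.card α = p + 1) (G : Subgroup (Equiv.Perm α))
    (P : Subgroup G) (hP : Nat.card P = p) :
    Nat.card (normalizer (P : Set G)) ∣ p * (p - 1) := by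
  classical
  have := Fact.mk hp
  have hcyc : IsCyclic P := isCyclic_of_prime_card hP
  obtain ⟨c, hc⟩ := hcyc.exists_generator
  have hord : orderOf c = p := by
    rw [← hP]
    exact orderOf_eq_card_of_forall_mem_zpowers hc
  let c' : Equiv.Perm α := ((c : G) : Equiv.Perm α)
  have hord' : orderOf c' = p := by
    rw [← hord]
    change orderOf (((c : G) : Equiv.Perm α)) = _
    rw [Subgroup.orderOf_coe, Subgroup.orderOf_coe]
  -- cycle type of c'
  obtain ⟨n, hn⟩ := Equiv.Perm.cycleType_prime_order (σ := c') (by rw [hord']; exact hp)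
  rw [hord'] at hn
  have hsum : c'.cycleType.sum = (n + 1) * p := by rw [hn]; simp; ring
  have hle : c'.cycleType.sum ≤ Fintype.card α := by
    rw [Equiv.Perm.sum_cycleType]
    exact Finset.card_le_univ _
  have hn0 : n = 0 := by
    by_contra h
    have : 2 * p ≤ (n + 1) * p := Nat.mul_le_mul_right p (by omega)
    have := hp.two_le
    omega
  subst hn0
  have hcard : Nat.card (centralizer {c'}) = p := by
    rw [Equiv.Perm.nat_card_centralizer, hsum, hn]
    have : (Fintype.card α - (0 + 1) * p).factorial = 1 := by
      rcases hα with h | h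
      · rw [h]; simp
      · rw [h]
        have : p + 1 - (0 + 1) * p = 1 := by omega
        rw [this]; rfl
    rw [this]
    simp
  -- the centralizer of P
  have h1 : Nat.card (centralizer (P : Set G)) ∣ p := by
    rw [← hcard]
    let f : centralizer (P : Set G) →* centralizer {c'} :=
      { toFun := fun x => ⟨((x : G) : Equiv.Perm α), by
          rw [mem_centralizer_singleton_iff]
          have := (mem_centralizer_iff.1 x.2) (c : G) c.2
          exact (congrArg Subtype.val this).symm⟩
        map_one' := rfl
        map_mul' := fun _ _ => rfl }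
    exact card_dvd_of_injective f (by
      intro x y h
      have := congrArg Subtype.val h
      exact Subtype.ext (Subtype.ext this))
  have h2 : (centralizer (P : Set G)).relIndex (normalizer (P : Set G)) ∣ p - 1 := by
    have key := card_dvd_of_injective _ (QuotientGroup.kerLift_injective P.normalizerMonoidHom)
    rw [normalizerMonoidHom_ker, ← index, ← relIndex, IsCyclic.card_mulAut, hP,
      Nat.totient_prime hp] at key
    exact key
  have h3 : Nat.card (centralizer (P : Set G)) *
      (centralizer (P : Set G)).relIndex (normalizer (P : Set G)) =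
      Nat.card (normalizer (P : Set G)) := by
    rw [← Subgroup.relIndex_bot_left, ← Subgroup.relIndex_bot_left]
    exact relIndex_mul_relIndex _ _ _ bot_le (centralizer_le_normalizer _)
  rw [← h3]
  exact mul_dvd_mul h1 h2

/-- Simplicity criterion: a Sylow `p`-subgroup has order `p`, its normalizer has order `p * q`,
`q` prime, it is not normal, and nontrivial normal subgroups have order divisible by `p`. -/
theorem isSimple_of_sylow {G : Type*} [Group G] [Finite G] {p q : ℕ} [hpf : Fact p.Prime]
    (hq : q.Prime) (P : Sylow p G) (hP : Nat.card P = p)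
    (hN : Nat.card (normalizer ((P : Subgroup G) : Set G)) = p * q)
    (hnorm : ∀ N : Subgroup G, N.Normal → N ≠ ⊥ → p ∣ Nat.card N)
    (hPn : ¬ (P : Subgroup G).Normal) : IsSimpleGroup G := by
  classical
  have hp : p.Prime := Fact.out
  have hcyc : IsCyclic P := isCyclic_of_prime_card hP
  have hidx : ¬ p ∣ (P : Subgroup G).index := P.not_dvd_index
  have hp2 : ¬ p ^ 2 ∣ Nat.card G := by
    intro h
    apply hidx
    rw [← card_mul_index (P : Subgroup G)] at h
    have h' : Nat.card (P : Subgroup G) = p := hP
    rw [h', pow_two] at h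
    exact Nat.dvd_of_mul_dvd_mul_left hp.pos h
  have hnt : Nontrivial G := by
    by_contra h
    rw [not_nontrivial_iff_subsingleton] at h
    apply hPn
    have : (P : Subgroup G) = ⊤ := Subsingleton.elim _ _
    rw [this]
    infer_instance
  -- a nontrivial normal subgroup contains P
  have key : ∀ N : Subgroup G, N.Normal → N ≠ ⊥ → (P : Subgroup G) ≤ N := by
    intro N hNn hNb
    have h1 := hnorm N hNn hNb
    have h2 : ¬ p ∣ N.index := by
      intro h
      apply hp2
      rw [← Subgroup.card_mul_index N, pow_two]
      exact mul_dvd_mul h1 h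
    intro g hg
    have h3 : g ^ N.index ∈ N := Subgroup.pow_index_mem N g
    have h4 : g ^ p = 1 := by
      have : (⟨g, hg⟩ : (P : Subgroup G)) ^ Nat.card (P : Subgroup G) = 1 := pow_card_eq_one'
      have h' : Nat.card (P : Subgroup G) = p := hP
      rw [h'] at this
      exact congrArg Subtype.val this
    have h5 : Nat.Coprime p N.index := (Nat.Prime.coprime_iff_not_dvd hp).2 h2
    have h6 : IsCoprime (p : ℤ) (N.index : ℤ) := Nat.isCoprime_iff_coprime.2 h5
    obtain ⟨a, b, hab⟩ := h6
    have : g = (g ^ N.index) ^ b := by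
      calc g = g ^ (a * (p : ℤ) + b * (N.index : ℤ)) := by rw [hab, zpow_one]
        _ = (g ^ N.index) ^ b := by
          rw [zpow_add, mul_comm a, zpow_mul, zpow_natCast, h4, one_zpow, one_mul, mul_comm b,
            zpow_mul, zpow_natCast]
    rw [this]
    exact zpow_mem h3 b
  refine { hnt with eq_bot_or_eq_top_of_normal := ?_ }
  intro N hNn
  by_cases hNb : N = ⊥
  · exact Or.inl hNb
  right
  have hPN : (P : Subgroup G) ≤ N := key N hNn hNb
  have hfr : normalizer ((P : Subgroup G) : Set G) ⊔ N = ⊤ := Sylow.normalizer_sup_eq_top' P hPN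
  set M := normalizer ((P : Subgroup G) : Set G) with hM
  have hPM : (P : Subgroup G) ≤ M := le_normalizer
  have hd1 : Nat.card (N ⊓ M : Subgroup G) ∣ p * q := by
    rw [← hN]; exact card_dvd_of_le inf_le_right
  have hd2 : p ∣ Nat.card (N ⊓ M : Subgroup G) := by
    have h' : Nat.card (P : Subgroup G) = p := hP
    rw [← h']; exact card_dvd_of_le (le_inf hPN hPM)
  obtain ⟨k, hk⟩ := hd2
  rw [hk] at hd1
  have hkq : k ∣ q := Nat.dvd_of_mul_dvd_mul_left hp.pos hd1
  rcases (Nat.dvd_prime hq).1 hkq with h1 | h1
  · -- N ⊓ M = P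
    exfalso
    have hle : N ⊓ M ≤ (P : Subgroup G) := by
      have h' : Nat.card (P : Subgroup G) = p := hP
      have : (P : Subgroup G) = N ⊓ M := by
        apply Subgroup.eq_of_le_of_card_ge (le_inf hPN hPM)
        rw [hk, h1, h', mul_one]
      exact this.ge
    let P' : Sylow p N := P.subtype hPN
    have hcomm : ∀ a ∈ (P : Subgroup G), ∀ b ∈ (P : Subgroup G), a * b = b * a := by
      intro a ha b hb
      have := hcyc.isMulCommutative.is_comm.comm (⟨a, ha⟩ : P) ⟨b, hb⟩
      simpa using congrArg Subtype.val this
    have hP' : normalizer ((P' : Subgroup N) : Set N) ≤ centralizer (P' : Set N) := by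
      intro x hx
      have hxP : (x : G) ∈ (P : Subgroup G) := by
        apply hle
        refine ⟨x.2, ?_⟩
        change (x : G) ∈ M
        rw [hM, mem_normalizer_iff]
        rw [mem_normalizer_iff] at hx
        intro h
        constructor
        · intro hh
          have := (hx ⟨h, hPN hh⟩).1 (by
            change (⟨h, hPN hh⟩ : N) ∈ P.subgroupOf N
            rw [mem_subgroupOf]
            exact hh)
          change (x * (⟨h, hPN hh⟩ : N) * x⁻¹ : N) ∈ P.subgroupOf N at this
          rw [mem_subgroupOf] at this
          simpa using this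
        · intro hh
          have hhN : h ∈ N := by
            have := hNn.conj_mem _ (hPN hh) (x : G)⁻¹
            simpa [mul_assoc] using this
          have := (hx ⟨h, hhN⟩).2 (by
            change (x * (⟨h, hhN⟩ : N) * x⁻¹ : N) ∈ P.subgroupOf N
            rw [mem_subgroupOf]
            simpa using hh)
          change (⟨h, hhN⟩ : N) ∈ P.subgroupOf N at this
          rw [mem_subgroupOf] at this
          exact this
      rw [mem_centralizer_iff]
      intro y hy
      have hyP : (y : G) ∈ (P : Subgroup G) := by
        change y ∈ P.subgroupOf N at hy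
        rwa [mem_subgroupOf] at hy
      apply Subtype.ext
      simpa using hcomm _ hyP _ hxP
    let K := (MonoidHom.transferSylow P' hP').ker
    have hK1 : ¬ p ∣ Nat.card K := MonoidHom.not_dvd_card_ker_transferSylow P' hP'
    have hK2 : IsComplement' K P' := MonoidHom.ker_transferSylow_isComplement' P' hP'
    -- elements of N of order prime to p lie in K
    have hP'card : Nat.card P' = p := by
      have : Nat.card ((P.subgroupOf N : Subgroup N)) = Nat.card (P : Subgroup G) :=
        Nat.card_congr (subgroupOfEquivOfLe hPN).toEquiv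
      exact this.trans hP
    have hmem : ∀ x : N, ¬ p ∣ orderOf x → x ∈ K := by
      intro x hx
      rw [MonoidHom.mem_ker, ← orderOf_eq_one_iff]
      have h1 := orderOf_map_dvd (MonoidHom.transferSylow P' hP') x
      have h2 : orderOf ((MonoidHom.transferSylow P' hP') x) ∣ p := by
        have h3 := orderOf_dvd_natCard ((MonoidHom.transferSylow P' hP') x)
        exact h3.trans (dvd_of_eq hP'card)
      rcases (Nat.dvd_prime hp).1 h2 with h | h
      · exact h
      · rw [h] at h1
        exact absurd h1 hx
    have hKn : (K.map N.subtype).Normal := by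
      constructor
      rintro _ ⟨x, hx, rfl⟩ g
      have hgx : g * (x : G) * g⁻¹ ∈ N := hNn.conj_mem _ x.2 g
      refine ⟨⟨_, hgx⟩, ?_, rfl⟩
      apply hmem
      intro h
      apply hK1
      have h2 : orderOf (⟨g * (x : G) * g⁻¹, hgx⟩ : N) = orderOf x := by
        rw [← Subgroup.orderOf_coe, ← Subgroup.orderOf_coe (a := x)]
        exact orderOf_injective (MulAut.conj g).toMonoidHom (MulAut.conj g).injective (x : G)
      rw [h2] at h
      have h3 : orderOf x ∣ Nat.card K := by
        have := orderOf_dvd_natCard (⟨x, hx⟩ : K)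
        rwa [← Subgroup.orderOf_coe] at this
      exact h.trans h3
    have hK3 : K = ⊥ := by
      by_contra hK
      apply hK1
      have h4 := hnorm _ hKn (by
        intro h
        apply hK
        rwa [Subgroup.map_eq_bot_iff_of_injective _ N.subtype_injective] at h)
      rwa [Nat.card_congr (K.equivMapOfInjective N.subtype N.subtype_injective).toEquiv.symm] at h4
    rw [hK3] at hK2
    have hP'top : (P' : Subgroup N) = ⊤ := isComplement'_bot_left.1 hK2
    have hPeq : (P : Subgroup G) = N := by
      apply le_antisymm hPN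
      intro x hx
      have : (⟨x, hx⟩ : N) ∈ (P' : Subgroup N) := hP'top ▸ mem_top _
      change (⟨x, hx⟩ : N) ∈ P.subgroupOf N at this
      rwa [mem_subgroupOf] at this
    apply hPn
    rw [hPeq]; exact hNn
  · -- M ≤ N
    have h5 : M ≤ N := by
      have : N ⊓ M = M := by
        apply Subgroup.eq_of_le_of_card_ge inf_le_right
        rw [hk, h1, hN]
      exact this ▸ inf_le_left
    rw [eq_top_iff, ← hfr]
    exact sup_le h5 le_rfl

/-- The order of a Sylow subgroup when `p` divides the group order exactly once. -/
theorem card_sylow_eq {G : Type*} [Group G] [Finite G] {p : ℕ} [hpf : Fact p.Prime] (P : Sylow p G)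
    (h1 : p ∣ Nat.card G) (h2 : ¬ p ^ 2 ∣ Nat.card G) : Nat.card (P : Subgroup G) = p := by
  obtain ⟨k, hk⟩ := P.2.exists_card_eq
  have h3 : p ∣ Nat.card (P : Subgroup G) := P.dvd_card_of_dvd_card h1
  have h4 : Nat.card (P : Subgroup G) ∣ Nat.card G := card_subgroup_dvd_card _
  have hk' : Nat.card (P : Subgroup G) = p ^ k := hk
  rcases k with _ | _ | k
  · rw [hk', pow_zero] at h3
    exact absurd (Nat.dvd_one.1 h3) hpf.out.one_lt.ne'
  · rw [hk', zero_add, pow_one]
  · exfalso
    apply h2
    refine dvd_trans ?_ h4
    rw [hk']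
    exact pow_dvd_pow p (by omega)

/-- The number of Sylow `p`-subgroups times the order of the normalizer. -/
theorem card_sylow_mul {G : Type*} [Group G] [Finite G] {p : ℕ} [Fact p.Prime] (P : Sylow p G) :
    Nat.card (Sylow p G) * Nat.card (normalizer ((P : Subgroup G) : Set G)) = Nat.card G := by
  rw [Sylow.card_eq_index_normalizer P, mul_comm]
  exact card_mul_index _

/-- The order of a sharply `k`-transitive group. -/
theorem card_of_sharp {α : Type*} [Fintype α] [DecidableEq α] (G : Subgroup (Equiv.Perm α))
    (k : ℕ) [hG : MulAction.IsMultiplyPretransitive G α k] (hk : k ≤ Fintype.card α)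
    (hsharp : ∀ x : Fin k ↪ α, MulAction.stabilizer G x = ⊥) :
    Nat.card G = (Fintype.card α).descFactorial k := by
  classical
  have hne : Nonempty (Fin k ↪ α) := by
    rw [Function.Embedding.nonempty_iff_card_le]
    simpa using hk
  obtain ⟨x⟩ := hne
  have hinj : Function.Injective (fun g : G => g • x) := by
    intro g g' h
    have h0 : ∀ i, (g : Equiv.Perm α) (x i) = (g' : Equiv.Perm α) (x i) :=
      fun i => congrArg (fun f : Fin k ↪ α => f i) h
    have h1 : (g'⁻¹ * g) • x = x := by
      apply DFunLike.ext
      intro i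
      change ((g' : Equiv.Perm α)⁻¹ * (g : Equiv.Perm α)) (x i) = x i
      rw [Equiv.Perm.mul_apply, h0 i, Equiv.Perm.inv_def, Equiv.symm_apply_apply]
    have h2 : g'⁻¹ * g ∈ MulAction.stabilizer G x := h1
    rw [hsharp x, Subgroup.mem_bot] at h2
    rw [inv_mul_eq_one] at h2
    exact h2.symm
  have hsurj : Function.Surjective (fun g : G => g • x) := by
    intro y
    obtain ⟨g, hg⟩ := hG.exists_smul_eq x y
    exact ⟨g, hg⟩
  rw [Nat.card_congr (Equiv.ofBijective _ ⟨hinj, hsurj⟩), Nat.card_eq_fintype_card,
    Fintype.card_embedding_eq, Fintype.card_fin]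

/-- `3`-transitivity in elementary form. -/
theorem exists_smul_three {G α : Type*} [Group G] [MulAction G α]
    (h3 : MulAction.IsMultiplyPretransitive G α 3) {x y z x' y' z' : α}
    (hxy : x ≠ y) (hxz : x ≠ z) (hyz : y ≠ z) (hxy' : x' ≠ y') (hxz' : x' ≠ z') (hyz' : y' ≠ z') :
    ∃ g : G, g • x = x' ∧ g • y = y' ∧ g • z = z' := by
  have key : ∀ a b c : α, a ≠ b → a ≠ c → b ≠ c → Function.Injective ![a, b, c] := by
    intro a b c hab hac hbc i j hij
    fin_cases i <;> fin_cases j <;> simp_all
  obtain ⟨g, hg⟩ := h3.exists_smul_eq (⟨_, key x y z hxy hxz hyz⟩ : Fin 3 ↪ α)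
    ⟨_, key x' y' z' hxy' hxz' hyz'⟩
  refine ⟨g, ?_, ?_, ?_⟩
  · exact congrArg (fun f : Fin 3 ↪ α => f 0) hg
  · exact congrArg (fun f : Fin 3 ↪ α => f 1) hg
  · exact congrArg (fun f : Fin 3 ↪ α => f 2) hg

/-- A nontrivial normal subgroup of a `3`-transitive group of degree `p + 1`, where `p + 1` has two
different prime divisors, has order divisible by `p`. -/
theorem dvd_card_of_normal {G α : Type*} [Group G] [MulAction G α] [FaithfulSMul G α] [Finite G]
    [Finite α] (h3 : MulAction.IsMultiplyPretransitive G α 3) {p r s : ℕ} (hα : Nat.card α = p + 1)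
    (hp : 2 ≤ p) (hr : r.Prime) (hs : s.Prime) (hrs : r ≠ s) (hrp : r ∣ p + 1) (hsp : s ∣ p + 1)
    (N : Subgroup G) (hNn : N.Normal) (hN : N ≠ ⊥) : p ∣ Nat.card N := by
  classical
  by_contra hdvd
  have h3α : 3 ≤ Nat.card α := by
    rw [hα]; omega
  have h2 : MulAction.IsMultiplyPretransitive G α 2 :=
    MulAction.isMultiplyPretransitive_of_le (n := 3) (by norm_num) h3α
  have hprim : MulAction.IsPreprimitive G α := MulAction.isPreprimitive_of_is_two_pretransitive h2
  have hfix : fixedPoints N α ≠ Set.univ := by
    intro h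
    apply hN
    rw [eq_bot_iff]
    intro n hn
    rw [Subgroup.mem_bot]
    apply FaithfulSMul.eq_of_smul_eq_smul (α := α)
    intro a
    have : a ∈ fixedPoints N α := h ▸ Set.mem_univ a
    rw [one_smul]
    exact this ⟨n, hn⟩
  have htr : MulAction.IsPretransitive N α :=
    MulAction.IsQuasiPreprimitive.isPretransitive_of_normal hfix
  have hne : Nonempty α := by
    rw [← Finite.card_pos_iff, hα]; omega
  obtain ⟨x⟩ := hne
  -- the stabilizer of x in N is trivial
  have hNx : ∀ n ∈ N, n • x = x → n = 1 := by
    intro n hn hnx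
    by_contra hn1
    obtain ⟨y, hy⟩ : ∃ y : α, n • y ≠ y := by
      by_contra h
      push Not at h
      apply hn1
      apply FaithfulSMul.eq_of_smul_eq_smul (α := α)
      intro a
      rw [h a, one_smul]
    have hyx : y ≠ x := by
      rintro rfl
      exact hy hnx
    have hnyx : n • y ≠ x := by
      intro h
      apply hyx
      have : n • y = n • x := by rw [h, hnx]
      exact smul_left_cancel n this
    -- the stabilizer in N of x is transitive on the other points
    have horb : ∀ z : α, z ≠ x → ∃ m ∈ N, m • x = x ∧ m • y = z := by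
      intro z hz
      by_cases hzy : z = y
      · exact ⟨1, one_mem _, one_smul _ _, by rw [one_smul, hzy]⟩
      · obtain ⟨g, hgx, hgy, hgz⟩ := exists_smul_three h3 (x := x) (y := y) (z := n • y)
          (x' := x) (y' := y) (z' := z) hyx.symm hnyx.symm hy.symm hyx.symm (Ne.symm hz)
          (Ne.symm hzy)
        refine ⟨g * n * g⁻¹, hNn.conj_mem n hn g, ?_, ?_⟩
        · have : g⁻¹ • x = x := by rw [inv_smul_eq_iff, hgx]
          rw [mul_smul, mul_smul, this, hnx, hgx]
        · have : g⁻¹ • y = y := by rw [inv_smul_eq_iff, hgy]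
          rw [mul_smul, mul_smul, this, hgz]
    apply hdvd
    let S : Subgroup N := MulAction.stabilizer N x
    have horbit : MulAction.orbit S y = {x}ᶜ := by
      ext z
      rw [MulAction.mem_orbit_iff]
      constructor
      · rintro ⟨m, hm⟩ hz
        rw [Set.mem_singleton_iff] at hz
        apply hyx
        have hmx : (m : N) • x = x := m.2
        have : (m : N) • y = (m : N) • x := by
          rw [hmx, ← hz]; exact hm
        exact smul_left_cancel _ this
      · intro hz
        obtain ⟨m, hm, hmx, hmy⟩ := horb z hz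
        exact ⟨⟨⟨m, hm⟩, hmx⟩, hmy⟩
    have hcard : Nat.card (MulAction.orbit S y) = p := by
      rw [horbit, Nat.card_coe_set_eq, Set.ncard_compl, hα, Set.ncard_singleton]
      rfl
    have h1 : Nat.card (MulAction.orbit S y) ∣ Nat.card S := by
      rw [Nat.card_coe_set_eq, ← MulAction.index_stabilizer]
      exact index_dvd_card _
    rw [hcard] at h1
    exact h1.trans (card_subgroup_dvd_card S)
  -- so N is regular
  have hcardN : Nat.card N = p + 1 := by
    have h := MulAction.index_stabilizer_of_transitive N x
    have hst : MulAction.stabilizer N x = ⊥ := by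
      rw [eq_bot_iff]
      intro n hn
      rw [Subgroup.mem_bot]
      exact Subtype.ext (hNx n n.2 hn)
    rw [hst, index_bot, hα] at h
    exact h
  have := Fact.mk hr
  have := Fact.mk hs
  obtain ⟨a, ha⟩ := exists_prime_orderOf_dvd_card' (G := N) r (hcardN ▸ hrp)
  obtain ⟨b, hb⟩ := exists_prime_orderOf_dvd_card' (G := N) s (hcardN ▸ hsp)
  have ha1 : (a : G) ≠ 1 := by
    intro h
    have : a = 1 := Subtype.ext h
    rw [this, orderOf_one] at ha
    exact hr.one_lt.ne ha
  have hb1 : (b : G) ≠ 1 := by
    intro h
    have : b = 1 := Subtype.ext h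
    rw [this, orderOf_one] at hb
    exact hs.one_lt.ne hb
  have hax : (a : G) • x ≠ x := fun h => ha1 (hNx a a.2 h)
  have hbx : (b : G) • x ≠ x := fun h => hb1 (hNx b b.2 h)
  obtain ⟨g, hg⟩ := (is_two_pretransitive_iff).1 h2 hax.symm hbx.symm
  have hconj : g * (a : G) * g⁻¹ = b := by
    have hgx : g⁻¹ • x = x := by rw [inv_smul_eq_iff, hg.1]
    have h1 : (g * (a : G) * g⁻¹) • x = (b : G) • x := by
      rw [mul_smul, mul_smul, hgx, hg.2]
    have h2 : ((b : G)⁻¹ * (g * (a : G) * g⁻¹)) • x = x := by
      rw [mul_smul, h1, inv_smul_smul]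
    have h3 := hNx _ (mul_mem (inv_mem b.2) (hNn.conj_mem a a.2 g)) h2
    rw [inv_mul_eq_one] at h3
    exact h3.symm
  have : orderOf (a : G) = orderOf (b : G) := by
    rw [← hconj]
    exact (orderOf_injective (MulAut.conj g).toMonoidHom (MulAut.conj g).injective (a : G)).symm
  rw [Subgroup.orderOf_coe, Subgroup.orderOf_coe, ha, hb] at this
  exact hrs this

end Cfsg.Agent.SporadicA.SharpSimple
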