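import Cfsg.Agent.SporadicA.M12Perm
import Cfsg.Agent.S0382
import Cfsg.Agent.S0383
import Cfsg.Agent.S0387

/-!
A simple group of order 95040 with a subgroup of index 12 is isomorphic to the Mathieu group M12,
the stabiliser of a dodecad in M24.
-/

set_option autoImplicit false

namespace Cfsg.Agent.SporadicA.M12OfIndex

open MulAction
open scoped Pointwise

theorem card_subgroupOf {A : Type*} [Group A] [Finite A] (H K : Subgroup A) :
    Nat.card (H.subgroupOf K) = Nat.card (K ⊓ H : Subgroup A) := by
  rw [inf_comm, ← Subgroup.subgroupOf_map_subtype]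
  exact (Nat.card_congr (Subgroup.equivMapOfInjective _ _ K.subtype_injective).toEquiv)

/-- A simple group of order 95040 with a subgroup of index 12 is the Mathieu group M12. -/
theorem mulEquiv_of_index_twelve {G : Type*} [Group G] [Finite G] (hs : IsSimpleGroup G)
    (hc : Nat.card G = 95040) (H : Subgroup G) (hH : H.index = 12)
    (d : Finset Cfsg.GolayPt) (hd : d ∈ Cfsg.dodecads) :
    Nonempty (G ≃* ↥(MulAction.stabilizer Cfsg.M24 d)) := by
  obtain ⟨e1⟩ := M12Perm.mulEquiv_std hs hc H hH
  have hcS := Cfsg.Agent.S0382.result d hd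
  have hne : d.Nonempty := by
    rw [← Finset.card_pos, hd.2]; norm_num
  obtain ⟨p, hp⟩ := hne
  have h7 := Cfsg.Agent.S0387.result d hd p hp
  have hidx : ((stabilizer Cfsg.M24 p).subgroupOf (stabilizer Cfsg.M24 d)).index = 12 := by
    have h1 := Subgroup.card_mul_index ((stabilizer Cfsg.M24 p).subgroupOf (stabilizer Cfsg.M24 d))
    rw [card_subgroupOf, h7, hcS] at h1
    omega
  obtain ⟨e2⟩ := M12Perm.mulEquiv_std (Cfsg.Agent.S0383.result d hd) hcS _ hidx
  exact ⟨e1.trans e2.symm⟩

end Cfsg.Agent.SporadicA.M12OfIndex
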