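import Cfsg.Prelude.Def_Sporadic_a

/-!
# Counting in Steiner systems

The number of blocks of a Steiner system containing a given small subset, and the first and
second moments of the intersection sizes with given sets.
-/

set_option autoImplicit false

namespace Cfsg.Agent.SporadicA.SteinerCount

open Finset Cfsg

variable {α : Type*}

/-- The blocks of a Steiner system on a finite type form a finite family. -/
theorem finite_blocks [Finite α] (B : Set (Finset α)) : B.Finite := Set.toFinite B

/-- Main double count: the number of blocks containing a given subset `s` with at most `t`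
elements, times `C(k - |s|, t - |s|)`, is `C(v - |s|, t - |s|)`. -/
theorem card_blocks_containing [Fintype α] [DecidableEq α] {t k : ℕ} {B : Set (Finset α)}
    (hB : IsSteinerSystem t k B) (F : Finset (Finset α)) (hF : ∀ b, b ∈ F ↔ b ∈ B)
    (s : Finset α) (hs : s.card ≤ t) :
    (F.filter (fun b => s ⊆ b)).card * (k - s.card).choose (t - s.card) =
      (Fintype.card α - s.card).choose (t - s.card) := by
  classical
  have key := Finset.card_mul_eq_card_mul (s := F.filter (fun b => s ⊆ b))
    (t := ((univ : Finset α).powersetCard t).filter (fun u => s ⊆ u))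
    (fun b u => u ⊆ b) (m := (k - s.card).choose (t - s.card)) (n := 1) ?_ ?_
  · rw [key, mul_one, card_filter_powersetCard_subset s univ t (subset_univ s) hs, card_univ]
  · intro b hb
    rw [mem_filter, hF] at hb
    have : (((univ : Finset α).powersetCard t).filter (fun u => s ⊆ u)).bipartiteAbove
        (fun b u => u ⊆ b) b = (b.powersetCard t).filter (fun u => s ⊆ u) := by
      ext u
      simp only [mem_bipartiteAbove, mem_filter, mem_powersetCard, subset_univ, true_and]
      tauto
    rw [this, card_filter_powersetCard_subset s b t hb.2 hs, hB.1 b hb.1]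
  · intro u hu
    rw [mem_filter, mem_powersetCard] at hu
    obtain ⟨b, ⟨hbB, hub⟩, huniq⟩ := hB.2 u hu.1.2
    rw [card_eq_one]
    refine ⟨b, ?_⟩
    ext c
    simp only [mem_bipartiteBelow, mem_filter, mem_singleton, hF]
    constructor
    · rintro ⟨⟨hc, _⟩, huc⟩
      exact huniq c ⟨hc, huc⟩
    · rintro rfl
      exact ⟨⟨hbB, hu.2.trans hub⟩, hub⟩

/-- The total number of blocks, times `C(k, t)`, is `C(v, t)`. -/
theorem card_blocks [Fintype α] {t k : ℕ} {B : Set (Finset α)}
    (hB : IsSteinerSystem t k B) (F : Finset (Finset α)) (hF : ∀ b, b ∈ F ↔ b ∈ B) :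
    F.card * k.choose t = (Fintype.card α).choose t := by
  classical
  have := card_blocks_containing hB F hF ∅ (by simp)
  simpa using this

/-- First moment of the intersection sizes with a fixed set `b`. -/
theorem sum_inter [DecidableEq α] (F : Finset (Finset α)) (b : Finset α) :
    ∑ d ∈ F, (d ∩ b).card = ∑ x ∈ b, (F.filter (fun d => x ∈ d)).card := by
  have h1 : ∀ d ∈ F, (d ∩ b).card = ∑ x ∈ b, if x ∈ d then 1 else 0 := by
    intro d _
    rw [← card_filter, inter_comm, ← filter_mem_eq_inter]
  rw [sum_congr rfl h1, sum_comm]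
  refine sum_congr rfl fun x _ => ?_
  rw [← card_filter]

/-- Mixed second moment of the intersection sizes with two fixed sets `b` and `c`. -/
theorem sum_inter_mul [DecidableEq α] (F : Finset (Finset α)) (b c : Finset α) :
    ∑ d ∈ F, (d ∩ b).card * (d ∩ c).card =
      ∑ x ∈ b, ∑ y ∈ c, (F.filter (fun d => x ∈ d ∧ y ∈ d)).card := by
  have h0 : ∀ (d e : Finset α), (d ∩ e).card = ∑ x ∈ e, if x ∈ d then 1 else 0 := by
    intro d e
    rw [← card_filter, inter_comm, ← filter_mem_eq_inter]
  have h1 : ∀ d ∈ F, (d ∩ b).card * (d ∩ c).card =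
      ∑ x ∈ b, ∑ y ∈ c, if x ∈ d ∧ y ∈ d then 1 else 0 := by
    intro d _
    rw [h0 d b, h0 d c, sum_mul_sum]
    refine sum_congr rfl fun x _ => sum_congr rfl fun y _ => ?_
    by_cases hx : x ∈ d <;> by_cases hy : y ∈ d <;> simp [hx, hy]
  rw [sum_congr rfl h1, sum_comm]
  refine sum_congr rfl fun x _ => ?_
  rw [sum_comm]
  refine sum_congr rfl fun y _ => ?_
  rw [← card_filter]

/-- Two distinct blocks of a Steiner system with parameters `(t, k)` have fewer than `t` common
points. -/
theorem card_inter_lt {t k : ℕ} [DecidableEq α] {B : Set (Finset α)}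
    (hB : IsSteinerSystem t k B) {b c : Finset α} (hb : b ∈ B) (hc : c ∈ B) (hbc : b ≠ c) :
    (b ∩ c).card < t := by
  by_contra h
  push Not at h
  obtain ⟨u, hu, hcard⟩ := exists_subset_card_eq h
  obtain ⟨d, _, huniq⟩ := hB.2 u hcard
  have h1 := huniq b ⟨hb, hu.trans inter_subset_left⟩
  have h2 := huniq c ⟨hc, hu.trans inter_subset_right⟩
  exact hbc (h1.trans h2.symm)

end Cfsg.Agent.SporadicA.SteinerCount
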