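import Cfsg.Prelude.Def_Sporadic_a
import Mathlib

set_option autoImplicit false

/-! Bitmask model of `Cfsg.golayCode` used for S0362 and S0363. -/

namespace Cfsg.Agent.SporadicA.GolayMask

open Cfsg

/-- The bit position of a point: residues `0..22`, and `23` for the point at infinity. -/
def idx : GolayPt → ℕ
  | none => 23
  | some x => ZMod.val x

theorem idx_lt (p : GolayPt) : idx p < 24 := by
  cases p with
  | none => decide
  | some x => exact lt_trans (ZMod.val_lt x) (by decide)

theorem idx_injective : Function.Injective idx := by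
  intro p q h
  cases p with
  | none =>
    cases q with
    | none => rfl
    | some y =>
      have := ZMod.val_lt y
      change 23 = ZMod.val y at h
      omega
  | some x =>
    cases q with
    | none =>
      have := ZMod.val_lt x
      change ZMod.val x = 23 at h
      omega
    | some y =>
      change ZMod.val x = ZMod.val y at h
      rw [ZMod.val_injective 23 h]

/-- The point with a given bit position. -/
def pt (i : ℕ) : GolayPt := if i < 23 then some (i : ZMod 23) else none

theorem idx_pt {i : ℕ} (hi : i < 24) : idx (pt i) = i := by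
  unfold pt
  split_ifs with h
  · exact ZMod.val_natCast_of_lt h
  · change 23 = i
    omega

/-- The word of length 24 with the given bitmask. -/
def word (m : ℕ) : GolayPt → ZMod 2 := fun p => bif m.testBit (idx p) then 1 else 0

theorem word_zero : word 0 = 0 := by
  funext p
  simp [word]

theorem word_xor (m n : ℕ) : word (m ^^^ n) = word m + word n := by
  funext p
  simp only [word, Nat.testBit_xor, Pi.add_apply]
  cases m.testBit (idx p) <;> cases n.testBit (idx p) <;> decide

theorem word_ne_zero_iff (m : ℕ) (p : GolayPt) : word m p ≠ 0 ↔ m.testBit (idx p) = true := by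
  unfold word
  cases m.testBit (idx p) <;> simp

theorem word_injOn {m n : ℕ} (hm : m < 2 ^ 24) (hn : n < 2 ^ 24) (h : word m = word n) :
    m = n := by
  apply Nat.eq_of_testBit_eq
  intro i
  by_cases hi : i < 24
  · have h1 := word_ne_zero_iff m (pt i)
    have h2 := word_ne_zero_iff n (pt i)
    rw [h, idx_pt hi] at h1
    rw [idx_pt hi] at h2
    rw [h2] at h1
    exact Bool.eq_iff_iff.mpr h1.symm
  · have h24 : 2 ^ 24 ≤ 2 ^ i := Nat.pow_le_pow_right (by decide) (by omega)
    rw [Nat.testBit_lt_two_pow (lt_of_lt_of_le hm h24),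
      Nat.testBit_lt_two_pow (lt_of_lt_of_le hn h24)]

/-- Bitmasks of the 23 translates of the squares. -/
def qrMask : List ℕ :=
  [340831, 681662, 1363324, 2726648, 5453296, 2517985, 5035970, 1683333, 3366666, 6733332,
   5078057, 1767507, 3535014, 7070028, 5751449, 3114291, 6228582, 4068557, 8137114, 7885621,
   7382635, 6376663, 4364719]

theorem qrWord_eq : ∀ t : ZMod 23, qrWord t = word (qrMask.getD (ZMod.val t) 0) := by
  have h : ∀ (t : ZMod 23) (p : GolayPt), qrWord t p = word (qrMask.getD (ZMod.val t) 0) p := by
    decide +kernel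
  exact fun t => funext (h t)

theorem one_eq_word : (1 : GolayPt → ZMod 2) = word 16777215 := by
  have h : ∀ (p : GolayPt), (1 : ZMod 2) = word 16777215 p := by
    decide +kernel
  exact funext h

/-- A basis in reduced echelon form. -/
def basis : List ℕ :=
  [8391797, 4196943, 2101096, 1050548, 525274, 262637, 133817, 69395, 36294, 18147, 10558, 5279]

/-- All sums of sublists. -/
def combos : List ℕ → List ℕ
  | [] => [0]
  | b :: bs => combos bs ++ (combos bs).map (fun x => b ^^^ x)

theorem zero_mem_combos (L : List ℕ) : 0 ∈ combos L := by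
  induction L with
  | nil => simp [combos]
  | cons b bs ih => simp [combos, ih]

theorem xor_mem_combos (L : List ℕ) :
    ∀ x ∈ combos L, ∀ y ∈ combos L, x ^^^ y ∈ combos L := by
  induction L with
  | nil => simp [combos]
  | cons b bs ih =>
    intro x hx y hy
    simp only [combos, List.mem_append, List.mem_map] at hx hy ⊢
    rcases hx with hx | ⟨x', hx, rfl⟩ <;> rcases hy with hy | ⟨y', hy, rfl⟩
    · exact Or.inl (ih _ hx _ hy)
    · exact Or.inr ⟨x ^^^ y', ih _ hx _ hy, by ac_rfl⟩
    · exact Or.inr ⟨x' ^^^ y, ih _ hx _ hy, by ac_rfl⟩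
    · refine Or.inl ?_
      have : b ^^^ x' ^^^ (b ^^^ y') = x' ^^^ y' := by
        calc b ^^^ x' ^^^ (b ^^^ y') = (b ^^^ b) ^^^ (x' ^^^ y') := by ac_rfl
          _ = x' ^^^ y' := by simp
      rw [this]
      exact ih _ hx _ hy

theorem mem_combos_of_mem (L : List ℕ) : ∀ b ∈ L, b ∈ combos L := by
  induction L with
  | nil => simp
  | cons c bs ih =>
    intro b hb
    simp only [combos, List.mem_append, List.mem_map]
    rcases List.mem_cons.mp hb with rfl | hb
    · exact Or.inr ⟨0, zero_mem_combos _, by simp⟩
    · exact Or.inl (ih b hb)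

theorem combos_induction (P : (GolayPt → ZMod 2) → Prop) (h0 : P 0) (L : List ℕ)
    (hadd : ∀ b ∈ L, ∀ x, P x → P (word b + x)) : ∀ m ∈ combos L, P (word m) := by
  induction L with
  | nil => intro m hm; simp only [combos, List.mem_singleton] at hm; rw [hm, word_zero]; exact h0
  | cons c bs ih =>
    intro m hm
    have ih' := ih (fun b hb => hadd b (List.mem_cons_of_mem _ hb))
    simp only [combos, List.mem_append, List.mem_map] at hm
    rcases hm with hm | ⟨x, hx, rfl⟩
    · exact ih' m hm
    · rw [word_xor]
      exact hadd c List.mem_cons_self _ (ih' x hx)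

/-- The sum of a list of masks. -/
def xorAll (L : List ℕ) : ℕ := L.foldr (fun x y => x ^^^ y) 0

theorem word_xorAll_mem (L : List ℕ) (h : ∀ b ∈ L, word b ∈ golayCode) :
    word (xorAll L) ∈ golayCode := by
  induction L with
  | nil => simp only [xorAll, List.foldr_nil, word_zero]; exact Submodule.zero_mem _
  | cons c bs ih =>
    have : xorAll (c :: bs) = c ^^^ xorAll bs := rfl
    rw [this, word_xor]
    exact Submodule.add_mem _ (h c List.mem_cons_self)
      (ih (fun b hb => h b (List.mem_cons_of_mem _ hb)))

/-- The 24 generators of the code as masks. -/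
def gens : List ℕ := qrMask ++ [16777215]

theorem word_mem_of_mem_gens : ∀ b ∈ gens, word b ∈ golayCode := by
  intro b hb
  simp only [gens, List.mem_append, List.mem_singleton] at hb
  rcases hb with hb | rfl
  · obtain ⟨i, hi, rfl⟩ := List.mem_iff_getElem.mp hb
    have h23 : i < 23 := hi
    have : qrWord (i : ZMod 23) = word (qrMask[i]'hi) := by
      rw [qrWord_eq, ZMod.val_natCast_of_lt h23]
      exact congrArg word (List.getD_eq_getElem _ _ hi)
    rw [← this]
    exact Submodule.subset_span (Or.inl ⟨_, rfl⟩)
  · rw [← one_eq_word]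
    exact Submodule.subset_span (Or.inr rfl)

/-- How each basis mask is a sum of generators. -/
def basisCert : List (List ℕ) :=
  [[1, 2, 4, 7, 9, 10, 23], [0, 2, 3, 4, 6, 7, 8, 10], [1, 6, 9], [0, 5, 8],
   [0, 5, 6, 7, 8, 10], [0, 7, 8, 9, 10], [2, 3, 5, 6, 8, 9], [0, 1, 3, 5, 6, 10],
   [0, 3, 4, 7, 9], [0, 2, 3, 4, 5, 10], [1, 4, 5, 7, 9], [0, 3, 4, 6, 8]]

theorem basis_eq_cert :
    basis = basisCert.map (fun l => xorAll (l.map (fun i => gens.getD i 0))) := by
  decide +kernel

theorem word_mem_of_mem_basis : ∀ b ∈ basis, word b ∈ golayCode := by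
  intro b hb
  rw [basis_eq_cert] at hb
  obtain ⟨l, -, rfl⟩ := List.mem_map.mp hb
  apply word_xorAll_mem
  intro c hc
  obtain ⟨i, -, rfl⟩ := List.mem_map.mp hc
  by_cases hi : i < gens.length
  · rw [List.getD_eq_getElem _ _ hi]
    exact word_mem_of_mem_gens _ (List.getElem_mem hi)
  · rw [List.getD_eq_default _ _ (by omega), word_zero]
    exact Submodule.zero_mem _

/-- The masks of the 4096 words of the code, in increasing order. -/
def codeMasks : List ℕ := combos basis

theorem word_mem_of_mem_codeMasks : ∀ m ∈ codeMasks, word m ∈ golayCode :=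
  combos_induction (fun w => w ∈ golayCode) (Submodule.zero_mem _) basis
    (fun b hb _ hx => Submodule.add_mem _ (word_mem_of_mem_basis b hb) hx)

theorem gens_subset_codeMasks : ∀ b ∈ gens, b ∈ codeMasks := by
  have h : gens.all (fun b => codeMasks.contains b) = true := by decide +kernel
  intro b hb
  exact List.contains_iff_mem.mp (List.all_eq_true.mp h b hb)

theorem exists_mask_of_mem {w : GolayPt → ZMod 2} (hw : w ∈ golayCode) :
    ∃ m ∈ codeMasks, word m = w := by
  unfold golayCode at hw
  induction hw using Submodule.span_induction with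
  | mem x hx =>
    rcases hx with ⟨t, rfl⟩ | hx
    · refine ⟨qrMask.getD (ZMod.val t) 0, gens_subset_codeMasks _ ?_, (qrWord_eq t).symm⟩
      have ht : ZMod.val t < qrMask.length := ZMod.val_lt t
      rw [List.getD_eq_getElem _ _ ht]
      exact List.mem_append_left _ (List.getElem_mem ht)
    · rw [Set.mem_singleton_iff] at hx
      subst hx
      exact ⟨16777215, gens_subset_codeMasks _ (List.mem_append_right _ (by simp)),
        one_eq_word.symm⟩
  | zero => exact ⟨0, zero_mem_combos _, word_zero⟩
  | add x y _ _ hx hy =>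
    obtain ⟨m, hm, rfl⟩ := hx
    obtain ⟨n, hn, rfl⟩ := hy
    exact ⟨m ^^^ n, xor_mem_combos _ m hm n hn, word_xor m n⟩
  | smul a x _ hx =>
    obtain ⟨m, hm, rfl⟩ := hx
    have ha : a = 0 ∨ a = 1 := by revert a; decide
    rcases ha with rfl | rfl
    · exact ⟨0, zero_mem_combos _, by rw [word_zero, zero_smul]⟩
    · exact ⟨m, hm, by rw [one_smul]⟩

theorem mem_golayCode_iff {w : GolayPt → ZMod 2} :
    w ∈ golayCode ↔ ∃ m ∈ codeMasks, word m = w :=
  ⟨exists_mask_of_mem, fun ⟨m, hm, h⟩ => h ▸ word_mem_of_mem_codeMasks m hm⟩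

/-! ### Weights -/

/-- The number of ones among the lowest `k` bits. -/
def pc : ℕ → ℕ → ℕ
  | 0, _ => 0
  | k + 1, m => pc k (m / 2) + m % 2

theorem card_filter_testBit (k m : ℕ) :
    ((Finset.range k).filter (fun i => m.testBit i = true)).card = pc k m := by
  induction k generalizing m with
  | zero => simp [pc]
  | succ k ih =>
    rw [pc, ← ih (m / 2), Finset.card_filter, Finset.card_filter, Finset.sum_range_succ']
    congr 1
    · apply Finset.sum_congr rfl
      intro i _
      rw [Nat.testBit_div_two]
    · rw [Nat.testBit_zero]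
      rcases Nat.mod_two_eq_zero_or_one m with h | h <;> simp [h]

theorem card_support_word (m : ℕ) : (support₂ (word m)).card = pc 24 m := by
  rw [← card_filter_testBit]
  rw [← Finset.card_image_of_injective (support₂ (word m)) idx_injective]
  congr 1
  ext i
  simp only [Finset.mem_image, support₂, Finset.mem_filter, Finset.mem_univ, true_and,
    Finset.mem_range, word_ne_zero_iff]
  constructor
  · rintro ⟨p, hp, rfl⟩
    exact ⟨idx_lt p, hp⟩
  · rintro ⟨hi, h⟩
    exact ⟨pt i, by rw [idx_pt hi]; exact h, idx_pt hi⟩

theorem weight_codeMasks : ∀ m ∈ codeMasks, m = 0 ∨ 8 ≤ pc 24 m := by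
  have h : codeMasks.all (fun m => Nat.beq m 0 || Nat.ble 8 (pc 24 m)) = true := by decide +kernel
  intro m hm
  have := List.all_eq_true.mp h m hm
  rw [Bool.or_eq_true] at this
  rcases this with h | h
  · exact Or.inl (Nat.eq_of_beq_eq_true h)
  · exact Or.inr (Nat.le_of_ble_eq_true h)

theorem eq_zero_of_card_lt {w : GolayPt → ZMod 2} (hw : w ∈ golayCode)
    (h : (support₂ w).card < 8) : w = 0 := by
  obtain ⟨m, hm, rfl⟩ := exists_mask_of_mem hw
  rw [card_support_word] at h
  rcases weight_codeMasks m hm with rfl | h'
  · exact word_zero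
  · omega

/-- The masks of the 759 words of weight 8. -/
def octadMasks : List ℕ := codeMasks.filter (fun m => Nat.beq (pc 24 m) 8)

theorem octadMasks_length : octadMasks.length = 759 := by decide +kernel

/-- Linear-time test that a list is strictly increasing. -/
def incr : ℕ → List ℕ → Bool
  | _, [] => true
  | a, b :: l => Nat.blt a b && incr b l

theorem incr_spec : ∀ (a : ℕ) (l : List ℕ), incr a l = true →
    (∀ b ∈ l, a < b) ∧ l.Pairwise (· < ·) := by
  intro a l
  induction l generalizing a with
  | nil => intro _; simp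
  | cons b l ih =>
    intro h
    rw [incr, Bool.and_eq_true] at h
    obtain ⟨h1, h2⟩ := h
    have hab : a < b := by
      unfold Nat.blt at h1
      exact Nat.le_of_ble_eq_true h1
    obtain ⟨h3, h4⟩ := ih b h2
    refine ⟨?_, List.pairwise_cons.mpr ⟨h3, h4⟩⟩
    intro c hc
    rcases List.mem_cons.mp hc with rfl | hc
    · exact hab
    · exact lt_trans hab (h3 c hc)

theorem octadMasks_nodup : octadMasks.Nodup := by
  have h : incr 0 octadMasks = true := by decide +kernel
  exact (incr_spec _ _ h).2.imp (fun h => Nat.ne_of_lt h)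

theorem codeMasks_lt : ∀ m ∈ codeMasks, m < 2 ^ 24 := by
  have h : codeMasks.all (fun m => Nat.blt m 16777216) = true := by decide +kernel
  intro m hm
  have := List.all_eq_true.mp h m hm
  unfold Nat.blt at this
  exact Nat.le_of_ble_eq_true this

theorem support₂_injective : Function.Injective (support₂ (α := GolayPt)) := by
  intro v w h
  funext p
  have h1 : p ∈ support₂ v ↔ p ∈ support₂ w := by rw [h]
  simp only [support₂, Finset.mem_filter, Finset.mem_univ, true_and] at h1
  generalize v p = a at *
  generalize w p = b at *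
  revert a b
  decide

/-- The 759 octads as a finset. -/
def octadFinset : Finset (Finset GolayPt) :=
  octadMasks.toFinset.image (fun m => support₂ (word m))

theorem octadFinset_card : octadFinset.card = 759 := by
  unfold octadFinset
  rw [Finset.card_image_of_injOn, List.toFinset_card_of_nodup octadMasks_nodup, octadMasks_length]
  intro m hm n hn h
  simp only [List.coe_toFinset, Set.mem_ofPred_eq] at hm hn
  exact word_injOn (codeMasks_lt m (List.mem_of_mem_filter hm))
    (codeMasks_lt n (List.mem_of_mem_filter hn)) (support₂_injective h)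

theorem mem_octadFinset (b : Finset GolayPt) : b ∈ octadFinset ↔ b ∈ octads := by
  unfold octadFinset octads wordsOfWeight supports
  simp only [Finset.mem_image, List.mem_toFinset, Set.mem_ofPred_eq, Set.mem_image,
    SetLike.mem_coe, octadMasks, List.mem_filter]
  constructor
  · rintro ⟨m, ⟨hm, h8⟩, rfl⟩
    exact ⟨⟨_, word_mem_of_mem_codeMasks m hm, rfl⟩,
      (card_support_word m).trans (Nat.eq_of_beq_eq_true h8)⟩
  · rintro ⟨⟨w, hw, rfl⟩, h8⟩
    obtain ⟨m, hm, rfl⟩ := exists_mask_of_mem hw
    rw [card_support_word] at h8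
    exact ⟨m, ⟨hm, by rw [h8]; rfl⟩, rfl⟩

end Cfsg.Agent.SporadicA.GolayMask
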