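import Cfsg.Agent.SporadicA.GolayWalk

/-!
`Cfsg.golayCode` is spanned by its words of weight 8, hence `M24` is the automorphism group of the
family of octads.
-/

set_option autoImplicit false

namespace Cfsg.Agent.SporadicA.OctadSpan

open Cfsg
open scoped Pointwise
open Cfsg.Agent.SporadicA.M24Mem
open Cfsg.Agent.SporadicA.GolayWalk

theorem mem_octads_iff (b : Finset GolayPt) :
    b ∈ octads ↔ b ∈ supports (golayCode : Set (GolayPt → ZMod 2)) ∧ b.card = 8 := Iff.rfl

theorem support_mem_octads_iff (w : GolayPt → ZMod 2) :
    support₂ w ∈ octads ↔ w ∈ golayCode ∧ (support₂ w).card = 8 := by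
  rw [mem_octads_iff, support₂_mem_supports]
  rfl

theorem card_basis : ∀ b ∈ basis, (support₂ (word b)).card = 8 := by
  decide +kernel

/-- The code is spanned by its words of weight 8. -/
theorem golayCode_eq_span_octads :
    golayCode = Submodule.span (ZMod 2) {w | support₂ w ∈ octads} := by
  apply le_antisymm
  · conv_lhs => rw [golayCode_eq_span]
    refine Submodule.span_mono ?_
    rintro _ ⟨b, hb, rfl⟩
    exact (support_mem_octads_iff _).2 ⟨word_mem_of_mem_basis hb, card_basis b hb⟩
  · rw [Submodule.span_le]
    intro w hw
    exact ((support_mem_octads_iff w).1 hw).1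

/-- `M24` is the automorphism group of the family of octads. -/
theorem m24_eq_octad_aut : M24 = setSystemAut octads := by
  ext g
  have hfin : (octads : Set (Finset GolayPt)).Finite := Set.toFinite _
  rw [show (g ∈ setSystemAut octads) ↔ g • octads ⊆ octads from
    MulAction.mem_stabilizer_set_iff_smul_set_subset hfin]
  constructor
  · rintro hg _ ⟨b, hb, rfl⟩
    obtain ⟨⟨w, hw, rfl⟩, hcard⟩ := hb
    show g • support₂ w ∈ octads
    rw [mem_octads_iff, Finset.card_smul_finset]
    refine ⟨?_, hcard⟩
    rw [smul_support₂, support₂_mem_supports]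
    exact (mem_M24_iff g).1 hg w hw
  · intro hg
    rw [mem_M24_iff]
    have key : golayCode ≤ golayCode.comap (LinearMap.funLeft (ZMod 2) (ZMod 2) g.symm) := by
      conv_lhs => rw [golayCode_eq_span_octads]
      rw [Submodule.span_le]
      intro w hw
      have h1 : g • support₂ w ∈ octads := hg (Set.smul_mem_smul_set hw)
      rw [smul_support₂, support_mem_octads_iff] at h1
      exact h1.1
    exact fun w hw => key hw

end Cfsg.Agent.SporadicA.OctadSpan
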