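import Cfsg.Prelude.Def_Sporadic_a

set_option autoImplicit false

/-!
Orders of pointwise stabilisers in a multiply transitive group (general lemmas used for
the Mathieu groups).
-/

namespace Cfsg.Agent.SporadicA.TwoPointStab

open MulAction

variable {G α : Type*} [Group G] [MulAction G α]

theorem fixingSubgroup_pair (p q : α) :
    fixingSubgroup G ({p, q} : Set α) = stabilizer G p ⊓ stabilizer G q := by
  ext g
  simp [mem_fixingSubgroup_iff, Subgroup.mem_inf, mem_stabilizer_iff]

theorem fixingSubgroup_singleton (p : α) :
    fixingSubgroup G ({p} : Set α) = stabilizer G p := by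
  ext g
  simp [mem_fixingSubgroup_iff, mem_stabilizer_iff]

/-- In a `k`-transitive group of finite degree `n`, the order of the pointwise stabiliser of a set
of `k` points times `n!` is `|G|` times `(n-k)!`. -/
theorem card_fixingSubgroup_mul [Finite α] {k : ℕ} (Hk : IsMultiplyPretransitive G α k)
    {s : Set α} (hs : s.ncard = k) :
    Nat.card (fixingSubgroup G s) * (Nat.card α).factorial =
      Nat.card G * (Nat.card α - k).factorial := by
  have h := Hk.index_of_fixingSubgroup_mul hs
  have h2 := (fixingSubgroup G s).card_mul_index
  rw [← h, ← h2]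
  ring

theorem card_stab_mul [Finite α] (h : IsMultiplyPretransitive G α 1) (p : α) :
    Nat.card (stabilizer G p) * (Nat.card α).factorial =
      Nat.card G * (Nat.card α - 1).factorial := by
  rw [← fixingSubgroup_singleton]
  exact card_fixingSubgroup_mul h (Set.ncard_singleton p)

theorem card_two_stab_mul [Finite α] (h : IsMultiplyPretransitive G α 2) {p q : α} (hpq : p ≠ q) :
    Nat.card ↥(stabilizer G p ⊓ stabilizer G q) * (Nat.card α).factorial =
      Nat.card G * (Nat.card α - 2).factorial := by
  rw [← fixingSubgroup_pair]
  exact card_fixingSubgroup_mul h (Set.ncard_pair hpq)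

end Cfsg.Agent.SporadicA.TwoPointStab
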