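import Mathlib

/-!
# A computable field with four elements, and functoriality of `PSL` in the field
-/

set_option autoImplicit false

namespace Cfsg.Agent.SporadicA.FieldFour

/-- The field with four elements `0, 1, ω, ω²`, by tables. -/
inductive F4 : Type
  | z : F4
  | o : F4
  | w : F4
  | v : F4

namespace F4

/-- Number of an element. -/
def toNat : F4 → ℕ
  | z => 0
  | o => 1
  | w => 2
  | v => 3

/-- Element with a given number. -/
def ofNat : ℕ → F4
  | 0 => z
  | 1 => o
  | 2 => w
  | _ => v

theorem ofNat_toNat (a : F4) : ofNat (toNat a) = a := by cases a <;> rfl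

instance decEq : DecidableEq F4 := fun a b =>
  if h : toNat a = toNat b then isTrue (by rw [← ofNat_toNat a, h, ofNat_toNat])
  else isFalse (fun hab => h (by rw [hab]))

instance fintype : Fintype F4 where
  elems := {z, o, w, v}
  complete := by intro a; cases a <;> decide

theorem card_eq : Fintype.card F4 = 4 := rfl

/-- Addition. -/
def add : F4 → F4 → F4
  | z, b => b
  | o, z => o
  | o, o => z
  | o, w => v
  | o, v => w
  | w, z => w
  | w, o => v
  | w, w => z
  | w, v => o
  | v, z => v
  | v, o => w
  | v, w => o
  | v, v => z

/-- Multiplication. -/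
def mul : F4 → F4 → F4
  | z, _ => z
  | o, b => b
  | w, z => z
  | w, o => w
  | w, w => v
  | w, v => o
  | v, z => z
  | v, o => v
  | v, w => o
  | v, v => w

/-- Inverse. -/
def inv : F4 → F4
  | z => z
  | o => o
  | w => v
  | v => w

instance instZero : Zero F4 := ⟨z⟩
instance instOne : One F4 := ⟨o⟩
instance instAdd : Add F4 := ⟨add⟩
instance instMul : Mul F4 := ⟨mul⟩
instance instNeg : Neg F4 := ⟨fun a => a⟩
instance instInv : Inv F4 := ⟨inv⟩

instance field : Field F4 where
  add_assoc := by decide
  zero_add := by decide
  add_zero := by decide
  neg_add_cancel := by decide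
  add_comm := by decide
  mul_assoc := by decide
  mul_comm := by decide
  one_mul := by decide
  mul_one := by decide
  zero_mul := by decide
  mul_zero := by decide
  left_distrib := by decide
  right_distrib := by decide
  exists_pair_ne := ⟨z, o, by decide⟩
  mul_inv_cancel := by decide
  inv_zero := by decide
  nsmul := nsmulRec
  zsmul := zsmulRec
  nnqsmul := _
  nnqsmul_def := fun _ _ => rfl
  qsmul := _
  qsmul_def := fun _ _ => rfl

end F4

open Matrix

variable {n : Type*} [DecidableEq n] [Fintype n] {K L : Type*} [Field K] [Field L]

/-- A ring isomorphism induces an isomorphism of special linear groups. -/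
def slCongr (e : K ≃+* L) : SpecialLinearGroup n K ≃* SpecialLinearGroup n L where
  toFun := SpecialLinearGroup.map e.toRingHom
  invFun := SpecialLinearGroup.map e.symm.toRingHom
  left_inv := by
    intro A
    ext i j
    simp
  right_inv := by
    intro A
    ext i j
    simp
  map_mul' := map_mul _

/-- A group isomorphism maps the centre onto the centre. -/
theorem map_center_eq {G H : Type*} [Group G] [Group H] (e : G ≃* H) :
    (Subgroup.center G).map (e : G →* H) = Subgroup.center H := by
  ext x
  rw [Subgroup.mem_map]
  constructor
  · rintro ⟨y, hy, rfl⟩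
    rw [Subgroup.mem_center_iff] at hy ⊢
    intro g
    have h := hy (e.symm g)
    have h' := congrArg e h
    simpa using h'
  · intro hx
    refine ⟨e.symm x, ?_, by simp⟩
    rw [Subgroup.mem_center_iff] at hx ⊢
    intro g
    have h := hx (e g)
    have h' := congrArg e.symm h
    simpa using h'

/-- A ring isomorphism induces an isomorphism of projective special linear groups. -/
noncomputable def pslCongr (e : K ≃+* L) :
    ProjectiveSpecialLinearGroup n K ≃* ProjectiveSpecialLinearGroup n L :=
  QuotientGroup.congr _ _ (slCongr e) (map_center_eq _)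

/-- Any field with four elements is isomorphic to `F4`, at the level of `PSL`. -/
theorem nonempty_psl_equiv (F : Type*) [Field F] [Fintype F] (hF : Fintype.card F = 4) :
    Nonempty (ProjectiveSpecialLinearGroup n F4 ≃* ProjectiveSpecialLinearGroup n F) :=
  ⟨pslCongr (FiniteField.ringEquivOfCardEq (F4.card_eq.trans hF.symm))⟩

end Cfsg.Agent.SporadicA.FieldFour
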