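import Mathlib

/-!
# Simplicity of 3-transitive groups with a simple point stabiliser

Let `G` act faithfully and 3-transitively on a finite set `Ω` with at least 4 points, whose number
of points is not a power of 2, and let a point stabiliser be simple.  Then `G` is simple.
-/

set_option autoImplicit false

namespace Cfsg.Agent.SporadicA.SimpleExt

open MulAction

variable {G Ω : Type*} [Group G] [MulAction G Ω]

/-- Three-transitivity, spelled out. -/
theorem exists_smul_eq_of_three_transitive (h3 : IsMultiplyPretransitive G Ω 3)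
    {a b c a' b' c' : Ω} (hab : a ≠ b) (hac : a ≠ c) (hbc : b ≠ c)
    (hab' : a' ≠ b') (hac' : a' ≠ c') (hbc' : b' ≠ c') :
    ∃ g : G, g • a = a' ∧ g • b = b' ∧ g • c = c' := by
  rw [isMultiplyPretransitive_iff] at h3
  have hx : Function.Injective ![a, b, c] := by
    intro i j hij
    fin_cases i <;> fin_cases j <;> simp_all
  have hy : Function.Injective ![a', b', c'] := by
    intro i j hij
    fin_cases i <;> fin_cases j <;> simp_all
  obtain ⟨g, hg⟩ := h3 (x := ⟨_, hx⟩) (y := ⟨_, hy⟩)
  refine ⟨g, ?_, ?_, ?_⟩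
  · simpa using DFunLike.congr_fun hg 0
  · simpa using DFunLike.congr_fun hg 1
  · simpa using DFunLike.congr_fun hg 2

/-- A regular normal subgroup of a 3-transitive group of degree at least 4 has exponent 2. -/
theorem mul_self_eq_one_of_regular_normal (h3 : IsMultiplyPretransitive G Ω 3)
    (h4 : 4 ≤ Nat.card Ω) (N : Subgroup G) [N.Normal] (a : Ω)
    (hreg : ∀ n ∈ N, n • a = a → n = 1) (n : G) (hn : n ∈ N) : n * n = 1 := by
  have : Finite Ω := Nat.finite_of_card_ne_zero (by omega)
  have : Fintype Ω := Fintype.ofFinite Ω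
  classical
  by_contra hnn
  have h1 : a ≠ n • a := by
    intro h
    have := hreg n hn h.symm
    subst this
    simp at hnn
  have h2 : a ≠ n⁻¹ • a := by
    intro h
    apply h1
    rw [eq_inv_smul_iff] at h
    exact h.symm
  have h12 : n • a ≠ n⁻¹ • a := by
    intro h
    rw [eq_inv_smul_iff, ← mul_smul] at h
    exact hnn (hreg _ (N.mul_mem hn hn) h)
  obtain ⟨b, hb⟩ : ∃ b, b ∉ ({a, n • a, n⁻¹ • a} : Finset Ω) := by
    by_contra hcon
    push Not at hcon
    have hle : Fintype.card Ω ≤ 3 := by
      rw [← Finset.card_univ]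
      refine (Finset.card_le_card (fun x _ => hcon x)).trans ?_
      exact Finset.card_le_three
    rw [Nat.card_eq_fintype_card] at h4
    omega
  simp only [Finset.mem_insert, Finset.mem_singleton, not_or] at hb
  obtain ⟨hb1, hb2, hb3⟩ := hb
  obtain ⟨g, hga, hgn, hgb⟩ := exists_smul_eq_of_three_transitive h3 h1 h2 h12 h1 (Ne.symm hb1)
    (Ne.symm hb2)
  have hgi : g⁻¹ • a = a := by rw [inv_smul_eq_iff, hga]
  have hconj : g * n * g⁻¹ = n := by
    have hmem : n⁻¹ * (g * n * g⁻¹) ∈ N :=
      N.mul_mem (N.inv_mem hn) (Subgroup.Normal.conj_mem inferInstance n hn g)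
    have hfix : (n⁻¹ * (g * n * g⁻¹)) • a = a := by
      rw [mul_smul, mul_smul, mul_smul, hgi, hgn, inv_smul_smul]
    have := hreg _ hmem hfix
    rw [inv_mul_eq_one] at this
    exact this.symm
  have hconj' : g * n⁻¹ = n⁻¹ * g := by
    have h : g * n = n * g := by
      rw [mul_inv_eq_iff_eq_mul] at hconj
      exact hconj
    rw [eq_inv_mul_iff_mul_eq, ← mul_assoc, ← h, mul_assoc, mul_inv_cancel, mul_one]
  apply hb3
  rw [← hgb, ← mul_smul, hconj', mul_smul, hga]

/-- A 3-transitive faithful group of degree at least 4, not a power of 2, with a simple point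
stabiliser, is simple. -/
theorem isSimpleGroup_of_three_transitive [FaithfulSMul G Ω]
    (h3 : IsMultiplyPretransitive G Ω 3) (h4 : 4 ≤ Nat.card Ω)
    (h2 : ∀ k, Nat.card Ω ≠ 2 ^ k) (a : Ω) (hs : IsSimpleGroup (stabilizer G a)) :
    IsSimpleGroup G := by
  have hfin : Finite Ω := Nat.finite_of_card_ne_zero (by omega)
  have h2t : IsMultiplyPretransitive G Ω 2 := isMultiplyPretransitive_of_le
    (n := 3) (by norm_num) (by omega)
  have hprim : IsPreprimitive G Ω := isPreprimitive_of_is_two_pretransitive h2t
  have hnt : Nontrivial G := by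
    obtain ⟨x, y, hxy⟩ := hs.exists_pair_ne
    exact ⟨x, y, fun h => hxy (Subtype.ext h)⟩
  refine ⟨fun N hN => ?_⟩
  by_cases hN1 : N = ⊥
  · exact Or.inl hN1
  right
  -- `N` is transitive
  have hfix : fixedPoints N Ω ≠ .univ := by
    intro h
    apply hN1
    rw [Subgroup.eq_bot_iff_forall]
    intro n hn
    apply FaithfulSMul.eq_of_smul_eq_smul (α := Ω)
    intro x
    have : x ∈ fixedPoints N Ω := h ▸ Set.mem_univ x
    rw [one_smul]
    exact this ⟨n, hn⟩
  have htrans : IsPretransitive N Ω := IsQuasiPreprimitive.isPretransitive_of_normal hfix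
  -- the intersection with the stabiliser
  rcases hs.eq_bot_or_eq_top_of_normal (N.subgroupOf (stabilizer G a)) inferInstance with h | h
  · exfalso
    have hreg : ∀ n ∈ N, n • a = a → n = 1 := by
      intro n hn hna
      have hmem : (⟨n, hna⟩ : stabilizer G a) ∈ N.subgroupOf (stabilizer G a) := by
        rw [Subgroup.mem_subgroupOf]
        exact hn
      rw [h, Subgroup.mem_bot] at hmem
      exact congrArg Subtype.val hmem
    have hbij : Function.Bijective (fun n : N => (n : G) • a) := by
      constructor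
      · intro x y hxy
        have hxy' : (x : G) • a = (y : G) • a := hxy
        have : ((y : G)⁻¹ * (x : G)) • a = a := by
          rw [mul_smul, hxy', inv_smul_smul]
        have h1 := hreg _ (N.mul_mem (N.inv_mem y.2) x.2) this
        rw [inv_mul_eq_one] at h1
        exact Subtype.ext h1.symm
      · intro y
        obtain ⟨n, hn⟩ := exists_smul_eq N a y
        exact ⟨n, hn⟩
    have hcard : Nat.card N = Nat.card Ω := Nat.card_eq_of_bijective _ hbij
    have hNfin : Finite N := Finite.of_injective _ hbij.1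
    have hp : IsPGroup 2 N := by
      intro n
      refine ⟨1, ?_⟩
      rw [pow_one, pow_two]
      exact Subtype.ext (mul_self_eq_one_of_regular_normal h3 h4 N a hreg n n.2)
    have : Fact (Nat.Prime 2) := ⟨Nat.prime_two⟩
    obtain ⟨k, hk⟩ := IsPGroup.iff_card.mp hp
    exact h2 k (hcard ▸ hk)
  · rw [eq_top_iff]
    intro g _
    obtain ⟨n, hn⟩ := exists_smul_eq N a (g • a)
    have hn' : (n : G) • a = g • a := hn
    have hmem : (n : G)⁻¹ * g ∈ stabilizer G a := by
      rw [mem_stabilizer_iff, mul_smul, ← hn', inv_smul_smul]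
    have : (⟨_, hmem⟩ : stabilizer G a) ∈ N.subgroupOf (stabilizer G a) := h ▸ Subgroup.mem_top _
    rw [Subgroup.mem_subgroupOf] at this
    have h1 := N.mul_mem n.2 this
    simpa using h1

end Cfsg.Agent.SporadicA.SimpleExt
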