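import Cfsg.Agent.SporadicA.SteinerCount

/-!
# Intersection numbers of Steiner systems

Inclusion-exclusion ("intersection triangle"): the number of blocks `d` whose intersection with a
given set `b` is exactly a given subset `I` of `b`.
-/

set_option autoImplicit false

namespace Cfsg.Agent.SporadicA.SteinerInter

open Finset Cfsg

variable {α : Type*}

/-- Inclusion-exclusion: the number of members `d` of a finite family with `d ∩ b = I`. -/
theorem card_filter_inter_eq [DecidableEq α] (F : Finset (Finset α)) (b I : Finset α)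
    (hI : I ⊆ b) :
    ((F.filter (fun d => d ∩ b = I)).card : ℤ) =
      ∑ J ∈ (b \ I).powerset, (-1 : ℤ) ^ J.card *
        ((F.filter (fun d => I ∪ J ⊆ d)).card : ℤ) := by
  classical
  have h1 : ∀ J ∈ (b \ I).powerset, (-1 : ℤ) ^ J.card *
        ((F.filter (fun d => I ∪ J ⊆ d)).card : ℤ) =
        ∑ d ∈ F, if I ∪ J ⊆ d then (-1 : ℤ) ^ J.card else 0 := by
    intro J _
    rw [← sum_filter, sum_const, nsmul_eq_mul, mul_comm]
  rw [sum_congr rfl h1, sum_comm, card_filter, Nat.cast_sum]
  refine sum_congr rfl fun d _ => ?_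
  by_cases hId : I ⊆ d
  · have h2 : ∀ J ∈ (b \ I).powerset, (if I ∪ J ⊆ d then (-1 : ℤ) ^ J.card else 0) =
        if J ⊆ d then (-1 : ℤ) ^ J.card else 0 := by
      intro J _
      simp [union_subset_iff, hId]
    rw [sum_congr rfl h2, ← sum_filter]
    have h3 : (b \ I).powerset.filter (fun J => J ⊆ d) = ((b \ I) ∩ d).powerset := by
      ext J
      simp only [mem_filter, mem_powerset, subset_inter_iff]
    rw [h3, sum_powerset_neg_one_pow_card]
    have h4 : (d ∩ b = I) ↔ (b \ I) ∩ d = ∅ := by
      constructor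
      · intro h
        ext x
        simp only [mem_inter, mem_sdiff, notMem_empty, iff_false]
        rintro ⟨⟨hxb, hxI⟩, hxd⟩
        exact hxI (h ▸ mem_inter.2 ⟨hxd, hxb⟩)
      · intro h
        ext x
        constructor
        · intro hx
          rw [mem_inter] at hx
          by_contra hxI
          have : x ∈ (b \ I) ∩ d := mem_inter.2 ⟨mem_sdiff.2 ⟨hx.2, hxI⟩, hx.1⟩
          rw [h] at this
          exact notMem_empty x this
        · intro hx
          exact mem_inter.2 ⟨hId hx, hI hx⟩
    by_cases h5 : d ∩ b = I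
    · simp [h5, h4.1 h5]
    · have h6 : (b \ I) ∩ d ≠ ∅ := fun h => h5 (h4.2 h)
      simp [h5, h6]
  · have h2 : ∀ J ∈ (b \ I).powerset, (if I ∪ J ⊆ d then (-1 : ℤ) ^ J.card else 0) = 0 := by
      intro J _
      simp [union_subset_iff, hId]
    rw [sum_congr rfl h2, sum_const_zero]
    have h5 : d ∩ b ≠ I := by
      rintro rfl
      exact hId inter_subset_left
    simp [h5]

/-- The intersection triangle: if the number of members of `F` containing a subset of `b` depends
only on its size through `μ`, the number of members `d` with `d ∩ b = I` is an alternating sum. -/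
theorem card_filter_inter_eq_sum [DecidableEq α] (F : Finset (Finset α)) (b I : Finset α)
    (hI : I ⊆ b) (μ : ℕ → ℤ)
    (hμ : ∀ s : Finset α, s ⊆ b → ((F.filter (fun d => s ⊆ d)).card : ℤ) = μ s.card) :
    ((F.filter (fun d => d ∩ b = I)).card : ℤ) =
      ∑ j ∈ range ((b \ I).card + 1), ((b \ I).card.choose j : ℤ) *
        ((-1 : ℤ) ^ j * μ (I.card + j)) := by
  rw [card_filter_inter_eq F b I hI]
  have h1 : ∀ J ∈ (b \ I).powerset, (-1 : ℤ) ^ J.card *
        ((F.filter (fun d => I ∪ J ⊆ d)).card : ℤ) =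
        (fun j : ℕ => (-1 : ℤ) ^ j * μ (I.card + j)) J.card := by
    intro J hJ
    rw [mem_powerset] at hJ
    have hd : Disjoint I J := disjoint_of_subset_right hJ disjoint_sdiff
    rw [hμ (I ∪ J) (union_subset hI (hJ.trans sdiff_subset)), card_union_of_disjoint hd]
  rw [sum_congr rfl h1, sum_powerset_apply_card (fun j : ℕ => (-1 : ℤ) ^ j * μ (I.card + j))]
  refine sum_congr rfl fun j _ => ?_
  rw [nsmul_eq_mul]

/-- A subset of a block with at least `t` elements lies in exactly one block. -/
theorem card_blocks_containing_of_le [DecidableEq α] {t k : ℕ} {B : Set (Finset α)}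
    (hB : IsSteinerSystem t k B) (F : Finset (Finset α)) (hF : ∀ b, b ∈ F ↔ b ∈ B)
    {b s : Finset α} (hb : b ∈ B) (hsb : s ⊆ b) (hs : t ≤ s.card) :
    (F.filter (fun d => s ⊆ d)).card = 1 := by
  rw [card_eq_one]
  refine ⟨b, ?_⟩
  ext d
  simp only [mem_filter, mem_singleton, hF]
  constructor
  · rintro ⟨hd, hsd⟩
    obtain ⟨u, hu, hcard⟩ := exists_subset_card_eq hs
    obtain ⟨e, _, huniq⟩ := hB.2 u hcard
    exact (huniq d ⟨hd, hu.trans hsd⟩).trans (huniq b ⟨hb, hu.trans hsb⟩).symm
  · rintro rfl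
    exact ⟨hb, hsb⟩

/-- **Intersection triangle of a Steiner system.** Let `b` be a block of a Steiner system with
parameters `(t, k, v)` and `μ` a function with `μ i * C(k - i, t - i) = C(v - i, t - i)` for
`i ≤ t` and `μ i = 1` for `t ≤ i ≤ k`. For a subset `I` of `b` the number of blocks meeting `b`
exactly in `I` is `∑ j, (-1) ^ j * C(k - |I|, j) * μ (|I| + j)`. -/
theorem card_blocks_inter_eq [Fintype α] [DecidableEq α] {t k : ℕ} {B : Set (Finset α)}
    (hB : IsSteinerSystem t k B) (F : Finset (Finset α)) (hF : ∀ b, b ∈ F ↔ b ∈ B)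
    (htk : t ≤ k) (μ : ℕ → ℕ)
    (hμ1 : ∀ i ≤ t, μ i * (k - i).choose (t - i) = (Fintype.card α - i).choose (t - i))
    (hμ2 : ∀ i, t ≤ i → i ≤ k → μ i = 1)
    {b I : Finset α} (hb : b ∈ B) (hI : I ⊆ b) :
    ((F.filter (fun d => d ∩ b = I)).card : ℤ) =
      ∑ j ∈ range (k - I.card + 1), ((k - I.card).choose j : ℤ) *
        ((-1 : ℤ) ^ j * (μ (I.card + j) : ℤ)) := by
  have hbk := hB.1 b hb
  have hcard : (b \ I).card = k - I.card := by
    rw [card_sdiff_of_subset hI, hbk]
  rw [← hcard]
  refine card_filter_inter_eq_sum F b I hI (fun i => (μ i : ℤ)) ?_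
  intro s hs
  have hsk : s.card ≤ k := hbk ▸ card_le_card hs
  norm_cast
  rcases le_total s.card t with h | h
  · have h1 := SteinerCount.card_blocks_containing hB F hF s h
    rw [← hμ1 s.card h] at h1
    have hpos : 0 < (k - s.card).choose (t - s.card) := Nat.choose_pos (by omega)
    exact Nat.eq_of_mul_eq_mul_right hpos h1
  · rw [hμ2 s.card h hsk]
    exact card_blocks_containing_of_le hB F hF hb hs h

/-- If the alternating sum of the intersection triangle vanishes, no block meets `b` in exactly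
`I`. -/
theorem inter_ne_of_sum_eq_zero [Fintype α] [DecidableEq α] {t k : ℕ} {B : Set (Finset α)}
    (hB : IsSteinerSystem t k B) (htk : t ≤ k) (μ : ℕ → ℕ)
    (hμ1 : ∀ i ≤ t, μ i * (k - i).choose (t - i) = (Fintype.card α - i).choose (t - i))
    (hμ2 : ∀ i, t ≤ i → i ≤ k → μ i = 1) (i : ℕ)
    (hsum : ∑ j ∈ range (k - i + 1), ((k - i).choose j : ℤ) *
        ((-1 : ℤ) ^ j * (μ (i + j) : ℤ)) = 0)
    {b d : Finset α} (hb : b ∈ B) (hd : d ∈ B) : (d ∩ b).card ≠ i := by
  classical
  intro h
  have hfin : B.Finite := Set.toFinite B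
  have hF : ∀ b, b ∈ hfin.toFinset ↔ b ∈ B := fun b => hfin.mem_toFinset
  have key := card_blocks_inter_eq hB hfin.toFinset hF htk μ hμ1 hμ2 hb
    (I := d ∩ b) inter_subset_right
  rw [h, hsum] at key
  have h0 : (hfin.toFinset.filter (fun e => e ∩ b = d ∩ b)).card = 0 := by exact_mod_cast key
  rw [card_eq_zero] at h0
  have : d ∈ hfin.toFinset.filter (fun e => e ∩ b = d ∩ b) := by
    rw [mem_filter]
    exact ⟨(hF d).2 hd, rfl⟩
  rw [h0] at this
  exact notMem_empty d this

end Cfsg.Agent.SporadicA.SteinerInter
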