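import Mathlib
import Cfsg.Agent.SporadicA.Steiner22

/-!
# The blocks of a labelled Steiner system S(3, 6, 22)
-/

set_option autoImplicit false

namespace Cfsg.Agent.SporadicA.Steiner22Search

open Finset Cfsg.Agent.SporadicA.SteinerMask Cfsg.Agent.SporadicA.Steiner22

/-- the sixteen known blocks -/
def K : List ℕ := [4128768, 2638920, 3164177, 2179714, 2244900, 2420736, 1622784, 614405, 675858,
  805024, 1134632, 1204416, 1328134, 248832, 344400, 410121]

/-- all the seventy-seven blocks -/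
def L : List ℕ := [791, 1000, 3117, 3282, 12377, 12454, 21889, 23108, 26160, 26890, 38410, 39216, 42308,
  43649, 49251, 49308, 196686, 196785, 209664, 248832, 333827, 337032, 344400, 360996, 398432, 403476,
  410121, 426370, 591138, 592408, 614405, 626880, 657028, 657729, 675858, 696360, 790796, 795202, 805024,
  820241, 1115713, 1116548, 1134632, 1155090, 1180952, 1182242, 1204416, 1216517, 1315472, 1319201,
  1328134, 1345608, 1572980, 1573003, 1588224, 1622784, 2167828, 2173024, 2179714, 2195721, 2234504,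
  2237443, 2244900, 2261584, 2359354, 2359493, 2363136, 2420736, 2626081, 2630032, 2638920, 2656262,
  3150146, 3154444, 3164177, 3179680, 4128768]

/-- criterion for dropping a branch -/
def bad (j h : ℕ) : Bool := K.any fun k => odd2 (h &&& (k >>> j)) (Nat.beq (k % 2 ^ j) 0)

theorem bad_eq_false {c : ℕ} (hc : c < 2 ^ 22)
    (hk : ∀ k ∈ K, popc 22 (c &&& k) = 0 ∨ popc 22 (c &&& k) = 2) (j : ℕ) :
    bad j (c >>> j) = false := by
  rw [bad, List.any_eq_false]
  intro k hkK
  rw [Bool.not_eq_true]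
  have hck : c &&& k < 2 ^ 22 := lt_of_le_of_lt Nat.and_le_left hc
  have e1 : (c >>> j) &&& (k >>> j) = (c &&& k) >>> j := by rw [Nat.shiftRight_and_distrib]
  have e2 := popc_add j 22 (c &&& k)
  have e3 : popc (j + 22) (c &&& k) = popc 22 (c &&& k) := popc_eq_of_le hck (by omega)
  rw [e3] at e2
  rw [e1]
  refine odd2_eq_false (f := 22) (lt_of_le_of_lt (Nat.shiftRight_le _ _) hck) ?_ ?_
  · rcases hk k hkK with h | h <;> omega
  · intro hb
    have hb' := Nat.eq_of_beq_eq_true hb
    rw [popc_mod_zero j c k hb'] at e2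
    rcases hk k hkK with h | h <;> omega

theorem search_check : searchR bad L 22 0 6 = true := by decide +kernel

theorem K_sub_L : ∀ k ∈ K, k ∈ L := by decide +kernel

theorem mem_K : ∀ k ∈ K, k < 2 ^ 22 ∧ (k = hexMask ∨ ∃ i j : Fin 6, i ≠ j ∧ k = duadMask i j) := by
  decide +kernel

theorem mem_L {c : ℕ} (hc : c < 2 ^ 22) (hc6 : popc 22 c = 6)
    (hk : ∀ k ∈ K, c = k ∨ popc 22 (c &&& k) = 0 ∨ popc 22 (c &&& k) = 2) : c ∈ L := by
  by_cases hcK : c ∈ K
  · exact K_sub_L c hcK
  · refine searchR_sound (S := fun c => c < 2 ^ 22 ∧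
      ∀ k ∈ K, popc 22 (c &&& k) = 0 ∨ popc 22 (c &&& k) = 2) (fun c hc j => bad_eq_false hc.1 hc.2 j)
      22 0 6 search_check c ⟨hc, fun k hkK => ?_⟩ hc6 (Nat.shiftRight_eq_zero _ _ hc)
    exact (hk k hkK).resolve_left (fun h => hcK (h ▸ hkK))

theorem L_spec : ∀ a ∈ L, a < 2 ^ 22 ∧ 3 ≤ popc 22 a := by decide +kernel

/-- comparison of the words of two blocks -/
def apart (a b : ℕ) : Bool := Nat.beq a b || !(odd2 (a &&& b) false)

theorem L_apart_check : (L.all fun a => L.all fun b => apart a b) = true := by decide +kernel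

theorem L_apart : ∀ a ∈ L, ∀ b ∈ L, 3 ≤ popc 22 (a &&& b) → a = b := by
  intro a ha b hb h
  have h1 := List.all_eq_true.1 (List.all_eq_true.1 L_apart_check a ha) b hb
  rw [apart, Bool.or_eq_true] at h1
  rcases h1 with h1 | h1
  · exact Nat.eq_of_beq_eq_true h1
  · rw [Bool.not_eq_true'] at h1
    have h2 := popc_le_of_odd2 (f := 22) (lt_of_le_of_lt Nat.and_le_left (L_spec a ha).1) h1
    omega

end Cfsg.Agent.SporadicA.Steiner22Search
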