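import Mathlib
import Cfsg.Prelude.Def_Sporadic_a
import Cfsg.Agent.SporadicA.Steiner24Frame

/-!
The automorphism group of a Steiner system S(5,8,24): order and 5-transitivity.
-/

set_option autoImplicit false
set_option linter.unusedSectionVars false

namespace Cfsg.Agent.SporadicA.Steiner24Aut

open Finset Cfsg.Agent.SporadicA.Steiner24Basic Cfsg.Agent.SporadicA.Steiner24Label
  Cfsg.Agent.SporadicA.Steiner24Frame
open scoped Pointwise

section
variable {α : Type*} [Fintype α] [DecidableEq α] {B : Set (Finset α)}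

theorem mem_aut (g : Equiv.Perm α) : g ∈ Cfsg.setSystemAut B ↔ (fun b => b.image g) '' B = B :=
  Iff.rfl

theorem aut_map {g : Equiv.Perm α} (hg : g ∈ Cfsg.setSystemAut B) : ∀ b ∈ B, b.image g ∈ B := by
  intro b hb
  rw [mem_aut] at hg
  rw [← hg]
  exact ⟨b, hb, rfl⟩

/-- The block through five points. -/
theorem exists_blk (hB : Cfsg.IsSteinerSystem 5 8 B) : ∃ blk : (Fin 5 ↪ α) → Finset α,
    (∀ y, blk y ∈ B) ∧ (∀ y i, y i ∈ blk y) ∧ (∀ y, ∀ b ∈ B, (∀ i, y i ∈ b) → b = blk y) := by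
  have h : ∀ y : Fin 5 ↪ α, (Finset.univ.map y).card = 5 := by
    intro y; rw [Finset.card_map]; rfl
  choose blk h1 h2 using fun y : Fin 5 ↪ α => hB.2 _ (h y)
  refine ⟨blk, fun y => (h1 y).1, fun y i => (h1 y).2 (by simp), fun y b hb hy => h2 y b ⟨hb, ?_⟩⟩
  intro z hz
  obtain ⟨i, -, rfl⟩ := Finset.mem_map.1 hz
  exact hy i

/-- The frame with given data. -/
def mkFrame (y : Fin 5 ↪ α) (z p : α) (O : Finset α) (hO : O ∈ B) (hy : ∀ i, y i ∈ O) (hz : z ∈ O)
    (hyz : ∀ i, y i ≠ z) (hp : p ∉ O) : Frame B where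
  x := Fin.cons z y
  inj := by
    rw [Fin.cons_injective_iff]
    refine ⟨?_, y.injective⟩
    rintro ⟨i, hi⟩
    exact hyz i hi
  O := O
  hO := hO
  mem := by
    intro i
    refine Fin.cases ?_ ?_ i
    · exact hz
    · intro j; exact hy j
  p := p
  hp := hp

theorem card_rest (hB : Cfsg.IsSteinerSystem 5 8 B) (y : Fin 5 ↪ α) (O : Finset α) (hO : O ∈ B)
    (hy : ∀ i, y i ∈ O) : (O \ Finset.univ.map y).card = 3 := by
  rw [Finset.card_sdiff_of_subset, hB.1 O hO, Finset.card_map]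
  · rfl
  · intro z hz
    obtain ⟨i, -, rfl⟩ := Finset.mem_map.1 hz
    exact hy i

theorem exists_rest (hα : Fintype.card α = 24) (hB : Cfsg.IsSteinerSystem 5 8 B) (y : Fin 5 ↪ α) (O : Finset α)
    (hO : O ∈ B) (hy : ∀ i, y i ∈ O) : ∃ z p, z ∈ O ∧ (∀ i, y i ≠ z) ∧ p ∉ O := by
  have h3 := card_rest hB y O hO hy
  obtain ⟨z, hz⟩ := Finset.card_pos.1 (show 0 < (O \ Finset.univ.map y).card by omega)
  rw [Finset.mem_sdiff] at hz
  have h16 : (Oᶜ).card = 16 := by rw [Finset.card_compl, hα, hB.1 O hO]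
  obtain ⟨p, hp⟩ := Finset.card_pos.1 (show 0 < (Oᶜ).card by omega)
  exact ⟨z, p, hz.1, fun i h => hz.2 (h ▸ by simp), Finset.mem_compl.1 hp⟩

/-- Five-transitivity. -/
theorem pretransitive5 (hα : Fintype.card α = 24) (hB : Cfsg.IsSteinerSystem 5 8 B) :
    MulAction.IsMultiplyPretransitive (Cfsg.setSystemAut B) α 5 := by
  obtain ⟨blk, b1, b2, b3⟩ := exists_blk hB
  constructor
  intro y y'
  obtain ⟨z, p, hz, hyz, hp⟩ := exists_rest hα hB y _ (b1 y) (b2 y)
  obtain ⟨z', p', hz', hyz', hp'⟩ := exists_rest hα hB y' _ (b1 y') (b2 y')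
  obtain ⟨e, he, hex, -⟩ := exists_iso hα hα hB hB (mkFrame y z p _ (b1 y) (b2 y) hz hyz hp)
    (mkFrame y' z' p' _ (b1 y') (b2 y') hz' hyz' hp')
  refine ⟨⟨e, (mem_aut e).2 he⟩, ?_⟩
  ext i
  exact hex i.succ

/-- The order of the automorphism group. -/
theorem card_aut (hα : Fintype.card α = 24) (hB : Cfsg.IsSteinerSystem 5 8 B) :
    Nat.card (Cfsg.setSystemAut B) = 244823040 := by
  classical
  obtain ⟨blk, b1, b2, b3⟩ := exists_blk hB
  -- a base frame
  have hy0 : Nonempty (Fin 5 ↪ α) := by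
    rw [Function.Embedding.nonempty_iff_card_le, hα]
    decide
  obtain ⟨y0⟩ := hy0
  obtain ⟨z0, p0, hz0, hyz0, hp0⟩ := exists_rest hα hB y0 _ (b1 y0) (b2 y0)
  let F0 : Frame B := mkFrame y0 z0 p0 _ (b1 y0) (b2 y0) hz0 hyz0 hp0
  let P : (Fin 5 ↪ α) × (α × α) → Prop := fun t =>
    t.2.1 ∈ blk t.1 \ Finset.univ.map t.1 ∧ t.2.2 ∈ (blk t.1)ᶜ
  have hblk : ∀ g ∈ Cfsg.setSystemAut B, (blk y0).image g = blk (y0.trans g.toEmbedding) := by
    intro g hg
    apply b3 _ _ (aut_map hg _ (b1 y0))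
    intro i
    exact Finset.mem_image_of_mem _ (b2 y0 i)
  let Φ : Cfsg.setSystemAut B → {t // P t} := fun g =>
    ⟨(y0.trans (g : Equiv.Perm α).toEmbedding, ((g : Equiv.Perm α) z0, (g : Equiv.Perm α) p0)), by
      change (g : Equiv.Perm α) z0 ∈ blk (y0.trans (g : Equiv.Perm α).toEmbedding)
        \ Finset.univ.map (y0.trans (g : Equiv.Perm α).toEmbedding) ∧
        (g : Equiv.Perm α) p0 ∈ (blk (y0.trans (g : Equiv.Perm α).toEmbedding))ᶜ
      rw [← hblk g g.2]
      refine ⟨?_, ?_⟩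
      · rw [Finset.mem_sdiff]
        refine ⟨Finset.mem_image_of_mem _ hz0, ?_⟩
        intro h
        obtain ⟨i, -, hi⟩ := Finset.mem_map.1 h
        exact hyz0 i ((g : Equiv.Perm α).injective hi)
      · rw [Finset.mem_compl]
        intro h
        obtain ⟨w, hw, hwp⟩ := Finset.mem_image.1 h
        rw [(g : Equiv.Perm α).injective hwp] at hw
        exact hp0 hw⟩
  have hΦ : Function.Bijective Φ := by
    constructor
    · intro g h hgh
      have h1 := congrArg Subtype.val hgh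
      have h2 : y0.trans (g : Equiv.Perm α).toEmbedding = y0.trans (h : Equiv.Perm α).toEmbedding :=
        congrArg Prod.fst h1
      have h3 : (g : Equiv.Perm α) z0 = (h : Equiv.Perm α) z0 :=
        congrArg (fun t => t.2.1) h1
      have h4 : (g : Equiv.Perm α) p0 = (h : Equiv.Perm α) p0 :=
        congrArg (fun t => t.2.2) h1
      apply Subtype.ext
      refine iso_unique hα hB F0 (g : Equiv.Perm α) (h : Equiv.Perm α) ((mem_aut _).1 g.2)
        ((mem_aut _).1 h.2) ?_ h4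
      intro i
      refine Fin.cases ?_ ?_ i
      · exact h3
      · intro j
        exact DFunLike.congr_fun h2 j
    · rintro ⟨⟨y, z, p⟩, hz, hp⟩
      change z ∈ blk y \ Finset.univ.map y at hz
      change p ∈ (blk y)ᶜ at hp
      rw [Finset.mem_sdiff] at hz
      rw [Finset.mem_compl] at hp
      obtain ⟨e, he, hex, hep⟩ := exists_iso hα hα hB hB F0
        (mkFrame y z p _ (b1 y) (b2 y) hz.1 (fun i h => hz.2 (h ▸ by simp)) hp)
      refine ⟨⟨e, (mem_aut e).2 he⟩, ?_⟩
      apply Subtype.ext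
      refine Prod.ext ?_ (Prod.ext ?_ ?_)
      · ext i
        exact hex i.succ
      · exact hex 0
      · exact hep
  rw [Nat.card_congr (Equiv.ofBijective Φ hΦ), Nat.card_eq_fintype_card, Fintype.card_subtype,
    Finset.card_filter, Fintype.sum_prod_type]
  have hy : ∀ y : Fin 5 ↪ α, (∑ t : α × α, if P (y, t) then 1 else 0) = 48 := by
    intro y
    rw [← Finset.card_filter]
    have : (Finset.univ.filter fun t : α × α => P (y, t))
        = (blk y \ Finset.univ.map y) ×ˢ (blk y)ᶜ := by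
      ext t
      rw [Finset.mem_filter, Finset.mem_product]
      simp only [Finset.mem_univ, true_and]
      exact Iff.rfl
    rw [this, Finset.card_product, card_rest hB y _ (b1 y) (b2 y), Finset.card_compl, hα,
      hB.1 _ (b1 y)]
  rw [Finset.sum_congr rfl (fun y _ => hy y), Finset.sum_const, Finset.card_univ,
    Fintype.card_embedding_eq, hα]
  decide

end

end Cfsg.Agent.SporadicA.Steiner24Aut
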