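import Mathlib

/-!
A small kernel-friendly exhaustive search over bit masks: all masks `M < 2 ^ N` of a given weight
satisfying given parity constraints satisfy a Boolean goal.
-/

set_option autoImplicit false

namespace Cfsg.Agent.SporadicA.MaskSearch

open Finset

/-- Parity of the number of ones of `m` at the positions in the list. -/
def px (m : ℕ) : List ℕ → Bool :=
  List.rec false (fun k _ ih => xor (Nat.testBit m k) ih)

theorem px_nil (m : ℕ) : px m [] = false := rfl
theorem px_cons (m k : ℕ) (K : List ℕ) : px m (k :: K) = xor (Nat.testBit m k) (px m K) := rfl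

theorem px_congr (m m' : ℕ) (K : List ℕ) (h : ∀ k ∈ K, m.testBit k = m'.testBit k) :
    px m K = px m' K := by
  induction K with
  | nil => rfl
  | cons k K ih =>
    rw [px_cons, px_cons, h k (by simp), ih (fun j hj => h j (by simp [hj]))]

/-- `px` only depends on the bits below `n` if all positions are below `n`. -/
theorem px_mod (m n : ℕ) (K : List ℕ) (h : ∀ k ∈ K, k < n) : px (m % 2 ^ n) K = px m K := by
  apply px_congr
  intro k hk
  rw [Nat.testBit_mod_two_pow]
  simp [h k hk]

/-- Check all the parity constraints of a list. -/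
def ok (m : ℕ) : List (Bool × List ℕ) → Bool :=
  List.rec true (fun c _ ih => (px m c.2 == c.1) && ih)

theorem ok_iff (m : ℕ) (cs : List (Bool × List ℕ)) :
    ok m cs = true ↔ ∀ c ∈ cs, px m c.2 = c.1 := by
  induction cs with
  | nil => simp [ok]
  | cons c cs ih =>
    have : ok m (c :: cs) = ((px m c.2 == c.1) && ok m cs) := rfl
    rw [this, Bool.and_eq_true, ih]
    simp

/-- Evaluation forcing combinator (makes the kernel compute the number first). -/
def force {β : Type} (n : ℕ) (f : ℕ → β) : β := Nat.rec (f 0) (fun k _ => f (k + 1)) n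

theorem force_eq {β : Type} (n : ℕ) (f : ℕ → β) : force n f = f n := by
  cases n <;> rfl

/-- The search. `p = 2 ^ n` where `n` is the current position, `m` the current partial mask,
`w` the number of ones still to be placed. -/
def srch (goal : ℕ → Bool) : List (List (Bool × List ℕ)) → ℕ → ℕ → ℕ → Bool :=
  List.rec (fun _ m w => !(Nat.beq w 0) || goal m)
    (fun cs _ ih p m w =>
      (!(ok m cs) || force (2 * p) (fun p' => ih p' m w)) &&
      (Nat.beq w 0 || force (m + p) (fun m' => !(ok m' cs) ||
        force (2 * p) (fun p' => force (w - 1) (fun w' => ih p' m' w')))))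

theorem srch_nil (goal : ℕ → Bool) (p m w : ℕ) :
    srch goal [] p m w = (!(Nat.beq w 0) || goal m) := rfl

theorem srch_cons (goal : ℕ → Bool) (cs : List (Bool × List ℕ))
    (L : List (List (Bool × List ℕ))) (p m w : ℕ) :
    srch goal (cs :: L) p m w =
      ((!(ok m cs) || srch goal L (2 * p) m w) &&
      (Nat.beq w 0 || (!(ok (m + p) cs) || srch goal L (2 * p) (m + p) (w - 1)))) := by
  have : srch goal (cs :: L) p m w =
      ((!(ok m cs) || force (2 * p) (fun p' => srch goal L p' m w)) &&
      (Nat.beq w 0 || force (m + p) (fun m' => !(ok m' cs) ||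
        force (2 * p) (fun p' => force (w - 1) (fun w' => srch goal L p' m' w'))))) := rfl
  rw [this]
  simp only [force_eq]

/-- The constraints hold level by level. -/
def Holds (M : ℕ) : List (List (Bool × List ℕ)) → ℕ → Prop
  | [], _ => True
  | cs :: L, n => (∀ c ∈ cs, px (M % 2 ^ (n + 1)) c.2 = c.1) ∧ Holds M L (n + 1)

theorem mod_two_pow_succ' (M n : ℕ) :
    M % 2 ^ (n + 1) = M % 2 ^ n + (M.testBit n).toNat * 2 ^ n := by
  rw [Nat.mod_pow_succ, Nat.toNat_testBit, Nat.mul_comm]

theorem srch_sound_aux (goal : ℕ → Bool) (M : ℕ) :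
    ∀ (L : List (List (Bool × List ℕ))) (n w : ℕ),
      srch goal L (2 ^ n) (M % 2 ^ n) w = true → M < 2 ^ (n + L.length) →
      (∑ i ∈ range L.length, (M.testBit (n + i)).toNat) = w → Holds M L n → goal M = true := by
  intro L
  induction L with
  | nil =>
    intro n w h hM hw _
    simp only [List.length_nil, range_zero, sum_empty] at hw
    subst hw
    rw [srch_nil] at h
    simp only [List.length_nil, Nat.add_zero] at hM
    rw [Nat.mod_eq_of_lt hM] at h
    simpa using h
  | cons cs L ih =>
    intro n w h hM hw hH
    obtain ⟨h1, h2⟩ := hH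
    rw [srch_cons, Bool.and_eq_true] at h
    obtain ⟨ha, hb⟩ := h
    rw [List.length_cons, sum_range_succ'] at hw
    have hM' : M < 2 ^ (n + 1 + L.length) := by
      rw [List.length_cons] at hM
      rwa [show n + 1 + L.length = n + (L.length + 1) by ring]
    have hs : ∀ i, M.testBit (n + (i + 1)) = M.testBit (n + 1 + i) := by
      intro i; congr 1; ring
    simp only [hs, Nat.add_zero] at hw
    have hp : 2 * 2 ^ n = 2 ^ (n + 1) := by rw [pow_succ]; ring
    cases hbit : M.testBit n with
    | false =>
      have hm : M % 2 ^ (n + 1) = M % 2 ^ n := by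
        rw [mod_two_pow_succ', hbit]; simp
      rw [hbit] at hw
      simp only [Bool.toNat_false, Nat.add_zero] at hw
      rw [hm] at h1
      have hok : ok (M % 2 ^ n) cs = true := (ok_iff _ _).2 h1
      rw [hok, hp, ← hm] at ha
      simp only [Bool.not_true, Bool.false_or] at ha
      exact ih (n + 1) w ha hM' hw h2
    | true =>
      have hm : M % 2 ^ (n + 1) = M % 2 ^ n + 2 ^ n := by
        rw [mod_two_pow_succ', hbit]; simp
      rw [hbit] at hw
      simp only [Bool.toNat_true] at hw
      rw [hm] at h1
      have hok : ok (M % 2 ^ n + 2 ^ n) cs = true := (ok_iff _ _).2 h1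
      rw [hok, hp, ← hm] at hb
      have hw0 : Nat.beq w 0 = false := by
        rw [← Bool.not_eq_true, Nat.beq_eq]
        omega
      rw [hw0] at hb
      simp only [Bool.not_true, Bool.false_or] at hb
      exact ih (n + 1) (w - 1) hb hM' (by omega) h2

/-- The constraints of a list sorted by their largest position. -/
def levels (cs : List (Bool × List ℕ)) (N : ℕ) : List (List (Bool × List ℕ)) :=
  (List.range N).map fun n =>
    cs.filter fun c => (c.2.contains n) && (c.2.all fun k => Nat.ble k n)

theorem holds_of_forall (M : ℕ) (cs : List (Bool × List ℕ)) (h : ∀ c ∈ cs, px M c.2 = c.1) :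
    ∀ (L : List (List (Bool × List ℕ))) (n : ℕ),
      (∀ i, ∀ hi : i < L.length, ∀ c ∈ L[i], c ∈ cs ∧ ∀ k ∈ c.2, k ≤ n + i) → Holds M L n := by
  intro L
  induction L with
  | nil => intro n _; trivial
  | cons l L ih =>
    intro n hL
    refine ⟨?_, ih (n + 1) ?_⟩
    · intro c hc
      have := hL 0 (by simp) c (by simpa using hc)
      rw [px_mod _ _ _ (fun k hk => Nat.lt_succ_of_le (by simpa using this.2 k hk))]
      exact h c this.1
    · intro i hi c hc
      have := hL (i + 1) (by simpa using hi) c (by simpa using hc)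
      refine ⟨this.1, fun k hk => ?_⟩
      have := this.2 k hk
      omega

theorem holds_levels (M : ℕ) (cs : List (Bool × List ℕ)) (N : ℕ)
    (h : ∀ c ∈ cs, px M c.2 = c.1) : Holds M (levels cs N) 0 := by
  apply holds_of_forall M cs h
  intro i hi c hc
  simp only [levels, List.getElem_map, List.getElem_range, List.mem_filter, Bool.and_eq_true,
    List.all_eq_true, Nat.ble_eq] at hc
  exact ⟨hc.1, fun k hk => by simpa using hc.2.2 k hk⟩

/-- Soundness of the search. -/
theorem srch_sound (goal : ℕ → Bool) (cs : List (Bool × List ℕ)) (N w : ℕ)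
    (L : List (List (Bool × List ℕ))) (hL : levels cs N = L)
    (hs : srch goal L 1 0 w = true) (M : ℕ) (hM : M < 2 ^ N)
    (hw : (∑ i ∈ range N, (M.testBit i).toNat) = w)
    (h : ∀ c ∈ cs, px M c.2 = c.1) : goal M = true := by
  have hlen : L.length = N := by rw [← hL]; simp [levels]
  refine srch_sound_aux goal M L 0 w (by simpa [Nat.mod_one] using hs) (by simpa [hlen] using hM) ?_
    (hL ▸ holds_levels M cs N h)
  rw [hlen]
  simpa using hw

end Cfsg.Agent.SporadicA.MaskSearch
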