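import Mathlib
import Cfsg.Prelude.Def_Sporadic_a
import Cfsg.Agent.SporadicA.MaskSearch

/-!
Steiner systems on a finite ground set `V`, their derived designs, the number of blocks, and the
bit mask of a set of points relative to a labelling `e : Fin n → α`.
-/

set_option autoImplicit false

namespace Cfsg.Agent.SporadicA.SteinerOn

open Finset Cfsg.Agent.SporadicA.MaskSearch

variable {α : Type*} [DecidableEq α]

/-- `B` is a Steiner system `S(t, k, |V|)` on the ground set `V`. -/
structure IsSteinerOn (V : Finset α) (t k : ℕ) (B : Set (Finset α)) : Prop where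
  sub : ∀ b ∈ B, b ⊆ V
  card : ∀ b ∈ B, b.card = k
  ex : ∀ s : Finset α, s ⊆ V → s.card = t → ∃ b ∈ B, s ⊆ b
  uniq : ∀ b ∈ B, ∀ c ∈ B, t ≤ (b ∩ c).card → b = c

theorem isSteinerOn_univ [Fintype α] {t k : ℕ} {B : Set (Finset α)}
    (h : Cfsg.IsSteinerSystem t k B) : IsSteinerOn univ t k B where
  sub := fun b _ => subset_univ b
  card := h.1
  ex := fun s _ hs => by
    obtain ⟨b, hb, _⟩ := h.2 s hs
    exact ⟨b, hb.1, hb.2⟩
  uniq := fun b hb c hc hbc => by
    obtain ⟨s, hs, hcard⟩ := exists_subset_card_eq hbc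
    exact (h.2 s hcard).unique ⟨hb, hs.trans inter_subset_left⟩ ⟨hc, hs.trans inter_subset_right⟩

theorem IsSteinerOn.isSteinerSystem [Fintype α] {t k : ℕ} {B : Set (Finset α)}
    (h : IsSteinerOn univ t k B) : Cfsg.IsSteinerSystem t k B := by
  refine ⟨h.card, fun s hs => ?_⟩
  obtain ⟨b, hb, hsb⟩ := h.ex s (subset_univ s) hs
  refine ⟨b, ⟨hb, hsb⟩, fun c hc => ?_⟩
  apply h.uniq c hc.1 b hb
  rw [← hs]
  exact card_le_card (subset_inter hc.2 hsb)

/-- The derived design at a point `x`. -/
def derived (B : Set (Finset α)) (x : α) : Set (Finset α) := {c | x ∉ c ∧ insert x c ∈ B}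

theorem mem_derived {B : Set (Finset α)} {x : α} {c : Finset α} :
    c ∈ derived B x ↔ x ∉ c ∧ insert x c ∈ B := Iff.rfl

theorem IsSteinerOn.derived {V : Finset α} {t k : ℕ} {B : Set (Finset α)}
    (h : IsSteinerOn V (t + 1) (k + 1) B) {x : α} (hx : x ∈ V) :
    IsSteinerOn (V.erase x) t k (derived B x) where
  sub := by
    rintro b ⟨hxb, hb⟩ y hy
    rw [mem_erase]
    exact ⟨fun he => hxb (he ▸ hy), h.sub _ hb (mem_insert_of_mem hy)⟩
  card := by
    rintro b ⟨hxb, hb⟩
    have := h.card _ hb
    rw [card_insert_of_notMem hxb] at this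
    omega
  ex := by
    intro s hs hcard
    have hxs : x ∉ s := fun hxs => by simpa using hs hxs
    obtain ⟨b, hb, hsb⟩ := h.ex (insert x s)
      (insert_subset hx (hs.trans (erase_subset x V))) (by rw [card_insert_of_notMem hxs, hcard])
    refine ⟨b.erase x, ⟨notMem_erase x b, ?_⟩, ?_⟩
    · rwa [insert_erase (hsb (mem_insert_self x s))]
    · intro y hy
      rw [mem_erase]
      exact ⟨fun he => hxs (he ▸ hy), hsb (mem_insert_of_mem hy)⟩
  uniq := by
    rintro b ⟨hxb, hb⟩ c ⟨hxc, hc⟩ hbc
    have h1 : insert x b = insert x c := by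
      apply h.uniq _ hb _ hc
      rw [← insert_inter_distrib, card_insert_of_notMem (fun hh => hxb (mem_inter.1 hh).1)]
      omega
    have h2 := congrArg (fun s => s.erase x) h1
    simpa [erase_insert hxb, erase_insert hxc] using h2

open Classical in
theorem IsSteinerOn.card_blocks {V : Finset α} {t k : ℕ} {B : Set (Finset α)}
    (h : IsSteinerOn V t k B) :
    (V.powerset.filter (fun b => b ∈ B)).card * k.choose t = V.card.choose t := by
  have h1 : V.powersetCard t =
      (V.powerset.filter (fun b => b ∈ B)).biUnion (fun b => b.powersetCard t) := by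
    ext s
    simp only [mem_powersetCard, mem_biUnion, mem_filter, mem_powerset]
    constructor
    · rintro ⟨hs, hcard⟩
      obtain ⟨b, hb, hsb⟩ := h.ex s hs hcard
      exact ⟨b, ⟨h.sub b hb, hb⟩, hsb, hcard⟩
    · rintro ⟨b, ⟨hbV, _⟩, hsb, hcard⟩
      exact ⟨hsb.trans hbV, hcard⟩
  rw [← card_powersetCard t V, h1, card_biUnion]
  · rw [sum_congr rfl (g := fun _ => k.choose t), sum_const, smul_eq_mul]
    intro b hb
    rw [card_powersetCard, h.card b (mem_filter.1 hb).2]
  · intro b hb c hc hbc
    rw [Function.onFun, disjoint_left]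
    intro s hs hs'
    rw [mem_powersetCard] at hs hs'
    apply hbc
    apply h.uniq b (mem_filter.1 hb).2 c (mem_filter.1 hc).2
    rw [← hs.2]
    exact card_le_card (subset_inter hs.1 hs'.1)

theorem IsSteinerOn.inter_lt {V : Finset α} {t k : ℕ} {B : Set (Finset α)}
    (h : IsSteinerOn V t k B) {b c : Finset α} (hb : b ∈ B) (hc : c ∈ B) (hbc : b ≠ c) :
    (b ∩ c).card < t := by
  by_contra hn
  exact hbc (h.uniq b hb c hc (not_lt.1 hn))

/-! ### Masks -/

/-- The mask of a set of points relative to a labelling. -/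
def code {n : ℕ} (e : Fin n → α) (b : Finset α) : ℕ := Nat.ofBits fun i => decide (e i ∈ b)

theorem code_lt {n : ℕ} (e : Fin n → α) (b : Finset α) : code e b < 2 ^ n :=
  Nat.ofBits_lt_two_pow _

theorem testBit_code {n : ℕ} (e : Fin n → α) (b : Finset α) (i : Fin n) :
    (code e b).testBit i = decide (e i ∈ b) := by
  rw [code, Nat.testBit_ofBits_lt _ _ i.2]

theorem testBit_code_ge {n : ℕ} (e : Fin n → α) (b : Finset α) (i : ℕ) (hi : n ≤ i) :
    (code e b).testBit i = false := by
  rw [code, Nat.testBit_ofBits_ge _ _ hi]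

theorem code_congr {n : ℕ} {e e' : Fin n → α} {b b' : Finset α}
    (h : ∀ i, e i ∈ b ↔ e' i ∈ b') : code e b = code e' b' := by
  unfold code
  congr 1
  funext i
  simp [h i]

theorem code_inj {n : ℕ} {e : Fin n → α} {b c : Finset α} (hb : ∀ x ∈ b, ∃ i, e i = x)
    (hc : ∀ x ∈ c, ∃ i, e i = x) (h : code e b = code e c) : b = c := by
  have key : ∀ i, e i ∈ b ↔ e i ∈ c := by
    intro i
    have h1 := testBit_code e b i
    have h2 := testBit_code e c i
    rw [h, h2] at h1
    simpa using h1.symm
  ext x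
  constructor
  · intro hx
    obtain ⟨i, rfl⟩ := hb x hx
    exact (key i).1 hx
  · intro hx
    obtain ⟨i, rfl⟩ := hc x hx
    exact (key i).2 hx

theorem sum_code {n : ℕ} {e : Fin n → α} (he : Function.Injective e) {b : Finset α}
    (hb : ∀ x ∈ b, ∃ i, e i = x) : (∑ i ∈ range n, ((code e b).testBit i).toNat) = b.card := by
  rw [Finset.sum_range]
  simp only [testBit_code]
  have h1 : ∀ i : Fin n, (decide (e i ∈ b)).toNat = if e i ∈ b then 1 else 0 := by
    intro i
    by_cases h : e i ∈ b <;> simp [h]
  simp only [h1]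
  rw [← card_filter]
  have h2 : b = (univ.filter (fun i => e i ∈ b)).image e := by
    ext x
    simp only [mem_image, mem_filter, mem_univ, true_and]
    constructor
    · intro hx
      obtain ⟨i, rfl⟩ := hb x hx
      exact ⟨i, hx, rfl⟩
    · rintro ⟨i, hi, rfl⟩
      exact hi
  conv_rhs => rw [h2]
  rw [card_image_of_injective _ he]

theorem px_code {n : ℕ} {e : Fin n → α} (he : Function.Injective e) (b : Finset α)
    (K : List (Fin n)) (hK : K.Nodup) :
    px (code e b) (K.map Fin.val) = decide (Odd (((K.map e).toFinset ∩ b).card)) := by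
  induction K with
  | nil => simp [px_nil]
  | cons k K ih =>
    rw [List.nodup_cons] at hK
    rw [List.map_cons, px_cons, testBit_code, ih hK.2, List.map_cons, List.toFinset_cons]
    have hk : e k ∉ (K.map e).toFinset := by
      rw [List.mem_toFinset, List.mem_map]
      rintro ⟨j, hj, hjk⟩
      exact hK.1 (he hjk ▸ hj)
    by_cases h : e k ∈ b
    · rw [insert_inter_of_mem h, card_insert_of_notMem (fun hh => hk (mem_inter.1 hh).1)]
      simp only [h, decide_true, Bool.true_xor]
      rw [← decide_not]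
      exact decide_eq_decide.2 Nat.odd_add_one.symm
    · rw [insert_inter_of_notMem h]
      simp [h]

/-- The set of points with labels in a list. -/
theorem mem_map_toFinset {n : ℕ} (e : Fin n → α) (K : List (Fin n)) (x : α) :
    x ∈ (K.map e).toFinset ↔ ∃ k ∈ K, e k = x := by
  rw [List.mem_toFinset, List.mem_map]

theorem card_map_toFinset {n : ℕ} {e : Fin n → α} (he : Function.Injective e) (K : List (Fin n))
    (hK : K.Nodup) : (K.map e).toFinset.card = K.length := by
  rw [List.toFinset_card_of_nodup (hK.map he), List.length_map]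

end Cfsg.Agent.SporadicA.SteinerOn
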