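import Mathlib
import Cfsg.Agent.SporadicA.SteinerOn

/-!
Strong uniqueness of the Steiner system `S(3, 6, 22)`.

A *frame* is an ordering `a : Fin 6 → α` of a hexad together with a point `o` outside of it.
The remaining 15 points are labelled canonically by the 15 perfect matchings of `Fin 6`.  Relative
to this labelling `e : Fin 22 → α` the hexads are exactly the sets whose mask lies in the fixed list
`hexads22`.
-/

set_option autoImplicit false

namespace Cfsg.Agent.SporadicA.S36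

open Finset Function Cfsg.Agent.SporadicA.MaskSearch Cfsg.Agent.SporadicA.SteinerOn

variable {α : Type*} [DecidableEq α] {V : Finset α} {B : Set (Finset α)}

theorem ex3 (h : IsSteinerOn V 3 6 B) {x y z : α} (hx : x ∈ V) (hy : y ∈ V) (hz : z ∈ V)
    (hxy : x ≠ y) (hxz : x ≠ z) (hyz : y ≠ z) : ∃ b ∈ B, x ∈ b ∧ y ∈ b ∧ z ∈ b := by
  obtain ⟨b, hb, hs⟩ := h.ex {x, y, z} (by
    intro u hu
    simp only [mem_insert, mem_singleton] at hu
    rcases hu with rfl | rfl | rfl <;> assumption)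
    (card_eq_three.2 ⟨x, y, z, hxy, hxz, hyz, rfl⟩)
  exact ⟨b, hb, hs (by simp), hs (by simp), hs (by simp)⟩

theorem uniq3 (h : IsSteinerOn V 3 6 B) {b c : Finset α} (hb : b ∈ B) (hc : c ∈ B) {x y z : α}
    (hxy : x ≠ y) (hxz : x ≠ z) (hyz : y ≠ z) (b1 : x ∈ b) (b2 : y ∈ b) (b3 : z ∈ b)
    (c1 : x ∈ c) (c2 : y ∈ c) (c3 : z ∈ c) : b = c := by
  apply h.uniq b hb c hc
  rw [← card_eq_three.2 ⟨x, y, z, hxy, hxz, hyz, rfl⟩]
  apply card_le_card
  intro u hu
  simp only [mem_insert, mem_singleton] at hu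
  rw [mem_inter]
  rcases hu with rfl | rfl | rfl <;> constructor <;> assumption

theorem inter_ne_one (hV : V.card = 22) (h : IsSteinerOn V 3 6 B) {b c : Finset α}
    (hb : b ∈ B) (hc : c ∈ B) : (b ∩ c).card ≠ 1 := by
  intro h1
  obtain ⟨p, hp⟩ := card_eq_one.1 h1
  have hpbc : p ∈ b ∩ c := by rw [hp]; simp
  obtain ⟨hpb, hpc⟩ := mem_inter.1 hpbc
  obtain ⟨x, hxc, hxp⟩ : ∃ x ∈ c, x ≠ p := by
    have : 1 < c.card := by rw [h.card c hc]; norm_num
    exact exists_mem_ne this p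
  have hxb : x ∉ b := by
    intro hxb
    have : x ∈ b ∩ c := mem_inter.2 ⟨hxb, hxc⟩
    rw [hp, mem_singleton] at this
    exact hxp this
  have hV' := h.sub
  have hf : ∀ q ∈ b.erase p, ∃ d ∈ B, p ∈ d ∧ q ∈ d ∧ x ∈ d := by
    intro q hq
    rw [mem_erase] at hq
    exact ex3 h (h.sub b hb hpb) (h.sub b hb hq.2) (h.sub c hc hxc) hq.1.symm hxp.symm
      (fun hh => hxb (hh ▸ hq.2))
  choose! f hfB hfp hfq hfx using hf
  have hinj : Set.InjOn f ↑(b.erase p) := by
    intro q hq q' hq' hqq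
    by_contra hne
    have hq1 := mem_erase.1 hq
    have hq1' := mem_erase.1 hq'
    have : f q = b := uniq3 h (hfB q hq) hb hq1.1.symm hq1'.1.symm hne (hfp q hq) (hfq q hq)
      (by rw [hqq]; exact hfq q' hq') hpb hq1.2 hq1'.2
    exact hxb (this ▸ hfx q hq)
  have hcn : c ∉ (b.erase p).image f := by
    rw [mem_image]
    rintro ⟨q, hq, hqc⟩
    have hq1 := mem_erase.1 hq
    have : q ∈ b ∩ c := mem_inter.2 ⟨hq1.2, hqc ▸ hfq q hq⟩
    rw [hp, mem_singleton] at this
    exact hq1.1 this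
  have hT : (insert c ((b.erase p).image f)).card = 6 := by
    rw [card_insert_of_notMem hcn, card_image_of_injOn hinj, card_erase_of_mem hpb, h.card b hb]
  have hTB : ∀ d ∈ insert c ((b.erase p).image f), d ∈ B ∧ p ∈ d ∧ x ∈ d := by
    intro d hd
    rw [mem_insert, mem_image] at hd
    rcases hd with rfl | ⟨q, hq, rfl⟩
    · exact ⟨hc, hpc, hxc⟩
    · exact ⟨hfB q hq, hfp q hq, hfx q hq⟩
  have hcard : ((insert c ((b.erase p).image f)).biUnion
      (fun d => d \ {p, x})).card = 24 := by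
    rw [card_biUnion]
    · rw [sum_congr rfl (g := fun _ => 4), sum_const, hT]
      · rfl
      · intro d hd
        obtain ⟨hdB, hpd, hxd⟩ := hTB d hd
        rw [card_sdiff_of_subset, h.card d hdB, card_pair hxp.symm]
        intro u hu
        simp only [mem_insert, mem_singleton] at hu
        rcases hu with rfl | rfl <;> assumption
    · intro d hd d' hd' hne
      rw [Function.onFun, disjoint_left]
      intro u hu hu'
      obtain ⟨hdB, hpd, hxd⟩ := hTB d hd
      obtain ⟨hdB', hpd', hxd'⟩ := hTB d' hd'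
      simp only [mem_sdiff, mem_insert, mem_singleton, not_or] at hu hu'
      exact hne (uniq3 h hdB hdB' hxp.symm (Ne.symm hu.2.1) (Ne.symm hu.2.2) hpd hxd hu.1
        hpd' hxd' hu'.1)
  have hsub : (insert c ((b.erase p).image f)).biUnion (fun d => d \ {p, x}) ⊆ V \ {p, x} := by
    intro u hu
    rw [mem_biUnion] at hu
    obtain ⟨d, hd, hud⟩ := hu
    rw [mem_sdiff] at hud ⊢
    exact ⟨h.sub d (hTB d hd).1 hud.1, hud.2⟩
  have := card_le_card hsub
  rw [hcard, card_sdiff_of_subset, hV, card_pair hxp.symm] at this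
  · omega
  · intro u hu
    simp only [mem_insert, mem_singleton] at hu
    rcases hu with rfl | rfl
    · exact h.sub b hb hpb
    · exact h.sub c hc hxc

theorem inter_even (hV : V.card = 22) (h : IsSteinerOn V 3 6 B) {b c : Finset α}
    (hb : b ∈ B) (hc : c ∈ B) : Even (b ∩ c).card := by
  by_cases hbc : b = c
  · subst hbc
    rw [inter_self, h.card b hb]
    decide
  · have h1 := h.inter_lt hb hc hbc
    have h2 := inter_ne_one hV h hb hc
    interval_cases (b ∩ c).card <;> first | decide | exact absurd rfl h2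

/-! ### Frames -/

/-- An ordered hexad and a point outside. -/
structure Frame (V : Finset α) (B : Set (Finset α)) (a : Fin 6 → α) (o : α) : Prop where
  inj : Injective a
  mem : univ.image a ∈ B
  ho : o ∈ V
  hno : ∀ i, a i ≠ o

theorem Frame.aV (h : IsSteinerOn V 3 6 B) {a : Fin 6 → α} {o : α} (F : Frame V B a o)
    (i : Fin 6) : a i ∈ V :=
  h.sub _ F.mem (mem_image_of_mem a (mem_univ i))

/-- A block through `o` and `a i` meets the hexad in exactly one further point. -/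
theorem Frame.meet (hV : V.card = 22) (h : IsSteinerOn V 3 6 B) {a : Fin 6 → α} {o : α}
    (F : Frame V B a o) {b : Finset α} (hb : b ∈ B) (ho : o ∈ b) {i : Fin 6} (hi : a i ∈ b) :
    ∃ j, j ≠ i ∧ a j ∈ b ∧ ∀ k, a k ∈ b → k = i ∨ k = j := by
  have hne : b ≠ univ.image a := by
    intro he
    rw [he, mem_image] at ho
    obtain ⟨j, _, hj⟩ := ho
    exact F.hno j hj
  have hJ : (univ.filter (fun k => a k ∈ b)).card = (b ∩ univ.image a).card := by
    rw [← card_image_of_injective _ F.inj]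
    congr 1
    ext x
    simp only [mem_image, mem_filter, mem_univ, true_and, mem_inter]
    constructor
    · rintro ⟨k, hk, rfl⟩
      exact ⟨hk, k, rfl⟩
    · rintro ⟨hx, k, rfl⟩
      exact ⟨k, hx, rfl⟩
  have hlt := h.inter_lt hb F.mem hne
  have hev := inter_even hV h hb F.mem
  have hpos : 0 < (univ.filter (fun k => a k ∈ b)).card :=
    card_pos.2 ⟨i, by simp [hi]⟩
  have h2 : (univ.filter (fun k => a k ∈ b)).card = 2 := by
    rw [← hJ] at hlt hev
    obtain ⟨r, hr⟩ := hev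
    omega
  obtain ⟨u, v, huv, hset⟩ := card_eq_two.1 h2
  have hmem : ∀ k, a k ∈ b ↔ k = u ∨ k = v := by
    intro k
    have : k ∈ univ.filter (fun k => a k ∈ b) ↔ k ∈ ({u, v} : Finset (Fin 6)) := by rw [hset]
    simpa using this
  rcases (hmem i).1 hi with rfl | rfl
  · exact ⟨v, huv.symm, (hmem v).2 (Or.inr rfl), fun k hk => (hmem k).1 hk⟩
  · exact ⟨u, huv, (hmem u).2 (Or.inl rfl), fun k hk => ((hmem k).1 hk).symm⟩

/-- The point `x` carries the matching `s`. -/
def Lab (B : Set (Finset α)) (a : Fin 6 → α) (o x : α) (s : Fin 6 → Fin 6) : Prop :=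
  ∀ i, s i ≠ i ∧ ∃ b ∈ B, a i ∈ b ∧ a (s i) ∈ b ∧ o ∈ b ∧ x ∈ b

theorem Frame.exists_lab (hV : V.card = 22) (h : IsSteinerOn V 3 6 B) {a : Fin 6 → α} {o : α}
    (F : Frame V B a o) {x : α} (hx : x ∈ V) (hxo : x ≠ o) (hxa : ∀ i, a i ≠ x) :
    ∃ s, Lab B a o x s := by
  have : ∀ i, ∃ j, j ≠ i ∧ ∃ b ∈ B, a i ∈ b ∧ a j ∈ b ∧ o ∈ b ∧ x ∈ b := by
    intro i
    obtain ⟨b, hb, h1, h2, h3⟩ := ex3 h (F.aV h i) F.ho hx (F.hno i) (hxa i) hxo.symm
    obtain ⟨j, hji, hj, _⟩ := F.meet hV h hb h2 h1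
    exact ⟨j, hji, b, hb, h1, hj, h2, h3⟩
  choose s hs using this
  exact ⟨s, hs⟩

theorem Frame.lab_invol (hV : V.card = 22) (h : IsSteinerOn V 3 6 B) {a : Fin 6 → α} {o : α}
    (F : Frame V B a o) {x : α} (hxo : x ≠ o) (hxa : ∀ i, a i ≠ x)
    {s : Fin 6 → Fin 6} (hs : Lab B a o x s) (i : Fin 6) : s (s i) = i := by
  obtain ⟨h0, b, hb, h1, h2, h3, h4⟩ := hs i
  obtain ⟨h0', c, hc, h1', h2', h3', h4'⟩ := hs (s i)
  have hbc : b = c := uniq3 h hb hc (F.hno (s i)) (hxa (s i)) hxo.symm h2 h3 h4 h1' h3' h4'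
  subst hbc
  obtain ⟨j, hji, hj, hk⟩ := F.meet hV h hb h3 h1
  have e1 : s i = j := (hk _ h2).resolve_left h0
  rcases hk _ h2' with h5 | h5
  · exact h5
  · exact absurd (h5.trans e1.symm) h0'

theorem Frame.lab_inj (hV : V.card = 22) (h : IsSteinerOn V 3 6 B) {a : Fin 6 → α} {o : α}
    (F : Frame V B a o) {x y : α} (hxo : x ≠ o) (hyo : y ≠ o)
    {s : Fin 6 → Fin 6} (hs : Lab B a o x s) (hs' : Lab B a o y s) : x = y := by
  by_contra hxy
  have key : ∀ i, ∃ b ∈ B, a i ∈ b ∧ a (s i) ∈ b ∧ o ∈ b ∧ x ∈ b ∧ y ∈ b := by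
    intro i
    obtain ⟨h0, b, hb, h1, h2, h3, h4⟩ := hs i
    obtain ⟨_, c, hc, h1', h2', h3', h4'⟩ := hs' i
    have hbc : b = c := uniq3 h hb hc (fun hh => h0 (F.inj hh).symm) (F.hno i) (F.hno (s i))
      h1 h2 h3 h1' h2' h3'
    subst hbc
    exact ⟨b, hb, h1, h2, h3, h4, h4'⟩
  obtain ⟨b, hb, h1, h2, h3, h4, h5⟩ := key 0
  obtain ⟨k, hk0, hks⟩ : ∃ k : Fin 6, k ≠ 0 ∧ k ≠ s 0 := by
    generalize s 0 = t
    revert t
    decide
  obtain ⟨c, hc, h1', h2', h3', h4', h5'⟩ := key k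
  have hbc : b = c := uniq3 h hb hc hxo.symm hyo.symm hxy h3 h4 h5 h3' h4' h5'
  subst hbc
  obtain ⟨j, hji, hj, hkk⟩ := F.meet hV h hb h3 h1
  have e1 : s 0 = j := (hkk _ h2).resolve_left (hs 0).1
  rcases hkk _ h1' with h6 | h6
  · exact hk0 h6
  · exact hks (h6.trans e1.symm)

/-- The 15 perfect matchings of `Fin 6`. -/
def syn : Fin 15 → Fin 6 → Fin 6 :=
  ![![1, 0, 3, 2, 5, 4], ![1, 0, 4, 5, 2, 3], ![1, 0, 5, 4, 3, 2], ![2, 3, 0, 1, 5, 4], ![2, 4, 0,
    5, 1, 3], ![2, 5, 0, 4, 3, 1], ![3, 2, 1, 0, 5, 4], ![3, 4, 5, 0, 1, 2], ![3, 5, 4, 0, 2,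
    1], ![4, 2, 1, 5, 0, 3], ![4, 3, 5, 1, 0, 2], ![4, 5, 3, 2, 0, 1], ![5, 2, 1, 4, 3, 0],
    ![5, 3, 4, 1, 2, 0], ![5, 4, 3, 2, 1, 0]]

set_option synthInstance.maxSize 10000 in
theorem syn_surj_aux : ∀ f0 : Fin 6, f0 ≠ 0 → ∀ f1 : Fin 6, f1 ≠ 1 → (f0 = 1 ↔ f1 = 0) →
    ∀ f2 : Fin 6, f2 ≠ 2 → (f0 = 2 ↔ f2 = 0) → (f1 = 2 ↔ f2 = 1) →
    ∀ f3 : Fin 6, f3 ≠ 3 → (f0 = 3 ↔ f3 = 0) → (f1 = 3 ↔ f3 = 1) → (f2 = 3 ↔ f3 = 2) →
    ∀ f4 : Fin 6, f4 ≠ 4 → (f0 = 4 ↔ f4 = 0) → (f1 = 4 ↔ f4 = 1) → (f2 = 4 ↔ f4 = 2) →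
      (f3 = 4 ↔ f4 = 3) →
    ∀ f5 : Fin 6, f5 ≠ 5 → (f0 = 5 ↔ f5 = 0) → (f1 = 5 ↔ f5 = 1) → (f2 = 5 ↔ f5 = 2) →
      (f3 = 5 ↔ f5 = 3) → (f4 = 5 ↔ f5 = 4) →
      ∃ k : Fin 15, syn k = ![f0, f1, f2, f3, f4, f5] := by
  decide +kernel

theorem syn_surj (f : Fin 6 → Fin 6) (h1 : ∀ i, f i ≠ i) (h2 : ∀ i, f (f i) = i) :
    ∃ k, syn k = f := by
  have key : ∀ i j, f i = j ↔ f j = i := by
    intro i j
    constructor
    · rintro rfl; exact h2 i
    · rintro rfl; exact h2 j
  obtain ⟨k, hk⟩ := syn_surj_aux (f 0) (h1 0) (f 1) (h1 1) (key _ _) (f 2) (h1 2) (key _ _)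
    (key _ _) (f 3) (h1 3) (key _ _) (key _ _) (key _ _) (f 4) (h1 4) (key _ _) (key _ _)
    (key _ _) (key _ _) (f 5) (h1 5) (key _ _) (key _ _) (key _ _) (key _ _) (key _ _)
  refine ⟨k, hk.trans ?_⟩
  funext i
  fin_cases i <;> rfl

/-- `e` is the canonical labelling of the points by `Fin 22` attached to a frame: labels `0..5` for
the hexad, `6` for `o`, and `7 + k` for the point carrying the matching `syn k`. -/
structure Labelling (V : Finset α) (B : Set (Finset α)) (a : Fin 6 → α) (o : α)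
    (e : Fin 22 → α) : Prop where
  inj : Injective e
  mem : ∀ i, e i ∈ V
  ha : ∀ i : Fin 6, e ⟨i.1, by omega⟩ = a i
  ho : e 6 = o
  hs : ∀ k : Fin 15, Lab B a o (e ⟨7 + k.1, by omega⟩) (syn k)

theorem Labelling.surj (hV : V.card = 22) {a : Fin 6 → α} {o : α}
    {e : Fin 22 → α} (L : Labelling V B a o e) : ∀ x ∈ V, ∃ i, e i = x := by
  have h1 : univ.image e = V := by
    apply eq_of_subset_of_card_le
    · intro x hx
      rw [mem_image] at hx
      obtain ⟨i, _, rfl⟩ := hx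
      exact L.mem i
    · rw [hV, card_image_of_injective _ L.inj, card_univ, Fintype.card_fin]
  intro x hx
  rw [← h1, mem_image] at hx
  obtain ⟨i, _, hi⟩ := hx
  exact ⟨i, hi⟩

theorem Frame.exists_labelling (hV : V.card = 22) (h : IsSteinerOn V 3 6 B) {a : Fin 6 → α} {o : α}
    (F : Frame V B a o) : ∃ e, Labelling V B a o e := by
  let X : Finset α := (V \ univ.image a).erase o
  have hX : X.card = 15 := by
    rw [card_erase_of_mem, card_sdiff_of_subset (h.sub _ F.mem), hV, h.card _ F.mem]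
    rw [mem_sdiff, mem_image]
    refine ⟨F.ho, ?_⟩
    rintro ⟨i, _, hi⟩
    exact F.hno i hi
  have hXm : ∀ x ∈ X, x ∈ V ∧ x ≠ o ∧ ∀ i, a i ≠ x := by
    intro x hx
    rw [mem_erase, mem_sdiff, mem_image] at hx
    refine ⟨hx.2.1, hx.1, fun i hi => hx.2.2 ⟨i, mem_univ i, hi⟩⟩
  have hex : ∀ x : X, ∃ k : Fin 15, Lab B a o x.1 (syn k) := by
    rintro ⟨x, hx⟩
    obtain ⟨h1, h2, h3⟩ := hXm x hx
    obtain ⟨s, hs⟩ := F.exists_lab hV h h1 h2 h3
    obtain ⟨k, hk⟩ := syn_surj s (fun i => (hs i).1) (fun i => F.lab_invol hV h h2 h3 hs i)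
    exact ⟨k, hk ▸ hs⟩
  choose g hg using hex
  have hginj : Injective g := by
    intro x y hxy
    apply Subtype.ext
    apply F.lab_inj hV h (hXm x.1 x.2).2.1 (hXm y.1 y.2).2.1 (hg x)
    rw [hxy]
    exact hg y
  have hgbij : Bijective g := by
    rw [Fintype.bijective_iff_injective_and_card]
    exact ⟨hginj, by rw [Fintype.card_coe, hX, Fintype.card_fin]⟩
  let G := Equiv.ofBijective g hgbij
  let e : Fin 22 → α := fun i =>
    if h6 : i.1 < 6 then a ⟨i.1, h6⟩ else if h7 : i.1 = 6 then o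
    else (G.symm ⟨i.1 - 7, by omega⟩).1
  have e1 : ∀ (i : ℕ) (h6 : i < 6) (h22 : i < 22), e ⟨i, h22⟩ = a ⟨i, h6⟩ := by
    intro i h6 h22
    simp only [e, h6, dif_pos]
  have e2 : e 6 = o := by
    simp [e]
  have e3 : ∀ k : Fin 15, e ⟨7 + k.1, by omega⟩ = (G.symm k).1 := by
    intro k
    have h6 : ¬ (7 + k.1 < 6) := by omega
    have h7 : ¬ (7 + k.1 = 6) := by omega
    simp only [e, h6, h7, dif_neg, not_false_iff]
    congr 2
    apply Fin.ext
    simp
  have hcase : ∀ i : Fin 22, (∃ j : Fin 6, i = ⟨j.1, by omega⟩) ∨ i = 6 ∨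
      (∃ k : Fin 15, i = ⟨7 + k.1, by omega⟩) := by
    intro i
    rcases lt_trichotomy i.1 6 with h6 | h6 | h6
    · exact Or.inl ⟨⟨i.1, h6⟩, rfl⟩
    · exact Or.inr (Or.inl (Fin.ext h6))
    · refine Or.inr (Or.inr ⟨⟨i.1 - 7, by omega⟩, Fin.ext ?_⟩)
      simp only
      omega
  refine ⟨e, ?_, ?_, fun i => e1 i.1 i.2 _, e2, ?_⟩
  · intro i j hij
    rcases hcase i with ⟨i', rfl⟩ | rfl | ⟨i', rfl⟩ <;>
    rcases hcase j with ⟨j', rfl⟩ | rfl | ⟨j', rfl⟩
    · rw [e1 _ i'.2, e1 _ j'.2] at hij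
      have := F.inj hij
      rw [Fin.ext_iff] at this
      exact Fin.ext this
    · rw [e1 _ i'.2, e2] at hij
      exact absurd hij (F.hno _)
    · rw [e1 _ i'.2, e3] at hij
      exact absurd hij ((hXm _ (G.symm j').2).2.2 _)
    · rw [e1 _ j'.2, e2] at hij
      exact absurd hij.symm (F.hno _)
    · rfl
    · rw [e2, e3] at hij
      exact absurd hij.symm (hXm _ (G.symm j').2).2.1
    · rw [e1 _ j'.2, e3] at hij
      exact absurd hij.symm ((hXm _ (G.symm i').2).2.2 _)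
    · rw [e2, e3] at hij
      exact absurd hij (hXm _ (G.symm i').2).2.1
    · rw [e3, e3] at hij
      have := G.symm.injective (Subtype.ext hij)
      rw [this]
  · intro i
    rcases hcase i with ⟨i', rfl⟩ | rfl | ⟨i', rfl⟩
    · rw [e1 _ i'.2]; exact F.aV h _
    · rw [e2]; exact F.ho
    · rw [e3]; exact (hXm _ (G.symm i').2).1
  · intro k
    rw [e3]
    have := hg (G.symm k)
    have h2 : g (G.symm k) = k := G.apply_symm_apply k
    rw [h2] at this
    exact this

/-- Two labellings of the same frame are equal. -/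
theorem Labelling.unique (hV : V.card = 22) (h : IsSteinerOn V 3 6 B) {a : Fin 6 → α} {o : α}
    (F : Frame V B a o) {e e' : Fin 22 → α} (L : Labelling V B a o e)
    (L' : Labelling V B a o e') : e = e' := by
  funext i
  rcases lt_trichotomy i.1 6 with h6 | h6 | h6
  · have h1 := L.ha ⟨i.1, h6⟩
    have h2 := L'.ha ⟨i.1, h6⟩
    exact h1.trans h2.symm
  · have : i = 6 := Fin.ext h6
    rw [this, L.ho, L'.ho]
  · have hi : i = ⟨7 + (i.1 - 7), by omega⟩ := Fin.ext (by simp only; omega)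
    have h1 := L.hs ⟨i.1 - 7, by omega⟩
    have h2 := L'.hs ⟨i.1 - 7, by omega⟩
    have hne : ∀ {e : Fin 22 → α}, Labelling V B a o e → ∀ k : Fin 15,
        e ⟨7 + k.1, by omega⟩ ≠ o := by
      intro e L k hk
      rw [← L.ho] at hk
      have := L.inj hk
      rw [Fin.ext_iff] at this
      simp only at this
      have h6' : ((6 : Fin 22) : ℕ) = 6 := rfl
      omega
    have := F.lab_inj hV h (hne L _) (hne L' _) h1 h2
    rw [hi]
    exact this

/-! ### The known blocks -/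

/-- The fifteen hexads through two points of the base hexad and the point `o`, as label lists. -/
def knownPairs : List (List (Fin 22)) :=
  [[0, 1, 6, 7, 8, 9],
   [0, 2, 6, 10, 11, 12],
   [0, 3, 6, 13, 14, 15],
   [0, 4, 6, 16, 17, 18],
   [0, 5, 6, 19, 20, 21],
   [1, 2, 6, 13, 16, 19],
   [1, 3, 6, 10, 17, 20],
   [1, 4, 6, 11, 14, 21],
   [1, 5, 6, 12, 15, 18],
   [2, 3, 6, 7, 18, 21],
   [2, 4, 6, 8, 15, 20],
   [2, 5, 6, 9, 14, 17],
   [3, 4, 6, 9, 12, 19],
   [3, 5, 6, 8, 11, 16],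
   [4, 5, 6, 7, 10, 13]]

/-- Labels of the base hexad. -/
def baseList : List (Fin 22) := [0, 1, 2, 3, 4, 5]

theorem knownPairs_spec : ∀ K ∈ knownPairs, K.Nodup ∧ K.length = 6 ∧
    ∃ i j : Fin 6, i ≠ j ∧ ∀ k ∈ K, (k.1 = i.1 ∨ k.1 = j.1 ∨ k = 6 ∨
      ∃ l : Fin 15, k.1 = 7 + l.1 ∧ syn l i = j) := by
  decide +kernel

theorem Labelling.base_mem {a : Fin 6 → α} {o : α}
    (F : Frame V B a o) {e : Fin 22 → α} (L : Labelling V B a o e) :
    (baseList.map e).toFinset ∈ B := by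
  have : (baseList.map e).toFinset = univ.image a := by
    ext x
    simp only [mem_map_toFinset, mem_image, mem_univ, true_and]
    constructor
    · rintro ⟨k, hk, rfl⟩
      have hk6 : k.1 < 6 := by
        revert k
        decide
      exact ⟨⟨k.1, hk6⟩, (L.ha ⟨k.1, hk6⟩).symm⟩
    · rintro ⟨i, rfl⟩
      refine ⟨⟨i.1, by omega⟩, ?_, L.ha i⟩
      revert i
      decide
  rw [this]
  exact F.mem

theorem Labelling.known_mem (h : IsSteinerOn V 3 6 B) {a : Fin 6 → α} {o : α}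
    (F : Frame V B a o) {e : Fin 22 → α} (L : Labelling V B a o e) (K : List (Fin 22))
    (hK : K ∈ knownPairs) : (K.map e).toFinset ∈ B := by
  obtain ⟨hnd, hlen, i, j, hij, hk⟩ := knownPairs_spec K hK
  obtain ⟨b, hb, h1, h2, h3⟩ := ex3 h (F.aV h i) (F.aV h j) F.ho
    (fun hh => hij (F.inj hh)) (F.hno i) (F.hno j)
  have hsub : (K.map e).toFinset ⊆ b := by
    intro x hx
    rw [mem_map_toFinset] at hx
    obtain ⟨k, hkK, rfl⟩ := hx
    rcases hk k hkK with h5 | h5 | h5 | ⟨l, h5, h6⟩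
    · have : k = ⟨i.1, by omega⟩ := Fin.ext h5
      rw [this, L.ha i]
      exact h1
    · have : k = ⟨j.1, by omega⟩ := Fin.ext h5
      rw [this, L.ha j]
      exact h2
    · rw [h5, L.ho]
      exact h3
    · have : k = ⟨7 + l.1, by omega⟩ := Fin.ext h5
      rw [this]
      obtain ⟨_, c, hc, c1, c2, c3, c4⟩ := L.hs l i
      rw [h6] at c2
      have hbc : b = c := uniq3 h hb hc (fun hh => hij (F.inj hh)) (F.hno i) (F.hno j)
        h1 h2 h3 c1 c2 c3
      rw [hbc]
      exact c4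
  have : (K.map e).toFinset = b := by
    apply eq_of_subset_of_card_le hsub
    rw [h.card b hb, card_map_toFinset L.inj K hnd, hlen]
  rw [this]
  exact hb

/-- The 77 masks of the hexads. -/
def hexads22 : List ℕ :=
  [63, 963, 7237, 9456, 9996, 14474, 50310, 56064, 57417, 67944, 68244, 70930, 78369, 147864,
   148068, 165153, 172562, 224256, 233484, 280737, 290836, 298008, 299106, 344586, 369024,
   395526, 398976, 458833, 527906, 528804, 528984, 534801, 590985, 598086, 639024, 675843,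
   690368, 804160, 819717, 925736, 1066513, 1073442, 1081684, 1082024, 1134784, 1148931,
   1180746, 1185840, 1187973, 1315081, 1321536, 1377316, 1591308, 1618944, 1770240, 1835154,
   2115666, 2118696, 2134161, 2140196, 2179333, 2197056, 2230793, 2240832, 2293922, 2359500,
   2360112, 2368515, 2646656, 2654474, 2753556, 2955264, 3149184, 3150342, 3219480, 3588096,
   3670113]

/-- Membership test in a list of numbers, convenient for the kernel. -/
def memb (l : List ℕ) (m : ℕ) : Bool := List.rec false (fun x _ ih => Nat.beq m x || ih) l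

theorem memb_iff (l : List ℕ) (m : ℕ) : memb l m = true ↔ m ∈ l := by
  induction l with
  | nil => simp [memb]
  | cons x l ih =>
    have : memb (x :: l) m = (Nat.beq m x || memb l m) := rfl
    rw [this, Bool.or_eq_true, ih, Nat.beq_eq, List.mem_cons]

/-- The sixteen parity constraints. -/
def cons36 (p : Bool) : List (Bool × List ℕ) :=
  (baseList :: knownPairs).map fun K => (p, K.map Fin.val)

theorem search36 : srch (memb hexads22) (levels (cons36 false) 22) 1 0 6 = true := by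
  decide +kernel

theorem Labelling.px_eq (hV : V.card = 22) (h : IsSteinerOn V 3 6 B) {a : Fin 6 → α} {o : α}
    (F : Frame V B a o) {e : Fin 22 → α} (L : Labelling V B a o e) {b : Finset α} (hb : b ∈ B) :
    ∀ c ∈ cons36 false, px (code e b) c.2 = c.1 := by
  intro c hc
  simp only [cons36, List.mem_map] at hc
  obtain ⟨K, hK, rfl⟩ := hc
  have hnd : K.Nodup := by
    rcases List.mem_cons.1 hK with rfl | hK
    · decide
    · exact (knownPairs_spec K hK).1
  have hKB : (K.map e).toFinset ∈ B := by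
    rcases List.mem_cons.1 hK with rfl | hK
    · exact L.base_mem F
    · exact L.known_mem h F K hK
  simp only
  rw [px_code L.inj b K hnd, decide_eq_false_iff_not, Nat.not_odd_iff_even]
  exact inter_even hV h hKB hb

theorem Labelling.code_mem (hV : V.card = 22) (h : IsSteinerOn V 3 6 B) {a : Fin 6 → α} {o : α}
    (F : Frame V B a o) {e : Fin 22 → α} (L : Labelling V B a o e) {b : Finset α} (hb : b ∈ B) :
    code e b ∈ hexads22 := by
  rw [← memb_iff]
  apply srch_sound (memb hexads22) (cons36 false) 22 6 _ rfl search36 _ (code_lt e b)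
  · rw [sum_code L.inj (fun x hx => L.surj hV x (h.sub b hb hx)), h.card b hb]
  · exact L.px_eq hV h F hb

/-- **Strong uniqueness of `S(3,6,22)`.** -/
theorem Labelling.mem_iff (hV : V.card = 22) (h : IsSteinerOn V 3 6 B) {a : Fin 6 → α} {o : α}
    (F : Frame V B a o) {e : Fin 22 → α} (L : Labelling V B a o e) {b : Finset α} (hbV : b ⊆ V) :
    b ∈ B ↔ code e b ∈ hexads22 := by
  classical
  refine ⟨fun hb => L.code_mem hV h F hb, fun hb => ?_⟩
  have hcard : (V.powerset.filter (fun b => b ∈ B)).card = 77 := by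
    have := h.card_blocks
    rw [hV] at this
    have h1 : Nat.choose 6 3 = 20 := by decide
    have h2 : Nat.choose 22 3 = 1540 := by decide
    rw [h1, h2] at this
    omega
  have himg : (V.powerset.filter (fun b => b ∈ B)).image (code e) = hexads22.toFinset := by
    apply eq_of_subset_of_card_le
    · intro m hm
      rw [mem_image] at hm
      obtain ⟨c, hc, rfl⟩ := hm
      rw [List.mem_toFinset]
      exact L.code_mem hV h F (mem_filter.1 hc).2
    · rw [card_image_of_injOn, hcard]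
      · exact (List.toFinset_card_le _).trans (by decide)
      · intro c hc d hd hcd
        have hc1 := mem_powerset.1 (mem_filter.1 hc).1
        have hd1 := mem_powerset.1 (mem_filter.1 hd).1
        exact code_inj (fun x hx => L.surj hV x (hc1 hx)) (fun x hx => L.surj hV x (hd1 hx)) hcd
  have : code e b ∈ (V.powerset.filter (fun b => b ∈ B)).image (code e) := by
    rw [himg, List.mem_toFinset]
    exact hb
  rw [mem_image] at this
  obtain ⟨c, hc, hcb⟩ := this
  have hc1 := mem_powerset.1 (mem_filter.1 hc).1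
  have : c = b := code_inj (fun x hx => L.surj hV x (hc1 hx)) (fun x hx => L.surj hV x (hbV hx)) hcb
  rw [← this]
  exact (mem_filter.1 hc).2

end Cfsg.Agent.SporadicA.S36
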