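import Mathlib
import Cfsg.Agent.SporadicA.S36

/-!
The automorphism group of a Steiner system `S(3, 6, 22)`: it is regular on frames, has order
887040 and is 3-transitive.
-/

set_option autoImplicit false

namespace Cfsg.Agent.SporadicA.S36Aut

open Finset Function Cfsg.Agent.SporadicA.SteinerOn Cfsg.Agent.SporadicA.S36
open scoped Pointwise

variable {α : Type*} [Fintype α] [DecidableEq α] {B : Set (Finset α)}

omit [Fintype α] in
theorem mem_aut_iff (σ : Equiv.Perm α) :
    σ ∈ Cfsg.setSystemAut B ↔ ∀ b : Finset α, b.image σ ∈ B ↔ b ∈ B := by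
  have hsm : ∀ b : Finset α, b.image σ = σ • b := fun b => rfl
  rw [MulAction.mem_stabilizer_iff]
  constructor
  · intro h b
    rw [hsm]
    conv_lhs => rw [← h]
    exact Set.smul_mem_smul_set_iff
  · intro h
    ext b
    rw [Set.mem_smul_set_iff_inv_smul_mem, ← h, hsm, smul_inv_smul]

theorem Frame.smul {σ : Equiv.Perm α} (hσ : ∀ b : Finset α, b.image σ ∈ B ↔ b ∈ B)
    {a : Fin 6 → α} {o : α} (F : Frame univ B a o) : Frame univ B (σ ∘ a) (σ o) where
  inj := σ.injective.comp F.inj
  mem := by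
    rw [← image_image, hσ]
    exact F.mem
  ho := mem_univ _
  hno := fun i hi => F.hno i (σ.injective hi)

theorem Labelling.smul {σ : Equiv.Perm α} (hσ : ∀ b : Finset α, b.image σ ∈ B ↔ b ∈ B)
    {a : Fin 6 → α} {o : α} {e : Fin 22 → α} (L : Labelling univ B a o e) :
    Labelling univ B (σ ∘ a) (σ o) (σ ∘ e) where
  inj := σ.injective.comp L.inj
  mem := fun _ => mem_univ _
  ha := fun i => congrArg σ (L.ha i)
  ho := congrArg σ L.ho
  hs := by
    intro k i
    obtain ⟨h0, b, hb, h1, h2, h3, h4⟩ := L.hs k i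
    exact ⟨h0, b.image σ, (hσ b).2 hb, mem_image_of_mem σ h1, mem_image_of_mem σ h2,
      mem_image_of_mem σ h3, mem_image_of_mem σ h4⟩

/-- The labelling as an equivalence. -/
noncomputable def labEquiv (hα : Fintype.card α = 22) {a : Fin 6 → α} {o : α} {e : Fin 22 → α}
    (L : Labelling univ B a o e) : Fin 22 ≃ α :=
  Equiv.ofBijective e ⟨L.inj, fun x => L.surj (by rw [card_univ, hα]) x (mem_univ x)⟩

theorem labEquiv_apply (hα : Fintype.card α = 22) {a : Fin 6 → α} {o : α} {e : Fin 22 → α}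
    (L : Labelling univ B a o e) (i : Fin 22) : labEquiv hα L i = e i := rfl

omit [Fintype α] in
theorem code_congr' {β : Type*} [DecidableEq β] {n : ℕ} {e : Fin n → α} {e' : Fin n → β}
    {b : Finset α} {b' : Finset β} (h : ∀ i, e i ∈ b ↔ e' i ∈ b') : code e b = code e' b' := by
  unfold code
  congr 1
  funext i
  simp [h i]

/-- Two labelled systems are isomorphic by the bijection matching the labels. -/
theorem exists_iso {β : Type*} [Fintype β] [DecidableEq β] {B' : Set (Finset β)}
    (hα : Fintype.card α = 22) (hβ : Fintype.card β = 22)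
    (hB : Cfsg.IsSteinerSystem 3 6 B) (hB' : Cfsg.IsSteinerSystem 3 6 B')
    {a : Fin 6 → α} {o : α} (F : Frame univ B a o) {e : Fin 22 → α} (L : Labelling univ B a o e)
    {a' : Fin 6 → β} {o' : β} (F' : Frame univ B' a' o') {e' : Fin 22 → β}
    (L' : Labelling univ B' a' o' e') :
    ∃ σ : α ≃ β, (∀ b : Finset α, b.image σ ∈ B' ↔ b ∈ B) ∧ ∀ i, σ (e i) = e' i := by
  let σ : α ≃ β := (labEquiv hα L).symm.trans (labEquiv hβ L')
  have hσ : ∀ i, σ (e i) = e' i := by
    intro i
    rw [← labEquiv_apply hα L i, Equiv.trans_apply, Equiv.symm_apply_apply, labEquiv_apply]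
  refine ⟨σ, fun b => ?_, hσ⟩
  have h1 := L.mem_iff (by rw [card_univ, hα]) (isSteinerOn_univ hB) F (subset_univ b)
  have h2 := L'.mem_iff (by rw [card_univ, hβ]) (isSteinerOn_univ hB') F'
    (subset_univ (b.image σ))
  rw [h1, h2]
  have : code e' (b.image σ) = code e b := by
    apply code_congr'
    intro i
    rw [← hσ i]
    exact σ.injective.mem_finset_image
  rw [this]

theorem exists_frame_extend (hα : Fintype.card α = 22) (hB : Cfsg.IsSteinerSystem 3 6 B)
    {x y z : α} (hxy : x ≠ y) (hxz : x ≠ z) (hyz : y ≠ z) :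
    ∃ (a : Fin 6 → α) (o : α), Frame univ B a o ∧ a 0 = x ∧ a 1 = y ∧ a 2 = z := by
  have h := isSteinerOn_univ hB
  obtain ⟨b, hb, hx, hy, hz⟩ := ex3 h (mem_univ x) (mem_univ y) (mem_univ z) hxy hxz hyz
  have hb6 := hB.1 b hb
  have hsub : ({x, y, z} : Finset α) ⊆ b := by
    intro u hu
    simp only [mem_insert, mem_singleton] at hu
    rcases hu with rfl | rfl | rfl <;> assumption
  have hc3 : (b \ {x, y, z}).card = 3 := by
    rw [card_sdiff_of_subset hsub, hb6, card_eq_three.2 ⟨x, y, z, hxy, hxz, hyz, rfl⟩]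
  obtain ⟨u, v, w, huv, huw, hvw, hset⟩ := card_eq_three.1 hc3
  have himg : univ.image ![x, y, z, u, v, w] = b := by
    have h1 : univ.image ![x, y, z, u, v, w] = {x, y, z} ∪ {u, v, w} := by
      ext t
      simp only [mem_image, mem_univ, true_and, mem_union, mem_insert, mem_singleton]
      constructor
      · rintro ⟨i, rfl⟩
        fin_cases i <;> simp
      · rintro ((rfl | rfl | rfl) | (rfl | rfl | rfl))
        exacts [⟨0, rfl⟩, ⟨1, rfl⟩, ⟨2, rfl⟩, ⟨3, rfl⟩, ⟨4, rfl⟩, ⟨5, rfl⟩]
    rw [h1, ← hset, union_sdiff_of_subset hsub]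
  obtain ⟨o, ho⟩ : ∃ o, o ∉ b := by
    by_contra hcon
    push Not at hcon
    have : b = univ := eq_univ_of_forall hcon
    rw [this, card_univ, hα] at hb6
    omega
  refine ⟨![x, y, z, u, v, w], o, ⟨?_, ?_, mem_univ o, ?_⟩, rfl, rfl, rfl⟩
  · have h2 : (univ.image ![x, y, z, u, v, w]).card = (univ : Finset (Fin 6)).card := by
      rw [himg, hb6]; rfl
    exact (Set.injOn_univ.1 (by simpa using card_image_iff.1 h2))
  · rw [himg]; exact hb
  · intro i hi
    apply ho
    rw [← himg, ← hi]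
    exact mem_image_of_mem _ (mem_univ i)

theorem isMultiplyPretransitive_three (hα : Fintype.card α = 22)
    (hB : Cfsg.IsSteinerSystem 3 6 B) :
    MulAction.IsMultiplyPretransitive (Cfsg.setSystemAut B) α 3 := by
  have hV : (univ : Finset α).card = 22 := by rw [card_univ, hα]
  have h := isSteinerOn_univ hB
  refine ⟨fun x y => ?_⟩
  have key : ∀ x : Fin 3 ↪ α, ∃ (a : Fin 6 → α) (o : α), Frame univ B a o ∧ a 0 = x 0 ∧
      a 1 = x 1 ∧ a 2 = x 2 := fun x =>
    exists_frame_extend hα hB (fun hh => by simpa using x.injective hh)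
      (fun hh => by simpa using x.injective hh) (fun hh => by simpa using x.injective hh)
  obtain ⟨a, o, F, a0, a1, a2⟩ := key x
  obtain ⟨a', o', F', a0', a1', a2'⟩ := key y
  obtain ⟨e, L⟩ := F.exists_labelling hV h
  obtain ⟨e', L'⟩ := F'.exists_labelling hV h
  obtain ⟨σ, hσ, hσe⟩ := exists_iso hα hα hB hB F L F' L'
  refine ⟨⟨σ, (mem_aut_iff σ).2 hσ⟩, ?_⟩
  have ha : ∀ i : Fin 6, σ (a i) = a' i := by
    intro i
    rw [← L.ha i, hσe, L'.ha i]
  ext i
  change σ (x i) = y i
  fin_cases i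
  · exact a0 ▸ a0' ▸ ha 0
  · exact a1 ▸ a1' ▸ ha 1
  · exact a2 ▸ a2' ▸ ha 2

/-- The type of frames. -/
abbrev FrameT (B : Set (Finset α)) : Type _ :=
  {p : (Fin 6 → α) × α // Frame univ B p.1 p.2}

theorem card_frameT (hα : Fintype.card α = 22) (hB : Cfsg.IsSteinerSystem 3 6 B) :
    Nat.card (FrameT B) = 887040 := by
  classical
  have h := isSteinerOn_univ hB
  let T := Σ b : {b : Finset α // b ∈ B}, (Fin 6 ↪ {x // x ∈ b.1}) × {o : α // o ∉ b.1}
  have himg : ∀ (b : {b : Finset α // b ∈ B}) (f : Fin 6 ↪ {x // x ∈ b.1}),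
      univ.image (fun i => (f i).1) = b.1 := by
    intro b f
    apply eq_of_subset_of_card_le
    · intro x hx
      rw [mem_image] at hx
      obtain ⟨i, _, rfl⟩ := hx
      exact (f i).2
    · rw [hB.1 _ b.2, card_image_of_injective]
      · rfl
      · intro i j hij
        exact f.injective (Subtype.ext hij)
  let φ : T → FrameT B := fun t => ⟨(fun i => (t.2.1 i).1, t.2.2.1),
    { inj := fun i j hij => t.2.1.injective (Subtype.ext hij)
      mem := by
        change univ.image (fun i => (t.2.1 i).1) ∈ B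
        rw [himg]; exact t.1.2
      ho := mem_univ _
      hno := fun i hi => t.2.2.2 (by
        change (t.2.1 i).1 = t.2.2.1 at hi
        rw [← hi]; exact (t.2.1 i).2) }⟩
  have hφ : Bijective φ := by
    constructor
    · rintro ⟨⟨b, hb⟩, f, o, ho⟩ ⟨⟨b', hb'⟩, f', o', ho'⟩ heq
      have h1 : (fun i => (f i).1, o) = (fun i => (f' i).1, o') := congrArg Subtype.val heq
      have h2 : (fun i => (f i).1) = (fun i => (f' i).1) := congrArg Prod.fst h1
      have h3 : o = o' := congrArg Prod.snd h1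
      have h4 : b = b' := by
        have e1 := himg ⟨b, hb⟩ f
        have e2 := himg ⟨b', hb'⟩ f'
        have e1' : univ.image (fun i => (f i).1) = b := e1
        have e2' : univ.image (fun i => (f' i).1) = b' := e2
        rw [← e1', ← e2', h2]
      subst h4
      subst h3
      have h5 : f = f' := by
        ext i
        exact congrFun h2 i
      subst h5
      rfl
    · rintro ⟨⟨a, o⟩, F⟩
      refine ⟨⟨⟨univ.image a, F.mem⟩, ⟨fun i => ⟨a i, mem_image_of_mem a (mem_univ i)⟩, ?_⟩,
        ⟨o, ?_⟩⟩, rfl⟩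
      · intro i j hij
        exact F.inj (congrArg Subtype.val hij)
      · rw [mem_image]
        rintro ⟨i, _, hi⟩
        exact F.hno i hi
  rw [← Nat.card_congr (Equiv.ofBijective φ hφ)]
  have hfib : ∀ b : {b : Finset α // b ∈ B},
      Nat.card ((Fin 6 ↪ {x // x ∈ b.1}) × {o : α // o ∉ b.1}) = 11520 := by
    intro b
    have hb6 := hB.1 _ b.2
    have h1 : Fintype.card {o : α // o ∉ b.1} = 16 := by
      rw [Fintype.card_subtype_compl, hα, Fintype.card_coe, hb6]
    rw [Nat.card_prod, Nat.card_eq_fintype_card, Nat.card_eq_fintype_card,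
      Fintype.card_embedding_eq, Fintype.card_fin, Fintype.card_coe, hb6, h1]
    decide
  have hBcard : Fintype.card {b : Finset α // b ∈ B} = 77 := by
    have h1 := h.card_blocks
    rw [card_univ, hα] at h1
    have h2 : Nat.choose 6 3 = 20 := by decide
    have h3 : Nat.choose 22 3 = 1540 := by decide
    rw [h2, h3] at h1
    rw [Fintype.card_subtype]
    have h4 : (univ : Finset α).powerset = univ := by ext s; simp
    rw [h4] at h1
    omega
  rw [Nat.card_sigma, sum_congr rfl (fun b _ => hfib b), sum_const, card_univ, hBcard]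
  rfl

theorem card_aut (hα : Fintype.card α = 22) (hB : Cfsg.IsSteinerSystem 3 6 B) :
    Nat.card (Cfsg.setSystemAut B) = 887040 := by
  have hV : (univ : Finset α).card = 22 := by rw [card_univ, hα]
  have h := isSteinerOn_univ hB
  rw [← card_frameT hα hB]
  have hne : Nonempty (FrameT B) := by
    have : 0 < Nat.card (FrameT B) := by rw [card_frameT hα hB]; norm_num
    exact (Nat.card_pos_iff.1 this).1
  obtain ⟨⟨⟨a, o⟩, F⟩⟩ := hne
  change Frame univ B a o at F
  obtain ⟨e, L⟩ := F.exists_labelling hV h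
  apply Nat.card_congr
  refine Equiv.ofBijective (fun σ => ⟨((σ : Equiv.Perm α) ∘ a, (σ : Equiv.Perm α) o),
    Frame.smul ((mem_aut_iff _).1 σ.2) F⟩) ⟨?_, ?_⟩
  · intro σ τ hστ
    have h1 : ((σ : Equiv.Perm α) ∘ a, (σ : Equiv.Perm α) o) =
      ((τ : Equiv.Perm α) ∘ a, (τ : Equiv.Perm α) o) := congrArg Subtype.val hστ
    have h2 : (σ : Equiv.Perm α) ∘ a = (τ : Equiv.Perm α) ∘ a := congrArg Prod.fst h1
    have h3 : (σ : Equiv.Perm α) o = (τ : Equiv.Perm α) o := congrArg Prod.snd h1
    have L1 := Labelling.smul ((mem_aut_iff _).1 σ.2) L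
    have L2 := Labelling.smul ((mem_aut_iff _).1 τ.2) L
    rw [← h2, ← h3] at L2
    have h4 := L1.unique hV h (Frame.smul ((mem_aut_iff _).1 σ.2) F) L2
    apply Subtype.ext
    ext x
    obtain ⟨i, rfl⟩ := L.surj hV x (mem_univ x)
    exact congrFun h4 i
  · rintro ⟨⟨a', o'⟩, F'⟩
    change Frame univ B a' o' at F'
    obtain ⟨e', L'⟩ := F'.exists_labelling hV h
    obtain ⟨σ, hσ, hσe⟩ := exists_iso hα hα hB hB F L F' L'
    refine ⟨⟨σ, (mem_aut_iff σ).2 hσ⟩, Subtype.ext (Prod.ext ?_ ?_)⟩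
    · funext i
      change σ (a i) = a' i
      rw [← L.ha i, hσe, L'.ha i]
    · change σ o = o'
      rw [← L.ho, hσe, L'.ho]

end Cfsg.Agent.SporadicA.S36Aut
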