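import Mathlib
import Cfsg.Agent.SporadicA.S36Aut

/-!
The effect on the canonical labelling of `S(3, 6, 22)` of exchanging the last two points of the
base hexad of a frame: an explicit product of seven transpositions of the labels.  Hence the
automorphism group contains odd permutations; its even part has index 2.
-/

set_option autoImplicit false

namespace Cfsg.Agent.SporadicA.S36Swap

open Finset Function Cfsg.Agent.SporadicA.SteinerOn Cfsg.Agent.SporadicA.S36
  Cfsg.Agent.SporadicA.S36Aut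
open scoped Pointwise

variable {α : Type*} [DecidableEq α] {V : Finset α} {B : Set (Finset α)}

/-- The exchange of the last two indices of `Fin 6`. -/
def sw : Fin 6 → Fin 6 := ![0, 1, 2, 3, 5, 4]

/-- The induced map on the matchings. -/
def kap : Fin 15 → Fin 15 := ![0, 2, 1, 3, 5, 4, 6, 8, 7, 12, 13, 14, 9, 10, 11]

/-- The induced map on the labels. -/
def tauFun : Fin 22 → Fin 22 :=
  ![0, 1, 2, 3, 5, 4, 6, 7, 9, 8, 10, 12, 11, 13, 15, 14, 19, 20, 21, 16, 17, 18]

theorem sw_sw : ∀ i, sw (sw i) = i := by decide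

theorem sw_inj : Injective sw := fun i j h => by rw [← sw_sw i, h, sw_sw]

theorem tau_tau : ∀ i, tauFun (tauFun i) = i := by decide

/-- The induced permutation of the labels. -/
def tau : Equiv.Perm (Fin 22) := ⟨tauFun, tauFun, tau_tau, tau_tau⟩

theorem kap_spec : ∀ (k : Fin 15) (i : Fin 6), syn (kap k) (sw i) = sw (syn k i) := by
  decide +kernel

theorem tau_low : ∀ i : Fin 6, tauFun ⟨i.1, by omega⟩ = ⟨(sw i).1, by omega⟩ := by decide

theorem tau_high : ∀ k : Fin 15, tauFun ⟨7 + k.1, by omega⟩ = ⟨7 + (kap k).1, by omega⟩ := by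
  decide

theorem tau_eq : tau = Equiv.swap 4 5 * Equiv.swap 8 9 * Equiv.swap 11 12 * Equiv.swap 14 15 *
    Equiv.swap 16 19 * Equiv.swap 17 20 * Equiv.swap 18 21 := by
  decide +kernel

theorem sign_tau : Equiv.Perm.sign tau = -1 := by
  rw [tau_eq]
  simp only [Equiv.Perm.sign_mul]
  rw [Equiv.Perm.sign_swap (by decide), Equiv.Perm.sign_swap (by decide),
    Equiv.Perm.sign_swap (by decide), Equiv.Perm.sign_swap (by decide),
    Equiv.Perm.sign_swap (by decide), Equiv.Perm.sign_swap (by decide),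
    Equiv.Perm.sign_swap (by decide)]
  decide

theorem Frame.swap {a : Fin 6 → α} {o : α} (F : Frame V B a o) : Frame V B (a ∘ sw) o where
  inj := F.inj.comp sw_inj
  mem := by
    have : univ.image (a ∘ sw) = univ.image a := by
      ext x
      simp only [mem_image, mem_univ, true_and, comp]
      constructor
      · rintro ⟨i, rfl⟩; exact ⟨_, rfl⟩
      · rintro ⟨i, rfl⟩; exact ⟨sw i, by rw [sw_sw]⟩
    rw [this]
    exact F.mem
  ho := F.ho
  hno := fun i => F.hno _

omit [DecidableEq α] in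
theorem Labelling.swap {a : Fin 6 → α} {o : α} {e : Fin 22 → α} (L : Labelling V B a o e) :
    Labelling V B (a ∘ sw) o (e ∘ tauFun) where
  inj := L.inj.comp (fun i j h => by rw [← tau_tau i, h, tau_tau])
  mem := fun _ => L.mem _
  ha := by
    intro i
    change e (tauFun ⟨i.1, _⟩) = a (sw i)
    rw [tau_low, L.ha]
  ho := L.ho
  hs := by
    intro k i
    change syn k i ≠ i ∧ ∃ b ∈ B, a (sw i) ∈ b ∧ a (sw (syn k i)) ∈ b ∧ o ∈ b ∧
      e (tauFun ⟨7 + k.1, _⟩) ∈ b
    obtain ⟨h0, b, hb, h1, h2, h3, h4⟩ := L.hs (kap k) (sw i)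
    rw [kap_spec] at h0 h2
    refine ⟨fun hh => h0 (by rw [hh]), b, hb, h1, h2, h3, ?_⟩
    rw [tau_high]
    exact h4

variable [Fintype α]

/-- Each frame is fixed on its first four points and on the outside point by an odd
automorphism. -/
theorem exists_odd (hα : Fintype.card α = 22) (hB : Cfsg.IsSteinerSystem 3 6 B)
    {a : Fin 6 → α} {o : α} (F : Frame univ B a o) :
    ∃ σ : Equiv.Perm α, (∀ b : Finset α, b.image σ ∈ B ↔ b ∈ B) ∧ σ (a 0) = a 0 ∧
      σ (a 1) = a 1 ∧ σ (a 2) = a 2 ∧ σ (a 3) = a 3 ∧ σ o = o ∧ Equiv.Perm.sign σ = -1 := by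
  obtain ⟨e, L⟩ := F.exists_labelling (by rw [card_univ, hα]) (isSteinerOn_univ hB)
  have F' := Frame.swap F
  have L' := Labelling.swap L
  obtain ⟨σ, hσ, hσe⟩ := exists_iso hα hα hB hB F L F' L'
  have ha : ∀ i, σ (a i) = a (sw i) := by
    intro i
    rw [← L.ha i, hσe, L'.ha i]
    rfl
  have ho : σ o = o := by
    have h1 := hσe 6
    rwa [L.ho, L'.ho] at h1
  refine ⟨σ, hσ, ha 0, ha 1, ha 2, ha 3, ho, ?_⟩
  have hperm : σ = ((labEquiv hα L).symm.trans tau).trans (labEquiv hα L) := by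
    ext x
    obtain ⟨i, rfl⟩ := (labEquiv hα L).surjective x
    rw [Equiv.trans_apply, Equiv.trans_apply, Equiv.symm_apply_apply]
    exact hσe i
  rw [hperm, Equiv.Perm.sign_symm_trans_trans, sign_tau]

/-- The even automorphisms. -/
def evenPart (B : Set (Finset α)) : Subgroup (Cfsg.setSystemAut B) :=
  (Equiv.Perm.sign.comp (Cfsg.setSystemAut B).subtype).ker

theorem mem_evenPart (σ : Cfsg.setSystemAut B) :
    σ ∈ evenPart B ↔ Equiv.Perm.sign (σ : Equiv.Perm α) = 1 := Iff.rfl

theorem index_evenPart (hα : Fintype.card α = 22) (hB : Cfsg.IsSteinerSystem 3 6 B) :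
    (evenPart B).index = 2 := by
  have hne : Nonempty (FrameT B) := by
    have : 0 < Nat.card (FrameT B) := by rw [card_frameT hα hB]; norm_num
    exact (Nat.card_pos_iff.1 this).1
  obtain ⟨⟨⟨a, o⟩, F⟩⟩ := hne
  obtain ⟨σ, hσ, -, -, -, -, -, hs⟩ := exists_odd hα hB F
  rw [evenPart, Subgroup.index_ker]
  have hr : (Equiv.Perm.sign.comp (Cfsg.setSystemAut B).subtype).range = ⊤ := by
    rw [eq_top_iff]
    intro u _
    rcases Int.units_eq_one_or u with rfl | rfl
    · exact one_mem _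
    · exact ⟨⟨σ, (mem_aut_iff σ).2 hσ⟩, hs⟩
  rw [hr, Subgroup.card_top]
  rw [Nat.card_eq_fintype_card]
  rfl

theorem card_evenPart (hα : Fintype.card α = 22) (hB : Cfsg.IsSteinerSystem 3 6 B) :
    Nat.card (evenPart B) = 443520 := by
  have h1 := Subgroup.card_mul_index (evenPart B)
  rw [index_evenPart hα hB, card_aut hα hB] at h1
  omega

theorem isMultiplyPretransitive_evenPart (hα : Fintype.card α = 22)
    (hB : Cfsg.IsSteinerSystem 3 6 B) : MulAction.IsMultiplyPretransitive (evenPart B) α 3 := by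
  refine ⟨fun x y => ?_⟩
  obtain ⟨g, hg⟩ := (isMultiplyPretransitive_three hα hB).exists_smul_eq x y
  have hgx : ∀ i, (g : Equiv.Perm α) (x i) = y i := fun i => congrArg (fun f => f i) hg
  rcases Int.units_eq_one_or (Equiv.Perm.sign (g : Equiv.Perm α)) with h1 | h1
  · refine ⟨⟨g, h1⟩, ?_⟩
    ext i
    exact hgx i
  · obtain ⟨a, o, F, a0, a1, a2⟩ := exists_frame_extend hα hB (x := x 0) (y := x 1) (z := x 2)
      (fun hh => by simpa using x.injective hh)
      (fun hh => by simpa using x.injective hh) (fun hh => by simpa using x.injective hh)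
    obtain ⟨σ, hσ, s0, s1, s2, -, -, hs⟩ := exists_odd hα hB F
    refine ⟨⟨g * ⟨σ, (mem_aut_iff σ).2 hσ⟩, ?_⟩, ?_⟩
    · rw [mem_evenPart, Subgroup.coe_mul, Equiv.Perm.sign_mul, h1, hs]
      rfl
    · ext i
      change (g : Equiv.Perm α) (σ (x i)) = y i
      rw [← hgx i]
      congr 1
      fin_cases i
      · exact a0 ▸ s0
      · exact a1 ▸ s1
      · exact a2 ▸ s2

end Cfsg.Agent.SporadicA.S36Swap
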