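import Mathlib
import Cfsg.Agent.SporadicA.Extend23
import Cfsg.Agent.SporadicA.Steiner24Aut
import Cfsg.Agent.SporadicA.DegreePrime

/-!
The automorphism group of a Steiner system `S(4, 7, 23)` is the stabiliser of the extra point in
the automorphism group of its canonical extension `S(5, 8, 24)`.
-/

set_option autoImplicit false

namespace Cfsg.Agent.SporadicA.Steiner23Aut

open Finset Cfsg.Agent.SporadicA.Extend23
open scoped Pointwise

variable {α : Type*} [Fintype α] [DecidableEq α] {B : Set (Finset α)}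

/-- The canonical extension. -/
def ext (B : Set (Finset α)) : Set (Finset (Option α)) := {u | u.card = 8 ∧ InCode B u}

theorem ext_steiner (hα : Fintype.card α = 23) (hB : Cfsg.IsSteinerSystem 4 7 B) :
    Cfsg.IsSteinerSystem 5 8 (ext B) :=
  isSteinerSystem_octads hα hB (fun _ hb _ hc hbc => Cfsg.Agent.S0355.result hα hB hb hc hbc)

theorem mem_ext (hα : Fintype.card α = 23) (hB : Cfsg.IsSteinerSystem 4 7 B) (b : Finset α) :
    b ∈ B ↔ insertNone b ∈ ext B :=
  mem_iff_insertNone_mem hα hB (fun _ hb _ hc hbc => Cfsg.Agent.S0355.result hα hB hb hc hbc) b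

omit [Fintype α] in
theorem mem_aut_iff (σ : Equiv.Perm α) :
    σ ∈ Cfsg.setSystemAut B ↔ ∀ b : Finset α, b.image σ ∈ B ↔ b ∈ B := by
  have hsm : ∀ b : Finset α, b.image σ = σ • b := fun b => rfl
  rw [MulAction.mem_stabilizer_iff]
  constructor
  · intro h b
    rw [hsm]
    conv_lhs => rw [← h]
    exact Set.smul_mem_smul_set_iff
  · intro h
    ext b
    rw [Set.mem_smul_set_iff_inv_smul_mem, ← h, hsm, smul_inv_smul]

omit [Fintype α] in
theorem image_insertNone (σ : Equiv.Perm α) (b : Finset α) :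
    (insertNone b).image (Equiv.optionCongr σ) = insertNone (b.image σ) := by
  ext x
  cases x with
  | none =>
    simp only [mem_image, none_mem_insertNone, iff_true]
    exact ⟨none, none_mem_insertNone, rfl⟩
  | some x =>
    simp only [mem_image, some_mem_insertNone]
    constructor
    · rintro ⟨a, ha, hax⟩
      cases a with
      | none => simp at hax
      | some a =>
        refine ⟨a, some_mem_insertNone.1 ha, ?_⟩
        simpa using hax
    · rintro ⟨a, ha, rfl⟩
      exact ⟨some a, some_mem_insertNone.2 ha, rfl⟩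

theorem inCode_image {σ : Equiv.Perm α} (hσ : ∀ b : Finset α, b.image σ ∈ B ↔ b ∈ B)
    {u : Finset (Option α)} (hu : InCode B u) : InCode B (u.image (Equiv.optionCongr σ)) := by
  induction hu with
  | empty => simpa using InCode.empty
  | univ =>
    rw [image_univ_equiv]
    exact InCode.univ
  | add b hb s _ ih =>
    rw [image_symmDiff _ _ (Equiv.injective _), image_insertNone]
    exact InCode.add _ ((hσ b).2 hb) _ ih

theorem optionCongr_mem {σ : Equiv.Perm α} (hσ : σ ∈ Cfsg.setSystemAut B) :
    (Equiv.optionCongr σ : Equiv.Perm (Option α)) ∈ Cfsg.setSystemAut (ext B) := by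
  have h1 := (mem_aut_iff σ).1 hσ
  have h2 := (mem_aut_iff σ⁻¹).1 (inv_mem hσ)
  rw [mem_aut_iff]
  have key : ∀ (τ : Equiv.Perm α), (∀ b : Finset α, b.image τ ∈ B ↔ b ∈ B) →
      ∀ u : Finset (Option α), u ∈ ext B → u.image (Equiv.optionCongr τ) ∈ ext B := by
    rintro τ hτ u ⟨hu8, hu⟩
    exact ⟨by rw [card_image_of_injective _ (Equiv.injective _), hu8], inCode_image hτ hu⟩
  intro u
  refine ⟨fun h => ?_, key σ h1 u⟩
  have h3 := key σ⁻¹ h2 _ h
  rw [image_image] at h3
  have h4 : (⇑(Equiv.optionCongr σ⁻¹) ∘ ⇑(Equiv.optionCongr σ) : Option α → Option α) = id := by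
    funext x
    cases x with
    | none => rfl
    | some x => simp
  rwa [h4, image_id] at h3

theorem removeNone_mem (hα : Fintype.card α = 23) (hB : Cfsg.IsSteinerSystem 4 7 B)
    {g : Equiv.Perm (Option α)} (hg : g ∈ Cfsg.setSystemAut (ext B)) (hn : g none = none) :
    ∃ σ : Equiv.Perm α, σ ∈ Cfsg.setSystemAut B ∧ Equiv.optionCongr σ = g := by
  obtain ⟨f, hf, hfB⟩ := iso_of_extension (mem_ext hα hB) (mem_ext hα hB) g
    ((Steiner24Aut.mem_aut g).1 hg) hn
  refine ⟨f, hfB, ?_⟩
  ext1 x
  cases x with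
  | none => rw [hn]; rfl
  | some x => exact hf x

theorem card_aut (hα : Fintype.card α = 23) (hB : Cfsg.IsSteinerSystem 4 7 B) :
    Nat.card (Cfsg.setSystemAut B) = 10200960 := by
  have hO : Fintype.card (Option α) = 24 := by rw [Fintype.card_option, hα]
  have hext := ext_steiner hα hB
  have h5 := Steiner24Aut.pretransitive5 hO hext
  have hc := Steiner24Aut.card_aut hO hext
  have h1 : MulAction.IsMultiplyPretransitive (Cfsg.setSystemAut (ext B)) (Option α) 1 :=
    MulAction.isMultiplyPretransitive_of_le (n := 5) (by norm_num) (by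
      rw [Nat.card_eq_fintype_card, hO]; norm_num)
  have htr : MulAction.IsPretransitive (Cfsg.setSystemAut (ext B)) (Option α) :=
    MulAction.is_one_pretransitive_iff.1 h1
  have hst := DegreePrime.card_stabilizer_of_isPretransitive
    (G := Cfsg.setSystemAut (ext B)) (none : Option α)
  have hcO : Nat.card (Option α) = 24 := by rw [Nat.card_eq_fintype_card, hO]
  rw [hc, hcO] at hst
  have hcong : Nat.card (Cfsg.setSystemAut B) =
      Nat.card (MulAction.stabilizer (Cfsg.setSystemAut (ext B)) (none : Option α)) := by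
    apply Nat.card_congr
    refine Equiv.ofBijective (fun σ => ⟨⟨Equiv.optionCongr (σ : Equiv.Perm α),
      optionCongr_mem σ.2⟩, rfl⟩) ⟨?_, ?_⟩
    · intro σ τ h
      have h2 : Equiv.optionCongr (σ : Equiv.Perm α) = Equiv.optionCongr (τ : Equiv.Perm α) :=
        congrArg (fun t => ((t : MulAction.stabilizer (Cfsg.setSystemAut (ext B))
          (none : Option α)) : Cfsg.setSystemAut (ext B)).1) h
      exact Subtype.ext (Equiv.optionCongr_injective h2)
    · rintro ⟨⟨g, hg⟩, hn⟩
      obtain ⟨σ, hσ, hσg⟩ := removeNone_mem hα hB hg hn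
      exact ⟨⟨σ, hσ⟩, Subtype.ext (Subtype.ext hσg)⟩
  rw [hcong]
  omega

theorem pretransitive4 (hα : Fintype.card α = 23) (hB : Cfsg.IsSteinerSystem 4 7 B) :
    MulAction.IsMultiplyPretransitive (Cfsg.setSystemAut B) α 4 := by
  have hO : Fintype.card (Option α) = 24 := by rw [Fintype.card_option, hα]
  have h5 := Steiner24Aut.pretransitive5 hO (ext_steiner hα hB)
  refine ⟨fun x y => ?_⟩
  have key : ∀ x : Fin 4 ↪ α, Function.Injective
      (Fin.cons none (fun i => some (x i)) : Fin 5 → Option α) := by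
    intro x
    rw [Fin.cons_injective_iff]
    refine ⟨?_, fun i j hij => x.injective (Option.some.inj hij)⟩
    rintro ⟨i, hi⟩
    cases hi
  obtain ⟨g, hg⟩ := h5.exists_smul_eq ⟨_, key x⟩ ⟨_, key y⟩
  have hgi : ∀ i : Fin 5, (g : Equiv.Perm (Option α))
      ((Fin.cons none (fun i => some (x i)) : Fin 5 → Option α) i) =
      (Fin.cons none (fun i => some (y i)) : Fin 5 → Option α) i :=
    fun i => congrArg (fun f => f i) hg
  obtain ⟨σ, hσ, hσg⟩ := removeNone_mem hα hB g.2 (hgi 0)
  refine ⟨⟨σ, hσ⟩, ?_⟩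
  ext i
  change σ (x i) = y i
  have h1 := hgi i.succ
  rw [← hσg, Fin.cons_succ, Fin.cons_succ] at h1
  exact Option.some.inj h1

end Cfsg.Agent.SporadicA.Steiner23Aut
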