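import Mathlib
import Cfsg.Prelude.Def_Spor_Mathieu
import Cfsg.Prelude.Def_Sporadic
import Cfsg.Agent.S0351
import Cfsg.Agent.S0363
import Cfsg.Agent.S0369
import Cfsg.Agent.S0376
import Cfsg.Agent.S0378
import Cfsg.Agent.S0379
import Cfsg.Agent.S0407
import Cfsg.Agent.S0409
import Cfsg.Agent.S0410
import Cfsg.Agent.S0412
import Cfsg.Agent.SporadicA.Steiner23Aut
import Cfsg.Agent.SporadicA.S36Swap

/-!
Recognition of the Mathieu groups M₂₂, M₂₃, M₂₄ from a faithful action on a Steiner system: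

* `isoM24_of_steiner` : order 244823040, faithful, preserving an `S(5, 8, 24)`;
* `isoM23_of_steiner` : order 10200960, faithful, preserving an `S(4, 7, 23)`;
* `isoM22_of_steiner` : simple of order 443520, faithful, preserving an `S(3, 6, 22)`.
-/

set_option autoImplicit false

namespace Cfsg.Agent.SporadicA.MathieuRecog

open Finset Function MulAction
open scoped Pointwise

/-! ### Generalities -/

/-- A family preserved in one direction by a group action is preserved by its permutations. -/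
theorem toPerm_mem {G : Type*} [Group G] {α : Type*} [Fintype α] [DecidableEq α] [MulAction G α]
    {B : Set (Finset α)} (hinv : ∀ g : G, ∀ b ∈ B, b.image (fun x => g • x) ∈ B) (g : G) :
    MulAction.toPerm g ∈ Cfsg.setSystemAut B := by
  rw [Steiner23Aut.mem_aut_iff]
  intro b
  constructor
  · intro h
    have h1 := hinv g⁻¹ _ h
    rw [image_image] at h1
    have h2 : ((fun x : α => g⁻¹ • x) ∘ ⇑(MulAction.toPerm g : Equiv.Perm α)) = id := by
      funext x
      simp
    rwa [h2, image_id] at h1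
  · intro h
    exact hinv g b h

/-- The homomorphism to the automorphism group of an invariant family. -/
theorem exists_hom {G : Type*} [Group G] {α : Type*} [Fintype α] [DecidableEq α] [MulAction G α]
    [FaithfulSMul G α] {B : Set (Finset α)}
    (hinv : ∀ g : G, ∀ b ∈ B, b.image (fun x => g • x) ∈ B) :
    ∃ f : G →* Cfsg.setSystemAut B, Injective f ∧
      ∀ g x, (f g : Equiv.Perm α) x = g • x := by
  refine ⟨(MulAction.toPermHom G α).codRestrict _ (toPerm_mem hinv), ?_, fun g x => rfl⟩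
  intro g h hgh
  apply FaithfulSMul.eq_of_smul_eq_smul (α := α)
  intro x
  have h1 := congrArg (fun t : Cfsg.setSystemAut B => (t : Equiv.Perm α) x) hgh
  exact h1

/-- An injective homomorphism between finite groups of the same order is an isomorphism. -/
theorem mulEquiv_of_injective {G H : Type*} [Group G] [Group H] [Finite H] (f : G →* H)
    (hf : Injective f) (hcard : Nat.card G = Nat.card H) : Nonempty (G ≃* H) := by
  have : Finite G := Finite.of_injective f hf
  exact ⟨MulEquiv.ofBijective f ((Nat.bijective_iff_injective_and_card f).2 ⟨hf, hcard⟩)⟩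

/-- Isomorphic families have automorphism groups conjugate by the bijection. -/
theorem map_aut {α β : Type*} [DecidableEq α] [DecidableEq β] {B : Set (Finset α)}
    {B' : Set (Finset β)} (e : α ≃ β) (he : (fun b => b.image e) '' B = B') :
    (Cfsg.setSystemAut B).map (Equiv.permCongrHom e).toMonoidHom = Cfsg.setSystemAut B' := by
  have hB : ∀ b : Finset α, b.image e ∈ B' ↔ b ∈ B := by
    intro b
    rw [← he]
    constructor
    · rintro ⟨c, hc, hcb⟩
      rwa [← image_injective e.injective hcb]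
    · intro h
      exact ⟨b, h, rfl⟩
  ext τ
  rw [Subgroup.mem_map]
  constructor
  · rintro ⟨σ, hσ, rfl⟩
    rw [Steiner23Aut.mem_aut_iff] at hσ ⊢
    intro b
    have h1 : b = (b.image e.symm).image e := by
      rw [image_image, Equiv.self_comp_symm, image_id]
    have h2 : b.image (⇑((Equiv.permCongrHom e).toMonoidHom σ)) =
        ((b.image e.symm).image σ).image e := by
      rw [image_image, image_image]
      rfl
    rw [h2, hB, hσ, ← hB, ← h1]
  · intro hτ
    refine ⟨(Equiv.permCongrHom e).symm τ, ?_, (Equiv.permCongrHom e).apply_symm_apply τ⟩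
    rw [Steiner23Aut.mem_aut_iff] at hτ ⊢
    intro b
    have h2 : (b.image ((Equiv.permCongrHom e).symm τ)).image e = (b.image e).image τ := by
      rw [image_image, image_image]
      apply image_congr
      intro x _
      exact e.apply_symm_apply _
    rw [← hB, h2, hτ, hB]

theorem autEquiv {α β : Type*} [DecidableEq α] [DecidableEq β] {B : Set (Finset α)}
    {B' : Set (Finset β)} (h : Cfsg.SetSystemIso B B') :
    Nonempty (Cfsg.setSystemAut B ≃* Cfsg.setSystemAut B') := by
  obtain ⟨e, he⟩ := h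
  have h1 := map_aut e he
  exact ⟨((Equiv.permCongrHom e).subgroupMap (Cfsg.setSystemAut B)).trans
    (MulEquiv.subgroupCongr h1)⟩

/-! ### M₂₄ -/

theorem isoM24_of_steiner {G : Type*} [Group G] {α : Type*} [Fintype α] [DecidableEq α]
    [MulAction G α] [FaithfulSMul G α] (hα : Fintype.card α = 24)
    (hG : Nat.card G = 244823040) {B : Set (Finset α)} (hB : Cfsg.IsSteinerSystem 5 8 B)
    (hinv : ∀ g : G, ∀ b ∈ B, b.image (fun x => g • x) ∈ B) : Nonempty (G ≃* Cfsg.M24) := by
  obtain ⟨f, hf, -⟩ := exists_hom hinv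
  obtain ⟨e1⟩ := mulEquiv_of_injective f hf (by
    rw [hG]; exact (Cfsg.Agent.S0412.result hα hB).1.2.symm)
  have h2 : Cfsg.SetSystemIso B Cfsg.octads :=
    Cfsg.Agent.S0407.result hα (by simp [Cfsg.GolayPt]) hB Cfsg.Agent.S0363.result
  obtain ⟨e2⟩ := autEquiv h2
  exact ⟨(e1.trans e2).trans (MulEquiv.subgroupCongr Cfsg.Agent.S0369.result.symm)⟩

/-! ### M₂₃ -/

/-- The points different from `none`. -/
abbrev Pt23 : Type := {a : Cfsg.GolayPt // a ≠ none}

/-- The derived system of the octads at `none`. -/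
def B23 : Set (Finset Pt23) :=
  {b' | ∃ b ∈ Cfsg.octads, none ∈ b ∧ b' = Finset.subtype (fun a => a ≠ none) b}

theorem B23_steiner : Cfsg.IsSteinerSystem 4 7 B23 :=
  Cfsg.Agent.S0351.result (t := 4) (k := 7) Cfsg.Agent.S0363.result none

theorem card_Pt23 : Fintype.card Pt23 = 23 := by
  rw [Fintype.card_subtype_compl, Fintype.card_subtype_eq]
  simp [Cfsg.GolayPt]

theorem mem_M23_iff (g : Equiv.Perm Cfsg.GolayPt) :
    g ∈ Cfsg.Spor.M23 ↔ g ∈ Cfsg.M24 ∧ g none = none := by
  unfold Cfsg.Spor.M23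
  rw [Subgroup.mem_inf, MulAction.mem_stabilizer_iff]
  rfl

theorem card_M23 : Nat.card Cfsg.Spor.M23 = 10200960 := by
  rw [← Cfsg.Agent.S0376.result none]
  apply Nat.card_congr
  refine ⟨fun g => ⟨⟨g.1, ((mem_M23_iff _).1 g.2).1⟩, ((mem_M23_iff _).1 g.2).2⟩,
    fun g => ⟨g.1.1, (mem_M23_iff _).2 ⟨g.1.2, g.2⟩⟩, fun g => rfl, fun g => rfl⟩

theorem perm_ne {g : Equiv.Perm Cfsg.GolayPt} {q : Cfsg.GolayPt} (hg : g q = q)
    {a : Cfsg.GolayPt} (ha : a ≠ q) : g a ≠ q := fun h => ha (g.injective (h.trans hg.symm))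

/-- The action of `M23` on the 23 points. -/
@[reducible] def act23 : MulAction Cfsg.Spor.M23 Pt23 where
  smul g a := ⟨g.1 a.1, perm_ne ((mem_M23_iff _).1 g.2).2 a.2⟩
  one_smul a := rfl
  mul_smul g h a := rfl

theorem act23_faithful : @FaithfulSMul Cfsg.Spor.M23 Pt23 act23.toSMul := by
  letI := act23
  refine ⟨fun {g h} hgh => ?_⟩
  apply Subtype.ext
  apply Equiv.ext
  intro x
  by_cases hx : x = none
  · rw [hx, ((mem_M23_iff _).1 g.2).2, ((mem_M23_iff _).1 h.2).2]
  · exact congrArg Subtype.val (hgh ⟨x, hx⟩)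

theorem image_mem_octads {g : Equiv.Perm Cfsg.GolayPt} (hg : g ∈ Cfsg.M24)
    {b : Finset Cfsg.GolayPt} (hb : b ∈ Cfsg.octads) : b.image g ∈ Cfsg.octads := by
  rw [Cfsg.Agent.S0369.result, Steiner23Aut.mem_aut_iff] at hg
  exact (hg b).2 hb

theorem act23_inv (g : Cfsg.Spor.M23) (b : Finset Pt23) (hb : b ∈ B23) :
    b.image (fun x => act23.toSMul.smul g x) ∈ B23 := by
  obtain ⟨c, hc, hnc, rfl⟩ := hb
  have hg := (mem_M23_iff _).1 g.2
  refine ⟨c.image g.1, image_mem_octads hg.1 hc, ?_, ?_⟩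
  · rw [mem_image]
    exact ⟨none, hnc, hg.2⟩
  · ext ⟨x, hx⟩
    simp only [mem_image, mem_subtype]
    constructor
    · rintro ⟨⟨y, hy⟩, hyc, hyx⟩
      exact ⟨y, hyc, congrArg Subtype.val hyx⟩
    · rintro ⟨y, hyc, hyx⟩
      refine ⟨⟨y, ?_⟩, hyc, Subtype.ext hyx⟩
      rintro rfl
      exact hx (hyx.symm.trans hg.2)

theorem M23_equiv : Nonempty (Cfsg.Spor.M23 ≃* Cfsg.setSystemAut B23) := by
  letI := act23
  haveI := act23_faithful
  obtain ⟨f, hf, -⟩ := exists_hom (G := Cfsg.Spor.M23) (B := B23) act23_inv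
  exact mulEquiv_of_injective f hf (by
    rw [card_M23]; exact (Steiner23Aut.card_aut card_Pt23 B23_steiner).symm)

theorem isoM23_of_steiner {G : Type*} [Group G] {α : Type*} [Fintype α] [DecidableEq α]
    [MulAction G α] [FaithfulSMul G α] (hα : Fintype.card α = 23)
    (hG : Nat.card G = 10200960) {B : Set (Finset α)} (hB : Cfsg.IsSteinerSystem 4 7 B)
    (hinv : ∀ g : G, ∀ b ∈ B, b.image (fun x => g • x) ∈ B) : Cfsg.Spor.IsoM23 G := by
  obtain ⟨f, hf, -⟩ := exists_hom hinv
  obtain ⟨e1⟩ := mulEquiv_of_injective f hf (by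
    rw [hG]; exact (Steiner23Aut.card_aut hα hB).symm)
  obtain ⟨e2⟩ := autEquiv (Cfsg.Agent.S0409.result hα card_Pt23 hB B23_steiner)
  obtain ⟨e3⟩ := M23_equiv
  exact ⟨(e1.trans e2).trans e3.symm⟩

/-! ### M₂₂ -/

theorem mem_M22_iff (g : Equiv.Perm Cfsg.GolayPt) :
    g ∈ Cfsg.Spor.M22 ↔ g ∈ Cfsg.M24 ∧ g none = none ∧ g (some 0) = some 0 := by
  unfold Cfsg.Spor.M22
  rw [Subgroup.mem_inf, MulAction.mem_stabilizer_iff, mem_M23_iff, and_assoc]
  rfl

/-- The concrete `M22` and the two-point stabiliser in `M24`. -/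
def M22_mulEquiv : Cfsg.Spor.M22 ≃* ↥(MulAction.stabilizer Cfsg.M24 (none : Cfsg.GolayPt) ⊓
    MulAction.stabilizer Cfsg.M24 (some 0 : Cfsg.GolayPt)) where
  toFun g := ⟨⟨g.1, ((mem_M22_iff _).1 g.2).1⟩, ((mem_M22_iff _).1 g.2).2.1,
    ((mem_M22_iff _).1 g.2).2.2⟩
  invFun g := ⟨g.1.1, (mem_M22_iff _).2 ⟨g.1.2, g.2.1, g.2.2⟩⟩
  left_inv _ := rfl
  right_inv _ := rfl
  map_mul' _ _ := rfl

theorem card_M22 : Nat.card Cfsg.Spor.M22 = 443520 := by
  rw [Nat.card_congr M22_mulEquiv.toEquiv]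
  exact Cfsg.Agent.S0378.result none (some 0) (by simp)

theorem simple_M22 : IsSimpleGroup Cfsg.Spor.M22 := by
  have := Cfsg.Agent.S0379.result none (some 0) (by simp)
  exact (MulEquiv.isSimpleGroup_congr M22_mulEquiv).2 this

/-- The point `some 0` of `Pt23`. -/
def zero23 : Pt23 := ⟨some 0, by simp⟩

/-- The points different from `none` and `some 0`. -/
abbrev Pt22 : Type := {a : Pt23 // a ≠ zero23}

/-- The doubly derived system. -/
def B22 : Set (Finset Pt22) :=
  {b' | ∃ b ∈ B23, zero23 ∈ b ∧ b' = Finset.subtype (fun a => a ≠ zero23) b}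

theorem B22_steiner : Cfsg.IsSteinerSystem 3 6 B22 :=
  Cfsg.Agent.S0351.result (t := 3) (k := 6) B23_steiner zero23

theorem card_Pt22 : Fintype.card Pt22 = 22 := by
  rw [Fintype.card_subtype_compl, Fintype.card_subtype_eq, card_Pt23]

theorem M22_le : Cfsg.Spor.M22 ≤ Cfsg.Spor.M23 := inf_le_left

/-- Restriction of an element of `M22` to `Pt23`. -/
def res23 (g : Cfsg.Spor.M22) (a : Pt23) : Pt23 := act23.toSMul.smul ⟨g.1, M22_le g.2⟩ a

theorem res23_ne (g : Cfsg.Spor.M22) {a : Pt23} (ha : a ≠ zero23) : res23 g a ≠ zero23 := by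
  intro h
  apply ha
  have h1 : g.1 a.1 = some 0 := congrArg Subtype.val h
  apply Subtype.ext
  exact g.1.injective (h1.trans ((mem_M22_iff _).1 g.2).2.2.symm)

/-- The action of `M22` on the 22 points. -/
@[reducible] def act22 : MulAction Cfsg.Spor.M22 Pt22 where
  smul g a := ⟨res23 g a.1, res23_ne g a.2⟩
  one_smul a := rfl
  mul_smul g h a := rfl

theorem act22_faithful : @FaithfulSMul Cfsg.Spor.M22 Pt22 act22.toSMul := by
  letI := act22
  refine ⟨fun {g h} hgh => ?_⟩
  apply Subtype.ext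
  apply Equiv.ext
  intro x
  by_cases hx : x = none
  · rw [hx, ((mem_M22_iff _).1 g.2).2.1, ((mem_M22_iff _).1 h.2).2.1]
  · by_cases hx0 : x = some 0
    · rw [hx0, ((mem_M22_iff _).1 g.2).2.2, ((mem_M22_iff _).1 h.2).2.2]
    · have h1 := hgh ⟨⟨x, hx⟩, fun h => hx0 (congrArg Subtype.val h)⟩
      exact congrArg (fun t : Pt22 => t.1.1) h1

theorem act22_inv (g : Cfsg.Spor.M22) (b : Finset Pt22) (hb : b ∈ B22) :
    b.image (fun x => act22.toSMul.smul g x) ∈ B22 := by
  obtain ⟨c, hc, hnc, rfl⟩ := hb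
  have hg := (mem_M22_iff _).1 g.2
  have h0 : res23 g zero23 = zero23 := Subtype.ext hg.2.2
  refine ⟨c.image (res23 g), act23_inv ⟨g.1, M22_le g.2⟩ c hc, ?_, ?_⟩
  · rw [mem_image]
    exact ⟨zero23, hnc, h0⟩
  · ext ⟨x, hx⟩
    simp only [mem_image, mem_subtype]
    constructor
    · rintro ⟨⟨y, hy⟩, hyc, hyx⟩
      exact ⟨y, hyc, congrArg Subtype.val hyx⟩
    · rintro ⟨y, hyc, hyx⟩
      refine ⟨⟨y, ?_⟩, hyc, Subtype.ext hyx⟩
      rintro rfl
      exact hx (hyx.symm.trans h0)

/-- A simple group of order 443520 acting faithfully on an `S(3, 6, 22)` is the group of even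
automorphisms. -/
theorem equiv_evenPart {G : Type*} [Group G] {α : Type*} [Fintype α] [DecidableEq α]
    [MulAction G α] [FaithfulSMul G α] (hα : Fintype.card α = 22) (hs : IsSimpleGroup G)
    (hG : Nat.card G = 443520) {B : Set (Finset α)} (hB : Cfsg.IsSteinerSystem 3 6 B)
    (hinv : ∀ g : G, ∀ b ∈ B, b.image (fun x => g • x) ∈ B) :
    Nonempty (G ≃* S36Swap.evenPart B) := by
  obtain ⟨f, hf, -⟩ := exists_hom hinv
  have hfin : Finite G := Nat.finite_of_card_ne_zero (by rw [hG]; norm_num)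
  let s : G →* ℤˣ := Equiv.Perm.sign.comp ((Cfsg.setSystemAut B).subtype.comp f)
  have hker : s.ker = ⊤ := by
    rcases hs.eq_bot_or_eq_top_of_normal s.ker inferInstance with h | h
    · exfalso
      have hinj : Injective s := (MonoidHom.ker_eq_bot_iff s).1 h
      have h1 := Nat.card_le_card_of_injective s hinj
      rw [hG, Nat.card_eq_fintype_card (α := ℤˣ)] at h1
      have h2 : Fintype.card ℤˣ = 2 := rfl
      omega
    · exact h
  have hmem : ∀ g, f g ∈ S36Swap.evenPart B := by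
    intro g
    have : g ∈ s.ker := by rw [hker]; trivial
    exact this
  apply mulEquiv_of_injective (f.codRestrict _ hmem)
  · intro g h hgh
    exact hf (congrArg Subtype.val hgh)
  · rw [hG, S36Swap.card_evenPart hα hB]

theorem evenPart_equiv {α β : Type*} [Fintype α] [DecidableEq α] [Fintype β] [DecidableEq β]
    {B : Set (Finset α)} {B' : Set (Finset β)} (h : Cfsg.SetSystemIso B B') :
    Nonempty (S36Swap.evenPart B ≃* S36Swap.evenPart B') := by
  obtain ⟨e, he⟩ := h
  have h1 := map_aut e he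
  let φ : Cfsg.setSystemAut B ≃* Cfsg.setSystemAut B' :=
    ((Equiv.permCongrHom e).subgroupMap (Cfsg.setSystemAut B)).trans (MulEquiv.subgroupCongr h1)
  have hφ : (S36Swap.evenPart B).map φ.toMonoidHom = S36Swap.evenPart B' := by
    have hs : ∀ σ : Cfsg.setSystemAut B, Equiv.Perm.sign (φ σ : Equiv.Perm β) =
        Equiv.Perm.sign (σ : Equiv.Perm α) := by
      intro σ
      change Equiv.Perm.sign ((e.symm.trans (σ : Equiv.Perm α)).trans e) = _
      exact Equiv.Perm.sign_symm_trans_trans _ _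
    ext τ
    rw [Subgroup.mem_map]
    constructor
    · rintro ⟨σ, hσ, rfl⟩
      rw [S36Swap.mem_evenPart] at hσ ⊢
      rw [← hσ]
      exact hs σ
    · intro hτ
      refine ⟨φ.symm τ, ?_, φ.apply_symm_apply τ⟩
      rw [S36Swap.mem_evenPart] at hτ ⊢
      rw [← hs, φ.apply_symm_apply]
      exact hτ
  exact ⟨(φ.subgroupMap (S36Swap.evenPart B)).trans (MulEquiv.subgroupCongr hφ)⟩

theorem M22_equiv : Nonempty (Cfsg.Spor.M22 ≃* S36Swap.evenPart B22) := by
  letI := act22
  haveI := act22_faithful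
  exact equiv_evenPart card_Pt22 simple_M22 card_M22 B22_steiner act22_inv

theorem isoM22_of_steiner {G : Type*} [Group G] {α : Type*} [Fintype α] [DecidableEq α]
    [MulAction G α] [FaithfulSMul G α] (hα : Fintype.card α = 22) (hs : IsSimpleGroup G)
    (hG : Nat.card G = 443520) {B : Set (Finset α)} (hB : Cfsg.IsSteinerSystem 3 6 B)
    (hinv : ∀ g : G, ∀ b ∈ B, b.image (fun x => g • x) ∈ B) : Cfsg.Spor.IsoM22 G := by
  obtain ⟨e1⟩ := equiv_evenPart hα hs hG hB hinv
  obtain ⟨e2⟩ := evenPart_equiv (Cfsg.Agent.S0410.result hα card_Pt22 hB B22_steiner)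
  obtain ⟨e3⟩ := M22_equiv
  exact ⟨(e1.trans e2).trans e3.symm⟩

end Cfsg.Agent.SporadicA.MathieuRecog
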