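import Mathlib
import Cfsg.Agent.SporadicA.MathieuRecog
import Cfsg.Agent.SporadicA.TwoPointStab

/-!
From a `t`-transitive group of degree `t + 19` (`t = 3, 4, 5`) with pointwise stabilisers of `t`
points of order 48 in which all involutions have `t + 3` fixed points and there are no elements of
order 4, to a Steiner system `S(t, t + 3, t + 19)`, and hence to M₂₂, M₂₃, M₂₄.
-/

set_option autoImplicit false

namespace Cfsg.Agent.SporadicA.WittSteiner

open Finset Function MulAction

variable {G Ω : Type*} [Group G] [Fintype Ω] [DecidableEq Ω] [MulAction G Ω]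

/-- Fixed points of an element. -/
def fix (Ω : Type*) [Fintype Ω] [DecidableEq Ω] [MulAction G Ω] (g : G) : Finset Ω :=
  univ.filter fun x => g • x = x

theorem mem_fix {g : G} {x : Ω} : x ∈ fix Ω g ↔ g • x = x := by
  simp [fix]

theorem fix_pow_subset (g : G) (n : ℕ) : fix Ω g ⊆ fix Ω (g ^ n) := by
  intro x hx
  rw [mem_fix] at hx ⊢
  induction n with
  | zero => simp
  | succ n ih => rw [pow_succ, mul_smul, hx, ih]

/-- In a group of order 16 fixing `t` points every element squares to 1, if elements of order 4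
fix fewer than `t` points. -/
theorem sq_eq_one [Finite G] {t : ℕ} (h4 : ∀ g : G, orderOf g = 4 → (fix Ω g).card < t)
    {g : G} (hg : g ^ 16 = 1) (ht : t ≤ (fix Ω g).card) : g ^ 2 = 1 := by
  by_contra hne
  have hd : orderOf g ∣ 2 ^ 4 := orderOf_dvd_of_pow_eq_one hg
  obtain ⟨m, hm, hgm⟩ := (Nat.dvd_prime_pow Nat.prime_two).1 hd
  have hm2 : 2 ≤ m := by
    by_contra hlt
    apply hne
    apply orderOf_dvd_iff_pow_eq_one.1
    rw [hgm]
    have h1 : m ≤ 1 := by omega
    calc 2 ^ m ∣ 2 ^ 1 := pow_dvd_pow 2 h1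
      _ = 2 := by norm_num
  have h5 : orderOf (g ^ 2 ^ (m - 2)) = 4 := by
    rw [orderOf_pow_of_dvd (by positivity) (by rw [hgm]; exact pow_dvd_pow 2 (by omega)), hgm,
      Nat.pow_div (by omega) (by norm_num)]
    have : m - (m - 2) = 2 := by omega
    rw [this]
  have h6 := h4 _ h5
  have h7 := card_le_card (fix_pow_subset (Ω := Ω) g (2 ^ (m - 2)))
  omega

/-- Common fixed points of a subgroup. -/
noncomputable def cfix (Ω : Type*) [Fintype Ω] [DecidableEq Ω] [MulAction G Ω] (T : Subgroup G) : Finset Ω :=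
  open Classical in univ.filter fun x => ∀ g ∈ T, g • x = x

theorem mem_cfix {T : Subgroup G} {x : Ω} : x ∈ cfix Ω T ↔ ∀ g ∈ T, g • x = x := by
  simp [cfix]

theorem cfix_subset {T : Subgroup G} {g : G} (hg : g ∈ T) : cfix Ω T ⊆ fix Ω g := by
  intro x hx
  rw [mem_cfix] at hx
  rw [mem_fix]
  exact hx g hg

/-- The key step: an elementary abelian group `T` of order 16 all of whose involutions have
`t + 3` fixed points. -/
theorem fix_eq_cfix [Finite G] {t : ℕ} (hΩ : Fintype.card Ω = t + 19) (T : Subgroup G)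
    (hT : Nat.card T = 16) (hsq : ∀ g ∈ T, g ^ 2 = 1)
    (h2 : ∀ g ∈ T, g ≠ 1 → (fix Ω g).card = t + 3) (hF : t ≤ (cfix Ω T).card)
    {u : G} (hu : u ∈ T) (hu1 : u ≠ 1) : fix Ω u = cfix Ω T := by
  classical
  have hcomm : ∀ a ∈ T, ∀ b ∈ T, a * b = b * a := by
    intro a ha b hb
    have e1 : a * a = 1 := by rw [← pow_two]; exact hsq a ha
    have e2 : b * b = 1 := by rw [← pow_two]; exact hsq b hb
    have e3 : (a * b) * (a * b) = 1 := by rw [← pow_two]; exact hsq _ (mul_mem ha hb)
    have e4 : a⁻¹ = a := inv_eq_of_mul_eq_one_left e1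
    have e5 : b⁻¹ = b := inv_eq_of_mul_eq_one_left e2
    have e6 : (a * b)⁻¹ = a * b := inv_eq_of_mul_eq_one_left e3
    rw [← e6, mul_inv_rev, e4, e5]
  -- parity
  have hpar : (cfix Ω T).card ≡ t + 19 [MOD 2] := by
    have : Fact (Nat.Prime 2) := ⟨Nat.prime_two⟩
    have hp : IsPGroup 2 T := IsPGroup.of_card (n := 4) (by rw [hT]; norm_num)
    have h1 := hp.card_modEq_card_fixedPoints Ω
    have h3 : Nat.card (fixedPoints T Ω) = (cfix Ω T).card := by
      rw [← Set.ncard_coe_finset (cfix Ω T)]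
      change (fixedPoints T Ω).ncard = _
      congr 1
      ext x
      simp only [mem_coe, mem_cfix]
      constructor
      · intro h g hg
        exact h ⟨g, hg⟩
      · intro h g
        exact h g g.2
    rw [h3, Nat.card_eq_fintype_card, hΩ] at h1
    exact h1.symm
  have hsub := cfix_subset (Ω := Ω) hu
  have hle := card_le_card hsub
  rw [h2 u hu hu1] at hle
  have hcases : (cfix Ω T).card = t + 1 ∨ (cfix Ω T).card = t + 3 := by
    have h5 : (cfix Ω T).card % 2 = (t + 19) % 2 := hpar
    omega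
  rcases hcases with hc | hc
  · exfalso
    -- for a nontrivial `g` and `y ∈ fix g \ F`, the stabiliser of `y` has index at most 2 and
    -- its nontrivial elements have the same fixed points as `g`
    have key : ∀ g ∈ T, g ≠ 1 → ∃ y, y ∈ fix Ω g ∧ (stabilizer T y).index ≤ 2 ∧
        ∀ w ∈ T, w ≠ 1 → w • y = y → fix Ω w = fix Ω g := by
      intro g hg hg1
      have hsub := cfix_subset (Ω := Ω) hg
      have hd : (fix Ω g \ cfix Ω T).card = 2 := by
        rw [card_sdiff_of_subset hsub, h2 g hg hg1, hc]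
        omega
      obtain ⟨y, z, hyz, hset⟩ := card_eq_two.1 hd
      have hy : y ∈ fix Ω g \ cfix Ω T := by rw [hset]; simp
      have hinv : ∀ w ∈ T, ∀ x ∈ fix Ω g \ cfix Ω T, w • x ∈ fix Ω g \ cfix Ω T := by
        intro w hw x hx
        rw [mem_sdiff, mem_fix, mem_cfix] at hx ⊢
        constructor
        · rw [← mul_smul, hcomm g hg w hw, mul_smul, hx.1]
        · intro h
          apply hx.2
          intro v hv
          have h6 := h v hv
          rw [← mul_smul, hcomm v hv w hw, mul_smul] at h6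
          exact smul_left_cancel w h6
      refine ⟨y, (mem_sdiff.1 hy).1, ?_, ?_⟩
      · rw [index_stabilizer]
        have horb : orbit T y ⊆ ((fix Ω g \ cfix Ω T : Finset Ω) : Set Ω) := by
          rintro _ ⟨w, rfl⟩
          exact mem_coe.2 (hinv w w.2 y hy)
        have h7 := Set.ncard_le_ncard horb (Finset.finite_toSet _)
        rw [Set.ncard_coe_finset, hd] at h7
        exact h7
      · intro w hw hw1 hwy
        have hsub2 : fix Ω g ⊆ fix Ω w := by
          intro x hx
          by_cases hxF : x ∈ cfix Ω T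
          · exact cfix_subset hw hxF
          · have hx' : x ∈ fix Ω g \ cfix Ω T := mem_sdiff.2 ⟨hx, hxF⟩
            rw [mem_fix]
            have hx'' := hx'
            rw [hset, mem_insert, mem_singleton] at hx''
            rcases hx'' with rfl | rfl
            · exact hwy
            · have h8 := hinv w hw x hx'
              rw [hset, mem_insert, mem_singleton] at h8
              rcases h8 with h8 | h8
              · exfalso
                apply hyz
                apply smul_left_cancel w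
                rw [hwy, h8]
              · exact h8
        symm
        apply eq_of_subset_of_card_le hsub2
        rw [h2 g hg hg1, h2 w hw hw1]
    obtain ⟨y, hyu, hyi, hyw⟩ := key u hu hu1
    -- an element of `T` moving `y`
    obtain ⟨v, hv, hvy⟩ : ∃ v ∈ T, v • y ≠ y := by
      by_contra hcon
      push Not at hcon
      have hstab : stabilizer T y = ⊤ := by
        rw [eq_top_iff]
        rintro ⟨w, hw⟩ -
        exact hcon w hw
      -- then all nontrivial elements have the same fixed points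
      have hall : ∀ w ∈ T, w ≠ 1 → fix Ω w = fix Ω u := fun w hw hw1 => hyw w hw hw1 (hcon w hw)
      have h9 : fix Ω u ⊆ cfix Ω T := by
        intro x hx
        rw [mem_cfix]
        intro w hw
        by_cases hw1 : w = 1
        · rw [hw1, one_smul]
        · have := hall w hw hw1
          rw [← this, mem_fix] at hx
          exact hx
      have h10 := card_le_card h9
      rw [h2 u hu hu1, hc] at h10
      omega
    have hv1 : v ≠ 1 := by
      rintro rfl
      exact hvy (one_smul G y)
    obtain ⟨z, hzv, hzi, hzw⟩ := key v hv hv1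
    have hinf : (stabilizer T y ⊓ stabilizer T z).index ≤ 4 :=
      Subgroup.index_inf_le.trans (Nat.mul_le_mul hyi hzi)
    obtain ⟨w, hw, hw1⟩ : ∃ w ∈ stabilizer T y ⊓ stabilizer T z, w ≠ 1 := by
      by_contra hcon
      push Not at hcon
      have hbot : stabilizer T y ⊓ stabilizer T z = ⊥ := by
        rw [eq_bot_iff]
        intro w hw
        exact Subgroup.mem_bot.2 (hcon w hw)
      rw [hbot, Subgroup.index_bot, hT] at hinf
      omega
    have hw1' : (w : G) ≠ 1 := fun h => hw1 (Subtype.ext h)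
    have e1 := hyw w w.2 hw1' hw.1
    have e2 := hzw w w.2 hw1' hw.2
    rw [e1] at e2
    rw [e2, mem_fix] at hyu
    exact hvy hyu
  · exact (eq_of_subset_of_card_le hsub (by rw [hc, h2 u hu hu1])).symm

/-- All involutions fixing the same `t` points have the same fixed points. -/
theorem fix_eq_fix [Finite G] {t : ℕ} (hΩ : Fintype.card Ω = t + 19)
    (h48 : ∀ s : Finset Ω, s.card = t → Nat.card (fixingSubgroup G (s : Set Ω)) = 48)
    (h2 : ∀ g : G, orderOf g = 2 → t ≤ (fix Ω g).card → (fix Ω g).card = t + 3)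
    (h4 : ∀ g : G, orderOf g = 4 → (fix Ω g).card < t)
    {s : Finset Ω} (hs : s.card = t) {u v : G} (hu : orderOf u = 2) (hv : orderOf v = 2)
    (hsu : s ⊆ fix Ω u) (hsv : s ⊆ fix Ω v) : fix Ω u = fix Ω v := by
  classical
  have : Fact (Nat.Prime 2) := ⟨Nat.prime_two⟩
  set K := fixingSubgroup G (s : Set Ω) with hK
  have hKc : Nat.card K = 48 := h48 s hs
  have hmemK : ∀ g : G, g ∈ K ↔ s ⊆ fix Ω g := by
    intro g
    rw [hK, mem_fixingSubgroup_iff]
    constructor
    · intro h x hx
      rw [mem_fix]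
      exact h x hx
    · intro h x hx
      exact mem_fix.1 (h hx)
  -- Sylow subgroups of `K`
  have key : ∀ w : G, orderOf w = 2 → s ⊆ fix Ω w → ∃ P : Sylow 2 K, (P : Subgroup K).index = 3 ∧
      ∀ g : K, g ∈ (P : Subgroup K) → g ≠ 1 → fix Ω (g : G) = fix Ω w := by
    intro w hw hsw
    have hwK : w ∈ K := (hmemK w).2 hsw
    have hz : IsPGroup 2 (Subgroup.zpowers (⟨w, hwK⟩ : K)) := by
      apply IsPGroup.of_card (n := 1)
      rw [Nat.card_zpowers, Subgroup.orderOf_mk, hw, pow_one]
    obtain ⟨P, hP⟩ := hz.exists_le_sylow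
    have hPc : Nat.card P = 16 := by
      rw [Sylow.card_eq_multiplicity, hKc]
      have : (48 : ℕ).factorization 2 = 4 := by
        rw [show (48 : ℕ) = 2 ^ 4 * 3 by norm_num,
          Nat.factorization_mul (by norm_num) (by norm_num), Finsupp.add_apply,
          Nat.Prime.factorization_pow Nat.prime_two, Finsupp.single_eq_same,
          Nat.factorization_eq_zero_of_not_dvd (show ¬ 2 ∣ 3 by norm_num)]
      rw [this]
      norm_num
    have hPi : (P : Subgroup K).index = 3 := by
      have h5 := Subgroup.card_mul_index (P : Subgroup K)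
      have h6 : Nat.card (P : Subgroup K) = 16 := hPc
      rw [h6, hKc] at h5
      omega
    refine ⟨P, hPi, ?_⟩
    -- the image in `G`
    set T : Subgroup G := (P : Subgroup K).map K.subtype with hT
    have hTc : Nat.card T = 16 := by
      rw [hT, Subgroup.card_map_of_injective K.subtype_injective]
      exact hPc
    have hTK : T ≤ K := by
      rw [hT]
      exact Subgroup.map_subtype_le _
    have hTs : ∀ g ∈ T, s ⊆ fix Ω g := fun g hg => (hmemK g).1 (hTK hg)
    have hTt : ∀ g ∈ T, t ≤ (fix Ω g).card := fun g hg => by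
      rw [← hs]
      exact card_le_card (hTs g hg)
    have hsq : ∀ g ∈ T, g ^ 2 = 1 := by
      intro g hg
      apply sq_eq_one (Ω := Ω) h4 _ (hTt g hg)
      have h7 := pow_card_eq_one' (x := (⟨g, hg⟩ : T))
      rw [hTc] at h7
      exact congrArg Subtype.val h7
    have h2' : ∀ g ∈ T, g ≠ 1 → (fix Ω g).card = t + 3 := by
      intro g hg hg1
      exact h2 g (orderOf_eq_prime (hsq g hg) hg1) (hTt g hg)
    have hF : t ≤ (cfix Ω T).card := by
      rw [← hs]
      apply card_le_card
      intro x hx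
      rw [mem_cfix]
      intro g hg
      exact mem_fix.1 (hTs g hg hx)
    have hwT : w ∈ T := by
      rw [hT, Subgroup.mem_map]
      exact ⟨⟨w, hwK⟩, hP (Subgroup.mem_zpowers _), rfl⟩
    have hw1 : w ≠ 1 := by
      rintro rfl
      rw [orderOf_one] at hw
      omega
    intro g hg hg1
    have hgT : (g : G) ∈ T := by
      rw [hT, Subgroup.mem_map]
      exact ⟨g, hg, rfl⟩
    have hg1' : (g : G) ≠ 1 := fun h => hg1 (Subtype.ext h)
    rw [fix_eq_cfix hΩ T hTc hsq h2' hF hgT hg1', fix_eq_cfix hΩ T hTc hsq h2' hF hwT hw1]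
  obtain ⟨P, hPi, hPf⟩ := key u hu hsu
  obtain ⟨Q, hQi, hQf⟩ := key v hv hsv
  have hinf : ((P : Subgroup K) ⊓ (Q : Subgroup K)).index ≤ 9 := by
    have h5 := Subgroup.index_inf_le (H := (P : Subgroup K)) (K := (Q : Subgroup K))
    rw [hPi, hQi] at h5
    exact h5
  obtain ⟨w, hw, hw1⟩ : ∃ w ∈ (P : Subgroup K) ⊓ (Q : Subgroup K), w ≠ 1 := by
    by_contra hcon
    push Not at hcon
    have hbot : (P : Subgroup K) ⊓ (Q : Subgroup K) = ⊥ := by
      rw [eq_bot_iff]
      intro w hw
      exact Subgroup.mem_bot.2 (hcon w hw)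
    rw [hbot, Subgroup.index_bot, hKc] at hinf
    omega
  rw [← hPf w hw.1 hw1, hQf w hw.2 hw1]

/-- **Witt's construction.** -/
theorem exists_steiner [Finite G] (t : ℕ) (hΩ : Fintype.card Ω = t + 19)
    (h48 : ∀ s : Finset Ω, s.card = t → Nat.card (fixingSubgroup G (s : Set Ω)) = 48)
    (h2 : ∀ g : G, orderOf g = 2 → t ≤ (fix Ω g).card → (fix Ω g).card = t + 3)
    (h4 : ∀ g : G, orderOf g = 4 → (fix Ω g).card < t) :
    ∃ B : Set (Finset Ω), Cfsg.IsSteinerSystem t (t + 3) B ∧
      ∀ g : G, ∀ b ∈ B, b.image (fun x => g • x) ∈ B := by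
  classical
  refine ⟨{b | ∃ u : G, orderOf u = 2 ∧ t ≤ (fix Ω u).card ∧ b = fix Ω u}, ⟨?_, ?_⟩, ?_⟩
  · rintro b ⟨u, hu, htu, rfl⟩
    exact h2 u hu htu
  · intro s hs
    have : Fact (Nat.Prime 2) := ⟨Nat.prime_two⟩
    obtain ⟨w, hw⟩ := exists_prime_orderOf_dvd_card' (G := fixingSubgroup G (s : Set Ω)) 2
      (by rw [h48 s hs]; norm_num)
    have hwo : orderOf (w : G) = 2 := by rw [Subgroup.orderOf_coe, hw]
    have hsw : s ⊆ fix Ω (w : G) := by
      intro x hx
      rw [mem_fix]
      exact (mem_fixingSubgroup_iff G).1 w.2 x hx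
    refine ⟨fix Ω (w : G), ⟨⟨w, hwo, ?_, rfl⟩, hsw⟩, ?_⟩
    · rw [← hs]
      exact card_le_card hsw
    · rintro _ ⟨⟨u, hu, htu, rfl⟩, hsu⟩
      exact fix_eq_fix hΩ h48 h2 h4 hs hu hwo hsu hsw
  · rintro g _ ⟨u, hu, htu, rfl⟩
    have himg : (fix Ω u).image (fun x => g • x) = fix Ω (g * u * g⁻¹) := by
      ext x
      rw [mem_image, mem_fix]
      constructor
      · rintro ⟨y, hy, rfl⟩
        rw [mem_fix] at hy
        rw [mul_smul, inv_smul_smul, mul_smul, hy]
      · intro hx
        refine ⟨g⁻¹ • x, ?_, smul_inv_smul g x⟩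
        rw [mem_fix]
        apply smul_left_cancel g
        rw [smul_inv_smul, ← mul_smul, ← mul_smul]
        exact hx
    refine ⟨g * u * g⁻¹, ?_, ?_, himg⟩
    · rw [← hu]
      exact MulEquiv.orderOf_eq (MulAut.conj g) u
    · rw [← himg, card_image_of_injective _ (MulAction.injective g)]
      exact htu

omit [DecidableEq Ω] in
theorem card_fixing_of_transitive [Finite G] {t n : ℕ} (ht : IsMultiplyPretransitive G Ω t)
    (hΩ : Fintype.card Ω = n) (hG : Nat.card G * (n - t).factorial = 48 * n.factorial)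
    (s : Finset Ω) (hs : s.card = t) : Nat.card (fixingSubgroup G (s : Set Ω)) = 48 := by
  have h1 := TwoPointStab.card_fixingSubgroup_mul ht (s := (s : Set Ω))
    (by rw [Set.ncard_coe_finset, hs])
  rw [Nat.card_eq_fintype_card (α := Ω), hΩ, hG] at h1
  exact Nat.eq_of_mul_eq_mul_right (Nat.factorial_pos n) h1

/-- **M₂₂** from a 3-transitive action of degree 22. -/
theorem isoM22_of_transitive [Finite G] [FaithfulSMul G Ω] (hΩ : Fintype.card Ω = 22)
    (hs : IsSimpleGroup G) (hG : Nat.card G = 443520) (ht : IsMultiplyPretransitive G Ω 3)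
    (h2 : ∀ g : G, orderOf g = 2 → 3 ≤ (fix Ω g).card → (fix Ω g).card = 6)
    (h4 : ∀ g : G, orderOf g = 4 → (fix Ω g).card < 3) : Cfsg.Spor.IsoM22 G := by
  obtain ⟨B, hB, hinv⟩ := exists_steiner (G := G) (Ω := Ω) 3 hΩ
    (card_fixing_of_transitive ht hΩ (by rw [hG]; decide +kernel)) h2 h4
  exact MathieuRecog.isoM22_of_steiner hΩ hs hG hB hinv

/-- **M₂₃** from a 4-transitive action of degree 23. -/
theorem isoM23_of_transitive [Finite G] [FaithfulSMul G Ω] (hΩ : Fintype.card Ω = 23)
    (hG : Nat.card G = 10200960) (ht : IsMultiplyPretransitive G Ω 4)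
    (h2 : ∀ g : G, orderOf g = 2 → 4 ≤ (fix Ω g).card → (fix Ω g).card = 7)
    (h4 : ∀ g : G, orderOf g = 4 → (fix Ω g).card < 4) : Cfsg.Spor.IsoM23 G := by
  obtain ⟨B, hB, hinv⟩ := exists_steiner (G := G) (Ω := Ω) 4 hΩ
    (card_fixing_of_transitive ht hΩ (by rw [hG]; decide +kernel)) h2 h4
  exact MathieuRecog.isoM23_of_steiner hΩ hG hB hinv

/-- **M₂₄** from a 5-transitive action of degree 24. -/
theorem isoM24_of_transitive [Finite G] [FaithfulSMul G Ω] (hΩ : Fintype.card Ω = 24)
    (hG : Nat.card G = 244823040) (ht : IsMultiplyPretransitive G Ω 5)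
    (h2 : ∀ g : G, orderOf g = 2 → 5 ≤ (fix Ω g).card → (fix Ω g).card = 8)
    (h4 : ∀ g : G, orderOf g = 4 → (fix Ω g).card < 5) : Nonempty (G ≃* Cfsg.M24) := by
  obtain ⟨B, hB, hinv⟩ := exists_steiner (G := G) (Ω := Ω) 5 hΩ
    (card_fixing_of_transitive ht hΩ (by rw [hG]; decide +kernel)) h2 h4
  exact MathieuRecog.isoM24_of_steiner hΩ hG hB hinv

end Cfsg.Agent.SporadicA.WittSteiner
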