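import Cfsg.Agent.SporadicA.DegPOne

/-!
Certified lower bound for the order of a permutation group of `Fin n`: a chain of base points, and
for each base point a table of words in the generators fixing the previous base points and moving
the base point to pairwise different points. Everything is checked by the kernel.
-/

set_option autoImplicit false

namespace Cfsg.Agent.SporadicA.ChainCert

open Equiv Equiv.Perm MulAction Cfsg.Agent.SporadicA.DegPOne

/-- The elements of `K` fixing the points of `bs`. -/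
def fixSub {n : ℕ} (K : Subgroup (Perm (Fin n))) (bs : List ℕ) : Subgroup (Perm (Fin n)) where
  carrier := {g | g ∈ K ∧ ∀ b ∈ bs, ∀ hb : b < n, g ⟨b, hb⟩ = ⟨b, hb⟩}
  one_mem' := ⟨K.one_mem, fun _ _ _ => rfl⟩
  mul_mem' := by
    rintro g g' ⟨h1, h2⟩ ⟨h1', h2'⟩
    refine ⟨K.mul_mem h1 h1', fun b hb hbn => ?_⟩
    rw [Perm.mul_apply, h2' b hb hbn, h2 b hb hbn]
  inv_mem' := by
    rintro g ⟨h1, h2⟩
    refine ⟨K.inv_mem h1, fun b hb hbn => ?_⟩
    rw [Perm.inv_eq_iff_eq, h2 b hb hbn]

theorem mem_fixSub {n : ℕ} {K : Subgroup (Perm (Fin n))} {bs : List ℕ} {g : Perm (Fin n)} :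
    g ∈ fixSub K bs ↔ g ∈ K ∧ ∀ b ∈ bs, ∀ hb : b < n, g ⟨b, hb⟩ = ⟨b, hb⟩ := Iff.rfl

theorem fixSub_nil {n : ℕ} (K : Subgroup (Perm (Fin n))) : fixSub K [] = K := by
  ext g
  rw [mem_fixSub]
  simp

theorem fixSub_cons {n : ℕ} (K : Subgroup (Perm (Fin n))) (bs : List ℕ) (x : ℕ) (hx : x < n) :
    fixSub K (x :: bs) = fixSub K bs ⊓ stabilizer (Perm (Fin n)) (⟨x, hx⟩ : Fin n) := by
  ext g
  rw [Subgroup.mem_inf, mem_fixSub, mem_fixSub, mem_stabilizer_iff]
  constructor
  · rintro ⟨h1, h2⟩
    exact ⟨⟨h1, fun b hb => h2 b (List.mem_cons_of_mem _ hb)⟩, h2 x List.mem_cons_self hx⟩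
  · rintro ⟨⟨h1, h2⟩, h3⟩
    refine ⟨h1, fun b hb hbn => ?_⟩
    rcases List.mem_cons.1 hb with rfl | hb
    · exact h3
    · exact h2 b hb hbn

/-- The kernel check. `bs` are the points already fixed. -/
def chainCheck (n : ℕ) (fs : List (ℕ → ℕ)) : List ℕ → List (ℕ × List (ℕ × List ℕ)) → Bool
  | _, [] => true
  | bs, (x, tab) :: rest =>
    decide (x < n) && decide (tab.map Prod.fst).Nodup &&
      (tab.all fun e => decide (e.1 < n) && (evalW fs e.2 x == e.1) &&
        bs.all fun b => evalW fs e.2 b == b) &&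
      chainCheck n fs (x :: bs) rest

/-- The certified order. -/
def chainProd (c : List (ℕ × List (ℕ × List ℕ))) : ℕ := (c.map fun e => e.2.length).prod

theorem chainProd_le {n : ℕ} (K : Subgroup (Perm (Fin n))) {gs : List (Perm (Fin n))}
    {fs : List (ℕ → ℕ)} (hgs : ∀ g ∈ gs, g ∈ K) (h : List.Forall₂ Comp gs fs)
    (c : List (ℕ × List (ℕ × List ℕ))) :
    ∀ bs : List ℕ, chainCheck n fs bs c = true → chainProd c ≤ Nat.card (fixSub K bs) := by
  classical
  induction c with
  | nil =>
    intro bs _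
    have : 0 < Nat.card (fixSub K bs) := Nat.card_pos
    have h0 : chainProd [] = 1 := rfl
    omega
  | cons e rest ih =>
    obtain ⟨x, tab⟩ := e
    intro bs hok
    simp only [chainCheck, Bool.and_eq_true, decide_eq_true_eq, List.all_eq_true, beq_iff_eq] at hok
    obtain ⟨⟨⟨hx, hnd⟩, htab⟩, hrest⟩ := hok
    have h1 := ih (x :: bs) hrest
    have h2 : tab.length * Nat.card (fixSub K (x :: bs)) ≤ Nat.card (fixSub K bs) := by
      rw [fixSub_cons K bs x hx]
      -- the finset of values
      let s : Finset (Fin n) := Finset.univ.filter fun y => (y : ℕ) ∈ tab.map Prod.fst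
      have hs : s.card = tab.length := by
        have h3 : s.map Fin.valEmbedding = (tab.map Prod.fst).toFinset := by
          ext y
          simp only [Finset.mem_map, List.mem_toFinset, s, Finset.mem_filter, Finset.mem_univ,
            true_and, Fin.valEmbedding_apply]
          constructor
          · rintro ⟨z, hz, rfl⟩
            exact hz
          · intro hy
            obtain ⟨e, he, hey⟩ := List.mem_map.1 hy
            exact ⟨⟨y, hey ▸ (htab e he).1.1⟩, hy, rfl⟩
        rw [← Finset.card_map, h3, List.toFinset_card_of_nodup hnd, List.length_map]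
      rw [← hs]
      apply orbit_card
      intro y hy
      obtain ⟨e, he, hey⟩ := List.mem_map.1 (Finset.mem_filter.1 hy).2
      refine ⟨evalP gs e.2, ⟨evalP_mem K hgs _, ?_⟩, ?_⟩
      · intro b hb hbn
        apply Fin.ext
        rw [comp_evalW h]
        exact (htab e he).2 b hb
      · apply Fin.ext
        rw [comp_evalW h, ← hey]
        exact (htab e he).1.2
    calc chainProd ((x, tab) :: rest) = tab.length * chainProd rest := by
          simp [chainProd]
      _ ≤ tab.length * Nat.card (fixSub K (x :: bs)) := Nat.mul_le_mul_left _ h1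
      _ ≤ _ := h2

theorem card_ge {n : ℕ} (K : Subgroup (Perm (Fin n))) {gs : List (Perm (Fin n))}
    {fs : List (ℕ → ℕ)} (hgs : ∀ g ∈ gs, g ∈ K) (h : List.Forall₂ Comp gs fs)
    (c : List (ℕ × List (ℕ × List ℕ))) (hok : chainCheck n fs [] c = true) :
    chainProd c ≤ Nat.card K := by
  have := chainProd_le K hgs h c [] hok
  rwa [fixSub_nil] at this

end Cfsg.Agent.SporadicA.ChainCert
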