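import Cfsg.Agent.SporadicA.M24OfIndex
import Cfsg.Agent.SporadicA.ChainCert
import Cfsg.Agent.S0376
import Cfsg.Prelude.Def_Spor_Mathieu
import Cfsg.Prelude.Def_Sporadic

/-!
A simple group of order 10200960 with a subgroup of index 23 is isomorphic to the Mathieu group M23.
-/

set_option autoImplicit false

namespace Cfsg.Agent.SporadicA.T23

open Equiv Equiv.Perm MulAction Cfsg.Agent.SporadicA.DegPOne Cfsg.Agent.SporadicA.Cand24
open Cfsg.Agent.SporadicA.M24OfIndex Cfsg.Agent.SporadicA.ChainCert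

/-- The hypotheses on the permutation group of degree 23 (fixing the point 23 of `Fin 24`). -/
structure Hyp23 (L : Subgroup (Perm (Fin 24))) : Prop where
  card : Nat.card L = 10200960
  even : ∀ g ∈ L, sign g = 1
  fix : ∀ g ∈ L, g 23 = 23
  t_mem : tP ∈ L

theorem not_dvd' {l : ℕ} (hl : l ∈ [13, 17, 19]) : ¬ l ∣ 10200960 := by
  simp only [List.mem_cons, List.not_mem_nil, or_false] at hl
  rcases hl with rfl | rfl | rfl <;> norm_num

theorem q_mem {L : Subgroup (Perm (Fin 24))} (h : Hyp23 L) : qP ∈ L := by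
  obtain ⟨k, n, hk, hkn, hn⟩ := sylow_congr L h.t_mem (r := 23) (m := 443520) (by norm_num)
    orderOf_tP (by rw [h.card]) (by norm_num)
  obtain ⟨g, hgL, hgN, hgz⟩ : ∃ g, g ∈ L ∧ g ∈ Subgroup.normalizer (Subgroup.zpowers tP : Set _) ∧
      g ∉ Subgroup.zpowers tP := by
    by_contra hcon
    push Not at hcon
    have h1 : L ⊓ Subgroup.normalizer (Subgroup.zpowers tP : Set _) = Subgroup.zpowers tP := by
      apply le_antisymm
      · rintro g ⟨h2, h3⟩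
        exact hcon g h2 h3
      · refine le_inf ?_ Subgroup.le_normalizer
        rw [Subgroup.zpowers_le]; exact h.t_mem
    rw [h1, Nat.card_zpowers, orderOf_tP] at hk
    have hk1 : k = 1 := by omega
    rw [hk1, one_mul] at hkn
    rw [hkn] at hn
    exact absurd hn (by decide)
  obtain ⟨a, ha0, ha, hrel⟩ := exists_pow_of_mem_normalizer (by norm_num : Nat.Prime 23)
    orderOf_tP hgN
  have hval : ∀ (i : ℕ) (x : Fin 24), (((tP ^ i) x : Fin 24) : ℕ) = iter tF i x :=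
    fun i x => comp_iter tP_comp i x
  have ht23 : ∀ i : ℕ, (tP ^ i) 23 = 23 := by
    intro i
    induction i with
    | zero => rfl
    | succ i ih =>
      rw [pow_succ', Perm.mul_apply, ih]
      exact Fin.ext (by rw [tP_comp]; decide)
  have hg23 : g 23 = 23 := h.fix g hgL
  have hg0 : g 0 ≠ 23 := fun e => absurd (g.injective (e.trans hg23.symm)) (by decide)
  set j := 23 - ((g 0 : Fin 24) : ℕ) with hj
  set g' := tP ^ j * g with hg'
  have hrel' : g' * tP = tP ^ a * g' := by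
    rw [hg', mul_assoc, hrel, ← mul_assoc, ← mul_assoc, ← pow_add, ← pow_add, add_comm]
  have hg'0 : g' 0 = 0 := by
    apply Fin.ext
    rw [hg', Perm.mul_apply, hval, hj]
    exact t_neg _ hg0
  have hg'23 : g' 23 = 23 := by
    rw [hg', Perm.mul_apply, hg23, ht23]
  have hcomp : Comp g' (mF a) := by
    intro x
    by_cases hx : x = 23
    · rw [hx, hg'23]; rfl
    · have h1 := apply_pow_apply tP_comp hrel' 0 (x : ℕ)
      have h2 : (tP ^ (x : ℕ)) 0 = x := Fin.ext (by rw [hval]; exact t_zero x hx)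
      rw [h2, hg'0] at h1
      rw [h1]
      exact t_mF a ha x hx
  have hg'L : g' ∈ L := L.mul_mem (L.pow_mem h.t_mem _) hgL
  have ha1 : a ≠ 1 := by
    rintro rfl
    apply hgz
    have h1 : g' = 1 := by
      ext x
      rw [hcomp, mF_one]; rfl
    have h2 : g = (tP ^ j)⁻¹ := by
      rw [hg'] at h1
      exact (inv_eq_of_mul_eq_one_right h1).symm
    rw [h2]
    exact Subgroup.inv_mem _ (Subgroup.pow_mem _ (Subgroup.mem_zpowers _) _)
  obtain ⟨i, -, hi | hi⟩ := mF_pow a ha (by omega)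
  · have h1 : g' ^ i = qP := perm_ext_comp (comp_pow hcomp i) qP_comp hi
    rw [← h1]
    exact L.pow_mem hg'L i
  · exfalso
    have h1 : g' ^ i = nP := perm_ext_comp (comp_pow hcomp i) nP_comp hi
    have h2 := h.even (g' ^ i) (L.pow_mem hg'L i)
    rw [h1, sign_nP] at h2
    exact absurd h2 (by decide)

theorem v_mem {L : Subgroup (Perm (Fin 24))} (h : Hyp23 L) : v10 ∈ L ∨ v1 ∈ L := by
  have hq := q_mem h
  obtain ⟨k, n, hk, hkn, hn⟩ := sylow_congr L hq (r := 11) (m := 927360) (by norm_num)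
    orderOf_qP (by rw [h.card]) (by norm_num)
  obtain ⟨g, hgH, hgN, hgz⟩ : ∃ g, g ∈ L ∧ g ∈ Subgroup.normalizer (Subgroup.zpowers qP : Set _) ∧
      g ∉ Subgroup.zpowers qP := by
    by_contra hcon
    push Not at hcon
    have h1 : L ⊓ Subgroup.normalizer (Subgroup.zpowers qP : Set _) = Subgroup.zpowers qP := by
      apply le_antisymm
      · rintro g ⟨h2, h3⟩
        exact hcon g h2 h3
      · refine le_inf ?_ Subgroup.le_normalizer
        rw [Subgroup.zpowers_le]; exact hq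
    rw [h1, Nat.card_zpowers, orderOf_qP] at hk
    have hk1 : k = 1 := by omega
    rw [hk1, one_mul] at hkn
    rw [hkn] at hn
    exact absurd hn (by decide)
  obtain ⟨a, ha0, ha, hrel⟩ := exists_pow_of_mem_normalizer (by norm_num : Nat.Prime 11)
    orderOf_qP hgN
  have hg23 : g 23 = 23 := h.fix g hgH
  have hg0 : g 0 = 0 := by
    rcases norm_fix ha0 ha hrel 0 (Or.inl rfl) with h1 | h1
    · exact h1
    · exact absurd (g.injective (h1.trans hg23.symm)) (by decide)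
  obtain ⟨i, hi, s, hs, b, hb, hc⟩ := param g a ha0 ha hrel 0 (Or.inl ⟨rfl, hg0, hg23⟩)
  set c := qP ^ i * g with hcdef
  have hcL : c ∈ L := L.mul_mem (L.pow_mem hq i) hgH
  rcases tabH_ok a ha s hs b hb ha0 with ⟨rfl, rfl, rfl⟩ | ⟨rfl, rfl, rfl⟩ | ⟨rfl, hgood⟩ | hok
  · exfalso
    apply hgz
    have h1 : c = 1 := perm_ext_comp hc (f' := id) (fun _ => rfl) (by decide +kernel)
    have h2 : g = (qP ^ i)⁻¹ := by
      rw [hcdef] at h1
      exact (inv_eq_of_mul_eq_one_right h1).symm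
    rw [h2]
    exact Subgroup.inv_mem _ (Subgroup.pow_mem _ (Subgroup.mem_zpowers _) _)
  · exfalso
    have h1 : c = nP := perm_ext_comp hc nP_comp (by decide +kernel)
    have h2 := h.even c hcL
    rw [h1, sign_nP] at h2
    exact absurd h2 (by decide)
  · obtain ⟨j, -, hj | hj⟩ := good_pow (a, b) hgood
    · right
      have h1 : c ^ j = v1 := perm_ext_comp (comp_pow hc j) v1_comp hj
      rw [← h1]
      exact L.pow_mem hcL j
    · left
      have h1 : c ^ j = v10 := perm_ext_comp (comp_pow hc j) v10_comp hj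
      rw [← h1]
      exact L.pow_mem hcL j
  · exfalso
    obtain ⟨l, hl, hdvd⟩ := exists_dvd_of_okT L (gs := [tP, qP, c])
      (fs := [tF, qF, cand a 0 s b]) (by
        intro g' hg'
        simp only [List.mem_cons, List.not_mem_nil, or_false] at hg'
        rcases hg' with rfl | rfl | rfl
        · exact h.t_mem
        · exact hq
        · exact hcL)
      (List.Forall₂.cons tP_comp (List.Forall₂.cons qP_comp (List.Forall₂.cons hc
        List.Forall₂.nil))) (fun l hl => prime_of_mem hl) hok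
    rw [h.card] at hdvd
    exact not_dvd' hl hdvd

/-- The standard group of degree 23. -/
def Std : Subgroup (Perm (Fin 24)) := Subgroup.closure {tP, qP, v10}

/-- inverse translation -/
def tPi : Perm (Fin 24) := mkPerm 24 tG tF (by decide +kernel)
/-- inverse of multiplication -/
def qPi : Perm (Fin 24) := mkPerm 24 qG qF (by decide +kernel)
/-- inverse of the good element -/
def vPi : Perm (Fin 24) := mkPerm 24 (cand 4 0 0 4) (cand 3 0 0 10) (by decide +kernel)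

theorem tPi_comp : Comp tPi tG := mkPerm_comp _ _ _ _
theorem qPi_comp : Comp qPi qG := mkPerm_comp _ _ _ _
theorem vPi_comp : Comp vPi (cand 4 0 0 4) := mkPerm_comp _ _ _ _

theorem tPi_eq : tPi = tP⁻¹ := by
  rw [eq_inv_iff_mul_eq_one]
  exact perm_ext_comp (comp_mul tPi_comp tP_comp) (f' := id) (fun _ => rfl) (by decide +kernel)
theorem qPi_eq : qPi = qP⁻¹ := by
  rw [eq_inv_iff_mul_eq_one]
  exact perm_ext_comp (comp_mul qPi_comp qP_comp) (f' := id) (fun _ => rfl) (by decide +kernel)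
theorem vPi_eq : vPi = v10⁻¹ := by
  rw [eq_inv_iff_mul_eq_one]
  exact perm_ext_comp (comp_mul vPi_comp v10_comp) (f' := id) (fun _ => rfl) (by decide +kernel)

/-- Generators with their inverses. -/
def gens : List (Perm (Fin 24)) := [tP, tPi, qP, qPi, v10, vPi]

/-- Generators with their inverses, computed. -/
def gensF : List (ℕ → ℕ) := [tF, tG, qF, qG, cand 3 0 0 10, cand 4 0 0 4]

theorem gens_comp : List.Forall₂ Comp gens gensF :=
  List.Forall₂.cons tP_comp (List.Forall₂.cons tPi_comp (List.Forall₂.cons qP_comp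
    (List.Forall₂.cons qPi_comp (List.Forall₂.cons v10_comp (List.Forall₂.cons vPi_comp
      List.Forall₂.nil)))))

theorem gens_mem : ∀ g ∈ gens, g ∈ Std := by
  have h1 : tP ∈ Std := Subgroup.subset_closure (by simp)
  have h2 : qP ∈ Std := Subgroup.subset_closure (by simp)
  have h3 : v10 ∈ Std := Subgroup.subset_closure (by simp)
  intro g hg
  simp only [gens, List.mem_cons, List.not_mem_nil, or_false] at hg
  rcases hg with rfl | rfl | rfl | rfl | rfl | rfl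
  · exact h1
  · rw [tPi_eq]; exact Std.inv_mem h1
  · exact h2
  · rw [qPi_eq]; exact Std.inv_mem h2
  · exact h3
  · rw [vPi_eq]; exact Std.inv_mem h3

/-- The stabilizer chain of the standard group of degree 23. -/
def chain : List (ℕ × List (ℕ × List ℕ)) := [
  (0, [(0, []), (1, [0]), (2, [0, 0]), (3, [0, 0, 0]), (4, [2, 0, 0]), (5, [0, 2, 0, 0]), 
   (6, [1, 5, 1]), (7, [5, 1]), (8, [4, 0, 0]), (9, [4, 1, 5, 1]), (10, [1, 3, 1]), (11, [3, 1]), 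
   (12, [3, 0]), (13, [0, 3, 0]), (14, [2, 5, 1]), (15, [3, 5, 1]), (16, [5, 0, 0]), 
   (17, [5, 5, 1]), (18, [4, 2, 0, 0]), (19, [2, 1, 1]), (20, [1, 1, 1]), (21, [1, 1]), 
   (22, [1])]),
  (1, [(1, []), (2, [2]), (3, [4, 3]), (4, [2, 2]), (5, [1, 4, 4, 0]), (6, [3, 3]), 
   (7, [1, 4, 0]), (8, [4, 2]), (9, [4, 3, 3]), (10, [2, 1, 4, 4, 0]), (11, [1, 5, 0, 2]), 
   (12, [3]), (13, [5, 3]), (14, [2, 1, 4, 0]), (15, [1, 5, 0]), (16, [5, 2]), 
   (17, [1, 5, 0, 3]), (18, [4, 2, 2]), (19, [3, 1, 5, 0]), (20, [4, 1, 5, 0]), 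
   (21, [1, 4, 0, 3, 3]), (22, [4, 1, 4, 0])]),
  (2, [(2, []), (3, [5, 5, 2, 5, 1, 4, 0, 2, 5]), (4, [5, 2, 5, 1, 4, 0, 2, 5]), 
   (5, [2, 5, 1, 4, 0, 2, 5, 2, 5, 1, 4, 0, 2, 5]), (6, [4, 4]), 
   (7, [4, 3, 1, 5, 0, 4, 3, 5, 5]), (8, [4]), (9, [5, 5]), (10, [3, 1, 5, 0, 4, 3, 4]), 
   (11, [5, 3, 1, 5, 0, 4, 3, 4]), (12, [3, 3, 4, 1, 4, 0, 2, 5]), 
   (13, [2, 5, 1, 4, 0, 2, 5, 5]), (14, [4, 3, 1, 5, 0, 4, 3]), (15, [4, 4, 3, 1, 5, 0, 4, 3]), 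
   (16, [5]), (17, [3, 1, 5, 0, 4, 3, 5, 5]), (18, [2, 5, 1, 4, 0, 2, 5]), 
   (19, [3, 1, 5, 0, 4, 3]), (20, [5, 5, 3, 1, 5, 0, 4, 3]), (21, [5, 3, 1, 5, 0, 4, 3]), 
   (22, [5, 5, 3, 1, 5, 0, 4, 3, 4])]),
  (3, [(3, []), (4, [3, 1, 5, 0, 4, 3, 4, 4, 4, 2, 5, 1, 4, 0, 2, 4]), 
   (5, [4, 2, 5, 1, 4, 0, 2, 4]), (6, [4, 2, 5, 1, 4, 0, 2, 5, 2, 5, 1, 4, 0, 2]), 
   (7, [5, 3, 1, 5, 0, 4, 3, 5, 5, 5, 2, 5, 1, 4, 0, 2]), 
   (8, [3, 1, 5, 0, 4, 3, 4, 4, 4, 2, 5, 1, 4, 0, 2, 5, 2, 5, 1, 4, 0, 2]), 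
   (9, [4, 2, 5, 1, 4, 0, 2, 4, 3, 1, 5, 0, 4, 3, 4, 4]), 
   (10, [3, 1, 5, 0, 4, 3, 4, 4, 3, 1, 5, 0, 4, 3, 4, 4]), (11, [5, 5, 2, 5, 1, 4, 0, 2]), 
   (12, [4, 2, 5, 1, 4, 0, 2, 4, 4, 2, 5, 1, 4, 0, 2, 5, 2, 5, 1, 4, 0, 2]), 
   (13, [4, 2, 5, 1, 4, 0, 2, 4, 4, 2, 5, 1, 4, 0, 2, 4, 3, 1, 5, 0, 4, 3, 4, 4]), 
   (14, [3, 1, 5, 0, 4, 3, 4, 4, 4, 2, 5, 1, 4, 0, 2, 4, 4, 2, 5, 1, 4, 0, 2, 5, 2, 5, 1, 4, 0, 
     2]), (15, [5, 5, 2, 5, 1, 4, 0, 2, 4, 2, 5, 1, 4, 0, 2, 5, 2, 5, 1, 4, 0, 2]), 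
   (16, [3, 1, 5, 0, 4, 3, 4, 4]), 
   (17, [3, 1, 5, 0, 4, 3, 4, 4, 3, 1, 5, 0, 4, 3, 4, 4, 4, 2, 5, 1, 4, 0, 2, 5, 2, 5, 1, 4, 0, 
     2]), (18, [5, 5, 2, 5, 1, 4, 0, 2, 4, 2, 5, 1, 4, 0, 2, 4]), 
   (19, [3, 1, 5, 0, 4, 3, 4, 4, 4, 2, 5, 1, 4, 0, 2, 4, 3, 1, 5, 0, 4, 3, 4, 4]), 
   (20, [4, 2, 5, 1, 4, 0, 2, 4, 3, 1, 5, 0, 4, 3, 4, 4, 4, 2, 5, 1, 4, 0, 2, 4]), 
   (21, [5, 5, 2, 5, 1, 4, 0, 2, 5, 5, 2, 5, 1, 4, 0, 2]), 
   (22, [5, 5, 2, 5, 1, 4, 0, 2, 5, 5, 2, 5, 1, 4, 0, 2, 4, 2, 5, 1, 4, 0, 2, 5, 2, 5, 1, 4, 0, 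
     2])]),
  (4, [(4, []), 
   (6, [5, 3, 1, 5, 0, 4, 3, 5, 5, 5, 2, 5, 1, 4, 0, 2, 5, 5, 2, 5, 1, 4, 0, 2, 4, 2, 5, 1, 4, 0, 
     2, 4, 3, 1, 5, 0, 4, 3, 4, 4]), 
   (7, [4, 2, 5, 1, 4, 0, 2, 5, 2, 5, 1, 4, 0, 2, 5, 5, 2, 5, 1, 4, 0, 2, 4, 2, 5, 1, 4, 0, 2, 4, 
     3, 1, 5, 0, 4, 3, 4, 4]), 
   (8, [3, 1, 5, 0, 4, 3, 4, 4, 3, 1, 5, 0, 4, 3, 4, 4, 4, 2, 5, 1, 4, 0, 2, 5, 2, 5, 1, 4, 0, 2, 
     5, 3, 1, 5, 0, 4, 3, 5]), 
   (9, [4, 2, 5, 1, 4, 0, 2, 4, 4, 2, 5, 1, 4, 0, 2, 5, 2, 5, 1, 4, 0, 2, 5, 3, 1, 5, 0, 4, 3, 5, 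
     3, 1, 5, 0, 4, 3, 4, 4, 3, 1, 5, 0, 4, 3, 4, 3, 1, 5, 0, 4, 3, 5]), 
   (10, [5, 5, 2, 5, 1, 4, 0, 2, 5, 3, 1, 5, 0, 4, 3, 5, 3, 1, 5, 0, 4, 3, 4, 4, 3, 1, 5, 0, 4, 
     3, 4, 3, 1, 5, 0, 4, 3, 5]), 
   (11, [5, 5, 2, 5, 1, 4, 0, 2, 5, 5, 2, 5, 1, 4, 0, 2, 5, 3, 1, 5, 0, 4, 3, 5, 3, 1, 5, 0, 4, 
     3, 4, 4]), 
   (12, [4, 2, 5, 1, 4, 0, 2, 4, 4, 2, 5, 1, 4, 0, 2, 5, 2, 5, 1, 4, 0, 2, 5, 5, 2, 5, 1, 4, 0, 
     2, 5, 3, 1, 5, 0, 4, 3, 5, 3, 1, 5, 0, 4, 3, 4, 4]), 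
   (13, [5, 5, 2, 5, 1, 4, 0, 2, 5, 5, 2, 5, 1, 4, 0, 2, 5, 3, 1, 5, 0, 4, 3, 5, 3, 1, 5, 0, 4, 
     3, 4, 4, 4, 2, 5, 1, 4, 0, 2, 4, 4, 2, 5, 1, 4, 0, 2, 5, 2, 5, 1, 4, 0, 2, 4, 2, 5, 1, 4, 0, 
     2, 4, 3, 1, 5, 0, 4, 3, 4, 4, 3, 1, 5, 0, 4, 3, 4, 4]), 
   (15, [5, 5, 2, 5, 1, 4, 0, 2, 5, 3, 1, 5, 0, 4, 3, 5, 3, 1, 5, 0, 4, 3, 4, 4, 3, 1, 5, 0, 4, 
     3, 4, 4, 4, 2, 5, 1, 4, 0, 2, 4]), 
   (16, [3, 1, 5, 0, 4, 3, 4, 4, 3, 1, 5, 0, 4, 3, 4, 4, 4, 2, 5, 1, 4, 0, 2, 5, 2, 5, 1, 4, 0, 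
     2, 5, 5, 2, 5, 1, 4, 0, 2, 5, 5, 2, 5, 1, 4, 0, 2, 4, 2, 5, 1, 4, 0, 2, 4, 3, 1, 5, 0, 4, 3, 
     4, 4]), 
   (18, [5, 3, 1, 5, 0, 4, 3, 5, 5, 3, 1, 5, 0, 4, 3, 5, 3, 1, 5, 0, 4, 3, 4, 4, 3, 1, 5, 0, 4, 
     3, 4, 4, 4, 2, 5, 1, 4, 0, 2, 5, 2, 5, 1, 4, 0, 2, 5, 3, 1, 5, 0, 4, 3, 5]), 
   (19, [5, 5, 2, 5, 1, 4, 0, 2, 4, 2, 5, 1, 4, 0, 2, 4, 3, 1, 5, 0, 4, 3, 4, 4, 3, 1, 5, 0, 4, 
     3, 4, 4]), 
   (20, [4, 2, 5, 1, 4, 0, 2, 4, 4, 2, 5, 1, 4, 0, 2, 5, 2, 5, 1, 4, 0, 2, 5, 3, 1, 5, 0, 4, 3, 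
     5, 3, 1, 5, 0, 4, 3, 4, 4, 3, 1, 5, 0, 4, 3, 4, 4, 4, 2, 5, 1, 4, 0, 2, 4]), 
   (21, [4, 2, 5, 1, 4, 0, 2, 4, 4, 2, 5, 1, 4, 0, 2, 5, 2, 5, 1, 4, 0, 2, 4, 2, 5, 1, 4, 0, 2, 
     4, 3, 1, 5, 0, 4, 3, 4, 4, 3, 1, 5, 0, 4, 3, 4, 4]), 
   (22, [5, 3, 1, 5, 0, 4, 3, 5, 5, 3, 1, 5, 0, 4, 3, 5])]),
  (5, [(5, []), 
   (14, [4, 2, 5, 1, 4, 0, 2, 4, 4, 2, 5, 1, 4, 0, 2, 5, 2, 5, 1, 4, 0, 2, 5, 5, 2, 5, 1, 4, 0, 
     2, 5, 3, 1, 5, 0, 4, 3, 5, 3, 1, 5, 0, 4, 3, 4, 4, 4, 2, 5, 1, 4, 0, 2, 5, 2, 5, 1, 4, 0, 2, 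
     5, 5, 2, 5, 1, 4, 0, 2, 4, 2, 5, 1, 4, 0, 2, 4, 3, 1, 5, 0, 4, 3, 4, 4]), 
   (17, [5, 5, 2, 5, 1, 4, 0, 2, 5, 3, 1, 5, 0, 4, 3, 5, 3, 1, 5, 0, 4, 3, 4, 4, 3, 1, 5, 0, 4, 
     3, 4, 3, 1, 5, 0, 4, 3, 5, 5, 5, 2, 5, 1, 4, 0, 2, 4, 2, 5, 1, 4, 0, 2, 4, 3, 1, 5, 0, 4, 3, 
     4, 4, 3, 1, 5, 0, 4, 3, 4, 3, 1, 5, 0, 4, 3, 5, 5, 3, 1, 5, 0, 4, 3, 5])])]

theorem chain_ok : chainCheck 24 gensF [] chain = true := by decide +kernel

theorem chain_prod : chainProd chain = 10200960 := by decide +kernel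

theorem std_card_ge : 10200960 ≤ Nat.card Std := by
  rw [← chain_prod]
  exact card_ge Std gens_mem gens_comp chain chain_ok

theorem hyp_neg {L : Subgroup (Perm (Fin 24))} (h : Hyp23 L) :
    Hyp23 (L.map (MulAut.conj nP).toMonoidHom) where
  card := by
    rw [← h.card]
    exact (Nat.card_congr (Subgroup.equivMapOfInjective _ _ (MulAut.conj nP).injective).toEquiv).symm
  even := by
    rintro _ ⟨g, hg, rfl⟩
    have h1 : sign ((MulAut.conj nP).toMonoidHom g) = sign g := by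
      show sign (nP * g * nP⁻¹) = sign g
      rw [map_mul, map_mul, map_inv, mul_right_comm, mul_inv_cancel, one_mul]
    rw [h1]
    exact h.even g hg
  fix := by
    rintro _ ⟨g, hg, rfl⟩
    have h1 : nP 23 = 23 := Fin.ext (by rw [nP_comp]; decide)
    have h2 : nP⁻¹ 23 = 23 := by rw [Perm.inv_eq_iff_eq, h1]
    show (nP * g * nP⁻¹) 23 = 23
    rw [Perm.mul_apply, Perm.mul_apply, h2, h.fix g hg, h1]
  t_mem := by
    refine Subgroup.mem_map.2 ⟨tP ^ 22, L.pow_mem h.t_mem _, ?_⟩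
    rw [MulEquiv.toMonoidHom_eq_coe, MonoidHom.coe_coe, MulAut.conj_apply, neg_t]

/-- Every permutation group as in `Hyp23` is conjugate to the standard one. -/
theorem exists_relabel {L : Subgroup (Perm (Fin 24))} (h : Hyp23 L) :
    ∃ σ : Perm (Fin 24), L.map (MulAut.conj σ).toMonoidHom = Std := by
  have key : ∀ L' : Subgroup (Perm (Fin 24)), Hyp23 L' → v10 ∈ L' → L' = Std := by
    intro L' h' hv
    symm
    have hle : Std ≤ L' := by
      rw [Std, Subgroup.closure_le]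
      intro g hg
      rcases hg with rfl | rfl | rfl
      · exact h'.t_mem
      · exact q_mem h'
      · exact hv
    apply Subgroup.eq_of_le_of_card_ge hle
    rw [h'.card]
    exact std_card_ge
  rcases v_mem h with hv | hv
  · refine ⟨1, ?_⟩
    have h1 : L.map (MulAut.conj (1 : Perm (Fin 24))).toMonoidHom = L := by
      ext g
      constructor
      · rintro ⟨g', hg', rfl⟩
        simpa using hg'
      · intro hg
        exact ⟨g, hg, by simp⟩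
    rw [h1]
    exact key L h hv
  · refine ⟨nP, ?_⟩
    have h' := hyp_neg h
    have hq' := q_mem h'
    have hv' : v10 ∈ L.map (MulAut.conj nP).toMonoidHom := by
      have h1 : nP * v1 * nP⁻¹ ∈ L.map (MulAut.conj nP).toMonoidHom := ⟨v1, hv, rfl⟩
      have h2 : v10 = qP ^ 10 * (nP * v1 * nP⁻¹) := by
        have h3 : v10 * nP = qP ^ 10 * (nP * v1) :=
          perm_ext_comp (comp_mul v10_comp nP_comp)
            (comp_mul (comp_pow qP_comp 10) (comp_mul nP_comp v1_comp)) (by decide +kernel)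
        rw [← mul_assoc, ← h3]
        group
      rw [h2]
      exact Subgroup.mul_mem _ (Subgroup.pow_mem _ hq' _) h1
    exact key _ h' hv'

/-- Translation of degree 23. -/
def t23 : Perm (Fin 23) := mkPerm 23 tF tG (by decide +kernel)

theorem t23_comp : Comp t23 tF := mkPerm_comp _ _ _ _

theorem orderOf_t23 : orderOf t23 = 23 := by
  have : Fact (Nat.Prime 23) := ⟨by norm_num⟩
  refine orderOf_eq_prime ?_ ?_
  · ext x
    have h1 := comp_pow t23_comp 23 x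
    rw [h1]
    revert x
    decide +kernel
  · intro h
    have h1 := t23_comp 1
    rw [h] at h1
    exact absurd h1 (by decide)

/-- The inclusion of the first 23 points. -/
def incl : Fin 23 ≃ {x : Fin 24 // (x : ℕ) < 23} where
  toFun x := ⟨⟨x, by omega⟩, x.2⟩
  invFun x := ⟨x.1, x.2⟩
  left_inv _ := rfl
  right_inv _ := rfl

/-- Extension of permutations by the fixed point 23. -/
def extHom : Perm (Fin 23) →* Perm (Fin 24) := extendDomainHom incl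

theorem extHom_injective : Function.Injective extHom := extendDomainHom_injective incl

theorem extHom_fix (g : Perm (Fin 23)) : extHom g 23 = 23 :=
  extendDomain_apply_not_subtype g incl (by decide)

theorem extHom_apply (g : Perm (Fin 23)) (x : Fin 23) :
    ((extHom g ⟨x, by omega⟩ : Fin 24) : ℕ) = g x := by
  have h1 : extHom g (incl x) = incl (g x) := extendDomain_apply_image g incl x
  have h2 := congrArg (fun z : Fin 24 => (z : ℕ)) h1
  exact h2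

theorem extHom_t : extHom t23 = tP := by
  ext x
  rw [tP_comp]
  by_cases hx : x = 23
  · rw [hx, extHom_fix]; decide
  · have hx' : (x : ℕ) < 23 := by
      have := x.2
      have h2 : (x : ℕ) ≠ 23 := fun e => hx (Fin.ext e)
      omega
    have h1 := extHom_apply t23 ⟨x, hx'⟩
    rw [t23_comp] at h1
    exact h1

/-- A simple group of order 10200960 with a subgroup of index 23 is isomorphic to the standard
group. -/
theorem mulEquiv_std {G : Type*} [Group G] [Finite G] (hs : IsSimpleGroup G)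
    (hc : Nat.card G = 10200960) (H : Subgroup G) (hH : H.index = 23) : Nonempty (G ≃* Std) := by
  obtain ⟨ψ0, hψ0, ⟨g0, hg0⟩, -⟩ := exists_hom hs H hH (by norm_num)
    (by norm_num : Nat.Prime 23) (by rw [hc]; norm_num) (by norm_num) t23 orderOf_t23
  let ψ : G →* Perm (Fin 24) := extHom.comp ψ0
  have hψ : Function.Injective ψ := extHom_injective.comp hψ0
  have hyp : Hyp23 ψ.range :=
    { card := by
        rw [← hc]
        exact (Nat.card_congr (MonoidHom.ofInjective hψ).toEquiv).symm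
      even := by
        rintro _ ⟨g, rfl⟩
        exact sign_eq_one hs (by rw [hc]; norm_num) ψ g
      fix := by
        rintro _ ⟨g, rfl⟩
        exact extHom_fix _
      t_mem := ⟨g0, by
        show extHom (ψ0 g0) = tP
        rw [hg0, extHom_t]⟩ }
  obtain ⟨σ, h1⟩ := exists_relabel hyp
  let f : G →* Perm (Fin 24) := (MulAut.conj σ).toMonoidHom.comp ψ
  have hf : Function.Injective f := (MulAut.conj σ).injective.comp hψ
  have hr : f.range = Std := by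
    rw [← h1]
    exact MonoidHom.range_comp _ _
  exact ⟨(MonoidHom.ofInjective hf).trans (MulEquiv.subgroupCongr hr)⟩

theorem q_word : qP = tP ^ 5 * uP * tP ^ 14 * uP * tP ^ 5 * uP :=
  perm_ext_comp qP_comp (comp_mul (comp_mul (comp_mul (comp_mul (comp_mul (comp_pow tP_comp 5)
    uP_comp) (comp_pow tP_comp 14)) uP_comp) (comp_pow tP_comp 5)) uP_comp) (by decide +kernel)

theorem std_eq : (Std.map ePt.permCongrHom.toMonoidHom) = Cfsg.Spor.M23 := by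
  have hcard : Nat.card Cfsg.Spor.M23 = 10200960 := by
    rw [← Cfsg.Agent.S0376.result none]
    have h5 : stabilizer Cfsg.M24 (none : Cfsg.GolayPt) =
        (stabilizer (Perm Cfsg.GolayPt) (none : Cfsg.GolayPt)).subgroupOf Cfsg.M24 := by
      ext g; rfl
    rw [h5]
    show Nat.card (Cfsg.M24 ⊓ stabilizer (Perm Cfsg.GolayPt) (none : Cfsg.GolayPt) :
      Subgroup (Perm Cfsg.GolayPt)) = _
    rw [inf_comm, ← Subgroup.subgroupOf_map_subtype]
    exact (Nat.card_congr (Subgroup.equivMapOfInjective _ _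
      Cfsg.M24.subtype_injective).toEquiv).symm
  have hfix : ∀ g : Perm (Fin 24), g 23 = 23 → ePt.permCongrHom g none = none := by
    intro g hg
    rw [M24OfIndex.permCongr_apply]
    show toPtN ((g 23 : Fin 24) : ℕ) = none
    rw [hg]
    decide
  have hmem : ∀ g ∈ Std, ePt.permCongrHom g ∈ Cfsg.Spor.M23 := by
    have h1 : Std ≤ Cfsg.Spor.M23.comap ePt.permCongrHom.toMonoidHom := by
      rw [Std, Subgroup.closure_le]
      intro g hg
      have ht : ePt.permCongrHom tP ∈ Cfsg.M24 := by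
        rw [← shift_eq, ← Cfsg.Agent.S0374.result]
        exact Subgroup.subset_closure (by simp)
      have hu : ePt.permCongrHom uP ∈ Cfsg.M24 := by
        rw [← projInv_eq, ← Cfsg.Agent.S0374.result]
        exact Subgroup.subset_closure (by simp)
      obtain ⟨i, hi⟩ := cubeTwist_eq
      have hq : ePt.permCongrHom qP ∈ Cfsg.M24 := by
        rw [q_word]
        simp only [map_mul, map_pow]
        exact Subgroup.mul_mem _ (Subgroup.mul_mem _ (Subgroup.mul_mem _ (Subgroup.mul_mem _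
          (Subgroup.mul_mem _ (Subgroup.pow_mem _ ht 5) hu) (Subgroup.pow_mem _ ht 14)) hu)
          (Subgroup.pow_mem _ ht 5)) hu
      have hv : ePt.permCongrHom v10 ∈ Cfsg.M24 := by
        have hc : ePt.permCongrHom (qP ^ i * v10) ∈ Cfsg.M24 := by
          rw [← hi, ← Cfsg.Agent.S0374.result]
          exact Subgroup.subset_closure (by simp)
        rw [map_mul, map_pow] at hc
        exact (Subgroup.mul_mem_cancel_left _ (Subgroup.pow_mem _ hq i)).1 hc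
      rcases hg with rfl | rfl | rfl
      · exact ⟨ht, hfix _ (Fin.ext (by rw [tP_comp]; decide))⟩
      · exact ⟨hq, hfix _ (Fin.ext (by rw [qP_comp]; decide))⟩
      · exact ⟨hv, hfix _ (Fin.ext (by rw [v10_comp]; decide +kernel))⟩
    exact fun g hg => h1 hg
  apply Subgroup.eq_of_le_of_card_ge
  · rintro _ ⟨g, hg, rfl⟩
    exact hmem g hg
  · rw [hcard]
    refine std_card_ge.trans (le_of_eq ?_)
    exact (Nat.card_congr (Subgroup.equivMapOfInjective _ _ ePt.permCongrHom.injective).toEquiv)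

/-- A simple group of order 10200960 with a subgroup of index 23 is isomorphic to M23. -/
theorem isoM23_of_index {G : Type*} [Group G] [Finite G] (hG : Cfsg.IsM23 G) (H : Subgroup G)
    (hH : H.index = 23) : Cfsg.Spor.IsoM23 G := by
  obtain ⟨e⟩ := mulEquiv_std hG.1 hG.2 H hH
  exact ⟨e.trans ((Std.equivMapOfInjective _ ePt.permCongrHom.injective).trans
    (MulEquiv.subgroupCongr std_eq))⟩

end Cfsg.Agent.SporadicA.T23
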