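import Cfsg.Agent.SporadicA.OctadStab

/-!
# The pointwise stabiliser of an octad in `M24` acts regularly on the 16 other points
-/

set_option autoImplicit false

namespace Cfsg.Agent.SporadicA.OctadFix

open Cfsg Cfsg.Agent.SporadicA.GolayBase Cfsg.Agent.SporadicA.GolayPerm
open Cfsg.Agent.SporadicA.OctadStab
open scoped Pointwise

/-- The 16 packed permutations fixing the reference octad pointwise. -/
def transL : List ℕ := [984818244535754528103549039458486304,
  965128854020860192151391391390468128,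
  963721886883755259286232606933354528,
  979121071158219704299181131031480352,
  968708902336673183175954409307867168,
  967812279691448225500382947153381408,
  971592882964418941354553515258775584,
  970499966350631336865513127433832480,
  976448692869377735270425038196672544,
  981818691054096003685363657089320992,
  972512676110088067912772961567868960,
  966182099583441531322624363496310816,
  983548720921252936276249910206105632,
  975346028712660580592452217730074656,
  980224387687010295957922729495201824,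
  961365507626256404119956257276790816]

/-- Check of a packed permutation: it is an automorphism, fixes the reference octad pointwise and
is an involution or the identity. -/
def transOk (P : ℕ) : Bool :=
  isPerm P && isAut P && Nat.beq (papp P 0) 0 && Nat.beq (papp P 1) 1 && Nat.beq (papp P 2) 2 &&
  Nat.beq (papp P 3) 3 && Nat.beq (papp P 5) 5 && Nat.beq (papp P 14) 14 &&
  Nat.beq (papp P 17) 17 && Nat.beq (papp P 23) 23 &&
  (List.range 24).all fun i => Nat.beq (papp P (papp P i)) i

theorem transL_ok : transL.all transOk = true := by decide +kernel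

theorem transL_hit : ∀ i < 24, Nat.testBit 8536111 i = false → ∃ P ∈ transL, papp P 4 = i := by
  decide +kernel

theorem idx_pt_four : idx (pt 4) = 4 := idx_pt (by norm_num)

theorem mem_oct0 {p : GolayPt} : p ∈ oct0 ↔ Nat.testBit 8536111 (idx p) = true := mem_fin

theorem mem_oct0_cases : ∀ i < 24, Nat.testBit 8536111 i = true →
    i = 0 ∨ i = 1 ∨ i = 2 ∨ i = 3 ∨ i = 5 ∨ i = 14 ∨ i = 17 ∨ i = 23 := by
  decide +kernel

/-- For each point `q` outside the reference octad there is an element of `M24` of order at most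
two that fixes the octad pointwise and maps the point of index 4 to `q`. -/
theorem exists_trans {q : GolayPt} (hq : q ∉ oct0) :
    ∃ g ∈ M24, (∀ x ∈ oct0, g x = x) ∧ g (pt 4) = q ∧ g * g = 1 := by
  have hq' : Nat.testBit 8536111 (idx q) = false := by
    rw [mem_oct0] at hq
    exact Bool.eq_false_iff.2 hq
  obtain ⟨P, hPL, hP4⟩ := transL_hit (idx q) (idx_lt q) hq'
  have hok := List.all_eq_true.1 transL_ok P hPL
  unfold transOk at hok
  simp only [Bool.and_eq_true, Nat.beq_eq, List.all_eq_true, List.mem_range] at hok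
  obtain ⟨⟨⟨⟨⟨⟨⟨⟨⟨⟨hperm, haut⟩, f0⟩, f1⟩, f2⟩, f3⟩, f5⟩, f14⟩, f17⟩, f23⟩, hinv⟩ := hok
  refine ⟨permOf P hperm, permOf_mem_M24 hperm haut, ?_, ?_, ?_⟩
  · intro x hx
    apply idx_injective
    rw [idx_permOf]
    rw [mem_oct0] at hx
    rcases mem_oct0_cases _ (idx_lt x) hx with h | h | h | h | h | h | h | h
    · rw [h, f0]
    · rw [h, f1]
    · rw [h, f2]
    · rw [h, f3]
    · rw [h, f5]
    · rw [h, f14]
    · rw [h, f17]
    · rw [h, f23]
  · apply idx_injective
    rw [idx_permOf, idx_pt_four, hP4]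
  · ext1 x
    rw [Equiv.Perm.mul_apply, Equiv.Perm.one_apply]
    apply idx_injective
    rw [idx_permOf, idx_permOf]
    exact hinv _ (idx_lt x)

/-- Seven octads through the point of index 4, meeting the reference octad in four points. -/
def sepL : List ℕ := [13811730, 8966165, 421910, 10698836, 10625178, 4343317, 150618]

theorem sepL_ok : ∀ m ∈ sepL, m < 2 ^ 24 ∧ isCode m = true ∧ popcount m = 8 ∧
    popcount (m &&& 8536127) = 5 := by
  decide +kernel

theorem sepL_sep : ∀ i < 24, ∀ j < 24, Nat.testBit 8536127 i = false →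
    Nat.testBit 8536127 j = false →
    (∀ m ∈ sepL, m.testBit i = m.testBit j) → i = j := by
  decide +kernel

/-- An element of `M24` fixing the reference octad pointwise and the point of index 4 is
trivial. -/
theorem eq_one_of_fix {g : Equiv.Perm GolayPt} (hg : g ∈ M24) (hfix : ∀ x ∈ oct0, g x = x)
    (h4 : g (pt 4) = pt 4) : g = 1 := by
  have hF : ∀ p ∈ fin 8536127, g p = p := by
    intro p hp
    have h : fin 8536127 = oct0 ∪ {pt 4} := by
      ext x
      have hx : ∀ i < 24, (Nat.testBit 8536127 i = true ↔ (Nat.testBit 8536111 i = true ∨ i = 4)) := by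
        decide +kernel
      rw [mem_fin, Finset.mem_union, Finset.mem_singleton, mem_oct0, hx _ (idx_lt x)]
      constructor
      · rintro (h | h)
        · exact Or.inl h
        · exact Or.inr (idx_injective (by rw [h, idx_pt_four]))
      · rintro (h | h)
        · exact Or.inl h
        · exact Or.inr (by rw [h, idx_pt_four])
    rw [h, Finset.mem_union, Finset.mem_singleton] at hp
    rcases hp with hp | rfl
    · exact hfix p hp
    · exact h4
  have hoct : ∀ m ∈ sepL, g • fin m = fin m := by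
    intro m hm
    obtain ⟨h1, h2, h3, h5⟩ := sepL_ok m hm
    have ho : fin m ∈ octads := (fin_mem_octads_iff h1).2 ⟨h2, h3⟩
    apply octad_unique ((smul_mem_octads hg).2 ho) ho
    rw [← h5, ← card_fin]
    apply Finset.card_le_card
    intro x hx
    rw [fin_and, Finset.mem_inter] at hx
    rw [Finset.mem_inter]
    refine ⟨?_, hx.1⟩
    rw [← hF x hx.2]
    exact (mem_smul_iff g _ x).2 hx.1
  ext1 p
  rw [Equiv.Perm.one_apply]
  by_cases hp : p ∈ fin 8536127
  · exact hF p hp
  · have hgp : g p ∉ fin 8536127 := by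
      intro h
      have := hF _ h
      exact hp ((g.injective this) ▸ h)
    symm
    apply idx_injective
    apply sepL_sep _ (idx_lt _) _ (idx_lt _)
    · rw [mem_fin] at hp
      exact Bool.eq_false_iff.2 hp
    · rw [mem_fin] at hgp
      exact Bool.eq_false_iff.2 hgp
    · intro m hm
      rw [Bool.eq_iff_iff, ← mem_fin, ← mem_fin, ← hoct m hm, mem_smul_iff, hoct m hm]

/-- The pointwise stabiliser of the reference octad. -/
abbrev fixOct (o : Finset GolayPt) : Subgroup (Equiv.Perm GolayPt) :=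
  M24 ⊓ fixingSubgroup (Equiv.Perm GolayPt) (o : Set GolayPt)

theorem mem_fixOct {o : Finset GolayPt} {g : Equiv.Perm GolayPt} :
    g ∈ fixOct o ↔ g ∈ M24 ∧ ∀ x ∈ o, g x = x := by
  rw [fixOct, Subgroup.mem_inf, mem_fixingSubgroup_iff]
  rfl

theorem pt4_notMem : pt 4 ∉ oct0 := by
  rw [mem_oct0, idx_pt_four]
  decide +kernel

theorem fixOct_oct0_sq {g : Equiv.Perm GolayPt} (hg : g ∈ fixOct oct0) : g * g = 1 := by
  rw [mem_fixOct] at hg
  have hq : g (pt 4) ∉ oct0 := by
    intro h
    have := hg.2 _ h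
    exact pt4_notMem ((g.injective this) ▸ h)
  obtain ⟨t, ht, htfix, ht4, ht2⟩ := exists_trans hq
  have h1 : t⁻¹ * g = 1 := by
    apply eq_one_of_fix (M24.mul_mem (M24.inv_mem ht) hg.1)
    · intro x hx
      rw [Equiv.Perm.mul_apply, hg.2 x hx, Equiv.Perm.inv_eq_iff_eq, htfix x hx]
    · rw [Equiv.Perm.mul_apply, Equiv.Perm.inv_eq_iff_eq, ht4]
  rw [inv_mul_eq_one] at h1
  rw [← h1]
  exact ht2

theorem card_compl_oct0 : Nat.card {x : GolayPt // x ∉ oct0} = 16 := by
  rw [Nat.card_eq_fintype_card, Fintype.card_subtype_compl]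
  rw [Fintype.card_coe, oct0, card_fin]
  have h1 : popcount 8536111 = 8 := by decide +kernel
  have h2 : Fintype.card GolayPt = 24 := by decide +kernel
  rw [h1, h2]

theorem card_fixOct_oct0 : Nat.card (fixOct oct0) = 16 := by
  rw [← card_compl_oct0]
  have hout : ∀ g : fixOct oct0, (g : Equiv.Perm GolayPt) (pt 4) ∉ oct0 := by
    rintro ⟨g, hg⟩ h
    rw [mem_fixOct] at hg
    have := hg.2 _ h
    exact pt4_notMem ((g.injective this) ▸ h)
  refine Nat.card_congr (Equiv.ofBijective
    (fun g => (⟨(g : Equiv.Perm GolayPt) (pt 4), hout g⟩ : {x : GolayPt // x ∉ oct0})) ⟨?_, ?_⟩)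
  · rintro ⟨g, hg⟩ ⟨k, hk⟩ h
    have h' : g (pt 4) = k (pt 4) := congrArg Subtype.val h
    rw [mem_fixOct] at hg hk
    have h1 : k⁻¹ * g = 1 := by
      apply eq_one_of_fix (M24.mul_mem (M24.inv_mem hk.1) hg.1)
      · intro x hx
        rw [Equiv.Perm.mul_apply, hg.2 x hx, Equiv.Perm.inv_eq_iff_eq, hk.2 x hx]
      · rw [Equiv.Perm.mul_apply, Equiv.Perm.inv_eq_iff_eq, h']
    rw [inv_mul_eq_one] at h1
    exact Subtype.ext h1.symm
  · rintro ⟨q, hq⟩
    obtain ⟨t, ht, htfix, ht4, -⟩ := exists_trans hq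
    exact ⟨⟨t, mem_fixOct.2 ⟨ht, htfix⟩⟩, Subtype.ext ht4⟩

/-- Conjugation carries pointwise stabilisers of octads to each other. -/
theorem conj_mem_fixOct {o : Finset GolayPt} {k g : Equiv.Perm GolayPt} (hk : k ∈ M24) :
    k * g * k⁻¹ ∈ fixOct (k • o) ↔ g ∈ fixOct o := by
  rw [mem_fixOct, mem_fixOct]
  constructor
  · rintro ⟨h1, h2⟩
    refine ⟨?_, ?_⟩
    · have := M24.mul_mem (M24.mul_mem (M24.inv_mem hk) h1) hk
      have he : k⁻¹ * (k * g * k⁻¹) * k = g := by group
      rwa [he] at this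
    · intro x hx
      have := h2 (k x) ((mem_smul_iff k o x).2 hx)
      rw [Equiv.Perm.mul_apply, Equiv.Perm.mul_apply,
        show k⁻¹ (k x) = x from Equiv.symm_apply_apply k x] at this
      exact k.injective this
  · rintro ⟨h1, h2⟩
    refine ⟨M24.mul_mem (M24.mul_mem hk h1) (M24.inv_mem hk), ?_⟩
    intro y hy
    obtain ⟨x, rfl⟩ := k.surjective y
    rw [mem_smul_iff] at hy
    rw [Equiv.Perm.mul_apply, Equiv.Perm.mul_apply,
      show k⁻¹ (k x) = x from Equiv.symm_apply_apply k x, h2 x hy]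

theorem fixOct_smul_card {o : Finset GolayPt} {k : Equiv.Perm GolayPt} (hk : k ∈ M24) :
    Nat.card (fixOct (k • o)) = Nat.card (fixOct o) := by
  symm
  refine Nat.card_congr (Equiv.ofBijective
    (fun g : fixOct o => (⟨k * (g : Equiv.Perm GolayPt) * k⁻¹,
      (conj_mem_fixOct hk).2 g.2⟩ : fixOct (k • o))) ⟨?_, ?_⟩)
  · rintro ⟨g, hg⟩ ⟨g', hg'⟩ h
    have h' : k * g * k⁻¹ = k * g' * k⁻¹ := congrArg Subtype.val h
    exact Subtype.ext (mul_left_cancel (mul_right_cancel h'))
  · rintro ⟨g, hg⟩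
    have he : k * (k⁻¹ * g * k) * k⁻¹ = g := by group
    refine ⟨⟨k⁻¹ * g * k, (conj_mem_fixOct hk).1 (by rw [he]; exact hg)⟩, Subtype.ext he⟩

theorem card_fixOct {o : Finset GolayPt} (ho : o ∈ octads) : Nat.card (fixOct o) = 16 := by
  obtain ⟨k, hk, h⟩ := exists_smul_eq_oct0 ho
  rw [← fixOct_smul_card (o := o) hk, h, card_fixOct_oct0]

theorem fixOct_sq {o : Finset GolayPt} (ho : o ∈ octads) {g : Equiv.Perm GolayPt}
    (hg : g ∈ fixOct o) : g * g = 1 := by
  obtain ⟨k, hk, h⟩ := exists_smul_eq_oct0 ho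
  have h1 := fixOct_oct0_sq (h ▸ (conj_mem_fixOct hk).2 hg)
  have he : (k * g * k⁻¹) * (k * g * k⁻¹) = k * (g * g) * k⁻¹ := by group
  rw [he] at h1
  have h2 : g * g = k⁻¹ * (k * (g * g) * k⁻¹) * k := by group
  rw [h2, h1]
  group

/-- For two points `p`, `q` outside the octad `o` there is exactly one element of `M24` fixing `o`
pointwise and mapping `p` to `q`. -/
theorem existsUnique_fixOct {o : Finset GolayPt} (ho : o ∈ octads) {p q : GolayPt} (hp : p ∉ o)
    (hq : q ∉ o) : ∃! g : Equiv.Perm GolayPt, g ∈ fixOct o ∧ g p = q := by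
  obtain ⟨k, hk, h⟩ := exists_smul_eq_oct0 ho
  have hout : ∀ x, x ∉ o → k x ∉ oct0 := by
    intro x hx
    rw [← h, mem_smul_iff]
    exact hx
  -- transitivity from the point of index 4
  obtain ⟨a, ha, hafix, ha4, -⟩ := exists_trans (hout p hp)
  obtain ⟨b, hb, hbfix, hb4, -⟩ := exists_trans (hout q hq)
  have hcfix : b * a⁻¹ ∈ fixOct oct0 := by
    refine mem_fixOct.2 ⟨M24.mul_mem hb (M24.inv_mem ha), ?_⟩
    intro x hx
    have : a⁻¹ x = x := by rw [Equiv.Perm.inv_eq_iff_eq, hafix x hx]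
    rw [Equiv.Perm.mul_apply, this, hbfix x hx]
  have hcp : (b * a⁻¹) (k p) = k q := by
    have : a⁻¹ (k p) = pt 4 := by rw [Equiv.Perm.inv_eq_iff_eq, ha4]
    rw [Equiv.Perm.mul_apply, this, hb4]
  refine ⟨k⁻¹ * (b * a⁻¹) * k, ⟨?_, ?_⟩, ?_⟩
  · apply (conj_mem_fixOct hk).1
    have he : k * (k⁻¹ * (b * a⁻¹) * k) * k⁻¹ = b * a⁻¹ := by group
    rw [he, h]
    exact hcfix
  · show k⁻¹ ((b * a⁻¹) (k p)) = q
    rw [hcp]
    exact Equiv.symm_apply_apply k q
  · rintro g ⟨hg, hgp⟩
    have hg' : k * g * k⁻¹ ∈ fixOct oct0 := h ▸ (conj_mem_fixOct hk).2 hg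
    have hkey : (b⁻¹ * (k * g * k⁻¹) * a) = 1 := by
      apply eq_one_of_fix
      · exact M24.mul_mem (M24.mul_mem (M24.inv_mem hb) (mem_fixOct.1 hg').1) ha
      · intro x hx
        rw [Equiv.Perm.mul_apply, Equiv.Perm.mul_apply, hafix x hx, (mem_fixOct.1 hg').2 x hx,
          Equiv.Perm.inv_eq_iff_eq, hbfix x hx]
      · rw [Equiv.Perm.mul_apply, Equiv.Perm.mul_apply, ha4, Equiv.Perm.inv_eq_iff_eq, hb4]
        show k (g (k⁻¹ (k p))) = k q
        rw [show k⁻¹ (k p) = p from Equiv.symm_apply_apply k p, hgp]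
    have h3 : g = k⁻¹ * (b * (b⁻¹ * (k * g * k⁻¹) * a) * a⁻¹) * k := by group
    rw [h3, hkey]
    group

end Cfsg.Agent.SporadicA.OctadFix
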