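import Mathlib
import Cfsg.Agent.SporadicA.DegreePrime

/-!
A faithful primitive permutation group of degree 22 and order 443520 is simple (the Mathieu group
M₂₂): the Sylow 11-subgroup has a normaliser of order 55.
-/

set_option autoImplicit false

namespace Cfsg.Agent.SporadicA.Degree22

open Subgroup MulAction

/-- In a faithful transitive group of degree `2 * p` with `p ^ 2 ∤ |G|`, an element centralising a
subgroup `P` of order `p` and fixing a point is trivial. -/
theorem centralizer_stabilizer_trivial {G Ω : Type*} [Group G] [Finite G] [MulAction G Ω]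
    [FaithfulSMul G Ω] (p : ℕ) [Fact p.Prime] (hΩ : Nat.card Ω = 2 * p)
    (htr : IsPretransitive G Ω) (h2 : ¬ p ^ 2 ∣ Nat.card G) (P : Subgroup G)
    (hP : Nat.card P = p) (c : G) (hc : c ∈ centralizer (P : Set G)) (x : Ω) (hx : c • x = x) :
    c = 1 := by
  have hp : p.Prime := Fact.out
  have hfΩ : Finite Ω := Nat.finite_of_card_ne_zero (by rw [hΩ]; exact mul_ne_zero two_ne_zero hp.ne_zero)
  have hst : ∀ y : Ω, ¬ p ∣ Nat.card (stabilizer G y) := by
    intro y hd
    apply h2
    have h3 := DegreePrime.card_stabilizer_of_isPretransitive (G := G) y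
    rw [← h3, hΩ, pow_two]
    exact Nat.mul_dvd_mul hd (Dvd.intro_left 2 rfl)
  -- elements of order dividing `p` with a fixed point are trivial
  have hfix : ∀ (g : G) (y : Ω), g ^ p = 1 → g • y = y → g = 1 := by
    intro g y hg hgy
    have h4 : orderOf g ∣ p := orderOf_dvd_of_pow_eq_one hg
    rcases (Nat.dvd_prime hp).1 h4 with h5 | h5
    · exact orderOf_eq_one_iff.1 h5
    · exfalso
      apply hst y
      have h6 : orderOf (⟨g, mem_stabilizer_iff.2 hgy⟩ : stabilizer G y) ∣
        Nat.card (stabilizer G y) := orderOf_dvd_natCard _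
      rwa [Subgroup.orderOf_mk, h5] at h6
  have hPp : ∀ q ∈ P, q ^ p = 1 := by
    intro q hq
    have := pow_card_eq_one' (x := (⟨q, hq⟩ : P))
    rw [hP] at this
    exact congrArg Subtype.val this
  have horb : ∀ y : Ω, (orbit P y).ncard = p := by
    intro y
    have h1 : Nat.card (orbit P y) * Nat.card (stabilizer P y) = Nat.card P := by
      rw [← Nat.card_prod]
      exact Nat.card_congr (orbitProdStabilizerEquivGroup P y)
    have h3 : stabilizer P y = ⊥ := by
      rw [eq_bot_iff]
      rintro ⟨q, hq⟩ hqy
      rw [mem_bot]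
      apply Subtype.ext
      exact hfix q y (hPp q hq) hqy
    rw [h3, card_bot, mul_one, hP] at h1
    exact h1
  rw [mem_centralizer_iff] at hc
  have hcO : ∀ y ∈ orbit P x, c • y = y := by
    rintro _ ⟨q, rfl⟩
    change c • ((q : G) • x) = (q : G) • x
    rw [← mul_smul, ← hc q q.2, mul_smul, hx]
  apply hfix c x _ hx
  apply FaithfulSMul.eq_of_smul_eq_smul (α := Ω)
  intro y
  rw [one_smul]
  by_cases hy : y ∈ orbit P x
  · have : ∀ n : ℕ, c ^ n • y = y := by
      intro n
      induction n with
      | zero => simp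
      | succ n ih => rw [pow_succ, mul_smul, hcO y hy, ih]
    exact this p
  · have hcy : c • y ∉ orbit P x := by
      intro h
      have h3 := hcO _ h
      exact hy (smul_left_cancel c h3 ▸ h)
    have hcov : orbit P x ∪ orbit P y = Set.univ := by
      apply Set.eq_of_subset_of_ncard_le (Set.subset_univ _) _ (Set.toFinite _)
      rw [Set.ncard_univ, hΩ, Set.ncard_union_eq _ (Set.toFinite _) (Set.toFinite _), horb, horb]
      · omega
      · rw [Set.disjoint_left]
        rintro z ⟨q, rfl⟩ hz
        apply hy
        have h4 : (fun m : P => m • x) q ∈ orbit P y := hz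
        rw [← orbit_eq_iff] at h4
        rw [← orbit_eq_iff, ← h4, orbit_smul]
    have h5 : c • y ∈ orbit P x ∪ orbit P y := by rw [hcov]; trivial
    rcases h5 with h5 | ⟨q, hq⟩
    · exact absurd h5 hcy
    · have hq' : (q : G) • y = c • y := hq
      have h6 : ∀ n : ℕ, c ^ n • y = (q : G) ^ n • y := by
        intro n
        induction n with
        | zero => simp
        | succ n ih =>
          have hcomm : Commute c ((q : G) ^ n) := by
            apply Commute.pow_right
            exact (hc q q.2).symm
          rw [pow_succ', mul_smul, ih, ← mul_smul, hcomm.eq, mul_smul, ← hq', ← mul_smul,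
            ← pow_succ]
      rw [h6 p, hPp q q.2, one_smul]

/-- The centraliser of a Sylow subgroup has order `p` or `2 * p`. -/
theorem card_centralizer {G Ω : Type*} [Group G] [Finite G] [MulAction G Ω]
    [FaithfulSMul G Ω] (p : ℕ) [Fact p.Prime] (hΩ : Nat.card Ω = 2 * p)
    (htr : IsPretransitive G Ω) (h2 : ¬ p ^ 2 ∣ Nat.card G) (P : Subgroup G)
    (hP : Nat.card P = p) : Nat.card (centralizer (P : Set G)) = p ∨
      Nat.card (centralizer (P : Set G)) = 2 * p := by
  have hp : p.Prime := Fact.out
  have hfΩ : Finite Ω := Nat.finite_of_card_ne_zero (by rw [hΩ]; exact mul_ne_zero two_ne_zero hp.ne_zero)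
  obtain ⟨x⟩ : Nonempty Ω := (Nat.card_ne_zero.1 (by rw [hΩ]; exact mul_ne_zero two_ne_zero hp.ne_zero)).1
  have hle : Nat.card (centralizer (P : Set G)) ≤ 2 * p := by
    rw [← hΩ]
    apply Nat.card_le_card_of_injective (fun c : centralizer (P : Set G) => (c : G) • x)
    intro c d hcd
    have h3 : ((d : G)⁻¹ * (c : G)) • x = x := by
      have : (c : G) • x = (d : G) • x := hcd
      rw [mul_smul, this, inv_smul_smul]
    have h4 := centralizer_stabilizer_trivial p hΩ htr h2 P hP _
      (mul_mem (inv_mem d.2) c.2) x h3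
    apply Subtype.ext
    exact (inv_mul_eq_one.1 h4).symm
  have hcyc : IsCyclic P := isCyclic_of_prime_card hP
  have hPC : P ≤ centralizer (P : Set G) := by
    intro a ha
    rw [mem_centralizer_iff]
    intro b hb
    have := (IsCyclic.commGroup (α := P)).mul_comm ⟨b, hb⟩ ⟨a, ha⟩
    exact congrArg Subtype.val this
  obtain ⟨m, hm⟩ := Subgroup.card_dvd_of_le hPC
  rw [hP] at hm
  have hpos : 0 < Nat.card (centralizer (P : Set G)) := Nat.card_pos
  rw [hm] at hle hpos
  have hm2 : m ≤ 2 := by
    by_contra h
    have h3 : 3 ≤ m := by omega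
    have := Nat.mul_le_mul_left p h3
    have := hp.pos
    omega
  have hm0 : 0 < m := Nat.pos_of_mul_pos_left hpos
  rcases (by omega : m = 1 ∨ m = 2) with h | h
  · left; rw [hm, h, mul_one]
  · right; rw [hm, h, mul_comm]

/-- A faithful transitive group of degree 22 and order 443520 has Sylow 11-normalisers of
order 55. -/
theorem card_normalizer_degree22 {G Ω : Type*} [Group G] [MulAction G Ω]
    [FaithfulSMul G Ω] [Fact (Nat.Prime 11)] (hΩ : Nat.card Ω = 22)
    (hG : Nat.card G = 443520) (htr : IsPretransitive G Ω) (P : Sylow 11 G) :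
    Nat.card (normalizer (P : Set G)) = 55 := by
  have hfG : Finite G := Nat.finite_of_card_ne_zero (by rw [hG]; norm_num)
  have hd1 : 11 ∣ Nat.card G := by rw [hG]; norm_num
  have hd2 : ¬ 11 ^ 2 ∣ Nat.card G := by rw [hG]; norm_num
  have hP : Nat.card P = 11 := DegreePrime.card_sylow_of_factorization 11 P hd1 hd2
  have hcardP : Nat.card ↥(P : Subgroup G) = 11 := hP
  have hcyc : IsCyclic P := isCyclic_of_prime_card hP
  have hC := card_centralizer (Ω := Ω) 11 (by rw [hΩ]) htr hd2 (P : Subgroup G) hP
  have key := card_dvd_of_injective _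
    (QuotientGroup.kerLift_injective (P : Subgroup G).normalizerMonoidHom)
  rw [normalizerMonoidHom_ker, ← index, ← relIndex] at key
  rw [IsCyclic.card_mulAut, hcardP, Nat.totient_prime (by norm_num)] at key
  have hCN : centralizer ((P : Subgroup G) : Set G) ≤ normalizer (P : Set G) :=
    centralizer_le_normalizer _
  have h1 : Nat.card (normalizer (P : Set G)) = Nat.card (centralizer ((P : Subgroup G) : Set G)) *
      (centralizer ((P : Subgroup G) : Set G)).relIndex (normalizer (P : Set G)) := by
    have h2 := Subgroup.card_mul_index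
      ((centralizer ((P : Subgroup G) : Set G)).subgroupOf (normalizer (P : Set G)))
    rw [Nat.card_congr (subgroupOfEquivOfLe hCN).toEquiv] at h2
    exact h2.symm
  set d := (centralizer ((P : Subgroup G) : Set G)).relIndex (normalizer (P : Set G)) with hd
  have hmod := card_sylow_modEq_one 11 G
  rw [Sylow.card_eq_index_normalizer P] at hmod
  have h3 := Subgroup.card_mul_index (normalizer (P : Set G))
  rw [hG] at h3
  set i := (normalizer (P : Set G)).index with hi
  have hd10 : d ∈ Nat.divisors 10 := Nat.mem_divisors.2 ⟨key, by norm_num⟩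
  have hdiv : Nat.divisors 10 = {1, 2, 5, 10} := by decide
  rw [hdiv] at hd10
  simp only [Finset.mem_insert, Finset.mem_singleton] at hd10
  have hmod' : i % 11 = 1 := hmod
  rw [h1]
  rw [h1] at h3
  rcases hC with hC | hC <;> rw [hC] at h3 ⊢ <;>
  rcases hd10 with h5 | h5 | h5 | h5 <;> rw [h5] at h3 ⊢ <;> omega

/-- **Simplicity of M₂₂**: a faithful primitive group of degree 22 and order 443520 is simple. -/
theorem isSimpleGroup_of_card_degree22 {G Ω : Type*} [Group G] [MulAction G Ω]
    [FaithfulSMul G Ω] (hΩ : Nat.card Ω = 22) (hG : Nat.card G = 443520)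
    (hprim : IsPreprimitive G Ω) : IsSimpleGroup G := by
  have : Fact (Nat.Prime 11) := ⟨by norm_num⟩
  have hfG : Finite G := Nat.finite_of_card_ne_zero (by rw [hG]; norm_num)
  have hd1 : 11 ∣ Nat.card G := by rw [hG]; norm_num
  have hd2 : ¬ 11 ^ 2 ∣ Nat.card G := by rw [hG]; norm_num
  obtain ⟨P⟩ : Nonempty (Sylow 11 G) := inferInstance
  have hne : Nonempty Ω := (Nat.card_ne_zero.1 (by rw [hΩ]; norm_num)).1
  have hP : Nat.card P = 11 := DegreePrime.card_sylow_of_factorization 11 P hd1 hd2
  apply SimpleCrit.isSimpleGroup_of_primitive hprim 11 5 (by norm_num) (by rw [hΩ]; norm_num) P hP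
  · rw [card_normalizer_degree22 (Ω := Ω) hΩ hG inferInstance P]
  · rw [hG]; norm_num

end Cfsg.Agent.SporadicA.Degree22
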