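import Cfsg.Agent.SporadicA.GolayBase

/-!
# Permutations of the 24 points packed in natural numbers, and membership in `Cfsg.M24`

A permutation of the 24 indices is packed in a natural number `P`, five bits per point:
index `i` goes to `papp P i = (P >>> (5 * i)) % 32`.
-/

set_option autoImplicit false

namespace Cfsg.Agent.SporadicA.GolayPerm

open Cfsg Cfsg.Agent.SporadicA.GolayBase
open scoped Pointwise

/-! ### `M24` -/

theorem smul_finset_eq_map (g : Equiv.Perm GolayPt) (s : Finset GolayPt) :
    g • s = s.map g.toEmbedding := by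
  ext p
  rw [Finset.mem_smul_finset, Finset.mem_map]
  rfl

theorem mem_smul_iff (g : Equiv.Perm GolayPt) (s : Finset GolayPt) (p : GolayPt) :
    g p ∈ g • s ↔ p ∈ s := by
  rw [smul_finset_eq_map, Finset.mem_map]
  constructor
  · rintro ⟨q, hq, h⟩
    rwa [← g.injective h]
  · intro h
    exact ⟨p, h, rfl⟩

/-- `g` lies in `M24` exactly when it maps (supports of) code words to code words. -/
theorem mem_M24_iff (g : Equiv.Perm GolayPt) :
    g ∈ M24 ↔ ∀ s ∈ supports (golayCode : Set (GolayPt → ZMod 2)),
      g • s ∈ supports (golayCode : Set (GolayPt → ZMod 2)) := by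
  constructor
  · intro hg s hs
    have h : g • supports (golayCode : Set (GolayPt → ZMod 2)) =
        supports (golayCode : Set (GolayPt → ZMod 2)) := hg
    rw [← h]
    exact Set.smul_mem_smul_set hs
  · intro h
    have hsub : g • supports (golayCode : Set (GolayPt → ZMod 2)) ⊆
        supports (golayCode : Set (GolayPt → ZMod 2)) := by
      rintro _ ⟨s, hs, rfl⟩
      exact h s hs
    have hfin : (supports (golayCode : Set (GolayPt → ZMod 2))).Finite := Set.toFinite _
    show g • supports (golayCode : Set (GolayPt → ZMod 2)) =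
        supports (golayCode : Set (GolayPt → ZMod 2))
    apply Set.eq_of_subset_of_ncard_le hsub _ hfin
    rw [Set.ncard_smul_set]

theorem smul_mem_supports {g : Equiv.Perm GolayPt} (hg : g ∈ M24) {s : Finset GolayPt} :
    g • s ∈ supports (golayCode : Set (GolayPt → ZMod 2)) ↔
      s ∈ supports (golayCode : Set (GolayPt → ZMod 2)) := by
  constructor
  · intro h
    have := (mem_M24_iff g⁻¹).1 (M24.inv_mem hg) _ h
    rwa [inv_smul_smul] at this
  · exact (mem_M24_iff g).1 hg s

theorem smul_mem_wordsOfWeight {g : Equiv.Perm GolayPt} (hg : g ∈ M24) {s : Finset GolayPt}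
    {n : ℕ} : g • s ∈ wordsOfWeight (golayCode : Set (GolayPt → ZMod 2)) n ↔
      s ∈ wordsOfWeight (golayCode : Set (GolayPt → ZMod 2)) n := by
  show _ ∧ _ ↔ _ ∧ _
  rw [smul_mem_supports hg, Finset.card_smul_finset]

theorem smul_mem_octads {g : Equiv.Perm GolayPt} (hg : g ∈ M24) {s : Finset GolayPt} :
    g • s ∈ octads ↔ s ∈ octads := smul_mem_wordsOfWeight hg

theorem smul_mem_dodecads {g : Equiv.Perm GolayPt} (hg : g ∈ M24) {s : Finset GolayPt} :
    g • s ∈ dodecads ↔ s ∈ dodecads := smul_mem_wordsOfWeight hg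

/-- The word with the values of `w` moved by `g`. -/
theorem smul_support₂ (g : Equiv.Perm GolayPt) (w : GolayPt → ZMod 2) :
    g • support₂ w = support₂ (fun p => w (g⁻¹ p)) := by
  ext p
  rw [mem_support₂]
  have h := mem_smul_iff g (support₂ w) (g⁻¹ p)
  rw [show g (g⁻¹ p) = p from Equiv.apply_symm_apply g p, mem_support₂] at h
  exact h

theorem mem_M24_iff_comp_mem (g : Equiv.Perm GolayPt) :
    g ∈ M24 ↔ ∀ w ∈ golayCode, (fun p => w (g⁻¹ p)) ∈ golayCode := by
  rw [mem_M24_iff]
  have key : ∀ w : GolayPt → ZMod 2,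
      support₂ w ∈ supports (golayCode : Set (GolayPt → ZMod 2)) ↔ w ∈ golayCode := by
    intro w
    rw [mem_supports_iff, mem_golayCode_iff, maskOf_support₂]
  constructor
  · intro h w hw
    have := h (support₂ w) ((key w).2 hw)
    rwa [smul_support₂, key] at this
  · rintro h _ ⟨w, hw, rfl⟩
    rw [smul_support₂, key]
    exact h w hw

/-- The linear map moving the values of a word by `g`. -/
def moveWord (g : Equiv.Perm GolayPt) : (GolayPt → ZMod 2) →ₗ[ZMod 2] (GolayPt → ZMod 2) where
  toFun w := fun p => w (g⁻¹ p)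
  map_add' _ _ := rfl
  map_smul' _ _ := rfl

theorem mem_M24_of_basis (g : Equiv.Perm GolayPt)
    (h : ∀ k < 12, isCode (maskOf (g • fin (basisMask k))) = true) : g ∈ M24 := by
  rw [mem_M24_iff_comp_mem]
  have hb : ∀ k < 12, moveWord g (word (basisMask k)) ∈ golayCode := by
    intro k hk
    have h1 := h k hk
    rw [mem_golayCode_iff, ← maskOf_support₂]
    have : g • fin (basisMask k) = support₂ (moveWord g (word (basisMask k))) := by
      rw [← support₂_word, smul_support₂]
      rfl
    rwa [this] at h1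
  have hw : ∀ i c, moveWord g (word c) ∈ golayCode →
      moveWord g (word (i % 2 * c)) ∈ golayCode := by
    intro i c hc
    have hi : i % 2 < 2 := Nat.mod_lt _ (by norm_num)
    interval_cases i % 2
    · rw [zero_mul, word_zero, map_zero]; exact golayCode.zero_mem
    · rwa [one_mul]
  have hx : ∀ m n, moveWord g (word m) ∈ golayCode → moveWord g (word n) ∈ golayCode →
      moveWord g (word (m ^^^ n)) ∈ golayCode := by
    intro m n hm hn
    rw [word_xor, map_add]
    exact golayCode.add_mem hm hn
  have henc : ∀ i, moveWord g (word (enc i)) ∈ golayCode := by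
    intro i
    exact hx _ _ (hx _ _ (hx _ _ (hx _ _ (hx _ _ (hx _ _ (hx _ _ (hx _ _ (hx _ _ (hx _ _ (hx _ _
      (hw _ _ (hb 0 (by norm_num))) (hw _ _ (hb 1 (by norm_num)))) (hw _ _ (hb 2 (by norm_num))))
      (hw _ _ (hb 3 (by norm_num)))) (hw _ _ (hb 4 (by norm_num)))) (hw _ _ (hb 5 (by norm_num))))
      (hw _ _ (hb 6 (by norm_num)))) (hw _ _ (hb 7 (by norm_num)))) (hw _ _ (hb 8 (by norm_num))))
      (hw _ _ (hb 9 (by norm_num)))) (hw _ _ (hb 10 (by norm_num)))) (hw _ _ (hb 11 (by norm_num)))
  intro w hw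
  obtain ⟨i, -, hi⟩ := isCode_iff_exists.1 ((mem_golayCode_iff w).1 hw)
  have := henc i
  rw [← hi, word_maskW] at this
  exact this

/-! ### Packed permutations -/

/-- The image of the index `i` under the packed permutation `P`. -/
def papp (P i : ℕ) : ℕ := (P >>> (5 * i)) % 32

/-- Pack a list of images. -/
def pack : List ℕ → ℕ
  | [] => 0
  | a :: l => a + 32 * pack l

/-- The image of the mask `m` under the packed permutation `P`. -/
def pimg (P m : ℕ) : ℕ :=
  ((m % 2) <<< papp P 0) ^^^ (((m >>> 1) % 2) <<< papp P 1) ^^^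
  (((m >>> 2) % 2) <<< papp P 2) ^^^ (((m >>> 3) % 2) <<< papp P 3) ^^^
  (((m >>> 4) % 2) <<< papp P 4) ^^^ (((m >>> 5) % 2) <<< papp P 5) ^^^
  (((m >>> 6) % 2) <<< papp P 6) ^^^ (((m >>> 7) % 2) <<< papp P 7) ^^^
  (((m >>> 8) % 2) <<< papp P 8) ^^^ (((m >>> 9) % 2) <<< papp P 9) ^^^
  (((m >>> 10) % 2) <<< papp P 10) ^^^ (((m >>> 11) % 2) <<< papp P 11) ^^^
  (((m >>> 12) % 2) <<< papp P 12) ^^^ (((m >>> 13) % 2) <<< papp P 13) ^^^
  (((m >>> 14) % 2) <<< papp P 14) ^^^ (((m >>> 15) % 2) <<< papp P 15) ^^^
  (((m >>> 16) % 2) <<< papp P 16) ^^^ (((m >>> 17) % 2) <<< papp P 17) ^^^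
  (((m >>> 18) % 2) <<< papp P 18) ^^^ (((m >>> 19) % 2) <<< papp P 19) ^^^
  (((m >>> 20) % 2) <<< papp P 20) ^^^ (((m >>> 21) % 2) <<< papp P 21) ^^^
  (((m >>> 22) % 2) <<< papp P 22) ^^^ (((m >>> 23) % 2) <<< papp P 23)

/-- Whether `P` packs a permutation of the 24 indices. -/
def isPerm (P : ℕ) : Bool := Nat.beq (pimg P 16777215) 16777215

/-- The fold form of `pimg`. -/
theorem pimg_eq_foldl (P m : ℕ) :
    pimg P m = (List.range 24).foldl (fun acc i => acc ^^^ (((m >>> i) % 2) <<< papp P i)) 0 := by
  have h : List.range 24 = [0, 1, 2, 3, 4, 5, 6, 7, 8, 9, 10, 11, 12, 13, 14, 15, 16, 17, 18, 19,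
    20, 21, 22, 23] := by decide
  rw [h]
  simp only [List.foldl_cons, List.foldl_nil, Nat.zero_xor, Nat.shiftRight_zero, pimg]

theorem testBit_foldl_xor (f : ℕ → ℕ) (l : List ℕ) (a j : ℕ) :
    (l.foldl (fun acc i => acc ^^^ f i) a).testBit j =
      (a.testBit j ^^ l.foldl (fun acc i => acc ^^ (f i).testBit j) false) := by
  induction l generalizing a with
  | nil => simp
  | cons b l ih =>
    have h2 : ∀ (l : List ℕ) (c d : Bool), l.foldl (fun acc i => acc ^^ (f i).testBit j) (c ^^ d) =
        (c ^^ l.foldl (fun acc i => acc ^^ (f i).testBit j) d) := by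
      intro l
      induction l with
      | nil => intro c d; rfl
      | cons e l ihl =>
        intro c d
        rw [List.foldl_cons, List.foldl_cons, Bool.xor_assoc, ihl]
    rw [List.foldl_cons, ih, List.foldl_cons, Nat.testBit_xor, Bool.xor_assoc]
    congr 1
    rw [← h2, Bool.xor_false, Bool.false_xor]

theorem testBit_term (m a i j : ℕ) :
    (((m >>> i) % 2) <<< a).testBit j = (decide (a = j) && m.testBit i) := by
  rw [← ite_testBit, Nat.testBit_shiftLeft]
  cases m.testBit i with
  | false => simp
  | true =>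
    by_cases h : a = j
    · subst h; simp
    · simp only [if_true, h, decide_false,
        Bool.false_and, Bool.and_eq_false_imp, decide_eq_true_eq]
      intro h1
      rw [Bool.eq_false_iff]
      intro h2
      rw [Nat.testBit_one_eq_true_iff_self_eq_zero] at h2
      omega

theorem foldl_xor_false {l : List ℕ} {b : ℕ → Bool} (h : ∀ i ∈ l, b i = false) (a : Bool) :
    l.foldl (fun acc i => acc ^^ b i) a = a := by
  induction l generalizing a with
  | nil => rfl
  | cons c l ih =>
    rw [List.foldl_cons, h c List.mem_cons_self, Bool.xor_false]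
    exact ih (fun i hi => h i (List.mem_cons_of_mem _ hi)) a

theorem foldl_xor_single {l : List ℕ} (hl : l.Nodup) {b : ℕ → Bool} {i : ℕ} (hi : i ∈ l)
    (h : ∀ k ∈ l, k ≠ i → b k = false) (a : Bool) :
    l.foldl (fun acc k => acc ^^ b k) a = (a ^^ b i) := by
  induction l generalizing a with
  | nil => exact absurd hi List.not_mem_nil
  | cons c l ih =>
    rw [List.nodup_cons] at hl
    rw [List.foldl_cons]
    by_cases hc : c = i
    · subst hc
      apply foldl_xor_false
      intro k hk
      apply h k (List.mem_cons_of_mem _ hk)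
      rintro rfl
      exact hl.1 hk
    · have hi' : i ∈ l := by
        rcases List.mem_cons.1 hi with h' | h'
        · exact absurd h'.symm hc
        · exact h'
      rw [h c List.mem_cons_self hc, Bool.xor_false]
      exact ih hl.2 hi' (fun k hk hki => h k (List.mem_cons_of_mem _ hk) hki) a

theorem testBit_pimg (P m j : ℕ) : (pimg P m).testBit j =
    (List.range 24).foldl (fun acc i => acc ^^ (decide (papp P i = j) && m.testBit i)) false := by
  rw [pimg_eq_foldl, testBit_foldl_xor, Nat.zero_testBit, Bool.false_xor]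
  simp only [testBit_term]

theorem exists_papp_eq {P : ℕ} (hP : isPerm P = true) {j : ℕ} (hj : j < 24) :
    ∃ i, i < 24 ∧ papp P i = j := by
  by_contra hne
  push Not at hne
  have h1 : (pimg P 16777215).testBit j = true := by
    rw [Nat.eq_of_beq_eq_true hP, show 16777215 = 2 ^ 24 - 1 by norm_num,
      Nat.testBit_two_pow_sub_one]
    exact decide_eq_true hj
  rw [testBit_pimg, foldl_xor_false] at h1
  · exact Bool.noConfusion h1
  · intro i hi
    rw [decide_eq_false (hne i (List.mem_range.1 hi)), Bool.false_and]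

theorem papp_bij_aux {P : ℕ} (hP : isPerm P = true) :
    (Finset.range 24).image (papp P) = Finset.range 24 := by
  symm
  apply Finset.eq_of_subset_of_card_le
  · intro j hj
    obtain ⟨i, hi, h⟩ := exists_papp_eq hP (Finset.mem_range.1 hj)
    exact Finset.mem_image.2 ⟨i, Finset.mem_range.2 hi, h⟩
  · exact le_trans Finset.card_image_le (le_refl _)

theorem papp_lt {P : ℕ} (hP : isPerm P = true) {i : ℕ} (hi : i < 24) : papp P i < 24 := by
  rw [← Finset.mem_range, ← papp_bij_aux hP]
  exact Finset.mem_image_of_mem _ (Finset.mem_range.2 hi)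

theorem papp_injOn {P : ℕ} (hP : isPerm P = true) {i j : ℕ} (hi : i < 24) (hj : j < 24)
    (h : papp P i = papp P j) : i = j := by
  have h1 : ((Finset.range 24).image (papp P)).card = (Finset.range 24).card := by
    rw [papp_bij_aux hP]
  exact Finset.card_image_iff.1 h1 (Finset.mem_coe.2 (Finset.mem_range.2 hi))
    (Finset.mem_coe.2 (Finset.mem_range.2 hj)) h

/-- The function on points given by a packed permutation. -/
def permFun (P : ℕ) (p : GolayPt) : GolayPt := pt (papp P (idx p))

theorem permFun_injective {P : ℕ} (hP : isPerm P = true) : Function.Injective (permFun P) := by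
  intro p q h
  have h1 := congrArg idx h
  unfold permFun at h1
  rw [idx_pt (papp_lt hP (idx_lt p)), idx_pt (papp_lt hP (idx_lt q))] at h1
  exact idx_injective (papp_injOn hP (idx_lt p) (idx_lt q) h1)

/-- The permutation of the points packed in `P`. -/
noncomputable def permOf (P : ℕ) (hP : isPerm P = true) : Equiv.Perm GolayPt :=
  Equiv.ofBijective (permFun P) (Finite.injective_iff_bijective.1 (permFun_injective hP))

theorem permOf_apply {P : ℕ} (hP : isPerm P = true) (p : GolayPt) :
    permOf P hP p = pt (papp P (idx p)) := rfl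

theorem idx_permOf {P : ℕ} (hP : isPerm P = true) (p : GolayPt) :
    idx (permOf P hP p) = papp P (idx p) := by
  rw [permOf_apply, idx_pt (papp_lt hP (idx_lt p))]

theorem testBit_pimg_papp {P : ℕ} (hP : isPerm P = true) (m : ℕ) {i : ℕ} (hi : i < 24) :
    (pimg P m).testBit (papp P i) = m.testBit i := by
  rw [testBit_pimg, foldl_xor_single List.nodup_range (List.mem_range.2 hi)]
  · simp
  · intro k hk hki
    rw [decide_eq_false, Bool.false_and]
    intro h
    exact hki (papp_injOn hP (List.mem_range.1 hk) hi h)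

theorem pimg_lt {P : ℕ} (hP : isPerm P = true) (m : ℕ) : pimg P m < 2 ^ 24 := by
  apply Nat.lt_pow_two_of_testBit
  intro j hj
  rw [testBit_pimg]
  apply foldl_xor_false
  intro i hi
  have := papp_lt hP (List.mem_range.1 hi)
  rw [decide_eq_false (by omega), Bool.false_and]

theorem smul_fin {P : ℕ} (hP : isPerm P = true) (m : ℕ) :
    permOf P hP • fin m = fin (pimg P m) := by
  ext p
  obtain ⟨q, rfl⟩ := (permOf P hP).surjective p
  rw [mem_smul_iff, mem_fin, mem_fin, idx_permOf, testBit_pimg_papp hP m (idx_lt q)]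

theorem maskOf_smul {P : ℕ} (hP : isPerm P = true) (s : Finset GolayPt) :
    maskOf (permOf P hP • s) = pimg P (maskOf s) := by
  conv_lhs => rw [← fin_maskOf s]
  rw [smul_fin, maskOf_fin (pimg_lt hP _)]

/-- Whether the packed permutation `P` maps the 12 basis words of the code to code words. -/
def isAut (P : ℕ) : Bool :=
  isCode (pimg P 13062145) && isCode (pimg P 4845570) && isCode (pimg P 13938692) &&
  isCode (pimg P 7221256) && isCode (pimg P 10170384) && isCode (pimg P 11952160) &&
  isCode (pimg P 15515712) && isCode (pimg P 2019456) && isCode (pimg P 4038912) &&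
  isCode (pimg P 8077824) && isCode (pimg P 11654144) && isCode (pimg P 14919680)

theorem isAut_iff (P : ℕ) : isAut P = true ↔ ∀ k < 12, isCode (pimg P (basisMask k)) = true := by
  unfold isAut
  simp only [Bool.and_eq_true]
  constructor
  · rintro ⟨⟨⟨⟨⟨⟨⟨⟨⟨⟨⟨h0, h1⟩, h2⟩, h3⟩, h4⟩, h5⟩, h6⟩, h7⟩, h8⟩, h9⟩, h10⟩, h11⟩ k hk
    interval_cases k
    · exact h0
    · exact h1
    · exact h2
    · exact h3
    · exact h4
    · exact h5
    · exact h6
    · exact h7
    · exact h8
    · exact h9
    · exact h10
    · exact h11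
  · intro h
    exact ⟨⟨⟨⟨⟨⟨⟨⟨⟨⟨⟨h 0 (by norm_num), h 1 (by norm_num)⟩, h 2 (by norm_num)⟩,
      h 3 (by norm_num)⟩, h 4 (by norm_num)⟩, h 5 (by norm_num)⟩, h 6 (by norm_num)⟩,
      h 7 (by norm_num)⟩, h 8 (by norm_num)⟩, h 9 (by norm_num)⟩, h 10 (by norm_num)⟩,
      h 11 (by norm_num)⟩

theorem basisMask_lt (k : ℕ) : basisMask k < 2 ^ 24 := by
  unfold basisMask
  split <;> norm_num

theorem permOf_mem_M24 {P : ℕ} (hP : isPerm P = true) (hA : isAut P = true) :
    permOf P hP ∈ M24 := by
  apply mem_M24_of_basis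
  intro k hk
  rw [smul_fin hP, maskOf_fin (pimg_lt hP _)]
  exact (isAut_iff P).1 hA k hk

theorem isAut_of_mem_M24 {P : ℕ} (hP : isPerm P = true) (h : permOf P hP ∈ M24) :
    isAut P = true := by
  rw [isAut_iff]
  intro k hk
  have hb : isCode (basisMask k) = true := by
    interval_cases k <;> decide +kernel
  have := (mem_M24_iff _).1 h (fin (basisMask k))
    ((fin_mem_supports_iff (basisMask_lt k)).2 hb)
  rwa [smul_fin hP, fin_mem_supports_iff (pimg_lt hP _)] at this

/-! ### Packing lists, and all permutations -/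

theorem papp_pack {l : List ℕ} (hl : ∀ a ∈ l, a < 32) (i : ℕ) : papp (pack l) i = l.getD i 0 := by
  induction l generalizing i with
  | nil => simp [papp, pack]
  | cons a l ih =>
    have ha : a < 32 := hl a List.mem_cons_self
    have hl' : ∀ a ∈ l, a < 32 := fun b hb => hl b (List.mem_cons_of_mem _ hb)
    cases i with
    | zero =>
      show ((a + 32 * pack l) >>> (5 * 0)) % 32 = _
      simp only [mul_zero, Nat.shiftRight_zero, List.getD_cons_zero]
      omega
    | succ i =>
      rw [List.getD_cons_succ, ← ih hl' i]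
      show ((a + 32 * pack l) >>> (5 * (i + 1))) % 32 = (pack l >>> (5 * i)) % 32
      have : (a + 32 * pack l) >>> (5 * (i + 1)) = pack l >>> (5 * i) := by
        rw [show 5 * (i + 1) = 5 + 5 * i by ring, Nat.shiftRight_add]
        congr 1
        rw [Nat.shiftRight_eq_div_pow]
        omega
      rw [this]

/-- The packed form of a permutation of the points. -/
noncomputable def packOf (g : Equiv.Perm GolayPt) : ℕ :=
  pack ((List.range 24).map fun i => idx (g (pt i)))

theorem papp_packOf (g : Equiv.Perm GolayPt) {i : ℕ} (hi : i < 24) :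
    papp (packOf g) i = idx (g (pt i)) := by
  unfold packOf
  rw [papp_pack]
  · rw [List.getD_eq_getElem _ _ (by simpa using hi)]
    simp
  · intro a ha
    obtain ⟨k, -, rfl⟩ := List.mem_map.1 ha
    exact lt_trans (idx_lt _) (by norm_num)

theorem isPerm_of_injOn {P : ℕ} (h1 : ∀ i, i < 24 → papp P i < 24)
    (h2 : ∀ i j, i < 24 → j < 24 → papp P i = papp P j → i = j) : isPerm P = true := by
  have hsurj : ∀ j, j < 24 → ∃ i, i < 24 ∧ papp P i = j := by
    intro j hj
    have himg : (Finset.range 24).image (papp P) = Finset.range 24 := by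
      apply Finset.eq_of_subset_of_card_le
      · intro k hk
        obtain ⟨i, hi, rfl⟩ := Finset.mem_image.1 hk
        exact Finset.mem_range.2 (h1 i (Finset.mem_range.1 hi))
      · rw [Finset.card_image_of_injOn]
        intro a ha b hb hab
        exact h2 a b (Finset.mem_range.1 ha) (Finset.mem_range.1 hb) hab
    rw [← Finset.mem_range, ← himg] at hj
    obtain ⟨i, hi, h⟩ := Finset.mem_image.1 hj
    exact ⟨i, Finset.mem_range.1 hi, h⟩
  have : pimg P 16777215 = 16777215 := by
    apply Nat.eq_of_testBit_eq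
    intro j
    rw [show 16777215 = 2 ^ 24 - 1 by norm_num, Nat.testBit_two_pow_sub_one, testBit_pimg]
    by_cases hj : j < 24
    · obtain ⟨i, hi, rfl⟩ := hsurj j hj
      rw [foldl_xor_single List.nodup_range (List.mem_range.2 hi)]
      · rw [Nat.testBit_two_pow_sub_one]
        simp [hi, hj]
      · intro k hk hki
        rw [decide_eq_false, Bool.false_and]
        intro h
        exact hki (h2 _ _ (List.mem_range.1 hk) hi h)
    · rw [foldl_xor_false, decide_eq_false hj]
      intro i hi
      have := h1 i (List.mem_range.1 hi)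
      rw [decide_eq_false (by omega), Bool.false_and]
  unfold isPerm
  rw [this]
  rfl

theorem isPerm_packOf (g : Equiv.Perm GolayPt) : isPerm (packOf g) = true := by
  apply isPerm_of_injOn
  · intro i hi
    rw [papp_packOf g hi]
    exact idx_lt _
  · intro i j hi hj h
    rw [papp_packOf g hi, papp_packOf g hj] at h
    have := g.injective (idx_injective h)
    rw [← idx_pt hi, ← idx_pt hj, this]

theorem permOf_packOf (g : Equiv.Perm GolayPt) : permOf (packOf g) (isPerm_packOf g) = g := by
  ext1 p
  rw [permOf_apply, papp_packOf g (idx_lt p), pt_idx, pt_idx]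

theorem exists_permOf (g : Equiv.Perm GolayPt) :
    ∃ (P : ℕ) (hP : isPerm P = true), g = permOf P hP :=
  ⟨_, _, (permOf_packOf g).symm⟩

/-- Two packed permutations give the same permutation of points if they agree on all points. -/
theorem permOf_eq_permOf_iff {P Q : ℕ} (hP : isPerm P = true) (hQ : isPerm Q = true) :
    permOf P hP = permOf Q hQ ↔ ∀ i, i < 24 → papp P i = papp Q i := by
  constructor
  · intro h i hi
    have := congrArg (fun g : Equiv.Perm GolayPt => idx (g (pt i))) h
    simp only [idx_permOf, idx_pt hi] at this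
    exact this
  · intro h
    ext1 p
    rw [permOf_apply, permOf_apply, h _ (idx_lt p)]

/-- The composition of packed permutations (`pcomp P Q` is `P` after `Q`). -/
def pcomp (P Q : ℕ) : ℕ :=
  pack [papp P (papp Q 0), papp P (papp Q 1), papp P (papp Q 2), papp P (papp Q 3),
    papp P (papp Q 4), papp P (papp Q 5), papp P (papp Q 6), papp P (papp Q 7),
    papp P (papp Q 8), papp P (papp Q 9), papp P (papp Q 10), papp P (papp Q 11),
    papp P (papp Q 12), papp P (papp Q 13), papp P (papp Q 14), papp P (papp Q 15),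
    papp P (papp Q 16), papp P (papp Q 17), papp P (papp Q 18), papp P (papp Q 19),
    papp P (papp Q 20), papp P (papp Q 21), papp P (papp Q 22), papp P (papp Q 23)]

theorem papp_pcomp (P Q : ℕ) {i : ℕ} (hi : i < 24) :
    papp (pcomp P Q) i = papp P (papp Q i) := by
  unfold pcomp
  rw [papp_pack]
  · interval_cases i <;> rfl
  · have h : ∀ k, papp P k < 32 := fun k => Nat.mod_lt _ (by norm_num)
    intro a ha
    simp only [List.mem_cons, List.not_mem_nil, or_false] at ha
    rcases ha with rfl | rfl | rfl | rfl | rfl | rfl | rfl | rfl | rfl | rfl | rfl | rfl | rfl |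
      rfl | rfl | rfl | rfl | rfl | rfl | rfl | rfl | rfl | rfl | rfl <;> exact h _

theorem isPerm_pcomp {P Q : ℕ} (hP : isPerm P = true) (hQ : isPerm Q = true) :
    isPerm (pcomp P Q) = true := by
  apply isPerm_of_injOn
  · intro i hi
    rw [papp_pcomp P Q hi]
    exact papp_lt hP (papp_lt hQ hi)
  · intro i j hi hj h
    rw [papp_pcomp P Q hi, papp_pcomp P Q hj] at h
    exact papp_injOn hQ hi hj (papp_injOn hP (papp_lt hQ hi) (papp_lt hQ hj) h)

theorem permOf_pcomp {P Q : ℕ} (hP : isPerm P = true) (hQ : isPerm Q = true) :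
    permOf (pcomp P Q) (isPerm_pcomp hP hQ) = permOf P hP * permOf Q hQ := by
  ext1 p
  rw [Equiv.Perm.mul_apply, permOf_apply, permOf_apply, idx_permOf, papp_pcomp P Q (idx_lt p)]

end Cfsg.Agent.SporadicA.GolayPerm
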