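import Cfsg.Prelude.Def_Sporadic_a
import Cfsg.Agent.SporadicA.LeechSet

/-!
Weights of the words of `golayCode`: 0, 8, 12, 16, 24; the code is self-orthogonal.
Words are coded by 24-bit natural numbers (bit 23 is the extra point).
-/

set_option autoImplicit false
open Cfsg

namespace Cfsg.Agent.SporadicA.GolayWeight

/-- Bit position of a point. -/
def pos : GolayPt → ℕ
  | none => 23
  | some x => x.val

/-- The word with given bit mask. -/
def toWord (m : ℕ) : GolayPt → ZMod 2 := fun p => if m.testBit (pos p) then 1 else 0

theorem toWord_zero : toWord 0 = 0 := by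
  funext p
  simp [toWord]

theorem toWord_xor (a b : ℕ) : toWord (a ^^^ b) = toWord a + toWord b := by
  funext p
  simp only [toWord, Nat.testBit_xor, Pi.add_apply]
  cases a.testBit (pos p) <;> cases b.testBit (pos p) <;> decide

/-- Twelve basis masks. -/
def basis : List ℕ :=
  [5279, 10558, 18147, 36294, 69395, 133817, 262637, 525274, 1050548, 2101096, 4196943, 8391797]

/-- All sums of a list of masks. -/
def spanList : List ℕ → List ℕ
  | [] => [0]
  | b :: L => spanList L ++ (spanList L).map (fun m => b ^^^ m)

theorem spanList_nil : spanList [] = [0] := rfl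
theorem spanList_cons (b : ℕ) (L : List ℕ) :
    spanList (b :: L) = spanList L ++ (spanList L).map (fun m => b ^^^ m) := rfl

theorem mem_span_toWord (L : List ℕ) (w : GolayPt → ZMod 2) :
    w ∈ Submodule.span (ZMod 2) {v | ∃ b ∈ L, v = toWord b} ↔ ∃ m ∈ spanList L, w = toWord m := by
  induction L generalizing w with
  | nil =>
    have : {v : GolayPt → ZMod 2 | ∃ b ∈ ([] : List ℕ), v = toWord b} = ∅ := by
      ext v; simp
    rw [this, Submodule.span_empty, spanList_nil]
    simp [toWord_zero]
  | cons b L ih =>
    have : {v : GolayPt → ZMod 2 | ∃ c ∈ b :: L, v = toWord c} =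
        insert (toWord b) {v | ∃ c ∈ L, v = toWord c} := by
      ext v; simp
    rw [this, Submodule.mem_span_insert, spanList_cons]
    constructor
    · rintro ⟨a, z, hz, rfl⟩
      obtain ⟨m, hm, rfl⟩ := (ih z).1 hz
      have ha : a = 0 ∨ a = 1 := by
        have : ∀ a : ZMod 2, a = 0 ∨ a = 1 := by decide
        exact this a
      rcases ha with rfl | rfl
      · exact ⟨m, List.mem_append_left _ hm, by simp⟩
      · refine ⟨b ^^^ m, List.mem_append_right _ (List.mem_map.2 ⟨m, hm, rfl⟩), ?_⟩
        rw [toWord_xor, one_smul]
    · rintro ⟨m, hm, rfl⟩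
      rcases List.mem_append.1 hm with hm | hm
      · exact ⟨0, toWord m, (ih _).2 ⟨m, hm, rfl⟩, by simp⟩
      · obtain ⟨n, hn, rfl⟩ := List.mem_map.1 hm
        exact ⟨1, toWord n, (ih _).2 ⟨n, hn, rfl⟩, by rw [toWord_xor, one_smul]⟩

/-- Masks of the 23 translates of the squares. -/
def qrMasks : List ℕ := [340831, 681662, 1363324, 2726648, 5453296, 2517985, 5035970, 1683333, 3366666, 6733332, 5078057, 1767507, 3535014, 7070028, 5751449, 3114291, 6228582, 4068557, 8137114, 7885621, 7382635, 6376663, 4364719]

theorem qrWord_eq : ∀ t : ZMod 23, ∀ p : GolayPt,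
    qrWord t p = toWord (qrMasks.getD t.val 0) p := by
  decide +kernel

theorem qr_mem : (qrMasks.all fun q => (spanList basis).any fun m => m == q) = true := by
  decide +kernel

theorem one_mem : ((spanList basis).any fun m => m == 16777215) = true := by
  decide +kernel

/-- Twelve of the spanning words of the code. -/
def gens : List ℕ := [16777215, 340831, 681662, 1363324, 2726648, 5453296, 2517985, 5035970, 1683333, 3366666, 6733332, 5078057]

theorem basis_mem : (basis.all fun q => (spanList gens).any fun m => m == q) = true := by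
  decide +kernel

theorem gens_mem : (gens.all fun q => q == 16777215 || qrMasks.any fun m => m == q) = true := by
  decide +kernel

theorem qrMasks_length : qrMasks.length = 23 := rfl

theorem toWord_ones : toWord 16777215 = 1 := by
  have : ∀ p : GolayPt, toWord 16777215 p = 1 := by decide +kernel
  funext p
  exact this p

theorem any_eq {L : List ℕ} {q : ℕ} (h : (L.any fun m => m == q) = true) : q ∈ L := by
  rw [List.any_eq_true] at h
  obtain ⟨m, hm, he⟩ := h
  rw [beq_iff_eq] at he
  exact he ▸ hm

theorem golayCode_eq_span :
    golayCode = Submodule.span (ZMod 2) {v | ∃ b ∈ basis, v = toWord b} := by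
  apply le_antisymm
  · unfold golayCode
    rw [Submodule.span_le]
    rintro w (⟨t, rfl⟩ | hw)
    · have h1 : qrWord t = toWord (qrMasks.getD t.val 0) := by
        funext p
        exact qrWord_eq t p
      rw [SetLike.mem_coe, mem_span_toWord]
      refine ⟨_, ?_, h1⟩
      have h2 := List.all_eq_true.1 qr_mem (qrMasks.getD t.val 0) (by
        have ht : t.val < qrMasks.length := by
          rw [qrMasks_length]
          exact ZMod.val_lt t
        rw [List.getD_eq_getElem _ _ ht]
        exact List.getElem_mem ht)
      exact any_eq h2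
    · rw [Set.mem_singleton_iff] at hw
      rw [hw, SetLike.mem_coe, mem_span_toWord]
      exact ⟨_, any_eq one_mem, toWord_ones.symm⟩
  · have hg : ∀ g ∈ gens, toWord g ∈ golayCode := by
      intro g hg
      have h1 := List.all_eq_true.1 gens_mem g hg
      rw [Bool.or_eq_true] at h1
      rcases h1 with h1 | h1
      · rw [beq_iff_eq] at h1
        rw [h1, toWord_ones]
        exact LeechSet.one_mem_golayCode
      · have h2 := any_eq h1
        obtain ⟨n, hn, hg⟩ := List.mem_iff_getElem.1 h2
        rw [qrMasks_length] at hn
        apply Submodule.subset_span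
        left
        refine ⟨(n : ZMod 23), ?_⟩
        funext p
        rw [qrWord_eq]
        have : ((n : ZMod 23)).val = n := by
          rw [ZMod.val_natCast]
          exact Nat.mod_eq_of_lt hn
        rw [this, List.getD_eq_getElem _ _ (by rw [qrMasks_length]; exact hn), hg]
    rw [Submodule.span_le]
    rintro w ⟨b, hb, rfl⟩
    have h1 := any_eq (List.all_eq_true.1 basis_mem b hb)
    have h2 : toWord b ∈ Submodule.span (ZMod 2) {v | ∃ g ∈ gens, v = toWord g} :=
      (mem_span_toWord gens _).2 ⟨b, h1, rfl⟩
    refine (Submodule.span_le.2 ?_) h2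
    rintro v ⟨g, hgm, rfl⟩
    exact hg g hgm

/-- The code words are the 4096 words with masks in `spanList basis`. -/
theorem mem_golayCode_iff (w : GolayPt → ZMod 2) :
    w ∈ golayCode ↔ ∃ m ∈ spanList basis, w = toWord m := by
  rw [golayCode_eq_span, mem_span_toWord]

/-- Number of ones among the lowest `k` bits. -/
def popc : ℕ → ℕ → ℕ
  | 0, _ => 0
  | k + 1, m => m % 2 + popc k (m / 2)

theorem popc_eq (k m : ℕ) :
    popc k m = ∑ i ∈ Finset.range k, if m.testBit i then 1 else 0 := by
  induction k generalizing m with
  | zero => rfl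
  | succ k ih =>
    rw [Finset.sum_range_succ', popc, ih, add_comm]
    congr 1
    · apply Finset.sum_congr rfl
      intro i _
      rw [Nat.testBit_succ]
    · rw [Nat.testBit_zero]
      rcases Nat.mod_two_eq_zero_or_one m with h | h <;> simp [h]

theorem card_support_toWord (m : ℕ) : (support₂ (toWord m)).card = popc 24 m := by
  have h1 : (support₂ (toWord m)).card = ∑ p : GolayPt, if m.testBit (pos p) then 1 else 0 := by
    rw [support₂, Finset.card_filter]
    apply Finset.sum_congr rfl
    intro p _
    unfold toWord
    by_cases h : m.testBit (pos p) = true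
    · simp [h]
    · simp [h]
  have h2 : ∀ f : ℕ → ℕ, ∑ x : ZMod 23, f x.val = ∑ i ∈ Finset.range 23, f i := by
    intro f
    exact Fin.sum_univ_eq_sum_range f 23
  have h3 := h2 (fun i => if m.testBit i then 1 else 0)
  rw [h1, Fintype.sum_option, popc_eq, Finset.sum_range_succ, ← h3, add_comm]
  rfl

/-- The possible weights. -/
def okWeight (k : ℕ) : Bool := k == 12 || (k == 8 || (k == 16 || (k == 0 || k == 24)))

theorem weights_check : ((spanList basis).all fun m => okWeight (popc 24 m)) = true := by
  decide +kernel

/-- The weight of a code word is 0, 8, 12, 16 or 24. -/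
theorem weight_cases {w : GolayPt → ZMod 2} (hw : w ∈ golayCode) :
    (support₂ w).card = 0 ∨ (support₂ w).card = 8 ∨ (support₂ w).card = 12 ∨
      (support₂ w).card = 16 ∨ (support₂ w).card = 24 := by
  obtain ⟨m, hm, rfl⟩ := (mem_golayCode_iff w).1 hw
  rw [card_support_toWord]
  have h : okWeight (popc 24 m) = true := List.all_eq_true.1 weights_check m hm
  generalize popc 24 m = k at h
  simp only [okWeight, Bool.or_eq_true, beq_iff_eq] at h
  omega

theorem four_dvd_weight {w : GolayPt → ZMod 2} (hw : w ∈ golayCode) :
    4 ∣ (support₂ w).card := by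
  rcases weight_cases hw with h | h | h | h | h <;> rw [h] <;> norm_num

theorem eq_zero_of_card_eq_zero {w : GolayPt → ZMod 2} (h : (support₂ w).card = 0) : w = 0 := by
  apply LeechSet.support₂_injective
  rw [Finset.card_eq_zero] at h
  rw [h]
  ext a
  simp [support₂]

/-- A nonzero code word has weight at least 8. -/
theorem eight_le_weight {w : GolayPt → ZMod 2} (hw : w ∈ golayCode) (h0 : w ≠ 0) :
    8 ≤ (support₂ w).card := by
  rcases weight_cases hw with h | h | h | h | h
  · exact absurd (eq_zero_of_card_eq_zero h) h0
  all_goals omega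

/-- The support of a sum is the symmetric difference: cardinality form. -/
theorem card_support_add {α : Type*} [Fintype α] [DecidableEq α] (v w : α → ZMod 2) :
    (support₂ (v + w)).card + 2 * (support₂ v ∩ support₂ w).card =
      (support₂ v).card + (support₂ w).card := by
  have h1 : (support₂ (v + w)).card + (support₂ v ∩ support₂ w).card
      = (support₂ v ∪ support₂ w).card := by
    rw [← Finset.card_union_of_disjoint]
    · congr 1
      ext a
      simp only [support₂, Finset.mem_union, Finset.mem_inter, Finset.mem_filter, Finset.mem_univ,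
        true_and, Pi.add_apply]
      have : ∀ x y : ZMod 2, (x + y ≠ 0 ∨ x ≠ 0 ∧ y ≠ 0) ↔ (x ≠ 0 ∨ y ≠ 0) := by decide
      exact this _ _
    · rw [Finset.disjoint_left]
      intro a
      simp only [support₂, Finset.mem_inter, Finset.mem_filter, Finset.mem_univ,
        true_and, Pi.add_apply]
      have : ∀ x y : ZMod 2, x + y ≠ 0 → ¬ (x ≠ 0 ∧ y ≠ 0) := by decide
      exact this _ _
  have h2 := Finset.card_union_add_card_inter (support₂ v) (support₂ w)
  omega

/-- Two code words meet in an even number of points. -/
theorem even_card_inter {v w : GolayPt → ZMod 2} (hv : v ∈ golayCode) (hw : w ∈ golayCode) :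
    Even (support₂ v ∩ support₂ w).card := by
  have h := card_support_add v w
  obtain ⟨a, ha⟩ := four_dvd_weight hv
  obtain ⟨b, hb⟩ := four_dvd_weight hw
  obtain ⟨c, hc⟩ := four_dvd_weight (golayCode.add_mem hv hw)
  rw [Nat.even_iff]
  omega

/-- Self-orthogonality. -/
theorem dot_eq_zero {v w : GolayPt → ZMod 2} (hv : v ∈ golayCode) (hw : w ∈ golayCode) :
    ∑ p, v p * w p = 0 := by
  have h1 : ∑ p, v p * w p = (((support₂ v ∩ support₂ w).card : ℕ) : ZMod 2) := by
    rw [Finset.card_eq_sum_ones, Nat.cast_sum, ← Finset.sum_filter_add_sum_filter_not Finset.univ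
      (fun p => p ∈ support₂ v ∩ support₂ w)]
    have h2 : ∑ p ∈ Finset.univ.filter (fun p => ¬ p ∈ support₂ v ∩ support₂ w), v p * w p = 0 := by
      apply Finset.sum_eq_zero
      intro p hp
      simp only [Finset.mem_filter, Finset.mem_univ, true_and, Finset.mem_inter, support₂] at hp
      have : ∀ x y : ZMod 2, ¬ (x ≠ 0 ∧ y ≠ 0) → x * y = 0 := by decide
      exact this _ _ hp
    rw [h2, add_zero]
    apply Finset.sum_congr
    · ext p; simp
    · intro p hp
      simp only [Finset.mem_filter, Finset.mem_univ, true_and, Finset.mem_inter, support₂] at hp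
      have : ∀ x y : ZMod 2, (x ≠ 0 ∧ y ≠ 0) → x * y = ((1 : ℕ) : ZMod 2) := by decide
      exact this _ _ hp
  rw [h1, (ZMod.natCast_eq_zero_iff_even).2 (even_card_inter hv hw)]

end Cfsg.Agent.SporadicA.GolayWeight
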