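import Cfsg.Prelude.Def_Sporadic_a
import Cfsg.Agent.SporadicA.LeechSet
import Cfsg.Agent.SporadicA.GolayWeight

/-!
Nonzero vectors of the Leech lattice have sum of squares at least 32.
-/

set_option autoImplicit false
open Cfsg

namespace Cfsg.Agent.SporadicA.LeechMin

open Cfsg.Agent.SporadicA.LeechSet Cfsg.Agent.SporadicA.GolayWeight

theorem card_pts : Fintype.card GolayPt = 24 := by
  rw [Fintype.card_option, ZMod.card]

theorem cast_ne_zero_iff (a : ℤ) : ((a : ZMod 2) ≠ 0) ↔ a % 2 = 1 := by
  rw [Ne, ZMod.intCast_zmod_eq_zero_iff_dvd]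
  push_cast
  omega

theorem sqNorm_def' (x : GolayPt → ℤ) : sqNorm x = ∑ i, x i ^ 2 := rfl

/-- Every lattice vector is even, `x = 2 y` with `y` mod 2 in the code, or odd. -/
theorem even_or_odd {x : GolayPt → ℤ} (hx : x ∈ leechLattice) :
    (∃ y : GolayPt → ℤ, (∀ i, x i = 2 * y i) ∧ (∑ i, y i) % 4 = 0 ∧
      (fun i => ((y i : ℤ) : ZMod 2)) ∈ golayCode) ∨
    (∃ (m : ℤ) (z : GolayPt → ℤ), m % 2 = 1 ∧ (∀ i, x i = m + 2 * z i) ∧
      (∑ i, x i) % 8 = 4 ∧ (fun i => ((z i : ℤ) : ZMod 2)) ∈ golayCode) := by
  rw [mem_leechLattice_iff'] at hx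
  obtain ⟨m, z, hz, hs, hc⟩ := hx
  unfold Int.ModEq at hs
  rcases Int.emod_two_eq_zero_or_one m with hm | hm
  · left
    have hy : ∀ i, x i = 2 * (m / 2 + z i) := by
      intro i
      rw [hz i]
      omega
    refine ⟨fun i => m / 2 + z i, hy, ?_, ?_⟩
    · have h1 : ∑ i, x i = 2 * ∑ i, (m / 2 + z i) := by
        rw [Finset.mul_sum]
        exact Finset.sum_congr rfl fun i _ => hy i
      show (∑ i, (m / 2 + z i)) % 4 = 0
      omega
    · have h2 : (fun i => (((m / 2 + z i : ℤ)) : ZMod 2)) =
          ((m / 2 : ℤ) : ZMod 2) • (1 : GolayPt → ZMod 2) + (fun i => ((z i : ℤ) : ZMod 2)) := by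
        funext i
        simp
      show (fun i => (((m / 2 + z i : ℤ)) : ZMod 2)) ∈ golayCode
      rw [h2]
      exact golayCode.add_mem (golayCode.smul_mem _ one_mem_golayCode) hc
  · right
    refine ⟨m, z, hm, hz, ?_, hc⟩
    omega

theorem le_sqNorm {x : GolayPt → ℤ} (hx : x ∈ leechLattice) (h0 : x ≠ 0) : 32 ≤ sqNorm x := by
  rw [sqNorm_def']
  rcases even_or_odd hx with ⟨y, hy, hs, hc⟩ | ⟨m, z, hm, hz, hs, hc⟩
  · by_cases hw : (fun i => ((y i : ℤ) : ZMod 2)) = 0
    · -- all coordinates divisible by 4
      have hu : ∀ i, y i = 2 * (y i / 2) := by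
        intro i
        have h1 : ((y i : ℤ) : ZMod 2) = 0 := congrFun hw i
        have h2 : ¬ y i % 2 = 1 := fun h => (cast_ne_zero_iff _).2 h h1
        omega
      have h1 : ∑ i, x i ^ 2 = 16 * ∑ i, (y i / 2) ^ 2 := by
        rw [Finset.mul_sum]
        apply Finset.sum_congr rfl
        intro i _
        rw [hy i]
        have := hu i
        generalize y i / 2 = t at *
        rw [this]
        ring
      have h2 : ∑ i, y i = 2 * ∑ i, y i / 2 := by
        rw [Finset.mul_sum]
        exact Finset.sum_congr rfl fun i _ => hu i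
      have h3 : (∑ i, (y i / 2) ^ 2) % 2 = (∑ i, y i / 2) % 2 := by
        rw [Finset.sum_int_mod, Finset.sum_int_mod (f := fun i => y i / 2)]
        congr 1
        apply Finset.sum_congr rfl
        intro i _
        rcases Int.emod_two_eq_zero_or_one (y i / 2) with h | h <;>
          rw [pow_two, Int.mul_emod, h] <;> rfl
      have h4 : 0 < ∑ i, (y i / 2) ^ 2 := by
        obtain ⟨j, hj⟩ : ∃ j, x j ≠ 0 := by
          by_contra hcon
          push Not at hcon
          exact h0 (funext hcon)
        apply Finset.sum_pos' (fun i _ => sq_nonneg _)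
        refine ⟨j, Finset.mem_univ j, ?_⟩
        have : y j / 2 ≠ 0 := by
          intro h
          apply hj
          rw [hy j, hu j, h]
          rfl
        positivity
      omega
    · -- at least eight odd halves
      have h8 := eight_le_weight hc hw
      have h1 : ∑ i ∈ support₂ (fun i => ((y i : ℤ) : ZMod 2)), (4 : ℤ) ≤ ∑ i, x i ^ 2 := by
        refine le_trans (Finset.sum_le_sum (f := fun _ => (4 : ℤ)) (g := fun i => x i ^ 2) ?_)
          (Finset.sum_le_sum_of_subset_of_nonneg (Finset.subset_univ _) fun i _ _ => sq_nonneg _)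
        intro i hi
        simp only [support₂, Finset.mem_filter, Finset.mem_univ, true_and] at hi
        rw [cast_ne_zero_iff] at hi
        show 4 ≤ x i ^ 2
        rw [hy i]
        have : y i ≠ 0 := by
          intro h
          rw [h] at hi
          omega
        have h5 : 0 < y i ^ 2 := by positivity
        nlinarith
      rw [Finset.sum_const] at h1
      simp only [nsmul_eq_mul] at h1
      have : (8 : ℤ) ≤ ((support₂ (fun i => ((y i : ℤ) : ZMod 2))).card : ℤ) := by
        exact_mod_cast h8
      linarith
  · have hodd : ∀ i, x i % 2 = 1 := by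
      intro i
      rw [hz i]
      omega
    by_cases hall : ∀ i, x i = 1 ∨ x i = -1
    · exfalso
      have h4 := four_dvd_weight hc
      set w := (support₂ (fun i => ((z i : ℤ) : ZMod 2))).card with hwdef
      have hcard : ∑ i : GolayPt, (if z i % 2 = 1 then (1 : ℤ) else 0) = (w : ℤ) := by
        rw [hwdef, support₂, Finset.card_filter]
        push_cast
        apply Finset.sum_congr rfl
        intro i _
        by_cases h : z i % 2 = 1
        · rw [if_pos h, if_pos ((cast_ne_zero_iff _).2 h)]
        · rw [if_neg h, if_neg (fun hh => h ((cast_ne_zero_iff _).1 hh))]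
      have h24 : ∑ _i : GolayPt, (1 : ℤ) = 24 := by
        rw [Finset.sum_const, Finset.card_univ, card_pts]
        rfl
      have hm4 : m % 4 = 1 ∨ m % 4 = 3 := by omega
      rcases hm4 with hm4 | hm4
      · have h5 : ∑ i, x i = ∑ i : GolayPt, (1 - 2 * (if z i % 2 = 1 then (1 : ℤ) else 0)) := by
          apply Finset.sum_congr rfl
          intro i _
          have h6 := hz i
          rcases hall i with h7 | h7 <;> split_ifs <;> omega
        rw [Finset.sum_sub_distrib, ← Finset.mul_sum, hcard, h24] at h5
        omega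
      · have h5 : ∑ i, x i = ∑ i : GolayPt, (2 * (if z i % 2 = 1 then (1 : ℤ) else 0) - 1) := by
          apply Finset.sum_congr rfl
          intro i _
          have h6 := hz i
          rcases hall i with h7 | h7 <;> split_ifs <;> omega
        rw [Finset.sum_sub_distrib, ← Finset.mul_sum, hcard, h24] at h5
        omega
    · push Not at hall
      obtain ⟨j, hj1, hj2⟩ := hall
      have h1 : ∀ i, 1 ≤ x i ^ 2 := by
        intro i
        have : x i ≠ 0 := by
          intro h
          have := hodd i
          rw [h] at this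
          omega
        have : 0 < x i ^ 2 := by positivity
        omega
      have h9 : 9 ≤ x j ^ 2 := by
        have h2 := hodd j
        have h3 : 3 ≤ x j ∨ x j ≤ -3 := by omega
        rcases h3 with h3 | h3 <;> nlinarith
      have h5 : ∑ i : GolayPt, (if i = j then (9 : ℤ) else 1) ≤ ∑ i, x i ^ 2 := by
        apply Finset.sum_le_sum
        intro i _
        split_ifs with h
        · rw [h]; exact h9
        · exact h1 i
      have h6 : ∑ i : GolayPt, (if i = j then (9 : ℤ) else 1) = 32 := by
        have h7 : ∀ i : GolayPt, (if i = j then (9 : ℤ) else 1) = 1 + (if i = j then 8 else 0) := by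
          intro i
          split_ifs <;> rfl
        rw [Finset.sum_congr rfl fun i _ => h7 i, Finset.sum_add_distrib, Finset.sum_const,
          Finset.card_univ, card_pts, Finset.sum_ite_eq' Finset.univ j]
        simp
      linarith

end Cfsg.Agent.SporadicA.LeechMin
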