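import Cfsg.Prelude.Def_SporadicCombinatorics
import Cfsg.Agent.SporadicStructure.GolayEven
import Cfsg.Agent.SporadicA.M24Mem
import Cfsg.Agent.S0432

/-!
Basic API for `Cfsg.Co0`: linearity, constructor from maps of `GolayPt → ℤ`, coordinate
permutations from `M24` and sign changes on code words as elements of `Co0`.
-/

set_option autoImplicit false
open Cfsg

namespace Cfsg.Agent.SporadicA.Co0Mono

open Cfsg.Agent.SporadicStructure.LeechBase Cfsg.Agent.SporadicStructure.GolayEven

/-! ### linearity -/

theorem smul_add (g : Co0) (v w : leechLattice) : g • (v + w) = g • v + g • w := g.2.1 v w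

theorem sqNorm_smul (g : Co0) (v : leechLattice) :
    sqNorm ((g • v : leechLattice) : GolayPt → ℤ) = sqNorm (v : GolayPt → ℤ) := g.2.2 v

/-- The action of an element of `Co0` as an additive homomorphism. -/
def toHom (g : Co0) : leechLattice →+ leechLattice := AddMonoidHom.mk' (fun v => g • v) (smul_add g)

theorem toHom_apply (g : Co0) (v : leechLattice) : toHom g v = g • v := rfl

theorem smul_zero (g : Co0) : g • (0 : leechLattice) = 0 := (toHom g).map_zero

theorem smul_neg (g : Co0) (v : leechLattice) : g • (-v) = -(g • v) := (toHom g).map_neg v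

theorem smul_sub (g : Co0) (v w : leechLattice) : g • (v - w) = g • v - g • w :=
  (toHom g).map_sub v w

theorem smul_nsmul (g : Co0) (n : ℕ) (v : leechLattice) : g • (n • v) = n • (g • v) :=
  (toHom g).map_nsmul n v

theorem smul_zsmul (g : Co0) (n : ℤ) (v : leechLattice) : g • (n • v) = n • (g • v) :=
  (toHom g).map_zsmul n v

theorem ext {g h : Co0} (H : ∀ v : leechLattice, g • v = h • v) : g = h :=
  Subtype.ext (Equiv.ext H)

/-! ### the constructor -/

/-- Elements of `Co0` from pairs of mutually inverse maps on integer vectors. -/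
def mk (f g : (GolayPt → ℤ) → (GolayPt → ℤ))
    (hf : ∀ x ∈ leechLattice, f x ∈ leechLattice) (hg : ∀ x ∈ leechLattice, g x ∈ leechLattice)
    (hgf : ∀ x, g (f x) = x) (hfg : ∀ x, f (g x) = x)
    (hadd : ∀ x y, f (x + y) = f x + f y)
    (hnorm : ∀ x, sqNorm (f x) = sqNorm x) : Co0 :=
  ⟨{ toFun := fun v => ⟨f v, hf v v.2⟩
     invFun := fun v => ⟨g v, hg v v.2⟩
     left_inv := fun v => Subtype.ext (hgf v)
     right_inv := fun v => Subtype.ext (hfg v) },
   fun v w => Subtype.ext (hadd v w), fun v => hnorm v⟩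

theorem mk_smul (f g : (GolayPt → ℤ) → (GolayPt → ℤ))
    (hf : ∀ x ∈ leechLattice, f x ∈ leechLattice) (hg : ∀ x ∈ leechLattice, g x ∈ leechLattice)
    (hgf : ∀ x, g (f x) = x) (hfg : ∀ x, f (g x) = x)
    (hadd : ∀ x y, f (x + y) = f x + f y)
    (hnorm : ∀ x, sqNorm (f x) = sqNorm x) (v : leechLattice) :
    ((mk f g hf hg hgf hfg hadd hnorm • v : leechLattice) : GolayPt → ℤ) = f v := rfl

/-! ### sign changes -/

/-- The sign of a bit. -/
def sgn (a : ZMod 2) : ℤ := if a = 0 then 1 else -1

theorem sgn_add : ∀ a b : ZMod 2, sgn (a + b) = sgn a * sgn b := by decide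

theorem sgn_mul_self : ∀ a : ZMod 2, sgn a * sgn a = 1 := by decide

theorem sgn_zero : sgn 0 = 1 := by decide

theorem sgn_one : sgn 1 = -1 := by decide

/-- Sign change on a word. -/
def signMap (c : GolayPt → ZMod 2) (x : GolayPt → ℤ) : GolayPt → ℤ := fun i => sgn (c i) * x i

theorem signMap_apply (c : GolayPt → ZMod 2) (x : GolayPt → ℤ) (i : GolayPt) :
    signMap c x i = sgn (c i) * x i := rfl

theorem signMap_signMap (c d : GolayPt → ZMod 2) (x : GolayPt → ℤ) :
    signMap c (signMap d x) = signMap (c + d) x := by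
  funext i
  simp only [signMap_apply, Pi.add_apply, sgn_add]
  ring

theorem signMap_zero (x : GolayPt → ℤ) : signMap 0 x = x := by
  funext i
  simp [signMap_apply, sgn_zero]

theorem signMap_self (c : GolayPt → ZMod 2) (x : GolayPt → ℤ) : signMap c (signMap c x) = x := by
  funext i
  rw [signMap_apply, signMap_apply, ← mul_assoc, sgn_mul_self, one_mul]

theorem signMap_add (c : GolayPt → ZMod 2) (x y : GolayPt → ℤ) :
    signMap c (x + y) = signMap c x + signMap c y := by
  funext i
  simp only [signMap_apply, Pi.add_apply]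
  ring

theorem sqNorm_signMap (c : GolayPt → ZMod 2) (x : GolayPt → ℤ) :
    sqNorm (signMap c x) = sqNorm x := by
  show ∑ i, (signMap c x i) ^ 2 = ∑ i, x i ^ 2
  apply Finset.sum_congr rfl
  intro i _
  rw [signMap_apply]
  have := sgn_mul_self (c i)
  linear_combination (x i) ^ 2 * this

/-- Sign changes on code words preserve the lattice. -/
theorem signMap_mem {c : GolayPt → ZMod 2} (hc : c ∈ golayCode) {x : GolayPt → ℤ}
    (hx : x ∈ leechLattice) : signMap c x ∈ leechLattice := by
  rw [mem_leech_iff] at hx ⊢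
  obtain ⟨m, z, hz, hs, h⟩ := hx
  refine ⟨m, fun i => if c i = 0 then z i else -m - z i, ?_, ?_, ?_⟩
  · have : red (fun i => if c i = 0 then z i else -m - z i) = red z + (m : ZMod 2) • c := by
      funext i
      simp only [red_apply, Pi.add_apply, Pi.smul_apply, smul_eq_mul]
      by_cases h0 : c i = 0
      · simp [h0]
      · have h1 : c i = 1 := (zmod2_cases (c i)).resolve_left h0
        simp only [h1, if_neg one_ne_zero, mul_one]
        push_cast
        have key : ∀ a b : ZMod 2, -a - b = b + a := by decide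
        exact key _ _
    rw [this]
    exact golayCode.add_mem hz (golayCode.smul_mem _ hc)
  · have h1 : ∑ i, (if c i = 0 then z i else -m - z i)
        = ∑ i, z i - (m * (support₂ c).card + 2 * ∑ i ∈ support₂ c, z i) := by
      have h2 : ∀ i, (if c i = 0 then z i else -m - z i)
          = z i - (if i ∈ support₂ c then m + 2 * z i else 0) := by
        intro i
        by_cases h0 : c i = 0
        · rw [if_pos h0, if_neg (by rw [mem_support₂]; simpa using h0), sub_zero]
        · rw [if_neg h0, if_pos ((mem_support₂ c i).2 h0)]; ring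
      rw [Finset.sum_congr rfl (fun i _ => h2 i), Finset.sum_sub_distrib, Finset.sum_ite_mem,
        Finset.univ_inter, Finset.sum_add_distrib, ← Finset.mul_sum, Finset.sum_const, nsmul_eq_mul]
      ring
    have h3 : (2 : ℤ) ∣ ∑ i ∈ support₂ c, z i := by
      have h4 := dot₂_eq_zero hz hc
      have h5 : dot₂ (red z) c = ((∑ i ∈ support₂ c, z i : ℤ) : ZMod 2) := by
        rw [dot₂, Int.cast_sum, ← Finset.sum_subset (Finset.subset_univ (support₂ c))]
        · apply Finset.sum_congr rfl
          intro i hi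
          rw [mem_support₂_iff_one] at hi
          rw [hi, mul_one, red_apply]
        · intro i _ hi
          rw [mem_support₂, not_not] at hi
          rw [hi, mul_zero]
      rw [h5] at h4
      exact (ZMod.intCast_zmod_eq_zero_iff_dvd _ 2).1 h4
    have h6 : (4 : ℤ) ∣ (support₂ c).card := by exact_mod_cast four_dvd_card hc
    rw [h1]
    obtain ⟨a, ha⟩ := h3
    obtain ⟨b, hb⟩ := h6
    rw [ha, hb]
    have := hs.dvd
    rw [Int.modEq_iff_dvd]
    have e : 2 * m - (∑ i, z i - (m * (4 * b) + 2 * (2 * a)))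
      = (2 * m - ∑ i, z i) + 4 * (m * b + a) := by ring
    rw [e]
    exact dvd_add this (dvd_mul_right _ _)
  · intro i
    rw [signMap_apply, h i]
    by_cases h0 : c i = 0
    · simp [h0, sgn]
    · simp only [h0, sgn, if_false]
      ring

/-- Sign changes on code words as elements of `Co0`. -/
def signCo0 (c : golayCode) : Co0 :=
  mk (signMap c) (signMap c) (fun _ hx => signMap_mem c.2 hx) (fun _ hx => signMap_mem c.2 hx)
    (signMap_self c) (signMap_self c) (signMap_add c) (sqNorm_signMap c)

theorem signCo0_smul (c : golayCode) (v : leechLattice) :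
    ((signCo0 c • v : leechLattice) : GolayPt → ℤ) = signMap c v := rfl

theorem signCo0_add (c d : golayCode) : signCo0 (c + d) = signCo0 c * signCo0 d := by
  apply ext
  intro v
  apply Subtype.ext
  rw [mul_smul, signCo0_smul, signCo0_smul, signCo0_smul, signMap_signMap]
  rfl

theorem signCo0_zero : signCo0 0 = 1 := by
  apply ext
  intro v
  apply Subtype.ext
  rw [signCo0_smul, one_smul]
  exact signMap_zero _

theorem signCo0_mul_self (c : golayCode) : signCo0 c * signCo0 c = 1 := by
  apply ext
  intro v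
  apply Subtype.ext
  rw [mul_smul, signCo0_smul, signCo0_smul, signMap_self, one_smul]

theorem signCo0_inv (c : golayCode) : (signCo0 c)⁻¹ = signCo0 c :=
  inv_eq_of_mul_eq_one_left (signCo0_mul_self c)

/-! ### coordinate permutations -/

/-- Permutation of the coordinates. -/
def permMap (σ : Equiv.Perm GolayPt) (x : GolayPt → ℤ) : GolayPt → ℤ := fun i => x (σ.symm i)

theorem permMap_apply (σ : Equiv.Perm GolayPt) (x : GolayPt → ℤ) (i : GolayPt) :
    permMap σ x i = x (σ.symm i) := rfl

theorem sqNorm_permMap (σ : Equiv.Perm GolayPt) (x : GolayPt → ℤ) :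
    sqNorm (permMap σ x) = sqNorm x := by
  show ∑ i, (x (σ.symm i)) ^ 2 = ∑ i, x i ^ 2
  exact Equiv.sum_comp σ.symm (fun i => x i ^ 2)

theorem permMap_mem {σ : Equiv.Perm GolayPt} (hσ : σ ∈ M24) {x : GolayPt → ℤ}
    (hx : x ∈ leechLattice) : permMap σ x ∈ leechLattice :=
  Cfsg.Agent.S0432.result σ⁻¹ (inv_mem hσ) x hx

/-- Coordinate permutations from `M24` as elements of `Co0`. -/
def permCo0 : M24 →* Co0 where
  toFun σ := mk (permMap σ) (permMap (σ⁻¹ : M24)) (fun _ hx => permMap_mem σ.2 hx)
    (fun _ hx => permMap_mem (σ⁻¹ : M24).2 hx)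
    (fun x => by
      funext i
      show x ((σ : Equiv.Perm GolayPt).symm ((σ : Equiv.Perm GolayPt) i)) = x i
      rw [Equiv.symm_apply_apply])
    (fun x => by
      funext i
      show x ((σ : Equiv.Perm GolayPt) ((σ : Equiv.Perm GolayPt).symm i)) = x i
      rw [Equiv.apply_symm_apply])
    (fun x y => rfl) (sqNorm_permMap σ)
  map_one' := by
    apply ext
    intro v
    rfl
  map_mul' σ τ := by
    apply ext
    intro v
    rfl

theorem permCo0_smul (σ : M24) (v : leechLattice) :
    ((permCo0 σ • v : leechLattice) : GolayPt → ℤ) = permMap σ v := rfl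

/-- The action of `M24` on the code. -/
def wordPerm (σ : M24) (c : golayCode) : golayCode :=
  ⟨(c : GolayPt → ZMod 2) ∘ (σ : Equiv.Perm GolayPt).symm,
    (Cfsg.Agent.SporadicA.M24Mem.mem_M24_iff (σ : Equiv.Perm GolayPt)).1 σ.2 c c.2⟩

theorem wordPerm_apply (σ : M24) (c : golayCode) (i : GolayPt) :
    (wordPerm σ c : GolayPt → ZMod 2) i = (c : GolayPt → ZMod 2) ((σ : Equiv.Perm GolayPt).symm i) :=
  rfl

theorem perm_mul_sign (σ : M24) (c : golayCode) :
    permCo0 σ * signCo0 c = signCo0 (wordPerm σ c) * permCo0 σ := by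
  apply ext
  intro v
  apply Subtype.ext
  rfl

theorem perm_mul_sign_mul_inv (σ : M24) (c : golayCode) :
    permCo0 σ * signCo0 c * (permCo0 σ)⁻¹ = signCo0 (wordPerm σ c) := by
  rw [perm_mul_sign, mul_inv_cancel_right]

end Cfsg.Agent.SporadicA.Co0Mono
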