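import Mathlib

set_option autoImplicit false

namespace Cfsg.Agent.SporadicA.SimpleCrit23

open Subgroup
open scoped Pointwise

variable {G : Type*} [Group G]

/-- An element of prime order `q` normalising `K`, with `q` prime to `|K|`, fixes some Sylow
`p`-subgroup of `K`. -/
theorem exists_sylow_fixed [Finite G] {q : ℕ} [Fact q.Prime] (x : G) (hx : x ^ q = 1)
    (K : Subgroup G) [K.Normal] (hqK : ¬ q ∣ Nat.card K) (p : ℕ) [Fact p.Prime] :
    ∃ P : Sylow p K, (MulAut.conjNormal x : MulAut K) • P = P := by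
  classical
  have : Fintype (Sylow p K) := Fintype.ofFinite _
  set σ : Equiv.Perm (Sylow p K) := MulAction.toPermHom (MulAut K) (Sylow p K) (MulAut.conjNormal x)
    with hσ
  have h1 : σ ^ q ^ 1 = 1 := by
    rw [pow_one, hσ, ← map_pow, ← map_pow, hx, map_one, map_one]
  have h2 : ¬ q ∣ Fintype.card (Sylow p K) := by
    intro h
    apply hqK
    obtain ⟨P⟩ : Nonempty (Sylow p K) := inferInstance
    rw [← Nat.card_eq_fintype_card] at h
    exact h.trans ((Sylow.card_dvd_index P).trans (Subgroup.index_dvd_card _))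
  obtain ⟨P, hP⟩ := Equiv.Perm.exists_fixed_point_of_prime h2 h1
  exact ⟨P, hP⟩

/-- Counting fixed points of conjugation by an element of order `q`. -/
theorem card_modEq_card_centralizer [Finite G] {q : ℕ} [Fact q.Prime] (x : G) (hx : x ^ q = 1)
    (Q : Subgroup G) (hQ : ∀ y ∈ Q, x * y * x⁻¹ ∈ Q) :
    Nat.card Q ≡ Nat.card {y : Q // x * y = y * x} [MOD q] := by
  classical
  have : Fintype Q := Fintype.ofFinite _
  let f : Function.End Q := fun y => ⟨x * y * x⁻¹, hQ y y.2⟩
  have hpow : ∀ n : ℕ, ∀ y : Q, (((f ^ n) y : Q) : G) = x ^ n * y * (x ^ n)⁻¹ := by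
    intro n
    induction n with
    | zero =>
      intro y
      show (y : G) = _
      simp
    | succ n ih =>
      intro y
      have : ((f ^ (n + 1)) y : Q) = f ((f ^ n) y) := by
        rw [pow_succ']; rfl
      rw [this]
      show x * ((f ^ n) y : Q) * x⁻¹ = _
      rw [ih]
      group
  have hf : f ^ q ^ 1 = 1 := by
    funext y
    apply Subtype.ext
    rw [pow_one, hpow, hx]
    show _ = (y : G)
    simp
  have h := Equiv.Perm.card_fixedPoints_modEq hf
  rw [← Nat.card_eq_fintype_card, ← Nat.card_eq_fintype_card] at h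
  have he : Nat.card (Function.fixedPoints f) = Nat.card {y : Q // x * y = y * x} := by
    apply Nat.card_congr
    apply Equiv.subtypeEquivRight
    intro y
    show f y = y ↔ _
    rw [Subtype.ext_iff]
    show x * y * x⁻¹ = y ↔ _
    rw [mul_inv_eq_iff_eq_mul]
  rwa [he] at h

/-- `|K : N ∩ K|` divides `|G : N|` when `K` is normal. -/
theorem relIndex_dvd_index (N K : Subgroup G) [K.Normal] [Finite G] :
    N.relIndex K ∣ N.index := by
  have h1 : (K ⊓ N).relIndex (N ⊔ K) = K.relIndex N * N.relIndex (N ⊔ K) := by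
    rw [← relIndex_mul_relIndex (K ⊓ N) N (N ⊔ K) inf_le_right le_sup_left, inf_relIndex_right]
  have h2 : (K ⊓ N).relIndex (N ⊔ K) = N.relIndex K * K.relIndex N := by
    rw [← relIndex_mul_relIndex (K ⊓ N) K (N ⊔ K) inf_le_left le_sup_right, inf_relIndex_left,
      relIndex_sup_right]
  have h3 : K.relIndex N ≠ 0 := by
    have : (K.subgroupOf N).index ≠ 0 := Subgroup.index_ne_zero_of_finite
    exact this
  have h4 : N.relIndex (N ⊔ K) = N.relIndex K := by
    apply Nat.eq_of_mul_eq_mul_left (Nat.pos_of_ne_zero h3)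
    rw [← h1, h2, mul_comm]
  rw [← h4]
  exact relIndex_dvd_index_of_le le_sup_left

theorem prime_pow_dvd_aux (p a : ℕ) (hp : p.Prime) (hdvd : p ^ a ∣ 8292375)
    (hmod : p ^ a ≡ 1 [MOD 23]) : a = 0 := by
  by_contra ha
  have hp1 : p ∣ 8292375 := (dvd_pow_self p ha).trans hdvd
  have hfac : (8292375 : ℕ) = 3 ^ 6 * 5 ^ 3 * 7 * 13 := by norm_num
  have h : p = 3 ∨ p = 5 ∨ p = 7 ∨ p = 13 := by
    rw [hfac] at hp1
    rcases (Nat.Prime.dvd_mul hp).1 hp1 with h | h
    · rcases (Nat.Prime.dvd_mul hp).1 h with h | h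
      · rcases (Nat.Prime.dvd_mul hp).1 h with h | h
        · left
          exact (Nat.prime_dvd_prime_iff_eq hp (by norm_num)).1 (hp.dvd_of_dvd_pow h)
        · right; left
          exact (Nat.prime_dvd_prime_iff_eq hp (by norm_num)).1 (hp.dvd_of_dvd_pow h)
      · right; right; left
        exact (Nat.prime_dvd_prime_iff_eq hp (by norm_num)).1 h
    · right; right; right
      exact (Nat.prime_dvd_prime_iff_eq hp (by norm_num)).1 h
  rcases h with rfl | rfl | rfl | rfl
  · have : a ≤ 6 := by
      by_contra hlt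
      have h7 : 3 ^ 7 ∣ 8292375 := (pow_dvd_pow 3 (by omega)).trans hdvd
      revert h7; norm_num
    interval_cases a <;> first | exact ha rfl | exact absurd hmod (by decide)
  · have : a ≤ 3 := by
      by_contra hlt
      have h7 : 5 ^ 4 ∣ 8292375 := (pow_dvd_pow 5 (by omega)).trans hdvd
      revert h7; norm_num
    interval_cases a <;> first | exact ha rfl | exact absurd hmod (by decide)
  · have : a ≤ 1 := by
      by_contra hlt
      have h7 : 7 ^ 2 ∣ 8292375 := (pow_dvd_pow 7 (by omega)).trans hdvd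
      revert h7; norm_num
    interval_cases a <;> first | exact ha rfl | exact absurd hmod (by decide)
  · have : a ≤ 1 := by
      by_contra hlt
      have h7 : 13 ^ 2 ∣ 8292375 := (pow_dvd_pow 13 (by omega)).trans hdvd
      revert h7; norm_num
    interval_cases a <;> first | exact ha rfl | exact absurd hmod (by decide)

/-- The key step: `G` has a subgroup `N` of index `8292375 = 3^6 5^3 7 13` (the index of the
monomial group in the Conway group), containing an element `x` of order `23` such that every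
element normalising `⟨x⟩` is in `N`.  A normal subgroup `K` meeting `N` in a `2`-group and of order
not divisible by 23 is a `2`-group inside `N`. -/
theorem le_of_not_dvd [Finite G] (N : Subgroup G) (x : G) (hx : x ^ 23 = 1)
    (hidx : N.index = 8292375)
    (hcent : ∀ g : G, x * g = g * x → g ∈ N) (K : Subgroup G) [K.Normal]
    (h23 : ¬ 23 ∣ Nat.card K) (hKN : IsPGroup 2 (K ⊓ N : Subgroup G)) : K ≤ N := by
  have : Fact (Nat.Prime 23) := ⟨by norm_num⟩
  have hrel : N.relIndex K ∣ 8292375 := hidx ▸ relIndex_dvd_index N K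
  have hcardK : Nat.card K = Nat.card (K ⊓ N : Subgroup G) * N.relIndex K := by
    have h1 : (N.subgroupOf K).index = N.relIndex K := rfl
    have h2 := (N.subgroupOf K).card_mul_index
    have h3 : Nat.card (N.subgroupOf K) = Nat.card (K ⊓ N : Subgroup G) := by
      apply Nat.card_congr
      refine ⟨fun y => ⟨y.1.1, y.1.2, y.2⟩, fun y => ⟨⟨y.1, y.2.1⟩, y.2.2⟩, fun y => rfl,
        fun y => rfl⟩
    rw [← h2, h1, h3]
  have hodd : ∀ p : ℕ, p.Prime → p ∣ N.relIndex K → False := by
    intro p hp hpd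
    have : Fact p.Prime := ⟨hp⟩
    have hp2 : p ≠ 2 := by
      rintro rfl
      have : 2 ∣ 8292375 := hpd.trans hrel
      revert this; norm_num
    obtain ⟨P, hP⟩ := exists_sylow_fixed x hx K h23 p
    set Q : Subgroup G := (P : Subgroup K).map K.subtype with hQdef
    have hQ : ∀ y ∈ Q, x * y * x⁻¹ ∈ Q := by
      rintro y ⟨z, hz, rfl⟩
      have hz' : (MulAut.conjNormal x : MulAut K) • z ∈ (MulAut.conjNormal x : MulAut K) • P :=
        Set.smul_mem_smul_set hz
      rw [hP] at hz'
      exact ⟨_, hz', by simp⟩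
    have hmod := card_modEq_card_centralizer x hx Q hQ
    have hcardQ : Nat.card Q = Nat.card P :=
      (Nat.card_congr (Subgroup.equivMapOfInjective _ _ K.subtype_injective).toEquiv).symm
    obtain ⟨a, ha⟩ := P.2.exists_card_eq
    have hcen : Nat.card {y : Q // x * y = y * x} = 1 := by
      rw [Nat.card_eq_one_iff_unique]
      refine ⟨⟨fun y z => ?_⟩, ⟨⟨1, by simp⟩⟩⟩
      have key : ∀ y : {y : Q // x * y = y * x}, ((y : Q) : G) = 1 := by
        intro y
        obtain ⟨⟨y, hy⟩, hyx⟩ := y
        simp only at hyx ⊢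
        have hyK : y ∈ K := by
          obtain ⟨z, hz, rfl⟩ := hy
          exact z.2
        have hyN : y ∈ N := hcent y hyx
        obtain ⟨b, hb⟩ := hKN ⟨y, hyK, hyN⟩
        have hb' : y ^ 2 ^ b = 1 := by
          simpa [Subtype.ext_iff] using hb
        have hPp : IsPGroup p Q := by
          exact IsPGroup.map P.2 _
        obtain ⟨c, hc⟩ := hPp ⟨y, hy⟩
        have hc' : y ^ p ^ c = 1 := by
          simpa [Subtype.ext_iff] using hc
        have h1 : orderOf y ∣ 2 ^ b := orderOf_dvd_of_pow_eq_one hb'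
        have h2 : orderOf y ∣ p ^ c := orderOf_dvd_of_pow_eq_one hc'
        have h3 : Nat.Coprime (2 ^ b) (p ^ c) := by
          apply Nat.Coprime.pow
          rw [Nat.coprime_primes Nat.prime_two hp]
          exact fun h => hp2 h.symm
        have h4 : orderOf y = 1 := Nat.eq_one_of_dvd_coprimes h3 h1 h2
        exact orderOf_eq_one_iff.1 h4
      apply Subtype.ext
      apply Subtype.ext
      rw [key y, key z]
    rw [hcen, hcardQ] at hmod
    have ha' : Nat.card P = p ^ a := ha
    rw [ha'] at hmod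
    have hdvd : p ^ a ∣ 8292375 := by
      have h1 : p ^ a ∣ Nat.card K := ha' ▸ Subgroup.card_subgroup_dvd_card (P : Subgroup K)
      rw [hcardK] at h1
      obtain ⟨m, hm⟩ := hKN.exists_card_eq
      rw [hm] at h1
      have h3 : Nat.Coprime (p ^ a) (2 ^ m) := by
        apply Nat.Coprime.pow
        rw [Nat.coprime_primes hp Nat.prime_two]
        exact hp2
      exact (h3.dvd_of_dvd_mul_left h1).trans hrel
    have ha0 : a = 0 := prime_pow_dvd_aux p a hp hdvd hmod
    subst ha0
    have hpK : p ∣ Nat.card K := by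
      rw [hcardK]
      exact dvd_mul_of_dvd_right hpd _
    have hcard := Sylow.card_eq_multiplicity P
    rw [ha', pow_zero] at hcard
    have : (Nat.card K).factorization p ≠ 0 := by
      have := (Nat.Prime.factorization_pos_of_dvd hp (Nat.card_pos (α := K)).ne' hpK)
      omega
    have h5 : 1 < p ^ (Nat.card K).factorization p := Nat.one_lt_pow this hp.one_lt
    omega
  have h1 : N.relIndex K = 1 := by
    by_contra hne
    obtain ⟨p, hp, hpd⟩ := Nat.exists_prime_and_dvd hne
    exact hodd p hp hpd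
  exact relIndex_eq_one.1 h1

/-- If `x` has prime order `q`, `q^2 ∤ |G|`, the normaliser of `⟨x⟩` lies in `N` and `K` is a normal
subgroup containing `N`, then `K = G`. -/
theorem eq_top_of_dvd [Finite G] {q : ℕ} [Fact q.Prime] (N : Subgroup G) (x : G)
    (hx : orderOf x = q) (hq : ¬ q ^ 2 ∣ Nat.card G)
    (hnorm : ∀ g : G, g * x * g⁻¹ ∈ Subgroup.zpowers x → g ∈ N) (K : Subgroup G) [K.Normal]
    (hNK : N ≤ K) : K = ⊤ := by
  have hcard : Nat.card (Subgroup.zpowers x) = q := by rw [Nat.card_zpowers, hx]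
  have hxK : Subgroup.zpowers x ≤ K := by
    have h1 : x ∈ N := by
      apply hnorm
      simp
    rw [Subgroup.zpowers_le]
    exact hNK h1
  have hP1 : IsPGroup q (Subgroup.zpowers x) := IsPGroup.of_card (n := 1) (by rw [hcard, pow_one])
  have hP2 : ¬ q ∣ (Subgroup.zpowers x).index := by
    intro h
    apply hq
    rw [← (Subgroup.zpowers x).card_mul_index, hcard, pow_two]
    exact Nat.mul_dvd_mul_left q h
  have h := Sylow.normalizer_sup_eq_top' (N := K) (hP1.toSylow hP2) (by simpa using hxK)
  rw [eq_top_iff, ← h]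
  apply sup_le _ le_rfl
  refine le_trans ?_ hNK
  intro g hg
  apply hnorm
  have := (Subgroup.mem_normalizer_iff.1 hg x).1 (by simp)
  simpa using this

/-- If `x` has prime order `q`, `q^2 ∤ |G|`, then any normal subgroup of order divisible by `q`
contains `x`. -/
theorem mem_of_dvd [Finite G] {q : ℕ} [Fact q.Prime] (x : G)
    (hx : orderOf x = q) (hq : ¬ q ^ 2 ∣ Nat.card G) (K : Subgroup G) [K.Normal]
    (hqK : q ∣ Nat.card K) : x ∈ K := by
  have hcard : Nat.card (Subgroup.zpowers x) = q := by rw [Nat.card_zpowers, hx]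
  have hP1 : IsPGroup q (Subgroup.zpowers x) := IsPGroup.of_card (n := 1) (by rw [hcard, pow_one])
  have hP2 : ¬ q ∣ (Subgroup.zpowers x).index := by
    intro h
    apply hq
    rw [← (Subgroup.zpowers x).card_mul_index, hcard, pow_two]
    exact Nat.mul_dvd_mul_left q h
  obtain ⟨y, hy⟩ := exists_prime_orderOf_dvd_card' q hqK
  have hy' : orderOf (y : G) = q := by rw [Subgroup.orderOf_coe, hy]
  have hY : IsPGroup q (Subgroup.zpowers (y : G)) :=
    IsPGroup.of_card (n := 1) (by rw [Nat.card_zpowers, hy', pow_one])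
  obtain ⟨S, hS⟩ := hY.exists_le_sylow
  obtain ⟨g, hg⟩ := MulAction.exists_smul_eq G (hP1.toSylow hP2) S
  have hyS : (y : G) ∈ S := hS (Subgroup.mem_zpowers _)
  rw [← hg] at hyS
  have hyS' : (y : G) ∈ MulAut.conj g • ((hP1.toSylow hP2 : Sylow q G) : Subgroup G) := hyS
  rw [Subgroup.mem_pointwise_smul_iff_inv_smul_mem] at hyS'
  have h1 : (MulAut.conj g)⁻¹ • (y : G) = g⁻¹ * y * g := by
    rw [← map_inv]
    simp
  rw [h1] at hyS'
  have h2 : g⁻¹ * y * g ∈ Subgroup.zpowers x := hyS'
  have h3 : g⁻¹ * (y : G) * g ∈ K := by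
    have := (inferInstance : K.Normal).conj_mem y y.2 g⁻¹
    simpa using this
  have h4 : orderOf (g⁻¹ * (y : G) * g) = q := by
    rw [← hy']
    have := orderOf_injective (MulAut.conj g⁻¹).toMonoidHom (MulAut.conj g⁻¹).injective (y : G)
    simpa using this
  have h5 : Subgroup.zpowers (g⁻¹ * (y : G) * g) = Subgroup.zpowers x := by
    apply Subgroup.eq_of_le_of_card_ge
    · rw [Subgroup.zpowers_le]; exact h2
    · rw [Nat.card_zpowers, Nat.card_zpowers, h4, hx]
  have h6 : Subgroup.zpowers (g⁻¹ * (y : G) * g) ≤ K := by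
    rw [Subgroup.zpowers_le]; exact h3
  rw [h5] at h6
  exact h6 (Subgroup.mem_zpowers x)

end Cfsg.Agent.SporadicA.SimpleCrit23
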