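import Cfsg.Agent.SporadicA.Co0Mono
import Cfsg.Agent.SporadicA.SimpleCrit23
import Cfsg.Agent.SporadicA.Co0Basic
import Cfsg.Agent.SporadicA.LeechMin
import Cfsg.Agent.SporadicStructure.StdCross
import Cfsg.Agent.Leech.Basic
import Cfsg.Agent.S0370

/-!
Normal subgroups of `Co0`: everything needed for the simplicity of `Co0` modulo its centre, the
orders of `Co0`, of the stabiliser of the standard cross, the simplicity and the 2-transitivity of
`M24` being hypotheses.
-/

set_option autoImplicit false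
open Cfsg

namespace Cfsg.Agent.SporadicA.Co1Simple

open Cfsg.Agent.SporadicA.Co0Mono
open Cfsg.Agent.SporadicStructure.Co0Base (e8 e8_coe)
open Cfsg.Agent.SporadicStructure.StdCross (PreservesCross exists_signedPerm)
open Cfsg.Agent.SporadicStructure.LeechBase (zmod2_cases mem_support₂)
open scoped Pointwise

/-! ### the stabiliser of the standard cross -/

/-- The standard cross as a set of lattice vectors. -/
def crossSet : Set leechLattice := {v | (v : GolayPt → ℤ) ∈ stdCross}

theorem mem_crossSet (v : leechLattice) :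
    v ∈ crossSet ↔ ∃ i, v = e8 i ∨ v = -e8 i := by
  constructor
  · rintro ⟨i, s, hs | hs, hv⟩
    · exact ⟨i, Or.inl (Subtype.ext (by rw [hv, hs, e8_coe]))⟩
    · refine ⟨i, Or.inr (Subtype.ext ?_)⟩
      rw [hv, hs]
      show _ = -((e8 i : leechLattice) : GolayPt → ℤ)
      rw [e8_coe]
      funext j
      by_cases h : j = i
      · subst h; simp
      · simp [h]
  · rintro ⟨i, rfl | rfl⟩
    · exact ⟨i, 8, Or.inl rfl, rfl⟩
    · refine ⟨i, -8, Or.inr rfl, ?_⟩
      show -((e8 i : leechLattice) : GolayPt → ℤ) = _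
      rw [e8_coe]
      funext j
      by_cases h : j = i
      · subst h; simp
      · simp [h]

theorem e8_mem (i : GolayPt) : e8 i ∈ crossSet := (mem_crossSet _).2 ⟨i, Or.inl rfl⟩

theorem neg_mem_crossSet {v : leechLattice} (hv : v ∈ crossSet) : -v ∈ crossSet := by
  rw [mem_crossSet] at hv ⊢
  obtain ⟨i, rfl | rfl⟩ := hv
  · exact ⟨i, Or.inr rfl⟩
  · exact ⟨i, Or.inl (neg_neg _)⟩

theorem crossSet_finite : crossSet.Finite := by
  have h : crossSet ⊆ (Set.range fun i => e8 i) ∪ Set.range fun i => -e8 i := by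
    intro v hv
    rw [mem_crossSet] at hv
    obtain ⟨i, rfl | rfl⟩ := hv
    · exact Or.inl ⟨i, rfl⟩
    · exact Or.inr ⟨i, rfl⟩
  exact ((Set.finite_range _).union (Set.finite_range _)).subset h

/-- The stabiliser of the standard cross. -/
def N : Subgroup Co0 := MulAction.stabilizer Co0 crossSet

theorem mem_N_iff (g : Co0) : g ∈ N ↔ PreservesCross g := by
  unfold N
  rw [MulAction.mem_stabilizer_set' crossSet_finite]
  exact Iff.rfl

theorem mem_N_of_e8 {g : Co0} (h : ∀ i, g • e8 i ∈ crossSet) : g ∈ N := by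
  rw [mem_N_iff]
  intro v hv
  have hv' : v ∈ crossSet := hv
  rw [mem_crossSet] at hv'
  obtain ⟨i, rfl | rfl⟩ := hv'
  · exact h i
  · show g • (-e8 i) ∈ crossSet
    rw [Co0Mono.smul_neg]
    exact neg_mem_crossSet (h i)

theorem sgn_smul_e8 (c : golayCode) (i : GolayPt) :
    signCo0 c • e8 i = e8 i ∨ signCo0 c • e8 i = -e8 i := by
  rcases zmod2_cases ((c : GolayPt → ZMod 2) i) with h | h
  · left
    apply Subtype.ext
    funext j
    rw [signCo0_smul, signMap_apply, e8_coe]
    by_cases hj : j = i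
    · subst hj; rw [h, sgn_zero, one_mul]
    · simp [hj]
  · right
    apply Subtype.ext
    show ((signCo0 c • e8 i : leechLattice) : GolayPt → ℤ) = -((e8 i : leechLattice) : GolayPt → ℤ)
    funext j
    rw [Pi.neg_apply, signCo0_smul, signMap_apply, e8_coe]
    by_cases hj : j = i
    · subst hj; rw [h, sgn_one]; ring
    · simp [hj]

theorem perm_smul_e8 (σ : M24) (i : GolayPt) :
    permCo0 σ • e8 i = e8 ((σ : Equiv.Perm GolayPt) i) := by
  apply Subtype.ext
  rw [permCo0_smul, e8_coe, e8_coe]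
  funext j
  rw [permMap_apply]
  by_cases hj : j = (σ : Equiv.Perm GolayPt) i
  · subst hj; simp
  · have h' : ¬ (σ : Equiv.Perm GolayPt).symm j = i := by
      intro h; apply hj; rw [← h]; simp
    simp [hj, h']

theorem sign_mem_N (c : golayCode) : signCo0 c ∈ N := by
  apply mem_N_of_e8
  intro i
  rw [mem_crossSet]
  exact ⟨i, sgn_smul_e8 c i⟩

theorem perm_mem_N (σ : M24) : permCo0 σ ∈ N := by
  apply mem_N_of_e8
  intro i
  rw [perm_smul_e8]
  exact e8_mem _

theorem exists_sign_perm {g : Co0} (hg : g ∈ N) :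
    ∃ (c : golayCode) (σ : M24), g = signCo0 c * permCo0 σ := by
  obtain ⟨σ, hσ, c, hc, h⟩ := exists_signedPerm g ((mem_N_iff g).1 hg)
  obtain ⟨w, hw, hwc⟩ := hc
  refine ⟨⟨w, hw⟩, ⟨σ, hσ⟩, ?_⟩
  apply ext
  intro v
  apply Subtype.ext
  rw [h v, mul_smul, signCo0_smul, permCo0_smul]
  funext i
  rw [signMap_apply, permMap_apply]
  show (if i ∈ c then -(v : GolayPt → ℤ) (σ.symm i) else (v : GolayPt → ℤ) (σ.symm i)) =
    sgn (w i) * (v : GolayPt → ℤ) (σ.symm i)
  rw [← hwc]
  by_cases hi : w i = 0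
  · rw [if_neg (by rw [mem_support₂]; simpa using hi), hi, sgn_zero, one_mul]
  · rw [if_pos ((mem_support₂ _ _).2 hi), (zmod2_cases (w i)).resolve_left hi, sgn_one]
    ring

/-! ### the cross of `8 e_∞` -/

/-- A lattice vector of norm 64 congruent to `8 e_i` modulo twice the lattice is in the standard
cross. -/
theorem mem_crossSet_of_congr (w u : leechLattice) (i₀ : GolayPt)
    (hw : sqNorm (w : GolayPt → ℤ) = 64) (h : w = e8 i₀ + (2 : ℕ) • u) : w ∈ crossSet := by
  classical
  have hcoord : ∀ i, (w : GolayPt → ℤ) i = (if i = i₀ then 8 else 0) + 2 * (u : GolayPt → ℤ) i := by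
    intro i
    rw [h]
    show ((e8 i₀ : leechLattice) : GolayPt → ℤ) i + (2 : ℕ) • (u : GolayPt → ℤ) i = _
    rw [e8_coe, Pi.single_apply, nsmul_eq_mul]
    rfl
  have hsum : ∑ i, (w : GolayPt → ℤ) i ^ 2 = 64 := hw
  rcases Cfsg.Agent.SporadicA.LeechMin.even_or_odd u.2 with ⟨y, hy, -, hyc⟩ | ⟨m, z, hm, hz, -, -⟩
  · -- even case
    have hw4 : ∀ i, (w : GolayPt → ℤ) i = 4 * (y i + if i = i₀ then 2 else 0) := by
      intro i
      rw [hcoord, hy]
      split_ifs <;> ring
    have hsum4 : ∑ i, (y i + if i = i₀ then 2 else 0) ^ 2 = 4 := by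
      have h1 : ∑ i, (w : GolayPt → ℤ) i ^ 2 = 16 * ∑ i, (y i + if i = i₀ then 2 else 0) ^ 2 := by
        rw [Finset.mul_sum]
        apply Finset.sum_congr rfl
        intro i _
        rw [hw4 i]; ring
      rw [hsum] at h1
      omega
    have hC : (support₂ (fun i => ((y i : ℤ) : ZMod 2))).card ≤ 4 := by
      have h1 : ∀ i ∈ support₂ (fun i => ((y i : ℤ) : ZMod 2)),
          (1 : ℤ) ≤ (y i + if i = i₀ then 2 else 0) ^ 2 := by
        intro i hi
        rw [mem_support₂] at hi
        have hne : (y i + if i = i₀ then 2 else 0) ≠ 0 := by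
          intro h0
          apply hi
          have : y i = -(if i = i₀ then 2 else 0) := by linarith
          rw [this]
          split_ifs
          · decide
          · simp
        have := Int.one_le_abs hne
        nlinarith [sq_abs (y i + if i = i₀ then 2 else 0)]
      have h2 := Finset.card_nsmul_le_sum _ _ _ h1
      have h3 : ∑ i ∈ support₂ (fun i => ((y i : ℤ) : ZMod 2)), (y i + if i = i₀ then 2 else 0) ^ 2
          ≤ ∑ i, (y i + if i = i₀ then 2 else 0) ^ 2 :=
        Finset.sum_le_sum_of_subset_of_nonneg (Finset.subset_univ _) (fun i _ _ => sq_nonneg _)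
      rw [hsum4] at h3
      have h4 := h2.trans h3
      rw [nsmul_eq_mul, mul_one] at h4
      exact_mod_cast h4
    have hzero : (fun i => ((y i : ℤ) : ZMod 2)) = 0 := by
      by_contra hne
      have := Cfsg.Agent.SporadicA.GolayWeight.eight_le_weight hyc hne
      omega
    have hev : ∀ i, ∃ t : ℤ, y i + (if i = i₀ then 2 else 0) = 2 * t := by
      intro i
      have h1 : ((y i : ℤ) : ZMod 2) = 0 := congrFun hzero i
      rw [ZMod.intCast_zmod_eq_zero_iff_dvd] at h1
      obtain ⟨t, ht⟩ := h1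
      push_cast at ht
      refine ⟨t + if i = i₀ then 1 else 0, ?_⟩
      rw [ht]
      split_ifs <;> ring
    choose t ht using hev
    have hsum1 : ∑ i, t i ^ 2 = 1 := by
      have h1 : ∑ i, (y i + if i = i₀ then 2 else 0) ^ 2 = 4 * ∑ i, t i ^ 2 := by
        rw [Finset.mul_sum]
        apply Finset.sum_congr rfl
        intro i _
        rw [ht i]; ring
      rw [hsum4] at h1
      omega
    obtain ⟨p, hp, hother⟩ := Cfsg.Agent.Leech.Basic.exists_of_sum_eq_one
      (f := fun i => t i ^ 2) (fun i => sq_nonneg _) hsum1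
    have htp : t p = 1 ∨ t p = -1 := by
      have h1 : t p ^ 2 = 1 := hp
      have h2 : (t p - 1) * (t p + 1) = 0 := by linear_combination h1
      rcases mul_eq_zero.1 h2 with h3 | h3
      · left; linarith
      · right; linarith
    refine ⟨p, 8 * t p, ?_, ?_⟩
    · rcases htp with h1 | h1 <;> rw [h1] <;> norm_num
    · funext i
      rw [hw4 i, ht i]
      by_cases hi : i = p
      · subst hi; simp; ring
      · have h1 : t i = 0 := by
          have := hother i hi
          simpa using this
        rw [h1]; simp [hi]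
  · -- odd case
    exfalso
    have h1 : ∀ i ∈ (Finset.univ : Finset GolayPt), (4 : ℤ) ≤ (w : GolayPt → ℤ) i ^ 2 := by
      intro i _
      rw [hcoord, hz]
      have h2 : ((if i = i₀ then 8 else 0) + 2 * (m + 2 * z i) : ℤ) ≠ 0 := by
        split_ifs <;> omega
      have h3 : ∃ k : ℤ, ((if i = i₀ then 8 else 0) + 2 * (m + 2 * z i) : ℤ) = 2 * k := by
        refine ⟨(if i = i₀ then 4 else 0) + (m + 2 * z i), ?_⟩
        split_ifs <;> ring
      obtain ⟨k, hk⟩ := h3
      rw [hk] at h2 ⊢
      have hk0 : k ≠ 0 := by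
        rintro rfl; simp at h2
      have := Int.one_le_abs hk0
      nlinarith [sq_abs k]
    have h2 := Finset.card_nsmul_le_sum _ _ _ h1
    rw [hsum, Finset.card_univ, Cfsg.Agent.Leech.Code.card_golayPt] at h2
    norm_num at h2

/-! ### the element of order 23 -/

/-- The translation `x ↦ x + 1` as an element of `M24`. -/
def shift : M24 := ⟨Equiv.optionCongr (Equiv.addRight (1 : ZMod 23)), Cfsg.Agent.S0370.result⟩

/-- The element of order 23 of `Co0`. -/
def x23 : Co0 := permCo0 shift

theorem shift_pow_some (n : ℕ) (a : ZMod 23) :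
    ((shift ^ n : M24) : Equiv.Perm GolayPt) (some a) = some (a + n) := by
  induction n generalizing a with
  | zero => simp
  | succ n ih =>
    rw [pow_succ]
    show ((shift ^ n : M24) : Equiv.Perm GolayPt) (some (a + 1)) = _
    rw [ih]
    push_cast
    ring_nf

theorem shift_pow_none (n : ℕ) :
    ((shift ^ n : M24) : Equiv.Perm GolayPt) none = none := by
  induction n with
  | zero => simp
  | succ n ih =>
    rw [pow_succ]
    show ((shift ^ n : M24) : Equiv.Perm GolayPt) none = _
    exact ih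

theorem shift_pow_23 : shift ^ 23 = 1 := by
  apply Subtype.ext
  ext1 i
  cases i with
  | none => rw [shift_pow_none]; rfl
  | some a =>
    rw [shift_pow_some]
    show some (a + ((23 : ℕ) : ZMod 23)) = some a
    rw [ZMod.natCast_self, add_zero]

theorem x23_pow : x23 ^ 23 = 1 := by
  rw [x23, ← map_pow, shift_pow_23, map_one]

theorem x23_ne_one : x23 ≠ 1 := by
  intro h
  have h1 : x23 • e8 (some 0) = e8 (some 0) := by rw [h, one_smul]
  rw [x23, perm_smul_e8] at h1
  have h2 : ((shift : M24) : Equiv.Perm GolayPt) (some 0) = some 1 := by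
    show some ((0 : ZMod 23) + 1) = some 1
    rw [zero_add]
  rw [h2] at h1
  have h3 := congrArg (fun v : leechLattice => (v : GolayPt → ℤ) (some 0)) h1
  simp only [e8_coe] at h3
  revert h3
  decide

theorem orderOf_x23 : orderOf x23 = 23 := by
  have : Fact (Nat.Prime 23) := ⟨by norm_num⟩
  exact orderOf_eq_prime x23_pow x23_ne_one

theorem x23_mem_N : x23 ∈ N := perm_mem_N shift

/-- A vector of norm 64 fixed by `x23` is `± 8 e_∞`. -/
theorem eq_of_fixed (v : leechLattice) (hv : sqNorm (v : GolayPt → ℤ) = 64) (hx : x23 • v = v) :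
    v = e8 none ∨ v = -e8 none := by
  have hstep : ∀ a : ZMod 23, (v : GolayPt → ℤ) (some (a + 1)) = (v : GolayPt → ℤ) (some a) := by
    intro a
    have h1 := congrArg (fun v : leechLattice => (v : GolayPt → ℤ) (some (a + 1))) hx
    have h2 : ((x23 • v : leechLattice) : GolayPt → ℤ) (some (a + 1)) =
        (v : GolayPt → ℤ) (some a) := by
      show (v : GolayPt → ℤ) (((shift : M24) : Equiv.Perm GolayPt).symm (some (a + 1))) = _
      have h3 : ((shift : M24) : Equiv.Perm GolayPt).symm (some (a + 1)) = some a := by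
        rw [Equiv.symm_apply_eq]
        rfl
      rw [h3]
    rw [← h2]
    exact h1.symm
  have hnat : ∀ n : ℕ, (v : GolayPt → ℤ) (some (n : ZMod 23)) = (v : GolayPt → ℤ) (some 0) := by
    intro n
    induction n with
    | zero => simp
    | succ n ih => push_cast; rw [hstep, ih]
  have hconst : ∀ a : ZMod 23, (v : GolayPt → ℤ) (some a) = (v : GolayPt → ℤ) (some 0) := by
    intro a
    rw [← ZMod.natCast_zmod_val a]
    exact hnat _
  have hsum : (v : GolayPt → ℤ) none ^ 2 + 23 * (v : GolayPt → ℤ) (some 0) ^ 2 = 64 := by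
    have h1 : ∑ i, (v : GolayPt → ℤ) i ^ 2 = 64 := hv
    rw [Fintype.sum_option] at h1
    have h2 : ∑ a : ZMod 23, (v : GolayPt → ℤ) (some a) ^ 2 =
        23 * (v : GolayPt → ℤ) (some 0) ^ 2 := by
      rw [Finset.sum_congr rfl (fun a _ => by rw [hconst a]), Finset.sum_const, Finset.card_univ,
        ZMod.card]
      simp
    rw [h2] at h1
    exact h1
  have hb : (v : GolayPt → ℤ) (some 0) = 0 ∧
      ((v : GolayPt → ℤ) none = 8 ∨ (v : GolayPt → ℤ) none = -8) := by
    generalize (v : GolayPt → ℤ) none = a at hsum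
    generalize (v : GolayPt → ℤ) (some 0) = b at hsum
    have h1 : b ≤ 1 := by nlinarith
    have h2 : -1 ≤ b := by nlinarith
    have h3 : a ≤ 8 := by nlinarith
    have h4 : -8 ≤ a := by nlinarith
    interval_cases b <;> interval_cases a <;> simp_all
  have hother : ∀ i, i ≠ none → (v : GolayPt → ℤ) i = 0 := by
    intro i hi
    cases i with
    | none => exact absurd rfl hi
    | some a => rw [hconst a, hb.1]
  rcases hb.2 with h | h
  · left
    apply Subtype.ext
    funext i
    rw [e8_coe]
    by_cases hi : i = none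
    · subst hi; rw [h]; simp
    · rw [hother i hi]; simp [hi]
  · right
    apply Subtype.ext
    funext i
    show _ = -((e8 none : leechLattice) : GolayPt → ℤ) i
    rw [e8_coe]
    by_cases hi : i = none
    · subst hi; rw [h]; simp
    · rw [hother i hi]; simp [hi]

theorem sqNorm_e8 (i : GolayPt) : sqNorm ((e8 i : leechLattice) : GolayPt → ℤ) = 64 := by
  classical
  show ∑ j, ((e8 i : leechLattice) : GolayPt → ℤ) j ^ 2 = 64
  rw [e8_coe, Finset.sum_eq_single i]
  · simp
  · intro j _ hj; simp [hj]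
  · intro h; exact absurd (Finset.mem_univ _) h

/-- `8 e_i - 8 e_j` is twice a lattice vector. -/
theorem e8_sub (i j : GolayPt) : ∃ u : leechLattice, e8 i = e8 j + (2 : ℕ) • u := by
  classical
  have hmem : (fun k => (if k = i then 4 else 0) - (if k = j then 4 else 0) : GolayPt → ℤ) ∈
      leechLattice := by
    have h := Cfsg.Agent.SporadicStructure.Co0Base.four_mul_mem
      (fun k => (if k = i then 1 else 0) - (if k = j then 1 else 0)) (by
        rw [Finset.sum_sub_distrib]
        simp)
    convert h using 1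
    funext k
    split_ifs <;> norm_num
  refine ⟨⟨_, hmem⟩, ?_⟩
  apply Subtype.ext
  funext k
  show ((e8 i : leechLattice) : GolayPt → ℤ) k = ((e8 j : leechLattice) : GolayPt → ℤ) k +
    (2 : ℕ) • ((if k = i then 4 else 0) - (if k = j then 4 else 0) : ℤ)
  rw [e8_coe, e8_coe, Pi.single_apply, Pi.single_apply, nsmul_eq_mul]
  split_ifs <;> norm_num

theorem e8_ne_neg (i j : GolayPt) : e8 i ≠ -e8 j := by
  intro h
  have h1 := congrArg (fun v : leechLattice => (v : GolayPt → ℤ) i) h
  have h2 : ((e8 i : leechLattice) : GolayPt → ℤ) i = -((e8 j : leechLattice) : GolayPt → ℤ) i := h1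
  rw [e8_coe, e8_coe, Pi.single_apply, Pi.single_apply] at h2
  by_cases hij : i = j
  · simp [hij] at h2
  · simp [hij] at h2

theorem e8_inj {i j : GolayPt} (h : e8 i = e8 j) : i = j := by
  by_contra hne
  have h1 := congrArg (fun v : leechLattice => (v : GolayPt → ℤ) i) h
  simp only [e8_coe, Pi.single_apply] at h1
  simp [hne] at h1

theorem e8_inj' {i j : GolayPt} (h : e8 i = e8 j ∨ e8 i = -e8 j) : i = j := by
  rcases h with h | h
  · exact e8_inj h
  · exact absurd h (e8_ne_neg i j)

theorem sign_perm_pow (c : golayCode) (τ : M24) (n : ℕ) :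
    ∃ d : golayCode, (signCo0 c * permCo0 τ) ^ n = signCo0 d * permCo0 (τ ^ n) := by
  induction n with
  | zero => exact ⟨0, by rw [pow_zero, pow_zero, map_one, signCo0_zero, mul_one]⟩
  | succ n ih =>
    obtain ⟨d, hd⟩ := ih
    refine ⟨d + wordPerm (τ ^ n) c, ?_⟩
    rw [pow_succ, hd, signCo0_add, pow_succ, map_mul]
    have h := perm_mul_sign (τ ^ n) c
    calc signCo0 d * permCo0 (τ ^ n) * (signCo0 c * permCo0 τ)
        = signCo0 d * (permCo0 (τ ^ n) * signCo0 c) * permCo0 τ := by group
      _ = signCo0 d * (signCo0 (wordPerm (τ ^ n) c) * permCo0 (τ ^ n)) * permCo0 τ := by rw [h]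
      _ = _ := by group

/-- If `signCo0 d * permCo0 τ = 1` then `τ = 1`. -/
theorem perm_eq_one {d : golayCode} {τ : M24} (h : signCo0 d * permCo0 τ = 1) : τ = 1 := by
  apply Subtype.ext
  ext1 i
  have h1 : (signCo0 d * permCo0 τ) • e8 i = e8 i := by rw [h, one_smul]
  rw [mul_smul, perm_smul_e8] at h1
  rcases sgn_smul_e8 d ((τ : Equiv.Perm GolayPt) i) with h2 | h2
  · rw [h2] at h1; exact e8_inj h1
  · rw [h2] at h1; exact absurd h1.symm (e8_ne_neg _ _)

/-- An element conjugating the element of order 23 into the monomial group is monomial. -/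
theorem mem_N_of_conj (g : Co0) (hg : g⁻¹ * x23 * g ∈ N) : g ∈ N := by
  obtain ⟨c, τ, hcτ⟩ := exists_sign_perm hg
  have h23 : (g⁻¹ * x23 * g) ^ 23 = 1 := by
    have : g⁻¹ * x23 * g = MulAut.conj g⁻¹ x23 := by simp
    rw [this, ← map_pow, x23_pow, map_one]
  -- the permutation part has order dividing 23
  have hτ : τ ^ 23 = 1 := by
    obtain ⟨d, hd⟩ := sign_perm_pow c τ 23
    rw [← hcτ, h23] at hd
    exact perm_eq_one hd.symm
  -- a fixed point of the permutation part
  have : Fact (Nat.Prime 23) := ⟨by norm_num⟩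
  obtain ⟨i, hi⟩ : ∃ i, (τ : Equiv.Perm GolayPt) i = i := by
    apply Equiv.Perm.exists_fixed_point_of_prime (p := 23) (n := 1)
    · rw [Cfsg.Agent.Leech.Code.card_golayPt]; norm_num
    · rw [pow_one]
      have := congrArg Subtype.val hτ
      exact this
  have hy : (g⁻¹ * x23 * g) • e8 i = e8 i := by
    have h1 : (g⁻¹ * x23 * g) • e8 i = signCo0 c • e8 i := by
      rw [hcτ, mul_smul, perm_smul_e8, hi]
    rcases sgn_smul_e8 c i with h2 | h2
    · rw [h1, h2]
    · exfalso
      rw [h2] at h1
      generalize g⁻¹ * x23 * g = y at h1 h23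
      have h3 : ∀ n : ℕ, (y ^ (2 * n + 1)) • e8 i = -e8 i := by
        intro n
        induction n with
        | zero => rw [mul_zero, zero_add, pow_one, h1]
        | succ n ih =>
          have : y ^ (2 * (n + 1) + 1) = y * (y * y ^ (2 * n + 1)) := by
            rw [← pow_succ', ← pow_succ']
            congr 1
          rw [this, mul_smul y, mul_smul y, ih, Co0Mono.smul_neg, h1, neg_neg, h1]
      have h4 := h3 11
      rw [show 2 * 11 + 1 = 23 from rfl, h23, one_smul] at h4
      exact e8_ne_neg i i h4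
  have hfix : x23 • (g • e8 i) = g • e8 i := by
    rw [← mul_smul]
    have h1 : x23 * g = g * (g⁻¹ * x23 * g) := by group
    rw [h1, mul_smul, hy]
  have hcases := eq_of_fixed (g • e8 i) (by rw [sqNorm_smul, sqNorm_e8]) hfix
  apply mem_N_of_e8
  intro j
  obtain ⟨u, hu⟩ := e8_sub j i
  have h1 : g • e8 j = g • e8 i + (2 : ℕ) • (g • u) := by
    rw [hu, Co0Mono.smul_add, Co0Mono.smul_nsmul]
  have hn : sqNorm ((g • e8 j : leechLattice) : GolayPt → ℤ) = 64 := by
    rw [sqNorm_smul, sqNorm_e8]
  rcases hcases with h2 | h2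
  · rw [h2] at h1
    exact mem_crossSet_of_congr _ _ none hn h1
  · rw [h2] at h1
    have h3 : -(g • e8 j) = e8 none + (2 : ℕ) • (-(g • u)) := by
      rw [h1, neg_add, neg_neg, _root_.smul_neg]
    have h4 := mem_crossSet_of_congr (-(g • e8 j)) _ none (by
      show sqNorm (-((g • e8 j : leechLattice) : GolayPt → ℤ)) = 64
      rw [Cfsg.Agent.Leech.Basic.sqNorm_neg]; exact hn) h3
    have h5 := neg_mem_crossSet h4
    rwa [neg_neg] at h5

/-! ### the permutation part and the sign part of a normal subgroup -/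

theorem signCo0_add_self (c : golayCode) : c + c = 0 := by
  apply Subtype.ext
  funext i
  show (c : GolayPt → ZMod 2) i + (c : GolayPt → ZMod 2) i = 0
  exact CharTwo.add_self_eq_zero _

/-- The permutation parts of the monomial elements of `K`. -/
def permPart (K : Subgroup Co0) : Subgroup M24 where
  carrier := {σ | ∃ c, signCo0 c * permCo0 σ ∈ K}
  one_mem' := ⟨0, by rw [signCo0_zero, map_one, one_mul]; exact K.one_mem⟩
  mul_mem' := by
    rintro σ τ ⟨c, hc⟩ ⟨d, hd⟩
    refine ⟨c + wordPerm σ d, ?_⟩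
    have h := K.mul_mem hc hd
    have e : signCo0 c * permCo0 σ * (signCo0 d * permCo0 τ) =
        signCo0 (c + wordPerm σ d) * permCo0 (σ * τ) := by
      rw [signCo0_add, map_mul, ← perm_mul_sign_mul_inv]
      group
    rwa [e] at h
  inv_mem' := by
    rintro σ ⟨c, hc⟩
    refine ⟨wordPerm σ⁻¹ c, ?_⟩
    have h := K.inv_mem hc
    have e : (signCo0 c * permCo0 σ)⁻¹ = signCo0 (wordPerm σ⁻¹ c) * permCo0 σ⁻¹ := by
      rw [mul_inv_rev, signCo0_inv, ← map_inv, perm_mul_sign]
    rwa [e] at h

theorem mem_permPart {K : Subgroup Co0} {σ : M24} :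
    σ ∈ permPart K ↔ ∃ c, signCo0 c * permCo0 σ ∈ K := Iff.rfl

theorem permPart_normal (K : Subgroup Co0) [hK : K.Normal] : (permPart K).Normal := by
  constructor
  rintro σ ⟨c, hc⟩ τ
  refine ⟨wordPerm τ c, ?_⟩
  have h := hK.conj_mem _ hc (permCo0 τ)
  have e : permCo0 τ * (signCo0 c * permCo0 σ) * (permCo0 τ)⁻¹ =
      signCo0 (wordPerm τ c) * permCo0 (τ * σ * τ⁻¹) := by
    rw [← perm_mul_sign_mul_inv, map_mul, map_mul, map_inv]
    group
  rwa [e] at h

theorem sign_add_mem (K : Subgroup Co0) [hK : K.Normal] {σ : M24} (hσ : σ ∈ permPart K)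
    (c : golayCode) : signCo0 (c + wordPerm σ c) ∈ K := by
  obtain ⟨d, hd⟩ := hσ
  have h1 := hK.conj_mem _ hd (signCo0 c)
  have h2 := K.mul_mem h1 (K.inv_mem hd)
  have e : signCo0 c * (signCo0 d * permCo0 σ) * (signCo0 c)⁻¹ * (signCo0 d * permCo0 σ)⁻¹ =
      signCo0 (c + wordPerm σ c) := by
    have h3 : signCo0 c * (signCo0 d * permCo0 σ) * (signCo0 c)⁻¹ * (signCo0 d * permCo0 σ)⁻¹ =
        signCo0 c * signCo0 d * (permCo0 σ * signCo0 c * (permCo0 σ)⁻¹) * signCo0 d := by
      rw [mul_inv_rev, signCo0_inv, signCo0_inv]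
      group
    rw [h3, perm_mul_sign_mul_inv, ← signCo0_add, ← signCo0_add, ← signCo0_add]
    congr 1
    have := signCo0_add_self d
    calc c + d + wordPerm σ c + d = c + wordPerm σ c + (d + d) := by abel
      _ = _ := by rw [this, add_zero]
  rwa [e] at h2

/-- The generating words as elements of the code. -/
def q (t : ZMod 23) : golayCode := ⟨qrWord t, Submodule.subset_span (Or.inl ⟨t, rfl⟩)⟩

/-- The all-ones word. -/
def allOne : golayCode := ⟨1, Submodule.subset_span (Or.inr rfl)⟩

theorem wordPerm_shift (t : ZMod 23) : wordPerm shift (q t) = q (t + 1) := by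
  apply Subtype.ext
  funext i
  rw [wordPerm_apply]
  cases i with
  | none => rfl
  | some a =>
    have h3 : ((shift : M24) : Equiv.Perm GolayPt).symm (some a) = some (a - 1) := by
      rw [Equiv.symm_apply_eq]
      show some a = some (a - 1 + 1)
      rw [sub_add_cancel]
    rw [h3]
    show (if ∃ r : ZMod 23, a - 1 = r ^ 2 + t then (1 : ZMod 2) else 0) =
      if ∃ r : ZMod 23, a = r ^ 2 + (t + 1) then 1 else 0
    congr 1
    apply propext
    constructor
    · rintro ⟨r, hr⟩; exact ⟨r, by linear_combination hr⟩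
    · rintro ⟨r, hr⟩; exact ⟨r, by linear_combination hr⟩

theorem wordPerm_mul (σ τ : M24) (c : golayCode) : wordPerm (σ * τ) c = wordPerm σ (wordPerm τ c) :=
  rfl

theorem wordPerm_one (c : golayCode) : wordPerm 1 c = c := rfl

theorem wordPerm_shift_pow (n : ℕ) : wordPerm (shift ^ n) (q 0) = q n := by
  induction n with
  | zero => rw [pow_zero, wordPerm_one, Nat.cast_zero]
  | succ n ih => rw [pow_succ', wordPerm_mul, ih, wordPerm_shift, Nat.cast_succ]

set_option maxRecDepth 100000 in
theorem sum_q_aux : ∀ i : GolayPt,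
    ∑ n ∈ Finset.range 23, (qrWord 0 i + qrWord (n : ZMod 23) i) = qrWord 0 i := by
  decide +kernel

theorem sum_q : ∑ n ∈ Finset.range 23, (q 0 + q (n : ZMod 23)) = q 0 := by
  apply Subtype.ext
  rw [AddSubmonoidClass.coe_finsetSum]
  funext i
  rw [Finset.sum_apply]
  exact sum_q_aux i

/-- A normal subgroup of `Co0` containing `-1` with full permutation part contains the monomial
group. -/
theorem N_le (K : Subgroup Co0) [hK : K.Normal] (hneg : signCo0 allOne ∈ K)
    (htop : permPart K = ⊤) : N ≤ K := by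
  have hstep : ∀ n : ℕ, signCo0 (q 0 + q n) ∈ K := by
    intro n
    have h : shift ^ n ∈ permPart K := by rw [htop]; exact Subgroup.mem_top _
    have := sign_add_mem K h (q 0)
    rwa [wordPerm_shift_pow] at this
  have hsum : ∀ n : ℕ, signCo0 (∑ m ∈ Finset.range n, (q 0 + q (m : ZMod 23))) ∈ K := by
    intro n
    induction n with
    | zero => rw [Finset.sum_range_zero, signCo0_zero]; exact K.one_mem
    | succ n ih =>
      rw [Finset.sum_range_succ, signCo0_add]
      exact K.mul_mem ih (hstep n)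
  have hq0 : signCo0 (q 0) ∈ K := by
    have := hsum 23
    rwa [sum_q] at this
  have hq : ∀ t : ZMod 23, signCo0 (q t) ∈ K := by
    intro t
    have h1 := hstep t.val
    rw [signCo0_add, ZMod.natCast_zmod_val] at h1
    exact (K.mul_mem_cancel_left hq0).1 h1
  have hall : ∀ (w : GolayPt → ZMod 2) (hw : w ∈ golayCode), signCo0 ⟨w, hw⟩ ∈ K := by
    intro w hw
    refine Submodule.span_induction (p := fun w hw => signCo0 ⟨w, hw⟩ ∈ K) ?_ ?_ ?_ ?_ hw
    · rintro x (⟨t, rfl⟩ | hx)
      · exact hq t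
      · have hx' : x = 1 := hx
        subst hx'
        exact hneg
    · have : signCo0 ⟨0, golayCode.zero_mem⟩ = 1 := signCo0_zero
      rw [this]; exact K.one_mem
    · intro x y hx hy hx' hy'
      have : signCo0 ⟨x + y, golayCode.add_mem hx hy⟩ = signCo0 ⟨x, hx⟩ * signCo0 ⟨y, hy⟩ :=
        signCo0_add ⟨x, hx⟩ ⟨y, hy⟩
      rw [this]; exact K.mul_mem hx' hy'
    · intro a x hx hx'
      rcases zmod2_cases a with rfl | rfl
      · have : signCo0 ⟨(0 : ZMod 2) • x, golayCode.smul_mem 0 hx⟩ = 1 := by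
          rw [← signCo0_zero]
          congr 1
          apply Subtype.ext
          show (0 : ZMod 2) • x = 0
          rw [zero_smul]
        rw [this]; exact K.one_mem
      · have : signCo0 ⟨(1 : ZMod 2) • x, golayCode.smul_mem 1 hx⟩ = signCo0 ⟨x, hx⟩ := by
          congr 1
          apply Subtype.ext
          show (1 : ZMod 2) • x = x
          rw [one_smul]
        rw [this]; exact hx'
  intro g hg
  obtain ⟨c, σ, rfl⟩ := exists_sign_perm hg
  apply K.mul_mem (hall c c.2)
  have hσ : σ ∈ permPart K := by rw [htop]; exact Subgroup.mem_top _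
  obtain ⟨d, hd⟩ := hσ
  exact (K.mul_mem_cancel_left (hall d d.2)).1 hd

/-- The first dichotomy. -/
theorem signs_or_le (hsimple : IsSimpleGroup M24) (K : Subgroup Co0) [hK : K.Normal]
    (hneg : signCo0 allOne ∈ K) :
    (∀ g ∈ K ⊓ N, ∃ c, g = signCo0 c) ∨ N ≤ K := by
  rcases hsimple.eq_bot_or_eq_top_of_normal (permPart K) (permPart_normal K) with h | h
  · left
    rintro g ⟨hgK, hgN⟩
    obtain ⟨c, σ, rfl⟩ := exists_sign_perm hgN
    have hσ : σ ∈ permPart K := ⟨c, hgK⟩
    rw [h, Subgroup.mem_bot] at hσ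
    exact ⟨c, by rw [hσ, map_one, mul_one]⟩
  · right
    exact N_le K hneg h

/-- A normal subgroup of `Co0` consisting of sign changes is central. -/
theorem eq_of_signs (h2 : ∀ a b c d : GolayPt, a ≠ b → c ≠ d → ∃ σ : M24,
      (σ : Equiv.Perm GolayPt) a = c ∧ (σ : Equiv.Perm GolayPt) b = d)
    (hN : N ≠ ⊤) (K : Subgroup Co0) [hK : K.Normal] (hsign : ∀ g ∈ K, ∃ c, g = signCo0 c) :
    ∀ g ∈ K, g = 1 ∨ g = signCo0 allOne := by
  intro g hg
  obtain ⟨c, rfl⟩ := hsign g hg
  by_contra hcon
  push Not at hcon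
  obtain ⟨hc0, hc1⟩ := hcon
  have hi : ∃ i, (c : GolayPt → ZMod 2) i = 1 := by
    by_contra h
    push Not at h
    apply hc0
    have : c = 0 := by
      apply Subtype.ext
      funext i
      exact (zmod2_cases _).resolve_right (h i)
    rw [this, signCo0_zero]
  have hj : ∃ j, (c : GolayPt → ZMod 2) j = 0 := by
    by_contra h
    push Not at h
    apply hc1
    have : c = allOne := by
      apply Subtype.ext
      funext i
      exact (zmod2_cases _).resolve_left (h i)
    rw [this]
  obtain ⟨i, hi⟩ := hi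
  obtain ⟨j, hj⟩ := hj
  have hij : i ≠ j := by
    rintro rfl
    rw [hi] at hj
    exact one_ne_zero hj
  -- separating words
  have hsep : ∀ a b : GolayPt, a ≠ b → ∃ d : golayCode, signCo0 d ∈ K ∧
      (d : GolayPt → ZMod 2) a = 1 ∧ (d : GolayPt → ZMod 2) b = 0 := by
    intro a b hab
    obtain ⟨σ, hσa, hσb⟩ := h2 i j a b hij hab
    refine ⟨wordPerm σ c, ?_, ?_, ?_⟩
    · rw [← perm_mul_sign_mul_inv]
      exact hK.conj_mem _ hg _
    · rw [wordPerm_apply, ← hσa, Equiv.symm_apply_apply, hi]
    · rw [wordPerm_apply, ← hσb, Equiv.symm_apply_apply, hj]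
  apply hN
  rw [eq_top_iff]
  intro g _
  apply mem_N_of_e8
  intro k
  -- every sign change in `K` maps `g • e8 k` to plus or minus itself
  have hpm : ∀ d : golayCode, signCo0 d ∈ K → signCo0 d • (g • e8 k) = g • e8 k ∨
      signCo0 d • (g • e8 k) = -(g • e8 k) := by
    intro d hd
    have h1 := hK.conj_mem _ hd g⁻¹
    rw [inv_inv] at h1
    obtain ⟨d', hd'⟩ := hsign _ h1
    have h3 : signCo0 d • (g • e8 k) = g • (signCo0 d' • e8 k) := by
      rw [← hd', ← mul_smul, ← mul_smul]
      congr 1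
      group
    rcases sgn_smul_e8 d' k with h4 | h4
    · left; rw [h3, h4]
    · right; rw [h3, h4, Co0Mono.smul_neg]
  set v := g • e8 k with hv
  have hvnorm : sqNorm (v : GolayPt → ℤ) = 64 := by rw [hv, sqNorm_smul, sqNorm_e8]
  have hone : ∀ a b : GolayPt, a ≠ b → (v : GolayPt → ℤ) a ≠ 0 → (v : GolayPt → ℤ) b = 0 := by
    intro a b hab ha
    by_contra hb
    obtain ⟨d, hdK, hda, hdb⟩ := hsep a b hab
    rcases hpm d hdK with h | h
    · have h1 := congrArg (fun v : leechLattice => (v : GolayPt → ℤ) a) h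
      have h3 : sgn ((d : GolayPt → ZMod 2) a) * (v : GolayPt → ℤ) a = (v : GolayPt → ℤ) a := h1
      rw [hda, sgn_one] at h3
      omega
    · have h1 := congrArg (fun v : leechLattice => (v : GolayPt → ℤ) b) h
      have h3 : sgn ((d : GolayPt → ZMod 2) b) * (v : GolayPt → ℤ) b = -(v : GolayPt → ℤ) b := h1
      rw [hdb, sgn_zero] at h3
      omega
  classical
  have hex : ∃ a, (v : GolayPt → ℤ) a ≠ 0 := by
    by_contra h
    push Not at h
    have h1 : ∑ i, (v : GolayPt → ℤ) i ^ 2 = 64 := hvnorm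
    rw [Finset.sum_eq_zero (fun i _ => by rw [h i]; norm_num)] at h1
    norm_num at h1
  obtain ⟨a, ha⟩ := hex
  have hsq : (v : GolayPt → ℤ) a ^ 2 = 64 := by
    have h1 : ∑ i, (v : GolayPt → ℤ) i ^ 2 = 64 := hvnorm
    rw [Finset.sum_eq_single a] at h1
    · exact h1
    · intro b _ hb
      rw [hone a b (Ne.symm hb) ha]; norm_num
    · intro h; exact absurd (Finset.mem_univ _) h
  refine ⟨a, (v : GolayPt → ℤ) a, ?_, ?_⟩
  · have h3 : ((v : GolayPt → ℤ) a - 8) * ((v : GolayPt → ℤ) a + 8) = 0 := by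
      linear_combination hsq
    rcases mul_eq_zero.1 h3 with h4 | h4
    · left; linarith
    · right; linarith
  · funext b
    by_cases hb : b = a
    · subst hb; simp
    · rw [hone a b (Ne.symm hb) ha]; simp [hb]

/-! ### simplicity -/

theorem allOne_smul (v : leechLattice) : signCo0 allOne • v = -v := by
  apply Subtype.ext
  funext i
  show sgn 1 * (v : GolayPt → ℤ) i = -(v : GolayPt → ℤ) i
  rw [sgn_one]; ring

theorem allOne_mem_center : signCo0 allOne ∈ Subgroup.center Co0 := by
  rw [Subgroup.mem_center_iff]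
  intro g
  apply ext
  intro v
  rw [mul_smul, mul_smul, allOne_smul, allOne_smul, Co0Mono.smul_neg]

/-- The normal subgroups of `Co0` containing `-1` are the centre and the whole group. -/
theorem le_center_or_eq_top (hcard : Nat.card Co0 = 8315553613086720000)
    (hNcard : Nat.card N = 4096 * 244823040) (hsimple : IsSimpleGroup M24)
    (h2 : ∀ a b c d : GolayPt, a ≠ b → c ≠ d → ∃ σ : M24,
      (σ : Equiv.Perm GolayPt) a = c ∧ (σ : Equiv.Perm GolayPt) b = d)
    (K : Subgroup Co0) [hK : K.Normal] (hneg : signCo0 allOne ∈ K) :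
    K ≤ Subgroup.center Co0 ∨ K = ⊤ := by
  have hfin : Finite Co0 := Nat.finite_of_card_ne_zero (by rw [hcard]; norm_num)
  have hidx : N.index = 8292375 := by
    have h := N.card_mul_index
    rw [hcard, hNcard] at h
    omega
  have hNtop : N ≠ ⊤ := by
    intro h
    rw [h, Subgroup.index_top] at hidx
    norm_num at hidx
  have : Fact (Nat.Prime 23) := ⟨by norm_num⟩
  have hsq : ¬ 23 ^ 2 ∣ Nat.card Co0 := by rw [hcard]; norm_num
  rcases signs_or_le hsimple K hneg with h | h
  · left
    have h23 : ¬ 23 ∣ Nat.card K := by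
      intro hd
      have hx := SimpleCrit23.mem_of_dvd x23 orderOf_x23 hsq K hd
      obtain ⟨c, hc⟩ := h x23 ⟨hx, x23_mem_N⟩
      have h1 : x23 * x23 = 1 := by rw [hc, signCo0_mul_self]
      have h3 : orderOf x23 ∣ 2 := orderOf_dvd_of_pow_eq_one (by rw [pow_two]; exact h1)
      rw [orderOf_x23] at h3
      norm_num at h3
    have hpg : IsPGroup 2 (K ⊓ N : Subgroup Co0) := by
      rintro ⟨g, hg⟩
      refine ⟨1, ?_⟩
      obtain ⟨c, hc⟩ := h g hg
      apply Subtype.ext
      show g ^ 2 ^ 1 = 1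
      rw [pow_one, pow_two, hc, signCo0_mul_self]
    have hcent : ∀ g : Co0, x23 * g = g * x23 → g ∈ N := by
      intro g hg
      apply mem_N_of_conj
      rw [mul_assoc, hg, inv_mul_cancel_left]
      exact x23_mem_N
    have hle := SimpleCrit23.le_of_not_dvd N x23 x23_pow hidx hcent K h23 hpg
    have hsign : ∀ g ∈ K, ∃ c, g = signCo0 c := fun g hg => h g ⟨hg, hle hg⟩
    intro g hg
    rcases eq_of_signs h2 hNtop K hsign g hg with rfl | rfl
    · exact Subgroup.one_mem _
    · exact allOne_mem_center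
  · right
    refine SimpleCrit23.eq_top_of_dvd N x23 orderOf_x23 hsq ?_ K h
    intro g hg
    have h1 : g⁻¹ ∈ N := by
      apply mem_N_of_conj
      rw [inv_inv]
      exact (Subgroup.zpowers_le.2 x23_mem_N) hg
    exact (Subgroup.inv_mem_iff N).1 h1

theorem isSimpleGroup (hcard : Nat.card Co0 = 8315553613086720000)
    (hZcard : Nat.card (Subgroup.center Co0) = 2)
    (hNcard : Nat.card N = 4096 * 244823040) (hsimple : IsSimpleGroup M24)
    (h2 : ∀ a b c d : GolayPt, a ≠ b → c ≠ d → ∃ σ : M24,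
      (σ : Equiv.Perm GolayPt) a = c ∧ (σ : Equiv.Perm GolayPt) b = d) :
    IsSimpleGroup (Co0 ⧸ Subgroup.center Co0) := by
  have hq : Nat.card (Co0 ⧸ Subgroup.center Co0) = 4157776806543360000 := by
    have h := Subgroup.card_eq_card_quotient_mul_card_subgroup (Subgroup.center Co0)
    rw [hcard, hZcard] at h
    omega
  have hnt : Nontrivial (Co0 ⧸ Subgroup.center Co0) := by
    have : Finite (Co0 ⧸ Subgroup.center Co0) := Nat.finite_of_card_ne_zero (by rw [hq]; norm_num)
    rw [← Finite.one_lt_card_iff_nontrivial, hq]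
    norm_num
  refine { hnt with eq_bot_or_eq_top_of_normal := ?_ }
  intro H hH
  have hKn : (H.comap (QuotientGroup.mk' (Subgroup.center Co0))).Normal := hH.comap _
  have hmap : (H.comap (QuotientGroup.mk' (Subgroup.center Co0))).map
      (QuotientGroup.mk' (Subgroup.center Co0)) = H :=
    Subgroup.map_comap_eq_self_of_surjective (QuotientGroup.mk'_surjective _) H
  have hneg : signCo0 allOne ∈ H.comap (QuotientGroup.mk' (Subgroup.center Co0)) := by
    rw [Subgroup.mem_comap]
    have : QuotientGroup.mk' (Subgroup.center Co0) (signCo0 allOne) = 1 := by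
      rw [QuotientGroup.mk'_apply, QuotientGroup.eq_one_iff]
      exact allOne_mem_center
    rw [this]
    exact H.one_mem
  rcases le_center_or_eq_top hcard hNcard hsimple h2 _ hneg with h | h
  · left
    rw [← hmap, eq_bot_iff]
    rintro _ ⟨g, hg, rfl⟩
    rw [Subgroup.mem_bot, QuotientGroup.mk'_apply, QuotientGroup.eq_one_iff]
    exact h hg
  · right
    rw [← hmap, h]
    exact Subgroup.map_top_of_surjective _ (QuotientGroup.mk'_surjective _)

end Cfsg.Agent.SporadicA.Co1Simple
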