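import Mathlib
import Cfsg.Prelude.Def_Sporadic_a
import Cfsg.Agent.SporadicStructure.LeechBase
import Cfsg.Agent.SporadicStructure.GolayEven

/-!
The isometry of the rank-24 lattice attached to a sextet (partition of the 24 points into six
tetrads such that unions of two tetrads are code words) with a marked tetrad (colour `0`):
`x i ↦ ± ((sum of x over the tetrad of i) / 2 - x i)`, the sign being `-` on the marked tetrad.
-/

set_option autoImplicit false

namespace Cfsg.Agent.SporadicA.Xi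

open Cfsg Finset
open Cfsg.Agent.SporadicStructure.LeechBase Cfsg.Agent.SporadicStructure

/-- The tetrad of colour `k`. -/
def fib (T : GolayPt → Fin 6) (k : Fin 6) : Finset GolayPt := univ.filter (fun i => T i = k)

theorem mem_fib {T : GolayPt → Fin 6} {k : Fin 6} {i : GolayPt} : i ∈ fib T k ↔ T i = k := by
  simp [fib]

/-- A colouring of the 24 points by six colours whose classes form a sextet. -/
structure IsSextet (T : GolayPt → Fin 6) : Prop where
  card : ∀ k, (fib T k).card = 4
  code : ∀ k l, k ≠ l → fib T k ∪ fib T l ∈ supports (golayCode : Set (GolayPt → ZMod 2))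

/-- The indicator word of the tetrad of colour `k`. -/
def tw (T : GolayPt → Fin 6) (k : Fin 6) : GolayPt → ZMod 2 := fun i => if T i = k then 1 else 0

theorem tw_add_mem {T : GolayPt → Fin 6} (hT : IsSextet T) (k l : Fin 6) :
    tw T k + tw T l ∈ golayCode := by
  by_cases h : k = l
  · subst h
    have : tw T k + tw T k = 0 := by
      funext i
      simp only [Pi.add_apply, Pi.zero_apply]
      exact CharTwo.add_self_eq_zero _
    rw [this]
    exact golayCode.zero_mem
  · have := (mem_supports_iff_ind _).1 (hT.code k l h)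
    convert this using 1
    funext i
    simp only [Pi.add_apply, tw, ind, mem_union, mem_fib]
    by_cases h1 : T i = k
    · have h2 : ¬ T i = l := fun h3 => h (h1.symm.trans h3)
      simp [h1, h]
    · by_cases h2 : T i = l
      · simp [h2, Ne.symm h]
      · simp [h1, h2]

theorem comp_mem {T : GolayPt → Fin 6} (hT : IsSextet T) (a : Fin 6 → ZMod 2)
    (ha : ∑ k, a k = 0) : (fun i => a (T i)) ∈ golayCode := by
  have h : (fun i => a (T i)) = ∑ k, a k • (tw T k + tw T 0) := by
    funext i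
    rw [Finset.sum_apply]
    simp only [Pi.smul_apply, Pi.add_apply, smul_eq_mul, mul_add, sum_add_distrib, ← sum_mul, ha,
      zero_mul, add_zero, tw]
    simp
  rw [h]
  exact Submodule.sum_mem _ fun k _ => golayCode.smul_mem _ (tw_add_mem hT k 0)

theorem sum_tw (T : GolayPt → Fin 6) (z : GolayPt → ℤ) (k : Fin 6) :
    ∑ p, red z p * tw T k p = ((∑ p ∈ fib T k, z p : ℤ) : ZMod 2) := by
  rw [Int.cast_sum, fib, sum_filter]
  refine sum_congr rfl fun p _ => ?_
  simp only [tw, red]
  split_ifs <;> simp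

theorem fib_parity {T : GolayPt → Fin 6} (hT : IsSextet T) {z : GolayPt → ℤ}
    (hz : red z ∈ golayCode) (k : Fin 6) :
    ∃ b : ℤ, ∑ p ∈ fib T k, z p = ∑ p ∈ fib T 0, z p + 2 * b := by
  have h := GolayEven.dot₂_eq_zero hz (tw_add_mem hT k 0)
  have h2 : GolayEven.dot₂ (red z) (tw T k + tw T 0) =
      ((∑ p ∈ fib T k, z p + ∑ p ∈ fib T 0, z p : ℤ) : ZMod 2) := by
    unfold GolayEven.dot₂
    rw [Int.cast_add, ← sum_tw, ← sum_tw, ← sum_add_distrib]
    refine sum_congr rfl fun p _ => ?_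
    rw [Pi.add_apply, mul_add]
  rw [h2, ZMod.intCast_eq_zero_iff_even] at h
  obtain ⟨c, hc⟩ := h
  exact ⟨c - ∑ p ∈ fib T 0, z p, by linarith⟩

/-- The sextet map. -/
def xiFun (T : GolayPt → Fin 6) (x : GolayPt → ℤ) : GolayPt → ℤ := fun i =>
  (if T i = 0 then -1 else 1) * ((∑ j ∈ fib T (T i), x j) / 2 - x i)

theorem xiFun_apply (T : GolayPt → Fin 6) (x : GolayPt → ℤ) (i : GolayPt) :
    xiFun T x i = (if T i = 0 then -1 else 1) * ((∑ j ∈ fib T (T i), x j) / 2 - x i) := rfl

theorem sum_fib_form {T : GolayPt → Fin 6} (hT : IsSextet T) (m : ℤ) (z x : GolayPt → ℤ)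
    (hx : ∀ i, x i = m + 2 * z i) (k : Fin 6) :
    ∑ j ∈ fib T k, x j = 2 * (2 * m + ∑ j ∈ fib T k, z j) := by
  rw [sum_congr rfl (fun i _ => hx i), sum_add_distrib, sum_const, hT.card, ← mul_sum]
  simp only [nsmul_eq_mul]
  push_cast
  ring

theorem even_sum_fib {T : GolayPt → Fin 6} (hT : IsSextet T) {x : GolayPt → ℤ}
    (hx : x ∈ leechLattice) (k : Fin 6) : 2 * ((∑ j ∈ fib T k, x j) / 2) = ∑ j ∈ fib T k, x j := by
  obtain ⟨m, z, -, -, h⟩ := (mem_leech_iff x).1 hx
  rw [sum_fib_form hT m z x h k]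
  omega

theorem two_xiFun {T : GolayPt → Fin 6} (hT : IsSextet T) {x : GolayPt → ℤ}
    (hx : x ∈ leechLattice) (i : GolayPt) :
    2 * xiFun T x i = (if T i = 0 then -1 else 1) * ((∑ j ∈ fib T (T i), x j) - 2 * x i) := by
  rw [xiFun_apply, ← even_sum_fib hT hx (T i)]
  ring_nf
  split_ifs <;> omega

theorem sum_by_fib (T : GolayPt → Fin 6) (f : GolayPt → ℤ) :
    ∑ i, f i = ∑ k, ∑ i ∈ fib T k, f i := by
  unfold fib
  rw [Finset.sum_fiberwise]

theorem xiFun_mem {T : GolayPt → Fin 6} (hT : IsSextet T) {x : GolayPt → ℤ}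
    (hx : x ∈ leechLattice) : xiFun T x ∈ leechLattice := by
  obtain ⟨m, z, hz, hs, hxz⟩ := (mem_leech_iff x).1 hx
  choose b hb using fib_parity hT hz
  set ζ : Fin 6 → ℤ := fun k => ∑ p ∈ fib T k, z p with hζ
  have hb' : ∀ k, ζ k = ζ 0 + 2 * b k := hb
  have hb0 : b 0 = 0 := by have := hb' 0; omega
  have hsum : ∑ i, z i = ζ 0 + ζ 1 + ζ 2 + ζ 3 + ζ 4 + ζ 5 := by
    rw [sum_by_fib T, Fin.sum_univ_six]
  rw [mem_leech_iff]
  refine ⟨m + ζ 0, fun i => if T i = 0 then z i - (m + ζ 0) else b (T i) - z i, ?_, ?_, ?_⟩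
  · have h1 : (fun i => (if T i = 0 then ((m + ζ 0 : ℤ) : ZMod 2) else ((b (T i) : ℤ) : ZMod 2))) ∈
        golayCode := by
      refine comp_mem hT (fun k => if k = 0 then ((m + ζ 0 : ℤ) : ZMod 2) else
        ((b k : ℤ) : ZMod 2)) ?_
      rw [Fin.sum_univ_six]
      simp only [if_true, Fin.isValue, one_ne_zero, if_false]
      have h10 : (2 : Fin 6) ≠ 0 := by decide
      have h11 : (3 : Fin 6) ≠ 0 := by decide
      have h12 : (4 : Fin 6) ≠ 0 := by decide
      have h13 : (5 : Fin 6) ≠ 0 := by decide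
      rw [if_neg h10, if_neg h11, if_neg h12, if_neg h13]
      have : ((m + ζ 0 + b 1 + b 2 + b 3 + b 4 + b 5 : ℤ) : ZMod 2) = 0 := by
        rw [ZMod.intCast_eq_zero_iff_even, Int.even_iff]
        have e1 := hb' 1
        have e2 := hb' 2
        have e3 := hb' 3
        have e4 := hb' 4
        have e5 := hb' 5
        unfold Int.ModEq at hs
        omega
      push_cast at this ⊢
      exact this
    have h2 := golayCode.add_mem hz h1
    convert h2 using 1
    funext i
    simp only [red, Pi.add_apply]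
    by_cases hi : T i = 0
    · simp only [hi, if_true]
      push_cast
      rw [sub_eq_add_neg]
      congr 1
      exact CharTwo.neg_eq _
    · simp only [hi, if_false]
      push_cast
      rw [add_comm, sub_eq_add_neg]
      congr 1
      exact CharTwo.neg_eq _
  · have hfib : ∀ k : Fin 6, ∑ i ∈ fib T k, (if T i = 0 then z i - (m + ζ 0) else b (T i) - z i) =
        if k = 0 then ζ 0 - 4 * (m + ζ 0) else 4 * b k - ζ k := by
      intro k
      by_cases hk : k = 0
      · subst hk
        rw [if_pos rfl, sum_congr rfl (g := fun i => z i - (m + ζ 0))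
          (fun i hi => by rw [if_pos (mem_fib.1 hi)]), sum_sub_distrib, sum_const, hT.card]
        simp [hζ]
      · rw [if_neg hk, sum_congr rfl (g := fun i => b k - z i)
          (fun i hi => by
            have := mem_fib.1 hi
            rw [this, if_neg hk]), sum_sub_distrib, sum_const, hT.card]
        simp [hζ]
    have h10 : (2 : Fin 6) ≠ 0 := by decide
    have h11 : (3 : Fin 6) ≠ 0 := by decide
    have h12 : (4 : Fin 6) ≠ 0 := by decide
    have h13 : (5 : Fin 6) ≠ 0 := by decide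
    have h14 : (1 : Fin 6) ≠ 0 := by decide
    rw [sum_by_fib T, Fin.sum_univ_six, hfib, hfib, hfib, hfib, hfib, hfib,
      if_pos rfl, if_neg h10, if_neg h11, if_neg h12, if_neg h13, if_neg h14]
    have e1 := hb' 1
    have e2 := hb' 2
    have e3 := hb' 3
    have e4 := hb' 4
    have e5 := hb' 5
    unfold Int.ModEq at hs ⊢
    omega
  · intro i
    rw [xiFun_apply, sum_fib_form hT m z x hxz]
    have h1 : ζ (T i) = ∑ p ∈ fib T (T i), z p := rfl
    rw [← h1, hxz i]
    by_cases hi : T i = 0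
    · simp only [hi, if_true]
      omega
    · simp only [hi, if_false]
      have := hb' (T i)
      omega

theorem xiFun_add {T : GolayPt → Fin 6} (hT : IsSextet T) {x y : GolayPt → ℤ}
    (hx : x ∈ leechLattice) (hy : y ∈ leechLattice) :
    xiFun T (x + y) = xiFun T x + xiFun T y := by
  funext i
  have h1 := two_xiFun hT (add_mem hx hy) i
  have h2 := two_xiFun hT hx i
  have h3 := two_xiFun hT hy i
  simp only [Pi.add_apply, sum_add_distrib] at h1 ⊢
  have : 2 * xiFun T (x + y) i = 2 * xiFun T x i + 2 * xiFun T y i := by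
    rw [h1, h2, h3]
    ring
  linarith

theorem two_sum_xiFun {T : GolayPt → Fin 6} (hT : IsSextet T) {x : GolayPt → ℤ}
    (hx : x ∈ leechLattice) (k : Fin 6) :
    ∑ i ∈ fib T k, xiFun T x i = (if k = 0 then -1 else 1) * ∑ i ∈ fib T k, x i := by
  have h : ∀ i ∈ fib T k, xiFun T x i =
      (if k = 0 then -1 else 1) * ((∑ j ∈ fib T k, x j) / 2 - x i) := fun i hi => by
    rw [xiFun_apply, mem_fib.1 hi]
  have h2 := even_sum_fib hT hx k
  rw [sum_congr rfl h, ← mul_sum, sum_sub_distrib, sum_const, hT.card]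
  congr 1
  simp only [nsmul_eq_mul]
  push_cast
  linarith

theorem xiFun_xiFun {T : GolayPt → Fin 6} (hT : IsSextet T) {x : GolayPt → ℤ}
    (hx : x ∈ leechLattice) : xiFun T (xiFun T x) = x := by
  funext i
  have h1 := two_xiFun hT (xiFun_mem hT hx) i
  have h2 := two_xiFun hT hx i
  rw [two_sum_xiFun hT hx] at h1
  have : 2 * xiFun T (xiFun T x) i = 2 * x i := by
    rw [h1]
    split_ifs at h2 ⊢ <;> linarith
  linarith

theorem sqNorm_xiFun {T : GolayPt → Fin 6} (hT : IsSextet T) {x : GolayPt → ℤ}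
    (hx : x ∈ leechLattice) : sqNorm (xiFun T x) = sqNorm x := by
  unfold sqNorm
  rw [sum_by_fib T, sum_by_fib T (fun i => x i ^ 2)]
  refine sum_congr rfl fun k _ => ?_
  set c := (∑ j ∈ fib T k, x j) / 2 with hc
  have h : ∀ i ∈ fib T k, xiFun T x i ^ 2 = c ^ 2 - 2 * c * x i + x i ^ 2 := fun i hi => by
    rw [xiFun_apply, mem_fib.1 hi, ← hc]
    split_ifs <;> ring
  have h2 := even_sum_fib hT hx k
  rw [← hc] at h2
  rw [sum_congr rfl h, sum_add_distrib, sum_sub_distrib, ← mul_sum, ← h2, sum_const, hT.card]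
  simp only [nsmul_eq_mul]
  push_cast
  ring

/-- The sextet map as an element of `Co0`. -/
def xiCo0 (T : GolayPt → Fin 6) (hT : IsSextet T) : Co0 :=
  ⟨{ toFun := fun v => ⟨xiFun T v, xiFun_mem hT v.2⟩
     invFun := fun v => ⟨xiFun T v, xiFun_mem hT v.2⟩
     left_inv := fun v => Subtype.ext (xiFun_xiFun hT v.2)
     right_inv := fun v => Subtype.ext (xiFun_xiFun hT v.2) },
    ⟨fun v w => Subtype.ext (xiFun_add hT v.2 w.2), fun v => sqNorm_xiFun hT v.2⟩⟩

theorem xiCo0_smul (T : GolayPt → Fin 6) (hT : IsSextet T) (v : leechLattice) :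
    ((xiCo0 T hT • v : leechLattice) : GolayPt → ℤ) = xiFun T v := rfl

theorem two_xiCo0_smul (T : GolayPt → Fin 6) (hT : IsSextet T) (v : leechLattice) (i : GolayPt) :
    2 * ((xiCo0 T hT • v : leechLattice) : GolayPt → ℤ) i =
      (if T i = 0 then -1 else 1) *
        ((∑ j ∈ fib T (T i), (v : GolayPt → ℤ) j) - 2 * (v : GolayPt → ℤ) i) :=
  two_xiFun hT v.2 i

end Cfsg.Agent.SporadicA.Xi
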