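import Mathlib
import Cfsg.Agent.SporadicA.Xi
import Cfsg.Agent.SporadicStructure.Sextet

/-!
Every 4-set of points is the class of colour `0` of a sextet colouring.
-/

set_option autoImplicit false

namespace Cfsg.Agent.SporadicA.XiSextet

open Cfsg Finset
open Cfsg.Agent.SporadicA.Xi Cfsg.Agent.SporadicStructure.Sextet

theorem exists_isSextet (hSt : IsSteinerSystem 5 8 octads) (S : Finset GolayPt) (hS : S.card = 4) :
    ∃ T : GolayPt → Fin 6, IsSextet T ∧ fib T 0 = S := by
  classical
  have hmem := sextetOf_mem_sextets hSt hS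
  have hcard : Fintype.card (sextetOf S) = Fintype.card (Fin 6) := by
    rw [Fintype.card_coe, card_sextetOf hSt hS, Fintype.card_fin]
  let e0 : sextetOf S ≃ Fin 6 := Fintype.equivOfCardEq hcard
  let s0 : sextetOf S := ⟨S, self_mem_sextetOf S⟩
  let e : sextetOf S ≃ Fin 6 := e0.trans (Equiv.swap (e0 s0) 0)
  have he : e s0 = 0 := by simp [e]
  choose u hu hxu using fun x => exists_mem_sextetOf hSt hS x
  let T : GolayPt → Fin 6 := fun x => e ⟨u x, hu x⟩
  have huniq : ∀ (x : GolayPt) (t : Finset GolayPt), t ∈ sextetOf S → x ∈ t → u x = t := by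
    intro x t ht hxt
    by_contra hne
    exact (disjoint_left.1 (disjoint_of_mem hmem (hu x) ht hne)) (hxu x) hxt
  have hfib : ∀ k, fib T k = (e.symm k : Finset GolayPt) := by
    intro k
    ext x
    rw [mem_fib]
    constructor
    · intro h
      have : e.symm k = ⟨u x, hu x⟩ := by rw [Equiv.symm_apply_eq]; exact h.symm
      rw [this]
      exact hxu x
    · intro h
      have h1 := huniq x _ (e.symm k).2 h
      show e ⟨u x, hu x⟩ = k
      rw [← Equiv.eq_symm_apply]
      exact Subtype.ext h1
  refine ⟨T, ⟨fun k => ?_, fun k l hkl => ?_⟩, ?_⟩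
  · rw [hfib]
    exact card_tetrad hmem (e.symm k).2
  · rw [hfib, hfib]
    refine (hmem.2.2 _ (e.symm k).2 _ (e.symm l).2 ?_).1
    intro h
    exact hkl (e.symm.injective (Subtype.ext h))
  · rw [hfib, ← he, Equiv.symm_apply_apply]

end Cfsg.Agent.SporadicA.XiSextet
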