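import Cfsg.Agent.SporadicA.Dodecad
import Cfsg.Agent.S0350
import Cfsg.Agent.S0360

/-!
Counting the octads meeting a fixed dodecad in 2, 4, 6 points.
-/

set_option autoImplicit false
open Cfsg

namespace Cfsg.Agent.SporadicA.DodecadCount

open Finset Cfsg.Agent.SporadicA.Dodecad

theorem ncard_hexads (d : Finset GolayPt) (hd : d ∈ dodecads) : (hexads d).ncard = 132 := by
  have h := Cfsg.Agent.S0350.result (hexads_steiner d hd)
  have h1 : Fintype.card {p : GolayPt // p ∈ d} = 12 := by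
    rw [Fintype.card_coe]; exact hd.2
  rw [h1] at h
  have h2 : Nat.choose 6 5 = 6 := by decide
  have h3 : Nat.choose 12 5 = 792 := by decide
  rw [h2, h3] at h
  omega

theorem ncard_octads_six (d : Finset GolayPt) (hd : d ∈ dodecads) :
    {o : Finset GolayPt | o ∈ octads ∧ (o ∩ d).card = 6}.ncard = 132 := by
  rw [← ncard_hexads d hd]
  have himg : hexads d = (fun o => Finset.subtype (fun p => p ∈ d) o) ''
      {o : Finset GolayPt | o ∈ octads ∧ (o ∩ d).card = 6} := by
    ext h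
    constructor
    · rintro ⟨o, ho, hod, rfl⟩
      exact ⟨o, ⟨ho, hod⟩, rfl⟩
    · rintro ⟨o, ⟨ho, hod⟩, rfl⟩
      exact ⟨o, ho, hod, rfl⟩
  rw [himg]
  refine (Set.InjOn.ncard_image ?_).symm
  rintro o ⟨ho, hod⟩ o' ⟨ho', hod'⟩ heq
  have heq' : Finset.subtype (fun p => p ∈ d) o = Finset.subtype (fun p => p ∈ d) o' := heq
  refine octad_eq_of_five (s := o ∩ d) ho ho' (by omega) Finset.inter_subset_left ?_
  intro x hx
  obtain ⟨hxo, hxd⟩ := Finset.mem_inter.1 hx
  have : (⟨x, hxd⟩ : {p : GolayPt // p ∈ d}) ∈ Finset.subtype (fun p => p ∈ d) o :=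
    Finset.mem_subtype.2 hxo
  rw [heq'] at this
  exact Finset.mem_subtype.1 this

theorem card_inter_compl (o d : Finset GolayPt) :
    (o ∩ dᶜ).card + (o ∩ d).card = o.card := by
  rw [← Finset.card_sdiff_add_card_inter o d, Finset.sdiff_eq_inter_compl]

theorem ncard_octads_two (d : Finset GolayPt) (hd : d ∈ dodecads) :
    {o : Finset GolayPt | o ∈ octads ∧ (o ∩ d).card = 2}.ncard = 132 := by
  rw [← ncard_octads_six dᶜ (compl_dodecad hd)]
  congr 1
  ext o
  constructor
  · rintro ⟨ho, h⟩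
    refine ⟨ho, ?_⟩
    have h1 := card_inter_compl o d
    have h2 : o.card = 8 := ho.2
    omega
  · rintro ⟨ho, h⟩
    refine ⟨ho, ?_⟩
    have h1 := card_inter_compl o d
    have h2 : o.card = 8 := ho.2
    omega

theorem ncard_octads_four (d : Finset GolayPt) (hd : d ∈ dodecads) :
    {o : Finset GolayPt | o ∈ octads ∧ (o ∩ d).card = 4}.ncard = 495 := by
  have h2 := ncard_octads_two d hd
  have h6 := ncard_octads_six d hd
  have htot := Cfsg.Agent.S0360.result
  set A2 := {o : Finset GolayPt | o ∈ octads ∧ (o ∩ d).card = 2}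
  set A4 := {o : Finset GolayPt | o ∈ octads ∧ (o ∩ d).card = 4}
  set A6 := {o : Finset GolayPt | o ∈ octads ∧ (o ∩ d).card = 6}
  have hU : octads = (A2 ∪ A4) ∪ A6 := by
    ext o
    constructor
    · intro ho
      rcases octad_inter_dodecad ho hd with h | h | h
      · exact Or.inl (Or.inl ⟨ho, h⟩)
      · exact Or.inl (Or.inr ⟨ho, h⟩)
      · exact Or.inr ⟨ho, h⟩
    · rintro ((h | h) | h) <;> exact h.1
  have hd1 : Disjoint A2 A4 := by
    rw [Set.disjoint_left]
    rintro o ⟨_, h⟩ ⟨_, h'⟩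
    omega
  have hd2 : Disjoint (A2 ∪ A4) A6 := by
    rw [Set.disjoint_left]
    rintro o (⟨_, h⟩ | ⟨_, h⟩) ⟨_, h'⟩ <;> omega
  rw [hU, Set.ncard_union_eq hd2 (Set.toFinite _) (Set.toFinite _),
    Set.ncard_union_eq hd1 (Set.toFinite _) (Set.toFinite _)] at htot
  omega

end Cfsg.Agent.SporadicA.DodecadCount
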