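import Cfsg.Agent.SporadicA.PrimSimple

/-!
Order and simplicity of a subgroup `H` acting transitively on an invariant set `S` of points, with
simple point stabiliser and known suborbit lengths.
-/

set_option autoImplicit false

namespace Cfsg.Agent.SporadicA.ConfigSimple

open MulAction Cfsg.Agent.SporadicA.PrimSimple

variable {A Λ : Type*} [Group A] [MulAction A Λ]

/-- The stabiliser in `H` of a point, as a subgroup of `A`. -/
theorem nonempty_equiv (H : Subgroup A) (x : Λ) :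
    Nonempty (↥(stabilizer H x) ≃* ↥(H ⊓ stabilizer A x)) := by
  have h1 : stabilizer H x = (H ⊓ stabilizer A x).subgroupOf H := by
    ext g
    rw [Subgroup.mem_subgroupOf, Subgroup.mem_inf, mem_stabilizer_iff, mem_stabilizer_iff]
    exact ⟨fun h => ⟨g.2, h⟩, fun h => h.2⟩
  rw [h1]
  exact ⟨Subgroup.subgroupOfEquivOfLe inf_le_left⟩

/-- The order of a group acting transitively on a set. -/
theorem card_eq (H : Subgroup A) (S : Set Λ) (x0 : Λ) (hS : ∀ g ∈ H, ∀ x ∈ S, g • x ∈ S)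
    (hx0 : x0 ∈ S) (htr : ∀ x ∈ S, ∃ g ∈ H, g • x0 = x) :
    Nat.card H = S.ncard * Nat.card ↥(H ⊓ stabilizer A x0) := by
  have h1 : orbit H x0 = S := by
    ext x
    rw [mem_orbit_iff]
    constructor
    · rintro ⟨g, rfl⟩
      exact hS g g.2 x0 hx0
    · intro hx
      obtain ⟨g, hg, h⟩ := htr x hx
      exact ⟨⟨g, hg⟩, h⟩
  have h2 : (stabilizer H x0).index = S.ncard := by
    rw [index_stabilizer, h1]
  obtain ⟨e⟩ := nonempty_equiv H x0
  rw [← Nat.card_congr e.toEquiv, ← h2, mul_comm]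
  exact (Subgroup.card_mul_index _).symm

/-- The invariant set as a `SubMulAction`. -/
def subAct (H : Subgroup A) (S : Set Λ) (hS : ∀ g ∈ H, ∀ x ∈ S, g • x ∈ S) :
    SubMulAction H Λ where
  carrier := S
  smul_mem' := fun g x hx => hS g g.2 x hx

/-- Simplicity from a primitive action with simple point stabiliser. -/
theorem isSimpleGroup_of_config (H : Subgroup A) [Finite H] (S : Set Λ) (x0 : Λ)
    (hS : ∀ g ∈ H, ∀ x ∈ S, g • x ∈ S)
    (hx0 : x0 ∈ S) (htr : ∀ x ∈ S, ∃ g ∈ H, g • x0 = x)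
    (hs : IsSimpleGroup ↥(H ⊓ stabilizer A x0))
    {ι : Type*} [Fintype ι] [DecidableEq ι] (O : ι → Set Λ) (hOS : ∀ i, O i ⊆ S)
    (hO : ∀ i, ∀ y ∈ O i, ∀ z ∈ O i, ∃ g ∈ H, g • x0 = x0 ∧ g • y = z)
    (hdisj : Pairwise (Function.onFun Disjoint O)) (hx0O : ∀ i, x0 ∉ O i)
    (hcov : ∀ x ∈ S, x = x0 ∨ ∃ i, x ∈ O i) (n : ι → ℕ) (hn : ∀ i, (O i).ncard = n i)
    (hdiv : ∀ T : Finset ι, (1 + ∑ i ∈ T, n i) ∣ S.ncard → T = ∅ ∨ T = Finset.univ)
    (hne : ∃ i, 2 ≤ n i)
    (hreg : ∀ N : Subgroup H, N.Normal → Nat.card N = S.ncard →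
      ∃ K : Subgroup H, K.Normal ∧ K ≠ ⊥ ∧ Nat.card K < S.ncard) :
    IsSimpleGroup H := by
  classical
  let X := subAct H S hS
  let a : X := ⟨x0, hx0⟩
  have hcardX : Nat.card X = S.ncard := rfl
  have hmem : ∀ x : X, (x : Λ) ∈ S := fun x => x.2
  have htrans : IsPretransitive H X := by
    rw [isPretransitive_iff_base a]
    intro x
    obtain ⟨g, hg, h⟩ := htr x (hmem x)
    exact ⟨⟨g, hg⟩, Subtype.ext h⟩
  have hfinX : Finite X := by
    apply Finite.of_surjective (fun g : H => g • a)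
    intro x
    exact exists_smul_eq H a x
  have hfinS : S.Finite := hfinX
  have himg : ∀ i, ((Subtype.val : X → Λ) ⁻¹' (O i)).ncard = n i := by
    intro i
    rw [← hn i]
    apply Set.ncard_preimage_of_injective_subset_range Subtype.val_injective
    intro x hx
    exact ⟨⟨x, hOS i hx⟩, rfl⟩
  have hprim : IsPreprimitive H X := by
    apply isPreprimitive_of_orbits (G := H) a (fun i => (Subtype.val : X → Λ) ⁻¹' (O i))
      _ _ _ _ n himg hdiv
    · intro i y hy z hz
      obtain ⟨g, hg, h1, h2⟩ := hO i y hy z hz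
      exact ⟨⟨g, hg⟩, Subtype.ext h1, Subtype.ext h2⟩
    · intro i j hij
      exact Disjoint.preimage _ (hdisj hij)
    · intro i h
      exact hx0O i h
    · intro x
      rcases hcov x (hmem x) with h | ⟨i, hi⟩
      · exact Or.inl (Subtype.ext h)
      · exact Or.inr ⟨i, hi⟩
  obtain ⟨i, hi⟩ := hne
  have hmany : 2 ≤ ((Subtype.val : X → Λ) ⁻¹' (O i)).ncard := by rw [himg]; exact hi
  obtain ⟨y, hy, z, hz, hyz⟩ := (Set.one_lt_ncard (Set.toFinite _)).1 hmany
  have hnt : Nontrivial X := ⟨y, z, hyz⟩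
  have hstab : IsSimpleGroup (stabilizer H a) := by
    have h1 : stabilizer H a = stabilizer H x0 := by
      ext g
      rw [mem_stabilizer_iff, mem_stabilizer_iff]
      exact ⟨fun h => congrArg Subtype.val h, fun h => Subtype.ext h⟩
    rw [h1]
    obtain ⟨e⟩ := nonempty_equiv H x0
    have : Nontrivial ↥(stabilizer H x0) := e.symm.injective.nontrivial
    exact IsSimpleGroup.isSimpleGroup_of_surjective e.symm.toMonoidHom e.symm.surjective
  apply isSimpleGroup_of_isPreprimitive (X := X) a hstab _ _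
  · obtain ⟨g, hg, h1, h2⟩ := hO i y hy z hz
    refine ⟨⟨g, hg⟩, Subtype.ext h1, y, ?_⟩
    intro h
    apply hyz
    have h3 : g • (y : Λ) = y := congrArg Subtype.val h
    exact Subtype.ext (by rw [← h3, h2])
  · intro N hN hc
    exact hreg N hN hc

end Cfsg.Agent.SporadicA.ConfigSimple
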