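import Mathlib
import Cfsg.Prelude.Def_Sporadic_a
import Cfsg.Prelude.Def_Spor_Conway

/-!
Transitivity of `Co0` on the lattice vectors of sum of squares 48, from three inputs: the
explicit description of the lattice, sign changes, and one isometry for every 4-set of points.
-/

set_option autoImplicit false

namespace Cfsg.Agent.SporadicA.Norm6

open Cfsg

/-- The three inputs used below. -/
structure Input : Prop where
  mem : ∀ x : GolayPt → ℤ, x ∈ leechLattice ↔ x ∈ leechSet
  sign : ∀ c ∈ supports (golayCode : Set (GolayPt → ZMod 2)), ∃ g : Co0,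
    ∀ (v : leechLattice) (i : GolayPt), ((g • v : leechLattice) : GolayPt → ℤ) i =
      if i ∈ c then - (v : GolayPt → ℤ) i else (v : GolayPt → ℤ) i
  xi : ∀ S : Finset GolayPt, S.card = 4 → ∃ T : GolayPt → Fin 6,
    (∀ k, (Finset.univ.filter (fun i => T i = k)).card = 4) ∧ (∀ i, T i = 0 ↔ i ∈ S) ∧
    ∃ g : Co0, ∀ (v : leechLattice) (i : GolayPt),
      2 * ((g • v : leechLattice) : GolayPt → ℤ) i = (if T i = 0 then -1 else 1) *
        ((∑ j ∈ Finset.univ.filter (fun j => T j = T i), (v : GolayPt → ℤ) j) -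
          2 * (v : GolayPt → ℤ) i)

/-- The vector with `5` at `d` and `1` elsewhere. -/
def uVec (d : GolayPt) : GolayPt → ℤ := fun i => if i = d then 5 else 1

/-- The vector with `-3` on `A` and `1` elsewhere. -/
def wVec (A : Finset GolayPt) : GolayPt → ℤ := fun i => if i ∈ A then -3 else 1

theorem sqNorm_def' (x : GolayPt → ℤ) : sqNorm x = ∑ i, x i ^ 2 := rfl

/-- Classification of the vectors of sum of squares 48 with all coordinates `≡ 1 mod 4`. -/
theorem class_one_mod_four (x : GolayPt → ℤ) (h1 : ∀ i, x i ≡ 1 [ZMOD 4])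
    (hn : sqNorm x = 48) : (∃ d, x = uVec d) ∨ (∃ A : Finset GolayPt, A.card = 3 ∧ x = wVec A) := by
  classical
  have hy : ∀ i, ∃ y : ℤ, x i = 1 + 4 * y := by
    intro i
    have := (h1 i).symm.dvd
    obtain ⟨y, hy⟩ := this
    exact ⟨y, by linarith⟩
  choose y hy using hy
  have hcard : (Finset.univ : Finset GolayPt).card = 24 := by
    simp [GolayPt, ZMod.card]
  have hsum : ∑ i, (y i * (2 * y i + 1)) = 3 := by
    have : sqNorm x = 24 + 8 * ∑ i, (y i * (2 * y i + 1)) := by
      rw [sqNorm_def', Finset.mul_sum]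
      have h24 : (24 : ℤ) = ∑ _i : GolayPt, (1 : ℤ) := by
        rw [Finset.sum_const, hcard]; norm_num
      rw [h24, ← Finset.sum_add_distrib]
      refine Finset.sum_congr rfl fun i _ => ?_
      rw [hy i]; ring
    omega
  have hnonneg : ∀ i, 0 ≤ y i * (2 * y i + 1) := by
    intro i
    rcases le_or_gt 0 (y i) with h | h
    · positivity
    · nlinarith
  have hle : ∀ i, y i * (2 * y i + 1) ≤ 3 := by
    intro i
    rw [← hsum]
    exact Finset.single_le_sum (f := fun i => y i * (2 * y i + 1)) (fun j _ => hnonneg j)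
      (Finset.mem_univ i)
  have hval : ∀ i, y i = 0 ∨ y i = -1 ∨ y i = 1 := by
    intro i
    have h := hle i
    have h1 : y i ≤ 1 := by nlinarith
    have h2 : -2 < y i := by
      by_contra hcon
      push Not at hcon
      nlinarith
    omega
  by_cases hex : ∃ d, y d = 1
  · left
    obtain ⟨d, hd⟩ := hex
    refine ⟨d, ?_⟩
    have hrest : ∑ i ∈ Finset.univ.erase d, (y i * (2 * y i + 1)) = 0 := by
      have := Finset.add_sum_erase Finset.univ (fun i => y i * (2 * y i + 1)) (Finset.mem_univ d)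
      simp only [hd] at this
      rw [hsum] at this
      linarith
    have hz := (Finset.sum_eq_zero_iff_of_nonneg (fun i _ => hnonneg i)).1 hrest
    funext i
    by_cases hi : i = d
    · subst hi
      simp [uVec, hy i, hd]
    · have := hz i (Finset.mem_erase.2 ⟨hi, Finset.mem_univ _⟩)
      have hyi : y i = 0 := by
        rcases hval i with h | h | h
        · exact h
        · rw [h] at this; norm_num at this
        · rw [h] at this; norm_num at this
      simp [uVec, hi, hy i, hyi]
  · right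
    push Not at hex
    refine ⟨Finset.univ.filter (fun i => y i = -1), ?_, ?_⟩
    · have : ∑ i, (y i * (2 * y i + 1)) = ((Finset.univ.filter (fun i => y i = -1)).card : ℤ) := by
        rw [Finset.card_filter, Nat.cast_sum]
        refine Finset.sum_congr rfl fun i _ => ?_
        rcases hval i with h | h | h
        · rw [h]; norm_num
        · rw [h]; norm_num
        · exact absurd h (hex i)
      rw [hsum] at this
      exact_mod_cast this.symm
    · funext i
      rcases hval i with h | h | h
      · simp [wVec, hy i, h]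
      · simp [wVec, hy i, h]
      · exact absurd h (hex i)


/-- Two lattice vectors in one orbit. -/
def Rel (v w : leechLattice) : Prop := ∃ g : Co0, g • v = w

theorem Rel.symm {v w : leechLattice} (h : Rel v w) : Rel w v := by
  obtain ⟨g, hg⟩ := h
  exact ⟨g⁻¹, by rw [← hg, inv_smul_smul]⟩

theorem Rel.trans {u v w : leechLattice} (h : Rel u v) (h' : Rel v w) : Rel u w := by
  obtain ⟨g, hg⟩ := h
  obtain ⟨g', hg'⟩ := h'
  exact ⟨g' * g, by rw [mul_smul, hg, hg']⟩

theorem sqNorm_smul (g : Co0) (v : leechLattice) :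
    sqNorm ((g • v : leechLattice) : GolayPt → ℤ) = sqNorm (v : GolayPt → ℤ) :=
  g.2.2 v

theorem card_pt : (Finset.univ : Finset GolayPt).card = 24 := by
  simp [GolayPt, ZMod.card]

/-- An even vector of sum of squares 48 is equivalent to an odd one. -/
theorem to_odd (I : Input) (v : leechLattice) (hn : sqNorm (v : GolayPt → ℤ) = 48) :
    ∃ g : Co0, ∀ i, ((g • v : leechLattice) : GolayPt → ℤ) i ≡ 1 [ZMOD 2] := by
  classical
  obtain ⟨m, hm, hs, hc⟩ := (I.mem _).1 v.2
  rcases Int.emod_two_eq_zero_or_one m with hm0 | hm1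
  swap
  · refine ⟨1, fun i => ?_⟩
    rw [one_smul]
    exact (hm i).trans hm1
  set x : GolayPt → ℤ := (v : GolayPt → ℤ) with hx
  have heven : ∀ i, x i % 2 = 0 := fun i => by
    have := hm i
    unfold Int.ModEq at this
    omega
  set C := Finset.univ.filter (fun i => x i % 4 = 2) with hC
  have hCmem : ∀ i, i ∈ C ↔ x i % 4 = 2 := fun i => by simp [hC]
  have hCcard : 4 * C.card ≤ 48 := by
    have h1 : ∑ i ∈ C, (4 : ℤ) ≤ ∑ i ∈ C, x i ^ 2 := by
      refine Finset.sum_le_sum fun i hi => ?_
      have := (hCmem i).1 hi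
      have h2 : x i ≤ -2 ∨ 2 ≤ x i := by omega
      rcases h2 with h2 | h2 <;> nlinarith
    have h2 : ∑ i ∈ C, x i ^ 2 ≤ ∑ i, x i ^ 2 :=
      Finset.sum_le_sum_of_subset_of_nonneg (Finset.subset_univ _) (fun i _ _ => sq_nonneg _)
    rw [sqNorm_def'] at hn
    rw [Finset.sum_const] at h1
    have h3 : (C.card : ℤ) * 4 ≤ 48 := by
      have := h1.trans (h2.trans hn.le)
      simpa using this
    have : (C.card) * 4 ≤ 48 := by exact_mod_cast h3
    omega
  have hCne : C.Nonempty := by
    by_contra hcon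
    rw [Finset.not_nonempty_iff_eq_empty] at hcon
    have h0 : ∀ i, ∃ z : ℤ, x i = 4 * z := by
      intro i
      have h1 : ¬ (x i % 4 = 2) := by
        intro h
        have := (hCmem i).2 h
        rw [hcon] at this
        simp at this
      have h2 := heven i
      exact ⟨x i / 4, by omega⟩
    choose z hz using h0
    have h1 : ∑ i, z i ^ 2 = 3 := by
      have : sqNorm x = 16 * ∑ i, z i ^ 2 := by
        rw [sqNorm_def', Finset.mul_sum]
        exact Finset.sum_congr rfl fun i _ => by rw [hz i]; ring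
      omega
    have h2 : ∑ i, x i = 4 * ∑ i, z i := by
      rw [Finset.mul_sum]
      exact Finset.sum_congr rfl fun i _ => hz i
    have h3 : (∑ i, z i) % 2 = 0 := by
      unfold Int.ModEq at hs
      omega
    have h4 : (2 : ℤ) ∣ ∑ i, (z i ^ 2 - z i) := by
      refine Finset.dvd_sum fun i _ => ?_
      rcases Int.even_or_odd (z i) with ⟨k, hk⟩ | ⟨k, hk⟩
      · exact ⟨2 * k ^ 2 - k, by rw [hk]; ring⟩
      · exact ⟨2 * k ^ 2 + k, by rw [hk]; ring⟩
    rw [Finset.sum_sub_distrib] at h4
    omega
  obtain ⟨a, ha⟩ := hCne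
  have hcompl : 3 ≤ (Cᶜ).card := by
    rw [Finset.card_compl]
    have : Fintype.card GolayPt = 24 := by rw [← Finset.card_univ, card_pt]
    omega
  obtain ⟨B, hBsub, hBcard⟩ := Finset.exists_subset_card_eq hcompl
  have haB : a ∉ B := fun h => by
    have := hBsub h
    rw [Finset.mem_compl] at this
    exact this ha
  obtain ⟨T, hTcard, hT0, g, hg⟩ := I.xi (insert a B)
    (by rw [Finset.card_insert_of_notMem haB, hBcard])
  refine ⟨g, ?_⟩
  have hTa : T a = 0 := (hT0 a).2 (Finset.mem_insert_self _ _)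
  have hfib : Finset.univ.filter (fun j => T j = T a) = insert a B := by
    ext j
    simp only [Finset.mem_filter, Finset.mem_univ, true_and, hTa]
    exact hT0 j
  have hga := hg v a
  rw [hTa, if_pos rfl, ← hTa, hfib, Finset.sum_insert haB] at hga
  have hBsum : (4 : ℤ) ∣ ∑ j ∈ B, x j := by
    refine Finset.dvd_sum fun j hj => ?_
    have h1 := hBsub hj
    rw [Finset.mem_compl, hCmem] at h1
    have h2 := heven j
    omega
  have hodd : ((g • v : leechLattice) : GolayPt → ℤ) a % 2 = 1 := by
    have h1 := (hCmem a).1 ha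
    obtain ⟨k, hk⟩ := hBsum
    change 2 * ((g • v : leechLattice) : GolayPt → ℤ) a =
      -1 * (x a + ∑ j ∈ B, x j - 2 * x a) at hga
    omega
  obtain ⟨m', hm', -, -⟩ := (I.mem _).1 (g • v).2
  intro i
  have h1 := hm' i
  have h2 := hm' a
  exact h1.trans (h2.symm.trans hodd)

/-- An odd lattice vector is equivalent to one with all coordinates `≡ 1 mod 4`. -/
theorem to_one_mod_four (I : Input) (v : leechLattice)
    (ho : ∀ i, (v : GolayPt → ℤ) i ≡ 1 [ZMOD 2]) :
    ∃ g : Co0, ∀ i, ((g • v : leechLattice) : GolayPt → ℤ) i ≡ 1 [ZMOD 4] := by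
  obtain ⟨m, hm, hs, hc⟩ := (I.mem _).1 v.2
  obtain ⟨g, hg⟩ := I.sign _ (hc 3)
  refine ⟨g, fun i => ?_⟩
  have hgi := hg v i
  have hoi := ho i
  unfold Int.ModEq at hoi ⊢
  split_ifs at hgi with h
  · have h' := (Finset.mem_filter.1 h).2
    unfold Int.ModEq at h'
    omega
  · have h' : ¬ ((v : GolayPt → ℤ) i ≡ 3 [ZMOD 4]) := fun hh =>
      h (Finset.mem_filter.2 ⟨Finset.mem_univ _, hh⟩)
    unfold Int.ModEq at h'
    omega

theorem wVec_mem (A : Finset GolayPt) (hA : A.card = 3) : wVec A ∈ leechLattice := by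
  classical
  refine AddSubgroup.subset_closure
    (Spor.mem_leechSet_of_const_mod_four _ 1 1 (by decide) (fun i => ?_) ?_)
  · unfold wVec
    split_ifs <;> decide
  · have : ∑ i, wVec A i = 12 := by
      have h1 : ∀ i, wVec A i = 1 + (if i ∈ A then (-4 : ℤ) else 0) := by
        intro i
        unfold wVec
        split_ifs <;> norm_num
      simp only [h1, Finset.sum_add_distrib, Finset.sum_const, card_pt, Finset.sum_ite_mem,
        Finset.univ_inter, hA]
      norm_num
    rw [this]
    decide

/-- `w_A` is equivalent to `u_d` for every `d` outside `A`. -/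
theorem w_to_u (I : Input) (A : Finset GolayPt) (hA : A.card = 3) (d : GolayPt) (hd : d ∉ A) :
    ∃ g : Co0, ((g • (⟨wVec A, wVec_mem A hA⟩ : leechLattice) : leechLattice) : GolayPt → ℤ) =
      uVec d := by
  classical
  obtain ⟨T, hTcard, hT0, g, hg⟩ := I.xi (insert d A)
    (by rw [Finset.card_insert_of_notMem hd, hA])
  refine ⟨g, ?_⟩
  funext i
  have hgi := hg ⟨wVec A, wVec_mem A hA⟩ i
  change _ = _ * ((∑ j ∈ Finset.univ.filter (fun j => T j = T i), wVec A j) - 2 * wVec A i) at hgi
  by_cases hi : T i = 0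
  · have hfib : Finset.univ.filter (fun j => T j = T i) = insert d A := by
      ext j
      simp only [Finset.mem_filter, Finset.mem_univ, true_and, hi]
      exact hT0 j
    have hsA : ∑ j ∈ A, wVec A j = -9 := by
      rw [Finset.sum_congr rfl (g := fun _ => (-3 : ℤ)) (fun j hj => by simp [wVec, hj]),
        Finset.sum_const, hA]
      norm_num
    have hwd : wVec A d = 1 := by simp [wVec, hd]
    rw [if_pos hi, hfib, Finset.sum_insert hd, hsA, hwd] at hgi
    have hiS := (hT0 i).1 hi
    rw [Finset.mem_insert] at hiS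
    rcases hiS with rfl | hiA
    · simp only [uVec, if_true]
      rw [hwd] at hgi
      linarith
    · have hne : i ≠ d := fun h => hd (h ▸ hiA)
      have hwi : wVec A i = -3 := by simp [wVec, hiA]
      simp only [uVec, if_neg hne]
      rw [hwi] at hgi
      linarith
  · have hnot : ∀ j, T j = T i → j ∉ insert d A := fun j hj hjS => hi (hj ▸ (hT0 j).2 hjS)
    have hw1 : ∀ j, T j = T i → wVec A j = 1 := fun j hj => by
      have := hnot j hj
      rw [Finset.mem_insert, not_or] at this
      simp [wVec, this.2]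
    have hsum : ∑ j ∈ Finset.univ.filter (fun j => T j = T i), wVec A j = 4 := by
      rw [Finset.sum_congr rfl (g := fun _ => (1 : ℤ))
        (fun j hj => hw1 j (Finset.mem_filter.1 hj).2), Finset.sum_const, hTcard]
      norm_num
    rw [if_neg hi, hsum, hw1 i rfl] at hgi
    have hne : i ≠ d := fun h => hnot i rfl (h ▸ Finset.mem_insert_self _ _)
    simp only [uVec, if_neg hne]
    linarith

/-- Every lattice vector of sum of squares 48 is equivalent to some `w_A`. -/
theorem to_w (I : Input) (v : leechLattice) (hn : sqNorm (v : GolayPt → ℤ) = 48) :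
    ∃ (A : Finset GolayPt) (hA : A.card = 3), Rel v ⟨wVec A, wVec_mem A hA⟩ := by
  classical
  obtain ⟨g1, hg1⟩ := to_odd I v hn
  obtain ⟨g2, hg2⟩ := to_one_mod_four I (g1 • v) hg1
  have hrel : Rel v (g2 • g1 • v) := ⟨g2 * g1, mul_smul _ _ _⟩
  rcases class_one_mod_four _ hg2 (by rw [sqNorm_smul, sqNorm_smul, hn]) with ⟨d, hd⟩ | ⟨A, hA, hw⟩
  · have h3 : 3 ≤ (({d} : Finset GolayPt)ᶜ).card := by
      rw [Finset.card_compl, Finset.card_singleton]
      have : Fintype.card GolayPt = 24 := by rw [← Finset.card_univ, card_pt]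
      omega
    obtain ⟨A, hAsub, hA⟩ := Finset.exists_subset_card_eq h3
    have hdA : d ∉ A := fun h => by
      have := hAsub h
      simp at this
    obtain ⟨g, hg⟩ := w_to_u I A hA d hdA
    refine ⟨A, hA, hrel.trans (Rel.symm ⟨g, ?_⟩)⟩
    exact Subtype.ext (hg.trans hd.symm)
  · exact ⟨A, hA, hrel.trans ⟨1, by rw [one_smul]; exact Subtype.ext hw⟩⟩

/-- Any two `w_A` are equivalent. -/
theorem w_rel_w (I : Input) (A B : Finset GolayPt) (hA : A.card = 3) (hB : B.card = 3) :
    Rel ⟨wVec A, wVec_mem A hA⟩ ⟨wVec B, wVec_mem B hB⟩ := by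
  classical
  have h1 : 1 ≤ ((A ∪ B)ᶜ).card := by
    rw [Finset.card_compl]
    have : Fintype.card GolayPt = 24 := by rw [← Finset.card_univ, card_pt]
    have := Finset.card_union_le A B
    omega
  obtain ⟨d, hd⟩ := Finset.card_pos.1 h1
  rw [Finset.mem_compl, Finset.mem_union, not_or] at hd
  obtain ⟨g, hg⟩ := w_to_u I A hA d hd.1
  obtain ⟨g', hg'⟩ := w_to_u I B hB d hd.2
  refine Rel.trans (v := g • ⟨wVec A, wVec_mem A hA⟩) ⟨g, rfl⟩ (Rel.symm ⟨g', ?_⟩)
  exact Subtype.ext (hg'.trans hg.symm)

/-- Transitivity of `Co0` on the lattice vectors of sum of squares 48. -/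
theorem transitive (I : Input) (v w : leechLattice) (hv : sqNorm (v : GolayPt → ℤ) = 48)
    (hw : sqNorm (w : GolayPt → ℤ) = 48) : ∃ g : Co0, g • v = w := by
  obtain ⟨A, hA, h⟩ := to_w I v hv
  obtain ⟨B, hB, h'⟩ := to_w I w hw
  exact h.trans ((w_rel_w I A B hA hB).trans h'.symm)

end Cfsg.Agent.SporadicA.Norm6
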