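import Mathlib

set_option autoImplicit false

/-!
Kernel-friendly permutation tables on `Fin n` (`n ≤ 2048`), graphs as bit matrices, orbit
certificates, lower bounds (stabiliser chain) and upper bounds (adjacency patterns) for orders.

* a table is a natural number with 11 bits per entry, `lk P i` is entry `i`;
* a graph on `n` vertices is a natural number `A`, bit `n * i + j` says that `i`, `j` are joined;
* all checks are Boolean functions meant for `decide +kernel`.
-/

namespace Cfsg.Agent.SporadicA.PermTab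

open Equiv

noncomputable section

/-! ### Loops -/

/-- Conjunction, as a bare recursor. -/
def band (x y : Bool) : Bool := Bool.rec false y x

theorem band_eq_true (x y : Bool) : band x y = true ↔ x = true ∧ y = true := by
  cases x <;> cases y <;> simp [band]

/-- `p i` for all `i < n`. -/
def allB (p : ℕ → Bool) (n : ℕ) : Bool := Nat.rec true (fun k ih => band (p k) ih) n

theorem allB_succ (p : ℕ → Bool) (n : ℕ) : allB p (n + 1) = band (p n) (allB p n) := rfl

theorem allB_iff (p : ℕ → Bool) (n : ℕ) : allB p n = true ↔ ∀ i < n, p i = true := by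
  induction n with
  | zero => simp [allB]
  | succ n ih =>
    rw [allB_succ, band_eq_true, ih]
    constructor
    · rintro ⟨h1, h2⟩ i hi
      rcases Nat.lt_succ_iff_lt_or_eq.1 hi with h | h
      · exact h2 i h
      · rw [h]; exact h1
    · intro h
      exact ⟨h n (Nat.lt_succ_self n), fun i hi => h i (Nat.lt_succ_of_lt hi)⟩

/-- exactly `m` of the `i < n` satisfy `p`. -/
def cntB (p : ℕ → Bool) (n : ℕ) : ℕ → Bool :=
  Nat.rec (fun m => Nat.beq m 0)
    (fun k ih m => cond (p k) (Nat.rec false (fun m' _ => ih m') m) (ih m)) n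

theorem cntB_succ (p : ℕ → Bool) (n m : ℕ) : cntB p (n + 1) m =
    cond (p n) (Nat.rec false (fun m' _ => cntB p n m') m) (cntB p n m) := rfl

theorem card_of_cntB (p : ℕ → Bool) (n m : ℕ) (h : cntB p n m = true) :
    ((Finset.range n).filter (fun i => p i = true)).card = m := by
  induction n generalizing m with
  | zero =>
    have : m = 0 := Nat.eq_of_beq_eq_true h
    simp [this]
  | succ n ih =>
    rw [cntB_succ] at h
    rw [Finset.range_add_one, Finset.filter_insert]
    cases hp : p n with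
    | true =>
      rw [hp] at h
      cases m with
      | zero => exact absurd h (by simp)
      | succ m =>
        have h' : cntB p n m = true := h
        rw [if_pos rfl, Finset.card_insert_of_notMem (by simp), ih m h']
    | false =>
      rw [hp] at h
      rw [if_neg (by simp)]
      exact ih m h

theorem card_fin_of_cntB (p : ℕ → Bool) (n m : ℕ) (h : cntB p n m = true) :
    ((Finset.univ : Finset (Fin n)).filter (fun i : Fin n => p i = true)).card = m := by
  rw [← card_of_cntB p n m h]
  refine Finset.card_bij (fun i _ => (i : ℕ)) ?_ ?_ ?_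
  · intro i hi
    simp only [Finset.mem_filter, Finset.mem_univ, true_and] at hi
    simp [hi, i.2]
  · intro i _ j _ hij
    exact Fin.ext hij
  · intro i hi
    simp only [Finset.mem_filter, Finset.mem_range] at hi
    exact ⟨⟨i, hi.1⟩, by simp [hi.2], rfl⟩

/-! ### Tables -/

/-- Entry `i` of the table `P` (11 bits per entry). -/
def lk (P i : ℕ) : ℕ := Nat.land (Nat.shiftRight P (Nat.mul 11 i)) 2047

/-- The tables `P` and `Q` are mutually inverse permutations of `0, …, n-1`. -/
def chkInv (n P Q : ℕ) : Bool :=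
  allB (fun i => band (Nat.blt (lk P i) n) (band (Nat.blt (lk Q i) n)
    (band (Nat.beq (lk Q (lk P i)) i) (Nat.beq (lk P (lk Q i)) i)))) n

theorem chkInv_spec {n P Q : ℕ} (h : chkInv n P Q = true) (i : Fin n) :
    lk P i < n ∧ lk Q i < n ∧ lk Q (lk P i) = i ∧ lk P (lk Q i) = i := by
  have := (allB_iff _ _).1 h i i.2
  rw [band_eq_true, band_eq_true, band_eq_true] at this
  obtain ⟨h1, h2, h3, h4⟩ := this
  refine ⟨?_, ?_, Nat.eq_of_beq_eq_true h3, Nat.eq_of_beq_eq_true h4⟩
  · exact Nat.blt_eq ▸ h1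
  · exact Nat.blt_eq ▸ h2

/-- The permutation of `Fin n` given by a table and its inverse. -/
def mkPerm {n : ℕ} (P Q : ℕ) (h : chkInv n P Q = true) : Perm (Fin n) where
  toFun i := ⟨lk P i, (chkInv_spec h i).1⟩
  invFun i := ⟨lk Q i, (chkInv_spec h i).2.1⟩
  left_inv i := Fin.ext (chkInv_spec h i).2.2.1
  right_inv i := Fin.ext (chkInv_spec h i).2.2.2

theorem mkPerm_val {n : ℕ} (P Q : ℕ) (h : chkInv n P Q = true) (i : Fin n) :
    (mkPerm P Q h i : ℕ) = lk P i := rfl

/-- Some element of `G` acts as the table `P`. -/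
def InG {n : ℕ} (G : Subgroup (Perm (Fin n))) (P : ℕ) : Prop :=
  ∃ g ∈ G, ∀ i : Fin n, (g i : ℕ) = lk P i

/-- Image of `i` under a list of tables, the first one applied first. -/
def ev (L : List ℕ) : ℕ → ℕ := List.rec (fun j => j) (fun P _ ih j => ih (lk P j)) L

theorem ev_nil (j : ℕ) : ev [] j = j := rfl
theorem ev_cons (P : ℕ) (L : List ℕ) (j : ℕ) : ev (P :: L) j = ev L (lk P j) := rfl

theorem exists_ev {n : ℕ} {G : Subgroup (Perm (Fin n))} (L : List ℕ) (h : ∀ P ∈ L, InG G P) :
    ∃ g ∈ G, ∀ i : Fin n, (g i : ℕ) = ev L i := by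
  induction L with
  | nil => exact ⟨1, G.one_mem, fun i => rfl⟩
  | cons P L ih =>
    obtain ⟨g, hg, hgi⟩ := ih (fun Q hQ => h Q (List.mem_cons_of_mem _ hQ))
    obtain ⟨k, hk, hki⟩ := h P List.mem_cons_self
    refine ⟨g * k, G.mul_mem hg hk, fun i => ?_⟩
    rw [ev_cons, ← hki i, ← hgi (k i)]
    rfl

/-- The table `S` is the product of the tables in `L`. -/
def chkWord (n S : ℕ) (L : List ℕ) : Bool := allB (fun i => Nat.beq (lk S i) (ev L i)) n

theorem InG.word {n : ℕ} {G : Subgroup (Perm (Fin n))} {L : List ℕ} (h : ∀ P ∈ L, InG G P)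
    {S : ℕ} (hS : chkWord n S L = true) : InG G S := by
  obtain ⟨g, hg, hgi⟩ := exists_ev L h
  refine ⟨g, hg, fun i => ?_⟩
  rw [hgi i]
  exact (Nat.eq_of_beq_eq_true ((allB_iff _ _).1 hS i i.2)).symm

theorem InG.mono {n : ℕ} {G H : Subgroup (Perm (Fin n))} (hGH : G ≤ H) {P : ℕ} (h : InG G P) :
    InG H P := by
  obtain ⟨g, hg, hgi⟩ := h
  exact ⟨g, hGH hg, hgi⟩

/-! ### Stabilisers -/

/-- The elements of `G` fixing `x`. -/
def ps {X : Type*} (G : Subgroup (Perm X)) (x : X) : Subgroup (Perm X) where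
  carrier := {g | g ∈ G ∧ g x = x}
  mul_mem' := by
    rintro a b ⟨ha, hax⟩ ⟨hb, hbx⟩
    exact ⟨G.mul_mem ha hb, by rw [Perm.mul_apply, hbx, hax]⟩
  one_mem' := ⟨G.one_mem, rfl⟩
  inv_mem' := by
    rintro a ⟨ha, hax⟩
    exact ⟨G.inv_mem ha, by rw [Perm.inv_eq_iff_eq, hax]⟩

theorem mem_ps {X : Type*} {G : Subgroup (Perm X)} {x : X} {g : Perm X} :
    g ∈ ps G x ↔ g ∈ G ∧ g x = x := Iff.rfl

theorem ps_le {X : Type*} (G : Subgroup (Perm X)) (x : X) : ps G x ≤ G := fun _ h => h.1

theorem InG.ps {n : ℕ} {G : Subgroup (Perm (Fin n))} {P : ℕ} (h : InG G P) {x : Fin n}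
    (hx : lk P x = x) : InG (ps G x) P := by
  obtain ⟨g, hg, hgi⟩ := h
  exact ⟨g, ⟨hg, Fin.ext (by rw [hgi, hx])⟩, hgi⟩

/-- orbit-stabiliser. -/
theorem card_eq_mul_card_ps {X : Type*} [Finite X] (G : Subgroup (Perm X)) (x : X) :
    Nat.card G = (MulAction.orbit G x).ncard * Nat.card (ps G x) := by
  have h1 : Nat.card (MulAction.stabilizer G x) = Nat.card (ps G x) := by
    refine Nat.card_congr ?_
    exact
      { toFun := fun g => ⟨g.1.1, g.1.2, g.2⟩
        invFun := fun g => ⟨⟨g.1, g.2.1⟩, g.2.2⟩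
        left_inv := fun g => rfl
        right_inv := fun g => rfl }
  rw [← h1, ← Nat.card_coe_set_eq, Nat.card_congr (MulAction.orbitEquivQuotientStabilizer G x),
    ← Subgroup.index_eq_card, mul_comm, Subgroup.card_mul_index]

theorem card_ge {X : Type*} [Finite X] (G : Subgroup (Perm X)) (x : X) (T : Finset X)
    (hT : ∀ y ∈ T, ∃ g ∈ G, g x = y) {m k : ℕ} (hm : T.card = m) (hk : k ≤ Nat.card (ps G x)) :
    m * k ≤ Nat.card G := by
  rw [card_eq_mul_card_ps G x]
  refine Nat.mul_le_mul ?_ hk
  rw [← hm, ← Set.ncard_coe_finset]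
  refine Set.ncard_le_ncard ?_ (Set.toFinite _)
  intro y hy
  obtain ⟨g, hg, rfl⟩ := hT y hy
  exact ⟨⟨g, hg⟩, rfl⟩

theorem card_le {X : Type*} [Finite X] (G : Subgroup (Perm X)) (x : X) (T : Finset X)
    (hT : ∀ g ∈ G, g x ∈ T) {m k : ℕ} (hm : T.card = m) (hk : Nat.card (ps G x) ≤ k) :
    Nat.card G ≤ m * k := by
  rw [card_eq_mul_card_ps G x]
  refine Nat.mul_le_mul ?_ hk
  rw [← hm, ← Set.ncard_coe_finset]
  refine Set.ncard_le_ncard ?_ (Set.toFinite _)
  rintro y ⟨g, rfl⟩
  exact hT g.1 g.2

/-! ### Orbit certificates -/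

/-- Entry `k` of the list, `P0` if there is none. -/
def getT (P0 : ℕ) (L : List ℕ) : ℕ → ℕ :=
  List.rec (fun _ => P0) (fun P _ ih k => Nat.rec P (fun k' _ => ih k') k) L

theorem getT_mem (P0 : ℕ) (L : List ℕ) (k : ℕ) : getT P0 L k = P0 ∨ getT P0 L k ∈ L := by
  induction L generalizing k with
  | nil => exact Or.inl rfl
  | cons P L ih =>
    cases k with
    | zero => exact Or.inr List.mem_cons_self
    | succ k =>
      rcases ih k with h | h
      · exact Or.inl h
      · exact Or.inr (List.mem_cons_of_mem _ h)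

/-- One orbit-certificate step: the code `c = 8 d + k` of `v` says that table `k` moves `v` to a
point of smaller depth than `d`. -/
def orbStep (x P0 : ℕ) (L : List ℕ) (C v : ℕ) : Bool :=
  cond (Nat.beq (lk C v) 2047) true (cond (Nat.beq v x) true
    (Nat.blt (Nat.shiftRight (lk C (lk (getT P0 L (Nat.land (lk C v) 7)) v)) 3)
      (Nat.shiftRight (lk C v) 3)))

/-- The certificate: all `v < n` with code `≠ 2047` are in the orbit of `x`. -/
def chkOrb (n x P0 : ℕ) (L : List ℕ) (C : ℕ) : Bool := allB (orbStep x P0 L C) n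

theorem lk_lt (P i : ℕ) : lk P i < 2048 :=
  lt_of_le_of_lt (Nat.and_le_right (n := P >>> (11 * i)) (m := 2047)) (by norm_num)

theorem orb_of_chk {n : ℕ} {G : Subgroup (Perm (Fin n))} {x : Fin n} {P0 : ℕ} {L : List ℕ}
    {C : ℕ} (h0 : InG G P0) (hL : ∀ P ∈ L, InG G P) (h : chkOrb n x P0 L C = true) (v : Fin n)
    (hv : lk C v ≠ 2047) : ∃ g ∈ G, g x = v := by
  have key : ∀ d : ℕ, ∀ v : Fin n, lk C v ≠ 2047 → lk C v / 8 = d → ∃ g ∈ G, g x = v := by
    intro d
    induction d using Nat.strong_induction_on with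
    | _ d ih =>
      intro v hv hd
      have hs := (allB_iff _ _).1 h v v.2
      unfold orbStep at hs
      have hb : Nat.beq (lk C v) 2047 = false := by
        rw [← Bool.not_eq_true]
        intro hb
        exact hv (Nat.eq_of_beq_eq_true hb)
      rw [hb, cond_false] at hs
      cases hx : Nat.beq (v : ℕ) (x : ℕ) with
      | true =>
        exact ⟨1, G.one_mem, (Fin.ext (Nat.eq_of_beq_eq_true hx)).symm⟩
      | false =>
        rw [hx, cond_false] at hs
        set P := getT P0 L (Nat.land (lk C v) 7) with hP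
        have hPG : InG G P := by
          rcases getT_mem P0 L (Nat.land (lk C v) 7) with h1 | h1
          · rw [hP, h1]; exact h0
          · exact hL _ h1
        obtain ⟨g, hg, hgi⟩ := hPG
        have hlt : (lk C (g v)) / 8 < lk C v / 8 := by
          have := Nat.blt_eq ▸ hs
          rw [hgi v]
          simpa [Nat.shiftRight_eq_div_pow] using this
        have hne : lk C (g v) ≠ 2047 := by
          intro he
          rw [he] at hlt
          have := lk_lt C v
          omega
        obtain ⟨k, hk, hkx⟩ := ih (lk C (g v) / 8) (hd ▸ hlt) (g v) hne rfl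
        refine ⟨g⁻¹ * k, G.mul_mem (G.inv_mem hg) hk, ?_⟩
        rw [Perm.mul_apply, hkx]
        exact Perm.inv_eq_iff_eq.2 rfl
  exact key _ v hv rfl

/-- The orbit certificate also counts: exactly `m` points carry a code. -/
def cntOrb (n C m : ℕ) : Bool := cntB (fun v => cond (Nat.beq (lk C v) 2047) false true) n m

theorem card_ge_of_chk {n : ℕ} {G : Subgroup (Perm (Fin n))} {x : Fin n} {P0 : ℕ} {L : List ℕ}
    {C : ℕ} {m k : ℕ} (h0 : InG G P0) (hL : ∀ P ∈ L, InG G P) (h : chkOrb n x P0 L C = true)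
    (hc : cntOrb n C m = true) (hk : k ≤ Nat.card (ps G x)) : m * k ≤ Nat.card G := by
  refine card_ge G x _ ?_ (card_fin_of_cntB _ n m hc) hk
  intro y hy
  simp only [Finset.mem_filter, Finset.mem_univ, true_and] at hy
  refine orb_of_chk h0 hL h y ?_
  intro he
  rw [he] at hy
  exact absurd hy (by decide)

/-! ### Graphs as bit matrices -/

/-- Entry `(i, j)` of the `n × n` bit matrix `A`, as `0` or `1`. -/
def bitM (n A i j : ℕ) : ℕ := Nat.land (Nat.shiftRight A (Nat.add (Nat.mul n i) j)) 1

/-- Row `i` of the bit matrix. -/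
def rowM (n A i : ℕ) : ℕ :=
  Nat.land (Nat.shiftRight A (Nat.mul n i)) (Nat.sub (Nat.pow 2 n) 1)

theorem bitM_eq (n A i j : ℕ) : bitM n A i j = (Nat.testBit A (n * i + j)).toNat := by
  rw [Nat.toNat_testBit]
  change (A >>> (n * i + j)) &&& 1 = _
  rw [Nat.and_one_is_mod, Nat.shiftRight_eq_div_pow]

theorem bitM_eq_iff (n A i j i' j' : ℕ) : bitM n A i j = bitM n A i' j' ↔
    Nat.testBit A (n * i + j) = Nat.testBit A (n * i' + j') := by
  rw [bitM_eq, bitM_eq]
  constructor
  · intro h
    cases h1 : Nat.testBit A (n * i + j) <;> cases h2 : Nat.testBit A (n * i' + j') <;>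
      simp_all
  · intro h; rw [h]

theorem testBit_rowM (n A i k : ℕ) :
    Nat.testBit (rowM n A i) k = (Nat.testBit A (n * i + k) && decide (k < n)) := by
  change Nat.testBit ((A >>> (n * i)) &&& (2 ^ n - 1)) k = _
  rw [Nat.testBit_and, Nat.testBit_shiftRight, Nat.testBit_two_pow_sub_one]

/-- The automorphism group of the graph given by a bit matrix. -/
def autG (n A : ℕ) : Subgroup (Perm (Fin n)) where
  carrier := {g | ∀ i j : Fin n, bitM n A (g i) (g j) = bitM n A i j}
  mul_mem' := by
    intro a b ha hb i j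
    rw [Perm.mul_apply, Perm.mul_apply, ha, hb]
  one_mem' := fun i j => rfl
  inv_mem' := by
    intro a ha i j
    rw [← ha (a⁻¹ i) (a⁻¹ j)]
    simp

theorem mem_autG {n A : ℕ} {g : Perm (Fin n)} :
    g ∈ autG n A ↔ ∀ i j : Fin n, bitM n A (g i) (g j) = bitM n A i j := Iff.rfl

/-- Call by value: `force a k = k a`, but the kernel evaluates `a` to a literal first. -/
def force (a : ℕ) (k : ℕ → ℕ) : ℕ := Nat.rec (k 0) (fun a' _ => k (Nat.succ a')) a

theorem force_eq (a : ℕ) (k : ℕ → ℕ) : force a k = k a := by cases a <;> rfl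

/-- Call by value for Boolean continuations. -/
def forceB (a : ℕ) (k : ℕ → Bool) : Bool := Nat.rec (k 0) (fun a' _ => k (Nat.succ a')) a

theorem forceB_eq (a : ℕ) (k : ℕ → Bool) : forceB a k = k a := by cases a <;> rfl

/-- `∑ 2 ^ (n i)`, `i < len`. -/
def repR (n len : ℕ) : ℕ :=
  Nat.rec 0 (fun i ih => Nat.lor ih (Nat.shiftLeft 1 (Nat.mul n i))) len

theorem testBit_repR (n len t : ℕ) :
    Nat.testBit (repR n len) t = true ↔ ∃ i < len, t = n * i := by
  induction len with
  | zero => simp [repR]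
  | succ l ih =>
    have : repR n (l + 1) = repR n l ||| (1 <<< (n * l)) := rfl
    rw [this, Nat.testBit_or, Bool.or_eq_true, ih, Nat.testBit_shiftLeft]
    constructor
    · rintro (⟨i, hi, rfl⟩ | h)
      · exact ⟨i, Nat.lt_succ_of_lt hi, rfl⟩
      · rw [Bool.and_eq_true, decide_eq_true_eq, Nat.testBit_one_eq_true_iff_self_eq_zero] at h
        exact ⟨l, Nat.lt_succ_self l, by omega⟩
    · rintro ⟨i, hi, rfl⟩
      rcases Nat.lt_succ_iff_lt_or_eq.1 hi with h | h
      · exact Or.inl ⟨i, h, rfl⟩
      · right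
        subst h
        simp

/-- `acc` together with all columns `j < n` of `B` moved to column `P j`; `R` marks column `0`. -/
def permCols (R P B n : ℕ) : ℕ → ℕ :=
  Nat.rec (fun acc => acc) (fun j ih acc =>
    force (Nat.lor acc (Nat.shiftLeft (Nat.land (Nat.shiftRight B j) R) (lk P j))) ih) n

theorem testBit_permCols (R P B n acc t : ℕ) :
    Nat.testBit (permCols R P B n acc) t = true ↔ Nat.testBit acc t = true ∨
      ∃ j < n, lk P j ≤ t ∧ Nat.testBit B (j + (t - lk P j)) = true ∧
        Nat.testBit R (t - lk P j) = true := by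
  induction n generalizing acc with
  | zero => simp [permCols]
  | succ l ih =>
    have : permCols R P B (l + 1) acc =
        permCols R P B l (acc ||| (((B >>> l) &&& R) <<< (lk P l))) := force_eq _ _
    rw [this, ih, Nat.testBit_or, Bool.or_eq_true, Nat.testBit_shiftLeft, Bool.and_eq_true,
      decide_eq_true_eq, Nat.testBit_and, Nat.testBit_shiftRight, Bool.and_eq_true]
    constructor
    · rintro ((h | ⟨h1, h2, h3⟩) | ⟨j, hj, h⟩)
      · exact Or.inl h
      · exact Or.inr ⟨l, Nat.lt_succ_self l, h1, h2, h3⟩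
      · exact Or.inr ⟨j, Nat.lt_succ_of_lt hj, h⟩
    · rintro (h | ⟨j, hj, h⟩)
      · exact Or.inl (Or.inl h)
      · rcases Nat.lt_succ_iff_lt_or_eq.1 hj with h1 | h1
        · exact Or.inr ⟨j, h1, h⟩
        · subst h1
          exact Or.inl (Or.inr h)

/-- The rows `i0 ≤ i < i0 + len` of `A` are mapped by `P` to rows of `A`. -/
def chkAutBlk (n A P i0 len : ℕ) : Bool :=
  forceB (Nat.land (Nat.shiftRight A (Nat.mul n i0)) (Nat.sub (Nat.pow 2 (Nat.mul n len)) 1))
    (fun B => forceB (permCols (repR n len) P B n 0) (fun F =>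
      allB (fun i => Nat.beq (rowM n F i) (rowM n A (lk P (Nat.add i0 i)))) len))

/-- What `chkAutBlk` gives. -/
def RowsOK (n A P i0 len : ℕ) : Prop :=
  ∀ i, i0 ≤ i → i < i0 + len → ∀ j < n, bitM n A (lk P i) (lk P j) = bitM n A i j

theorem rowsOK_of_chk {n A P i0 len : ℕ} (hlt : ∀ j < n, lk P j < n)
    (hinj : ∀ j < n, ∀ k < n, lk P j = lk P k → j = k) (h : chkAutBlk n A P i0 len = true) :
    RowsOK n A P i0 len := by
  intro i hi hi' j hj
  unfold chkAutBlk at h
  rw [forceB_eq, forceB_eq, allB_iff] at h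
  obtain ⟨l, rfl⟩ : ∃ l, i = i0 + l := ⟨i - i0, by omega⟩
  have hl : l < len := by omega
  have h1 := Nat.eq_of_beq_eq_true (h l hl)
  have h2 := congrArg (fun x => Nat.testBit x (lk P j)) h1
  simp only [testBit_rowM] at h2
  rw [decide_eq_true (hlt j hj), Bool.and_true, Bool.and_true] at h2
  rw [bitM_eq_iff]
  rw [show (Nat.add i0 l) = i0 + l from rfl] at h2
  rw [← h2, Bool.eq_iff_iff, testBit_permCols]
  have hA : ∀ t, t < n * len →
      Nat.testBit (Nat.land (Nat.shiftRight A (Nat.mul n i0))
        (Nat.sub (Nat.pow 2 (Nat.mul n len)) 1)) t = Nat.testBit A (n * i0 + t) := by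
    intro t ht
    change Nat.testBit ((A >>> (n * i0)) &&& (2 ^ (n * len) - 1)) t = _
    rw [Nat.testBit_and, Nat.testBit_shiftRight, Nat.testBit_two_pow_sub_one,
      decide_eq_true ht, Bool.and_true]
  have hlj : n * l + j < n * len := by
    have : n * (l + 1) ≤ n * len := Nat.mul_le_mul_left n hl
    rw [Nat.mul_add, Nat.mul_one] at this
    omega
  constructor
  · rintro (h0 | ⟨k, hk, hk1, hk2, hk3⟩)
    · simp at h0
    · rw [testBit_repR] at hk3
      obtain ⟨m, hm, hm'⟩ := hk3
      have hkn := hlt k hk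
      have hjn := hlt j hj
      have hml : m = l := by
        rcases Nat.lt_trichotomy m l with h3 | h3 | h3
        · exfalso
          have : n * (m + 1) ≤ n * l := Nat.mul_le_mul_left n h3
          rw [Nat.mul_add, Nat.mul_one] at this
          omega
        · exact h3
        · exfalso
          have : n * (l + 1) ≤ n * m := Nat.mul_le_mul_left n h3
          rw [Nat.mul_add, Nat.mul_one] at this
          omega
      subst hml
      have hPk : lk P k = lk P j := by omega
      have hkj : k = j := hinj k hk j hj hPk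
      subst hkj
      rw [hm', hA _ (by omega)] at hk2
      rw [← hk2]
      congr 1
      rw [Nat.mul_add]
      omega
  · intro h3
    right
    refine ⟨j, hj, by omega, ?_, ?_⟩
    · rw [hA _ (by omega), ← h3]
      congr 1
      rw [Nat.mul_add]
      omega
    · rw [testBit_repR]
      exact ⟨l, hl, by omega⟩

theorem RowsOK.append {n A P i0 l l' : ℕ} (h : RowsOK n A P i0 l) (h' : RowsOK n A P (i0 + l) l') :
    RowsOK n A P i0 (l + l') := by
  intro i hi hi' j hj
  by_cases h1 : i < i0 + l
  · exact h i hi h1 j hj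
  · exact h' i (by omega) (by omega) j hj

theorem mem_autG_of_rowsOK {n A P : ℕ} {g : Perm (Fin n)} (hg : ∀ i, (g i : ℕ) = lk P i)
    (h : RowsOK n A P 0 n) : g ∈ autG n A := by
  intro i j
  rw [hg, hg]
  exact h i (Nat.zero_le _) (by omega) j j.2

theorem mkPerm_mem_autG {n A P Q : ℕ} (hPQ : chkInv n P Q = true)
    (h : RowsOK n A P 0 n) : mkPerm P Q hPQ ∈ autG n A :=
  mem_autG_of_rowsOK (fun _ => rfl) h

theorem chkInv_lt {n P Q : ℕ} (hPQ : chkInv n P Q = true) : ∀ j < n, lk P j < n :=
  fun j hj => (chkInv_spec hPQ ⟨j, hj⟩).1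

theorem chkInv_inj {n P Q : ℕ} (hPQ : chkInv n P Q = true) :
    ∀ j < n, ∀ k < n, lk P j = lk P k → j = k := by
  intro j hj k hk h
  have h1 := (chkInv_spec hPQ ⟨j, hj⟩).2.2.1
  have h2 := (chkInv_spec hPQ ⟨k, hk⟩).2.2.1
  simp only at h1 h2
  rw [← h1, ← h2, h]

/-! ### Upper bounds by adjacency patterns -/

/-- `x ≠ y`. -/
def nbeq (x y : ℕ) : Bool := cond (Nat.beq x y) false true

theorem nbeq_iff (x y : ℕ) : nbeq x y = true ↔ x ≠ y := by
  unfold nbeq
  cases h : Nat.beq x y with
  | true => simp [Nat.eq_of_beq_eq_true h]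
  | false => simp [Nat.ne_of_beq_eq_false h]

/-- `v` is none of the points of `F` and is joined to them as `y` is. -/
def patt (n A : ℕ) (F : List ℕ) (y v : ℕ) : Bool :=
  List.rec true (fun f _ ih => band (Nat.beq (bitM n A v f) (bitM n A y f))
    (band (nbeq v f) ih)) F

theorem patt_iff (n A : ℕ) (F : List ℕ) (y v : ℕ) : patt n A F y v = true ↔
    ∀ f ∈ F, bitM n A v f = bitM n A y f ∧ v ≠ f := by
  induction F with
  | nil => simp [patt]
  | cons f F ih =>
    have : patt n A (f :: F) y v = band (Nat.beq (bitM n A v f) (bitM n A y f))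
        (band (nbeq v f) (patt n A F y v)) := rfl
    rw [this, band_eq_true, band_eq_true, ih, nbeq_iff]
    constructor
    · rintro ⟨h1, h2, h3⟩ k hk
      rcases List.mem_cons.1 hk with h | h
      · subst h; exact ⟨Nat.eq_of_beq_eq_true h1, h2⟩
      · exact h3 k h
    · intro h
      refine ⟨?_, (h f List.mem_cons_self).2, fun k hk => h k (List.mem_cons_of_mem _ hk)⟩
      rw [(h f List.mem_cons_self).1]
      exact Nat.beq_refl _

/-- `y` is not in the list `F`. -/
def notMemB (y : ℕ) (F : List ℕ) : Bool := List.rec true (fun f _ ih => band (nbeq y f) ih) F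

theorem notMemB_iff (y : ℕ) (F : List ℕ) : notMemB y F = true ↔ y ∉ F := by
  induction F with
  | nil => simp [notMemB]
  | cons f F ih =>
    have : notMemB y (f :: F) = band (nbeq y f) (notMemB y F) := rfl
    rw [this, band_eq_true, nbeq_iff, ih, List.mem_cons, not_or]

/-- The chain of adjacency patterns: for every `(y, m)` in `bs`, exactly `m` points look like `y`
with respect to the previous points. -/
def chainB (n A : ℕ) : List ℕ → List (ℕ × ℕ) → Bool
  | _, [] => true
  | F, (y, m) :: bs => band (Nat.blt y n) (band (notMemB y F)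
      (band (cntB (patt n A F y) n m) (chainB n A (y :: F) bs)))

/-- Points which all elements of the subgroup fix. -/
def FixL {n : ℕ} (H : Subgroup (Perm (Fin n))) (F : List ℕ) : Prop :=
  ∀ f ∈ F, f < n ∧ ∀ g ∈ H, ∀ i : Fin n, (i : ℕ) = f → g i = i

/-- All points seen in the chain, the last one first. -/
def lastF : List ℕ → List (ℕ × ℕ) → List ℕ
  | F, [] => F
  | F, (y, _) :: bs => lastF (y :: F) bs

/-- The product of the counts. -/
def prodC : List (ℕ × ℕ) → ℕ
  | [] => 1
  | (_, m) :: bs => m * prodC bs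

theorem chainB_cons (n A : ℕ) (F : List ℕ) (y m : ℕ) (bs : List (ℕ × ℕ)) :
    chainB n A F ((y, m) :: bs) = band (Nat.blt y n) (band (notMemB y F)
      (band (cntB (patt n A F y) n m) (chainB n A (y :: F) bs))) := rfl

theorem card_le_of_chain {n A : ℕ} (bs : List (ℕ × ℕ)) (F : List ℕ)
    (H : Subgroup (Perm (Fin n))) (hH : H ≤ autG n A) (hF : FixL H F)
    (hc : chainB n A F bs = true)
    (hfin : ∀ g ∈ autG n A, (∀ f ∈ lastF F bs, f < n ∧ ∀ i : Fin n, (i : ℕ) = f → g i = i) →
      g = 1) : Nat.card H ≤ prodC bs := by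
  induction bs generalizing F H with
  | nil =>
    have : H = ⊥ := by
      rw [eq_bot_iff]
      intro g hg
      rw [Subgroup.mem_bot]
      exact hfin g (hH hg) (fun f hf => ⟨(hF f hf).1, (hF f hf).2 g hg⟩)
    rw [this]
    simp [prodC]
  | cons b bs ih =>
    obtain ⟨y, m⟩ := b
    rw [chainB_cons, band_eq_true, band_eq_true, band_eq_true] at hc
    obtain ⟨h1, h2, h3, h4⟩ := hc
    have hy : y < n := Nat.blt_eq ▸ h1
    rw [notMemB_iff] at h2
    have h5 : Nat.card (ps H ⟨y, hy⟩) ≤ prodC bs := by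
      refine ih (y :: F) (ps H ⟨y, hy⟩) ((ps_le _ _).trans hH) ?_ h4 hfin
      intro f hf
      rcases List.mem_cons.1 hf with h | h
      · subst h
        refine ⟨hy, fun g hg i hi => ?_⟩
        have : i = ⟨f, hy⟩ := Fin.ext hi
        rw [this]; exact hg.2
      · exact ⟨(hF f h).1, fun g hg => (hF f h).2 g hg.1⟩
    refine card_le H ⟨y, hy⟩ _ ?_ (card_fin_of_cntB _ n m h3) h5
    intro g hg
    simp only [Finset.mem_filter, Finset.mem_univ, true_and]
    rw [patt_iff]
    intro f hf
    obtain ⟨hfn, hfix⟩ := hF f hf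
    have hgf : g ⟨f, hfn⟩ = ⟨f, hfn⟩ := hfix g hg ⟨f, hfn⟩ rfl
    constructor
    · have := hH hg ⟨y, hy⟩ ⟨f, hfn⟩
      rw [hgf] at this
      exact this
    · intro he
      have h6 : g ⟨y, hy⟩ = g ⟨f, hfn⟩ := by
        rw [hgf]; exact Fin.ext he
      have h7 := g.injective h6
      rw [Fin.mk.injEq] at h7
      exact h2 (h7 ▸ hf)

/-- The set of the points in the list, as a bit mask. -/
def maskL (F : List ℕ) : ℕ := List.rec 0 (fun f _ ih => Nat.lor (Nat.shiftLeft 1 f) ih) F

theorem testBit_maskL (F : List ℕ) (k : ℕ) : Nat.testBit (maskL F) k = true ↔ k ∈ F := by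
  induction F with
  | nil => simp [maskL]
  | cons f F ih =>
    have : maskL (f :: F) = (1 <<< f) ||| maskL F := rfl
    rw [this, Nat.testBit_or, Bool.or_eq_true, ih, Nat.testBit_shiftLeft, List.mem_cons,
      Bool.and_eq_true, decide_eq_true_eq, Nat.testBit_one_eq_true_iff_self_eq_zero]
    constructor
    · rintro (h | h)
      · left; omega
      · exact Or.inr h
    · rintro (h | h)
      · left; subst h; simp
      · exact Or.inr h

/-- The rows of `A`, restricted to the columns in `M`, are pairwise different; `O` lists the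
vertices in increasing order of these rows and `R` is the inverse of `O`. -/
def chkDist (n A M R O : ℕ) : Bool :=
  band (allB (fun v => band (Nat.blt (lk R v) n) (Nat.beq (lk O (lk R v)) v)) n)
    (allB (fun i => Nat.blt (Nat.land (rowM n A (lk O i)) M)
      (Nat.land (rowM n A (lk O (Nat.succ i))) M)) (Nat.pred n))

theorem eq_one_of_dist {n A R O : ℕ} {F : List ℕ} (hd : chkDist n A (maskL F) R O = true)
    (g : Perm (Fin n)) (hg : g ∈ autG n A)
    (hF : ∀ f ∈ F, f < n ∧ ∀ i : Fin n, (i : ℕ) = f → g i = i) : g = 1 := by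
  unfold chkDist at hd
  rw [band_eq_true, allB_iff, allB_iff] at hd
  obtain ⟨hR, hO⟩ := hd
  -- the signature function
  set sig : ℕ → ℕ := fun v => Nat.land (rowM n A v) (maskL F) with hsig
  have hmono : ∀ i j, i < j → j < n → sig (lk O i) < sig (lk O j) := by
    intro i j hij
    induction j with
    | zero => exact absurd hij (Nat.not_lt_zero _)
    | succ j ih =>
      intro hj
      have hstep : sig (lk O j) < sig (lk O (j + 1)) :=
        Nat.blt_eq ▸ hO j (by rw [Nat.pred_eq_sub_one]; omega)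
      rcases Nat.lt_succ_iff_lt_or_eq.1 hij with h | h
      · exact (ih h (by omega)).trans hstep
      · subst h; exact hstep
  have hinj : ∀ v < n, ∀ w < n, sig v = sig w → v = w := by
    intro v hv w hw hvw
    have h1 := hR v hv
    have h2 := hR w hw
    rw [band_eq_true] at h1 h2
    have h3 : lk R v < n := Nat.blt_eq ▸ h1.1
    have h4 : lk R w < n := Nat.blt_eq ▸ h2.1
    have h5 := Nat.eq_of_beq_eq_true h1.2
    have h6 := Nat.eq_of_beq_eq_true h2.2
    rcases Nat.lt_trichotomy (lk R v) (lk R w) with h | h | h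
    · have := hmono _ _ h h4
      rw [h5, h6] at this
      omega
    · rw [← h5, ← h6, h]
    · have := hmono _ _ h h3
      rw [h5, h6] at this
      omega
  ext v
  rw [Perm.one_apply]
  refine hinj _ (g v).2 _ v.2 ?_
  apply Nat.eq_of_testBit_eq
  intro k
  change Nat.testBit (rowM n A (g v) &&& maskL F) k = Nat.testBit (rowM n A v &&& maskL F) k
  rw [Nat.testBit_and, Nat.testBit_and]
  cases hk : Nat.testBit (maskL F) k with
  | false => simp
  | true =>
    rw [testBit_maskL] at hk
    obtain ⟨hkn, hfix⟩ := hF k hk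
    have h1 := hg v ⟨k, hkn⟩
    rw [hfix ⟨k, hkn⟩ rfl, bitM_eq_iff] at h1
    rw [testBit_rowM, testBit_rowM, h1]

/-- Upper bound for the automorphism group of the graph. -/
theorem card_autG_le {n A R O : ℕ} {bs : List (ℕ × ℕ)} (hc : chainB n A [] bs = true)
    (hd : chkDist n A (maskL (lastF [] bs)) R O = true) : Nat.card (autG n A) ≤ prodC bs :=
  card_le_of_chain bs [] (autG n A) le_rfl (fun _ hf => absurd hf List.not_mem_nil) hc
    (fun g hg h => eq_one_of_dist hd g hg h)

/-! ### Parity -/

theorem two_mul_card_le {X : Type*} [Fintype X] [DecidableEq X] {G A : Subgroup (Perm X)}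
    (hGA : G ≤ A) (hG : ∀ g ∈ G, Perm.sign g = 1) {t : Perm X} (ht : t ∈ A)
    (hts : Perm.sign t = -1) : 2 * Nat.card G ≤ Nat.card A := by
  have h : Nat.card (G ⊕ G) ≤ Nat.card A := by
    refine Nat.card_le_card_of_injective (fun z : G ⊕ G => z.elim
      (fun g => (⟨g.1, hGA g.2⟩ : A)) (fun g => (⟨t * g.1, A.mul_mem ht (hGA g.2)⟩ : A))) ?_
    rintro (a | a) (b | b) hab
    · have h1 : (a : Perm X) = b := congrArg (Subtype.val : A → Perm X) hab
      rw [Subtype.ext h1]
    · exfalso
      have h1 : (a : Perm X) = t * b := congrArg (Subtype.val : A → Perm X) hab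
      have h2 := congrArg Perm.sign h1
      rw [Perm.sign_mul, hG _ a.2, hG _ b.2, hts] at h2
      exact absurd h2 (by decide)
    · exfalso
      have h1 : t * (a : Perm X) = b := congrArg (Subtype.val : A → Perm X) hab
      have h2 := congrArg Perm.sign h1
      rw [Perm.sign_mul, hG _ a.2, hG _ b.2, hts] at h2
      exact absurd h2 (by decide)
    · have h1 : t * (a : Perm X) = t * b := congrArg (Subtype.val : A → Perm X) hab
      rw [Subtype.ext (mul_left_cancel h1)]
  rw [Nat.card_sum] at h
  omega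

/-- The sign of an involution with `m` moved points. -/
theorem sign_of_involution {X : Type*} [Fintype X] [DecidableEq X] {t : Perm X}
    (ht : t * t = 1) : Perm.sign t = (-1) ^ (t.support.card / 2) := by
  by_cases h1 : t = 1
  · subst h1; simp
  have h2 : orderOf t = 2 := orderOf_eq_prime (by rw [pow_two, ht]) h1
  obtain ⟨k, hk⟩ := Perm.cycleType_prime_order (σ := t) (by rw [h2]; exact Nat.prime_two)
  rw [h2] at hk
  have h3 : t.support.card = (k + 1) * 2 := by
    rw [← Perm.sum_cycleType, hk, Multiset.sum_replicate, smul_eq_mul]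
  rw [Perm.sign_of_cycleType, hk, Multiset.sum_replicate, Multiset.card_replicate, smul_eq_mul,
    h3, Nat.mul_div_cancel _ (by norm_num), pow_add, pow_mul']
  simp

/-- A group generated by elements of odd order consists of even permutations. -/
theorem sign_eq_one_of_odd_pow {X : Type*} [Fintype X] [DecidableEq X] {g : Perm X} {k : ℕ}
    (hk : Odd k) (hg : g ^ k = 1) : Perm.sign g = 1 := by
  have h1 : (Perm.sign g) ^ k = 1 := by rw [← map_pow, hg, map_one]
  rcases Int.units_eq_one_or (Perm.sign g) with h | h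
  · exact h
  · rw [h, hk.neg_one_pow] at h1
    exact absurd h1 (by decide)

end

end Cfsg.Agent.SporadicA.PermTab
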