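import Mathlib
import Cfsg.Prelude.Def_Sporadic_a
import Cfsg.Agent.SporadicA.M24Mem

/-!
A small bitmask model of `Cfsg.golayCode` for kernel computations, independent of any other core:

* `word m` is the word of the mask `m` (bit `k` for `some k`, bit `23` for the extra point);
* `golayCode_eq_span`: the code is spanned by the words of the 12 masks in `basis`, all of weight 8;
* `forallSpan_sound` / `golay_forall`: to prove something for all code words, check a Boolean
  predicate on the 4096 masks (kernel evaluation of `forallSpan basis 0 p`);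
* `pull t m`: the mask of `word m ∘ f`, where `t` is the table of `f`;
* transitivity of `M24` on dodecads by a walk certificate.
-/

set_option autoImplicit false

namespace Cfsg.Agent.SporadicA.GolayWalk

open Cfsg
open scoped Pointwise
open Cfsg.Agent.SporadicA.M24Mem

/-- The bit position of a point. -/
def idx : GolayPt → ℕ
  | none => 23
  | some x => x.val

/-- The word of a mask. -/
def word (m : ℕ) : GolayPt → ZMod 2 := fun p => if m.testBit (idx p) then 1 else 0

theorem word_apply (m : ℕ) (p : GolayPt) : word m p = if m.testBit (idx p) then 1 else 0 := rfl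

theorem word_zero : word 0 = 0 := by
  funext p; simp [word_apply]

theorem word_xor (m n : ℕ) : word (m ^^^ n) = word m + word n := by
  funext p
  simp only [word_apply, Nat.testBit_xor, Pi.add_apply]
  cases m.testBit (idx p) <;> cases n.testBit (idx p) <;> decide

theorem idx_lt (p : GolayPt) : idx p < 24 := by
  cases p with
  | none => decide
  | some x => exact lt_trans (ZMod.val_lt x) (by norm_num)

/-- The words of a list of masks. -/
def wordSet (bs : List ℕ) : Set (GolayPt → ZMod 2) := {w | ∃ b ∈ bs, w = word b}

theorem wordSet_nil : wordSet [] = ∅ := by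
  ext w; simp [wordSet]

theorem wordSet_cons (b : ℕ) (bs : List ℕ) :
    wordSet (b :: bs) = insert (word b) (wordSet bs) := by
  ext w; simp [wordSet]

/-- Check a Boolean predicate on all masks `acc ^^^ c`, `c` in the xor-span of the list. -/
def forallSpan (p : ℕ → Bool) : List ℕ → ℕ → Bool
  | [], acc => p acc
  | b :: bs, acc => forallSpan p bs acc && forallSpan p bs (acc ^^^ b)

theorem forallSpan_nil (p : ℕ → Bool) (acc : ℕ) : forallSpan p [] acc = p acc := rfl

theorem forallSpan_cons (p : ℕ → Bool) (b : ℕ) (bs : List ℕ) (acc : ℕ) :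
    forallSpan p (b :: bs) acc = (forallSpan p bs acc && forallSpan p bs (acc ^^^ b)) := rfl

theorem forallSpan_sound (p : ℕ → Bool) (bs : List ℕ) : ∀ acc : ℕ, forallSpan p bs acc = true →
    ∀ w ∈ Submodule.span (ZMod 2) (wordSet bs), ∃ m, word acc + w = word m ∧ p m = true := by
  induction bs with
  | nil =>
    intro acc h w hw
    rw [wordSet_nil, Submodule.span_empty, Submodule.mem_bot] at hw
    exact ⟨acc, by rw [hw, add_zero], h⟩
  | cons b bs ih =>
    intro acc h w hw
    rw [forallSpan_cons, Bool.and_eq_true] at h
    rw [wordSet_cons, Submodule.mem_span_insert] at hw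
    obtain ⟨a, z, hz, rfl⟩ := hw
    have ha : a = 0 ∨ a = 1 := by revert a; decide
    rcases ha with rfl | rfl
    · obtain ⟨m, hm, hp⟩ := ih acc h.1 z hz
      exact ⟨m, by rw [zero_smul, zero_add]; exact hm, hp⟩
    · obtain ⟨m, hm, hp⟩ := ih (acc ^^^ b) h.2 z hz
      refine ⟨m, ?_, hp⟩
      rw [← hm, word_xor, one_smul, add_assoc]

/-- A basis of the code: masks of 12 octads, in echelon form for the positions `0, ..., 11`. -/
def basis : List ℕ :=
  [0xc75001, 0x49f002, 0xd4b004, 0x6e3008, 0x9b3010, 0xb66020, 0xecc040, 0x1ed080, 0x3da100,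
   0x7b4200, 0xb1d400, 0xe3a800]

/-- The masks of the words `qrWord t`. -/
def qrMasks : List ℕ :=
  [340831, 681662, 1363324, 2726648, 5453296, 2517985, 5035970, 1683333, 3366666, 6733332,
   5078057, 1767507, 3535014, 7070028, 5751449, 3114291, 6228582, 4068557, 8137114, 7885621,
   7382635, 6376663, 4364719]

/-- The xor of the basis masks selected by the bits of `i`. -/
def enc : List ℕ → ℕ → ℕ
  | [], _ => 0
  | b :: bs, i => (if i % 2 = 1 then b else 0) ^^^ enc bs (i / 2)

/-- Code membership test for masks. -/
def isCode (m : ℕ) : Bool := enc basis (m % 4096) == m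

theorem word_enc_mem (bs : List ℕ) : ∀ i : ℕ,
    word (enc bs i) ∈ Submodule.span (ZMod 2) (wordSet bs) := by
  induction bs with
  | nil => intro i; rw [enc, word_zero]; exact Submodule.zero_mem _
  | cons b bs ih =>
    intro i
    rw [enc, word_xor, wordSet_cons]
    refine Submodule.add_mem _ ?_ (Submodule.span_mono (Set.subset_insert _ _) (ih _))
    split_ifs
    · exact Submodule.subset_span (Set.mem_insert _ _)
    · rw [word_zero]; exact Submodule.zero_mem _

theorem qrWord_eq_word : ∀ t : ZMod 23, ∀ p : GolayPt,
    qrWord t p = word (qrMasks.getD t.val 0) p := by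
  decide +kernel

theorem one_eq_word : ∀ p : GolayPt, (1 : GolayPt → ZMod 2) p = word (2 ^ 24 - 1) p := by
  decide +kernel

theorem isCode_qrMasks : ∀ t : ZMod 23, isCode (qrMasks.getD t.val 0) = true := by
  decide +kernel

theorem isCode_allOnes : isCode (2 ^ 24 - 1) = true := by
  decide +kernel

/-- Each basis mask as a xor of masks `qrMasks` and the all-ones mask. -/
def combos : List (List ℕ) :=
  [[9, 12, 13, 23], [3, 4, 8], [14, 17, 22, 23], [0, 3, 22], [0, 7, 19, 23], [1, 8, 20, 23],
   [2, 9, 21, 23], [10, 15, 18], [11, 16, 19], [12, 17, 20], [7, 10, 11, 23], [8, 11, 12, 23]]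

/-- The xor of the listed generator masks (number 23 stands for the all-ones mask). -/
def xorOf : List ℕ → ℕ
  | [] => 0
  | i :: l => (if i < 23 then qrMasks.getD i 0 else 2 ^ 24 - 1) ^^^ xorOf l

theorem word_xorOf_mem : ∀ l : List ℕ, word (xorOf l) ∈ golayCode
  | [] => by rw [xorOf, word_zero]; exact Submodule.zero_mem _
  | i :: l => by
    rw [xorOf, word_xor]
    refine Submodule.add_mem _ ?_ (word_xorOf_mem l)
    split_ifs with h
    · have h1 : word (qrMasks.getD i 0) = qrWord (i : ZMod 23) := by
        funext p
        rw [qrWord_eq_word, ZMod.val_natCast, Nat.mod_eq_of_lt h]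
      rw [h1]; exact qrWord_mem_golayCode _
    · have h1 : word (2 ^ 24 - 1) = 1 := by
        funext p; exact (one_eq_word p).symm
      rw [h1]; exact one_mem_golayCode

theorem basis_eq : basis = combos.map xorOf := by
  decide +kernel

theorem golayCode_eq_span : golayCode = Submodule.span (ZMod 2) (wordSet basis) := by
  apply le_antisymm
  · unfold golayCode
    rw [Submodule.span_le]
    rintro _ (⟨t, rfl⟩ | rfl)
    · have h1 : qrWord t = word (qrMasks.getD t.val 0) := by
        funext p; exact qrWord_eq_word t p
      have h2 := isCode_qrMasks t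
      rw [isCode, beq_iff_eq] at h2
      rw [h1, ← h2]
      exact word_enc_mem _ _
    · have h1 : (1 : GolayPt → ZMod 2) = word (2 ^ 24 - 1) := by
        funext p; exact one_eq_word p
      have h2 := isCode_allOnes
      rw [isCode, beq_iff_eq] at h2
      rw [h1, ← h2]
      exact word_enc_mem _ _
  · rw [Submodule.span_le]
    rintro _ ⟨b, hb, rfl⟩
    rw [basis_eq, List.mem_map] at hb
    obtain ⟨l, _, rfl⟩ := hb
    exact word_xorOf_mem l

theorem word_mem_of_isCode {m : ℕ} (h : isCode m = true) : word m ∈ golayCode := by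
  rw [isCode, beq_iff_eq] at h
  rw [golayCode_eq_span, ← h]
  exact word_enc_mem _ _

theorem word_mem_of_mem_basis {b : ℕ} (h : b ∈ basis) : word b ∈ golayCode := by
  rw [golayCode_eq_span]
  exact Submodule.subset_span ⟨b, h, rfl⟩

/-- To prove something about all code words, check a Boolean predicate on the masks. -/
theorem golay_forall (p : ℕ → Bool) (h : forallSpan p basis 0 = true)
    {w : GolayPt → ZMod 2} (hw : w ∈ golayCode) : ∃ m, w = word m ∧ p m = true := by
  rw [golayCode_eq_span] at hw
  obtain ⟨m, hm, hp⟩ := forallSpan_sound p basis 0 h w hw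
  exact ⟨m, by rw [← hm, word_zero, zero_add], hp⟩

/-- The mask of `word m ∘ f`, where `t` is the table of `f`. -/
def pull : List ℕ → ℕ → ℕ
  | [], _ => 0
  | a :: l, m => (m >>> a) % 2 + 2 * pull l m

theorem testBit_pull (m : ℕ) : ∀ (l : List ℕ) (k : ℕ),
    (pull l m).testBit k = (decide (k < l.length) && m.testBit (l.getD k 0))
  | [], k => by simp [pull]
  | a :: l, 0 => by
    rw [pull, Nat.testBit_zero]
    simp [Nat.testBit_eq_decide_div_mod_eq, Nat.shiftRight_eq_div_pow, Nat.add_mod]
  | a :: l, k + 1 => by
    rw [pull, Nat.testBit_succ, show ((m >>> a) % 2 + 2 * pull l m) / 2 = pull l m by omega,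
      testBit_pull m l k]
    simp

theorem word_comp (f : GolayPt → GolayPt) (t : List ℕ) (ht : t.length = 24)
    (h : ∀ p, t.getD (idx p) 0 = idx (f p)) (m : ℕ) : word m ∘ f = word (pull t m) := by
  funext p
  rw [Function.comp_apply, word_apply, word_apply, testBit_pull, h p, ht]
  simp [idx_lt]

/-- A permutation with table `t` lies in `M24` if it pulls back the 12 basis masks into the code. -/
theorem mem_M24_of_table (g : Equiv.Perm GolayPt) (t : List ℕ) (ht : t.length = 24)
    (h : ∀ p, t.getD (idx p) 0 = idx (g p)) (hc : basis.all (fun b => isCode (pull t b)) = true) :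
    g ∈ M24 := by
  rw [mem_M24_iff']
  have key : golayCode ≤ golayCode.comap (LinearMap.funLeft (ZMod 2) (ZMod 2) g) := by
    conv_lhs => rw [golayCode_eq_span]
    rw [Submodule.span_le]
    rintro _ ⟨b, hb, rfl⟩
    show word b ∘ g ∈ golayCode
    rw [word_comp g t ht h]
    exact word_mem_of_isCode (List.all_eq_true.1 hc b hb)
  exact fun w hw => key hw

end Cfsg.Agent.SporadicA.GolayWalk
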