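import Cfsg.Agent.SporadicA.M24Chain
import Cfsg.Agent.SporadicA.GolayBase

set_option autoImplicit false
open Cfsg
open scoped Pointwise

/-! `M24` is simply transitive on frames: ordered 7-tuples of points, the first six of them distinct
points of an octad, the last one outside this octad. -/

namespace Cfsg.Agent.SporadicA.M24Frames

open Cfsg.Agent.SporadicA.GolayBase Cfsg.Agent.SporadicA.M24Chain

theorem smul_mem_supports {g : Equiv.Perm GolayPt} (hg : g ∈ M24) {s : Finset GolayPt}
    (hs : s ∈ supports (golayCode : Set (GolayPt → ZMod 2))) :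
    g • s ∈ supports (golayCode : Set (GolayPt → ZMod 2)) := by
  have h := MulAction.mem_stabilizer_iff.mp hg
  rw [← h]
  exact Set.smul_mem_smul_set hs

theorem smul_mem_octads {g : Equiv.Perm GolayPt} (hg : g ∈ M24) {s : Finset GolayPt}
    (hs : s ∈ octads) : g • s ∈ octads :=
  ⟨smul_mem_supports hg hs.1, by rw [Finset.card_smul_finset]; exact hs.2⟩

/-- If `g ∈ M24` fixes five points of each octad of a list, it fixes every point that is separated
from the others by these octads. -/
theorem fix_step {g : Equiv.Perm GolayPt} (hg : g ∈ M24) (F : ℕ) (hF : ∀ p ∈ fin F, g p = p)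
    (L : List ℕ)
    (hL : ∀ m ∈ L, m < 2 ^ 24 ∧ isCode m = true ∧ popcount m = 8 ∧ 5 ≤ popcount (m &&& F))
    (p : GolayPt) (hp : ∀ q, (∀ m ∈ L, m.testBit (idx p) = m.testBit (idx q)) → q = p) :
    g p = p := by
  apply hp
  intro m hm
  obtain ⟨h1, h2, h3, h4⟩ := hL m hm
  have ho : fin m ∈ octads := (fin_mem_octads_iff h1).2 ⟨h2, h3⟩
  have hsub : fin (m &&& F) ⊆ g • fin m ∩ fin m := by
    intro q hq
    rw [fin_and, Finset.mem_inter] at hq
    rw [Finset.mem_inter]
    refine ⟨?_, hq.1⟩
    rw [← hF q hq.2]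
    exact Finset.smul_mem_smul_finset hq.1
  have heq : g • fin m = fin m := by
    apply octad_unique (smul_mem_octads hg ho) ho
    refine le_trans h4 ?_
    rw [← card_fin]
    exact Finset.card_le_card hsub
  have h5 : p ∈ fin m ↔ g p ∈ fin m := by
    conv_rhs => rw [← heq]
    exact (Finset.smul_mem_smul_finset_iff g).symm
  rw [mem_fin, mem_fin] at h5
  cases h6 : m.testBit (idx p) <;> cases h7 : m.testBit (idx (g p)) <;> simp_all

/-- An element of `M24` that fixes the seven base points is trivial. -/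
theorem eq_one_of_fix_base {g : Equiv.Perm GolayPt} (hg : g ∈ M24) (h0 : g none = none)
    (h1 : g (some 0) = some 0) (h2 : g (some 1) = some 1) (h3 : g (some 2) = some 2)
    (h4 : g (some 3) = some 3) (h5 : g (some 5) = some 5) (h6 : g (some 4) = some 4) :
    g = 1 := by
  have hF : ∀ p ∈ fin 8388671, g p = p := by
    have : ∀ p ∈ fin 8388671, p = none ∨ p = some 0 ∨ p = some 1 ∨ p = some 2 ∨ p = some 3 ∨
        p = some 5 ∨ p = some 4 := by decide +kernel
    intro p hp
    rcases this p hp with rfl | rfl | rfl | rfl | rfl | rfl | rfl <;> assumption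
  have key : ∀ p, p ≠ some 14 → p ≠ some 17 → g p = p := by
    intro p hp1 hp2
    apply fix_step hg 8388671 hF [12656663, 8536111, 5275709, 8683614, 2162811, 8978620, 8421811,
      786999, 10486557, 12584506, 9963547, 10558, 8391797, 11538486, 8663097, 5279]
      (by decide +kernel)
    revert p
    decide +kernel
  have hF' : ∀ p ∈ fin 16629759, g p = p := by
    have : ∀ p ∈ fin 16629759, p ≠ some 14 ∧ p ≠ some 17 := by decide +kernel
    intro p hp
    exact key p (this p hp).1 (this p hp).2
  have h14 : g (some 14) = some 14 := by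
    have h : ∀ q, q ∉ fin 16629759 → q ∈ fin 9347075 → q = some 14 ∨ q = some 17 := by
      decide +kernel
    by_contra hne
    have hne' : g (some 14) = some 17 := by
      have : ∀ q : GolayPt, q ≠ some 14 → q ≠ some 17 → q ∈ fin 16629759 := by decide +kernel
      by_contra hne2
      have h3 := hF' _ (this _ hne hne2)
      exact hne (g.injective h3)
    have ho : fin 9347075 ∈ octads := (fin_mem_octads_iff (by norm_num)).2 (by decide +kernel)
    have heq : g • fin 9347075 = fin 9347075 := by
      apply octad_unique (smul_mem_octads hg ho) ho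
      have hsub : fin (9347075 &&& 16629759) ⊆ g • fin 9347075 ∩ fin 9347075 := by
        intro q hq
        rw [fin_and, Finset.mem_inter] at hq
        rw [Finset.mem_inter]
        refine ⟨?_, hq.1⟩
        rw [← hF' q hq.2]
        exact Finset.smul_mem_smul_finset hq.1
      refine le_trans ?_ (Finset.card_le_card hsub)
      rw [card_fin]
      decide +kernel
    have h6 : some 14 ∈ fin 9347075 ↔ g (some 14) ∈ fin 9347075 := by
      conv_rhs => rw [← heq]
      exact (Finset.smul_mem_smul_finset_iff g).symm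
    rw [hne'] at h6
    revert h6
    decide +kernel
  have h17 : g (some 17) = some 17 := by
    by_contra hne
    have hne' : g (some 17) = some 14 := by
      have : ∀ q : GolayPt, q ≠ some 17 → q ≠ some 14 → q ∈ fin 16629759 := by decide +kernel
      by_contra hne2
      have h3 := hF' _ (this _ hne hne2)
      exact hne (g.injective h3)
    rw [← h14] at hne'
    exact absurd (g.injective hne') (by decide)
  ext1 p
  by_cases hp1 : p = some 14
  · rw [hp1, h14]; rfl
  · by_cases hp2 : p = some 17
    · rw [hp2, h17]; rfl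
    · rw [key p hp1 hp2]; rfl

/-- the octad through the first six base points -/
def O0 : Finset GolayPt := {none, some 0, some 1, some 2, some 3, some 5, some 14, some 17}

theorem O0_mem : O0 ∈ octads := by
  rw [mem_octads_iff]
  decide +kernel

/-- Frames ("admissible 7-tuples"): distinct points, the first six in an octad, the last one
outside it. -/
def Adm (a : Fin 7 → GolayPt) : Prop :=
  Function.Injective a ∧ ∃ o ∈ octads, (∀ i : Fin 7, i < 6 → a i ∈ o) ∧ a 6 ∉ o

/-- the standard frame -/
def base7 : Fin 7 → GolayPt := ![none, some 0, some 1, some 2, some 3, some 5, some 4]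

theorem adm_base7 : Adm base7 := by
  refine ⟨by decide, O0, O0_mem, by decide, by decide⟩

theorem octad_eq_O0 {o : Finset GolayPt} (ho : o ∈ octads) (h0 : none ∈ o) (h1 : some 0 ∈ o)
    (h2 : some 1 ∈ o) (h3 : some 2 ∈ o) (h4 : some 3 ∈ o) : o = O0 := by
  apply octad_unique ho O0_mem
  have hsub : ({none, some 0, some 1, some 2, some 3} : Finset GolayPt) ⊆ o ∩ O0 := by
    intro p hp
    simp only [Finset.mem_insert, Finset.mem_singleton] at hp
    rw [Finset.mem_inter]
    rcases hp with rfl | rfl | rfl | rfl | rfl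
    · exact ⟨h0, by decide⟩
    · exact ⟨h1, by decide⟩
    · exact ⟨h2, by decide⟩
    · exact ⟨h3, by decide⟩
    · exact ⟨h4, by decide⟩
  exact le_trans (by decide) (Finset.card_le_card hsub)

/-- Every frame is mapped to the standard frame by an element of `K`. -/
theorem exists_map_to_base (a : Fin 7 → GolayPt) (ha : Adm a) :
    ∃ h ∈ K, ∀ i, h (a i) = base7 i := by
  obtain ⟨hinj, o, ho, hin, hout⟩ := ha
  obtain ⟨f, hf, f0, f1, f2, f3, f4⟩ := exists_map_five (fun i : Fin 5 => a (i.castLE (by norm_num)))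
    (fun i j h => Fin.castLE_injective _ (hinj h))
  have e0 : f (a 0) = none := f0
  have e1 : f (a 1) = some 0 := f1
  have e2 : f (a 2) = some 1 := f2
  have e3 : f (a 3) = some 2 := f3
  have e4 : f (a 4) = some 3 := f4
  have hfo : f • o = O0 := by
    have hm : ∀ i : Fin 7, i < 6 → f (a i) ∈ f • o := fun i hi =>
      Finset.smul_mem_smul_finset (hin i hi)
    apply octad_eq_O0 (smul_mem_octads (K_le_M24 hf) ho)
    · rw [← e0]; exact hm 0 (by decide)
    · rw [← e1]; exact hm 1 (by decide)
    · rw [← e2]; exact hm 2 (by decide)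
    · rw [← e3]; exact hm 3 (by decide)
    · rw [← e4]; exact hm 4 (by decide)
  have h5 : f (a 5) = some 5 ∨ f (a 5) = some 14 ∨ f (a 5) = some 17 := by
    have hm : f (a 5) ∈ O0 := by
      rw [← hfo]; exact Finset.smul_mem_smul_finset (hin 5 (by decide))
    have n0 : f (a 5) ≠ none := by rw [← e0]; exact fun h => absurd (hinj (f.injective h)) (by decide)
    have n1 : f (a 5) ≠ some 0 := by rw [← e1]; exact fun h => absurd (hinj (f.injective h)) (by decide)
    have n2 : f (a 5) ≠ some 1 := by rw [← e2]; exact fun h => absurd (hinj (f.injective h)) (by decide)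
    have n3 : f (a 5) ≠ some 2 := by rw [← e3]; exact fun h => absurd (hinj (f.injective h)) (by decide)
    have n4 : f (a 5) ≠ some 3 := by rw [← e4]; exact fun h => absurd (hinj (f.injective h)) (by decide)
    simp only [O0, Finset.mem_insert, Finset.mem_singleton] at hm
    tauto
  obtain ⟨g, hg, g0, g1, g2, g3, g4, g5⟩ := L5 _ h5
  have hgO : g • O0 = O0 := by
    have hm : ∀ p ∈ O0, g p ∈ g • O0 := fun p hp => Finset.smul_mem_smul_finset hp
    apply octad_eq_O0 (smul_mem_octads (K_le_M24 hg) O0_mem)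
    · have := hm none (by decide); rwa [g0] at this
    · have := hm (some 0) (by decide); rwa [g1] at this
    · have := hm (some 1) (by decide); rwa [g2] at this
    · have := hm (some 2) (by decide); rwa [g3] at this
    · have := hm (some 3) (by decide); rwa [g4] at this
  have h6 : g⁻¹ (f (a 6)) ∉ O0 := by
    intro h
    have h' : g (g⁻¹ (f (a 6))) ∈ g • O0 := Finset.smul_mem_smul_finset h
    rw [apply_inv, hgO, ← hfo] at h'
    exact hout ((Finset.smul_mem_smul_finset_iff f).1 h')
  obtain ⟨k, hk, k0, k1, k2, k3, k4, k5, k6⟩ := L6 _ h6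
  refine ⟨k⁻¹ * g⁻¹ * f, mul_mem (mul_mem (inv_mem hk) (inv_mem hg)) hf, ?_⟩
  intro i
  simp only [Equiv.Perm.mul_apply, Equiv.Perm.inv_eq_iff_eq]
  fin_cases i
  · show f (a 0) = g (k none)
    rw [e0, k0, g0]
  · show f (a 1) = g (k (some 0))
    rw [e1, k1, g1]
  · show f (a 2) = g (k (some 1))
    rw [e2, k2, g2]
  · show f (a 3) = g (k (some 2))
    rw [e3, k3, g3]
  · show f (a 4) = g (k (some 3))
    rw [e4, k4, g4]
  · show f (a 5) = g (k (some 5))
    rw [k5, g5]
  · show f (a 6) = g (k (some 4))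
    rw [k6, apply_inv]

theorem eq_one_of_fix_base7 {g : Equiv.Perm GolayPt} (hg : g ∈ M24)
    (h : ∀ i, g (base7 i) = base7 i) : g = 1 :=
  eq_one_of_fix_base hg (h 0) (h 1) (h 2) (h 3) (h 4) (h 5) (h 6)

/-- The image of a frame under an element of `M24` is a frame. -/
theorem Adm.map {a : Fin 7 → GolayPt} (ha : Adm a) {g : Equiv.Perm GolayPt} (hg : g ∈ M24) :
    Adm (fun i => g (a i)) := by
  obtain ⟨hinj, o, ho, hin, hout⟩ := ha
  refine ⟨g.injective.comp hinj, g • o, smul_mem_octads hg ho, fun i hi => ?_, fun h => ?_⟩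
  · exact Finset.smul_mem_smul_finset (hin i hi)
  · exact hout ((Finset.smul_mem_smul_finset_iff g).1 h)

/-- `M24` is generated by the shift, `projInv` and `cubeTwist`. -/
theorem K_eq_M24 : K = M24 := by
  apply le_antisymm K_le_M24
  intro g hg
  obtain ⟨h, hh, h'⟩ := exists_map_to_base _ (adm_base7.map hg)
  have : h * g = 1 := eq_one_of_fix_base7 (mul_mem (K_le_M24 hh) hg) h'
  rw [show g = h⁻¹ from (inv_eq_of_mul_eq_one_right this).symm]
  exact inv_mem hh

/-- Two elements of `M24` that agree on a frame are equal. -/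
theorem eq_of_eq_on {a : Fin 7 → GolayPt} (ha : Adm a) {g h : Equiv.Perm GolayPt} (hg : g ∈ M24)
    (hh : h ∈ M24) (hgh : ∀ i, g (a i) = h (a i)) : g = h := by
  obtain ⟨k, hk, hk'⟩ := exists_map_to_base a ha
  have hk := K_le_M24 hk
  have : k * (h⁻¹ * g) * k⁻¹ = 1 := by
    apply eq_one_of_fix_base7 (mul_mem (mul_mem hk (mul_mem (inv_mem hh) hg)) (inv_mem hk))
    intro i
    have h1 : k⁻¹ (base7 i) = a i := by rw [Equiv.Perm.inv_eq_iff_eq, hk']
    simp only [Equiv.Perm.mul_apply]
    rw [h1, hgh i, show h⁻¹ (h (a i)) = a i from h.symm_apply_apply _, hk']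
  have h2 : h⁻¹ * g = 1 := by
    have := congrArg (fun x => k⁻¹ * x * k) this
    simpa [mul_assoc] using this
  exact (inv_mul_eq_one.mp h2).symm

/-- `M24` is simply transitive on frames. -/
theorem exists_unique_map (a b : Fin 7 → GolayPt) (ha : Adm a) (hb : Adm b) :
    ∃! g : Equiv.Perm GolayPt, g ∈ M24 ∧ ∀ i, g (a i) = b i := by
  obtain ⟨k, hk, hk'⟩ := exists_map_to_base a ha
  obtain ⟨l, hl, hl'⟩ := exists_map_to_base b hb
  refine ⟨l⁻¹ * k, ⟨mul_mem (inv_mem (K_le_M24 hl)) (K_le_M24 hk), fun i => ?_⟩, ?_⟩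
  · simp only [Equiv.Perm.mul_apply]
    rw [hk', Equiv.Perm.inv_eq_iff_eq, hl']
  · rintro g ⟨hg, hg'⟩
    apply eq_of_eq_on ha hg (mul_mem (inv_mem (K_le_M24 hl)) (K_le_M24 hk))
    intro i
    simp only [Equiv.Perm.mul_apply]
    rw [hg', hk', eq_comm, Equiv.Perm.inv_eq_iff_eq, hl']

/-- `M24` is 5-transitive. -/
theorem five_transitive (a b : Fin 5 → GolayPt) (ha : Function.Injective a)
    (hb : Function.Injective b) : ∃ g ∈ M24, ∀ i, g (a i) = b i := by
  obtain ⟨k, hk, k0, k1, k2, k3, k4⟩ := exists_map_five a ha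
  obtain ⟨l, hl, l0, l1, l2, l3, l4⟩ := exists_map_five b hb
  refine ⟨l⁻¹ * k, mul_mem (inv_mem (K_le_M24 hl)) (K_le_M24 hk), fun i => ?_⟩
  simp only [Equiv.Perm.mul_apply]
  rw [Equiv.Perm.inv_eq_iff_eq]
  fin_cases i
  · exact k0.trans l0.symm
  · exact k1.trans l1.symm
  · exact k2.trans l2.symm
  · exact k3.trans l3.symm
  · exact k4.trans l4.symm

end Cfsg.Agent.SporadicA.M24Frames
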