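import Cfsg.Agent.SporadicA.Co0Basic
import Cfsg.Agent.SporadicA.SelfCent

/-!
The shift `t ↦ t + 1` as an element of order 23 of `Co0`.  It is self-centralising in the stabiliser
of `(-3, 1^23)` and of `(5, 1^23)`.
-/

set_option autoImplicit false
open Cfsg
open scoped Pointwise

namespace Cfsg.Agent.SporadicA.ConwayShift

open Cfsg.Agent.SporadicA.Co0Basic

/-- The shift in `Co0`. -/
def shift : Co0 := permCo0 tau tau_mem

theorem shift_e8 (i : GolayPt) : shift.1 (e8 i) = e8 (tau i) := permCo0_e8 tau tau_mem i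

theorem tau_pow_apply (n : ℕ) (s : ZMod 23) : (tau ^ n) (some s) = some (s + n) := by
  induction n with
  | zero => simp
  | succ n ih =>
    rw [pow_succ', Equiv.Perm.mul_apply, ih]
    change some (s + n + 1) = _
    push_cast
    rw [add_assoc]

theorem tau_pow_none (n : ℕ) : (tau ^ n) none = none := by
  induction n with
  | zero => simp
  | succ n ih =>
    rw [pow_succ', Equiv.Perm.mul_apply, ih]
    rfl

theorem shift_pow_e8 (n : ℕ) (i : GolayPt) : (shift ^ n).1 (e8 i) = e8 ((tau ^ n) i) := by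
  induction n with
  | zero => simp
  | succ n ih =>
    have h1 : (shift ^ (n + 1)).1 (e8 i) = shift.1 ((shift ^ n).1 (e8 i)) := by
      rw [pow_succ']; rfl
    rw [h1, ih, shift_e8, pow_succ', Equiv.Perm.mul_apply]

theorem e8_injective : Function.Injective e8 := by
  intro i j h
  by_contra hne
  have h1 := congrArg (fun u : leechLattice => (u : GolayPt → ℤ) i) h
  rw [e8_apply, e8_apply, if_pos rfl, if_neg hne] at h1
  norm_num at h1

theorem shift_pow_23 : shift ^ 23 = 1 := by
  apply ext_e8
  intro i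
  rw [shift_pow_e8]
  change _ = e8 i
  rcases i with _ | s
  · rw [tau_pow_none]
  · rw [tau_pow_apply]
    congr 2
    have : ((23 : ℕ) : ZMod 23) = 0 := ZMod.natCast_self 23
    rw [this, add_zero]

theorem shift_ne_one : shift ≠ 1 := by
  intro h
  have h1 : shift.1 (e8 (some 0)) = e8 (some 0) := by rw [h]; rfl
  rw [shift_e8] at h1
  have h2 := e8_injective h1
  change some ((0 : ZMod 23) + 1) = some 0 at h2
  rw [Option.some.injEq] at h2
  revert h2; decide

theorem orderOf_shift : orderOf shift = 23 := by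
  have : Fact (Nat.Prime 23) := ⟨by norm_num⟩
  exact orderOf_eq_prime shift_pow_23 shift_ne_one

/-- The vector `(c, 1^23)`. -/
def uFun (c : ℤ) : GolayPt → ℤ := fun p => if p = none then c else 1

theorem uFun_mem (c : ℤ) (hc : c = -3 ∨ c = 5) : uFun c ∈ leechLattice := by
  apply AddSubgroup.subset_closure
  rcases hc with rfl | rfl
  · exact Cfsg.Spor.mem_leechSet_of_const_mod_four _ 1 1 (by decide) (by decide) (by decide)
  · exact Cfsg.Spor.mem_leechSet_of_const_mod_four _ 1 1 (by decide) (by decide) (by decide)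

/-- The vector `(c, 1^23)` in the lattice. -/
def u (c : ℤ) (hc : c = -3 ∨ c = 5) : leechLattice := ⟨uFun c, uFun_mem c hc⟩

theorem sqNorm_u_neg3 : sqNorm (u (-3) (Or.inl rfl) : GolayPt → ℤ) = 32 := by
  decide

theorem sqNorm_u_5 : sqNorm (u 5 (Or.inr rfl) : GolayPt → ℤ) = 48 := by
  decide

theorem shift_u (c : ℤ) (hc : c = -3 ∨ c = 5) : shift.1 (u c hc) = u c hc := by
  apply Subtype.ext
  funext i
  change uFun c ((tau⁻¹ : Equiv.Perm GolayPt) i) = uFun c i
  rcases i with _ | s
  · rfl
  · rfl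

theorem dot_e8 (v : leechLattice) (i : GolayPt) :
    dotInt (v : GolayPt → ℤ) (e8 i : GolayPt → ℤ) = 8 * (v : GolayPt → ℤ) i := by
  unfold dotInt
  rw [Finset.sum_eq_single i]
  · rw [e8_apply, if_pos rfl, mul_comm]
  · intro b _ hb
    rw [e8_apply, if_neg hb, mul_zero]
  · intro h; exact absurd (Finset.mem_univ i) h

theorem sqNorm_e8 (i : GolayPt) : sqNorm (e8 i : GolayPt → ℤ) = 64 := by
  unfold sqNorm
  rw [Finset.sum_eq_single i]
  · rw [e8_apply, if_pos rfl]; norm_num
  · intro b _ hb
    rw [e8_apply, if_neg hb]; norm_num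
  · intro h; exact absurd (Finset.mem_univ i) h

/-- A vector fixed by the shift is constant on the residues. -/
theorem const_of_shift_fixed (v : leechLattice) (h : shift.1 v = v) (s : ZMod 23) :
    (v : GolayPt → ℤ) (some s) = (v : GolayPt → ℤ) (some 0) := by
  have h1 : ∀ t : ZMod 23, (v : GolayPt → ℤ) (some (t + 1)) = (v : GolayPt → ℤ) (some t) := by
    intro t
    have h2 := congrArg (fun w : leechLattice => (w : GolayPt → ℤ) (some (t + 1))) h
    change (v : GolayPt → ℤ) ((tau⁻¹ : Equiv.Perm GolayPt) (some (t + 1))) = _ at h2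
    rw [tau_symm_some] at h2
    exact h2.symm
  have h3 : ∀ n : ℕ, (v : GolayPt → ℤ) (some (n : ZMod 23)) = (v : GolayPt → ℤ) (some 0) := by
    intro n
    induction n with
    | zero => simp
    | succ n ih => push_cast; rw [h1, ih]
  have := h3 s.val
  rwa [ZMod.natCast_zmod_val] at this

theorem sum_option (f : GolayPt → ℤ) : ∑ p, f p = f none + ∑ s : ZMod 23, f (some s) :=
  Fintype.sum_option f

/-- A fixed vector of norm 64 is `± 8 e_∞`. -/
theorem fixed_norm64 (v : leechLattice) (h : shift.1 v = v)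
    (hn : sqNorm (v : GolayPt → ℤ) = 64) :
    (∀ s : ZMod 23, (v : GolayPt → ℤ) (some s) = 0) ∧
      ((v : GolayPt → ℤ) none = 8 ∨ (v : GolayPt → ℤ) none = -8) := by
  have h1 := const_of_shift_fixed v h
  set a := (v : GolayPt → ℤ) none with ha
  set b := (v : GolayPt → ℤ) (some 0) with hb
  have h2 : a ^ 2 + 23 * b ^ 2 = 64 := by
    unfold sqNorm at hn
    rw [sum_option] at hn
    simp only [h1] at hn
    rw [Finset.sum_const, Finset.card_univ, ZMod.card, nsmul_eq_mul] at hn
    rw [← hn]
    push_cast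
    ring
  have hb1 : b ≤ 1 := by nlinarith [sq_nonneg a, sq_nonneg (b - 1)]
  have hb2 : -1 ≤ b := by nlinarith [sq_nonneg a, sq_nonneg (b + 1)]
  have ha1 : a ≤ 8 := by nlinarith [sq_nonneg b]
  have ha2 : -8 ≤ a := by nlinarith [sq_nonneg b]
  have hcases : b = -1 ∨ b = 0 ∨ b = 1 := by omega
  rcases hcases with hb' | hb' | hb'
  · exfalso
    rw [hb'] at h2
    have h3 : a ^ 2 = 41 := by linarith
    interval_cases a <;> omega
  · rw [hb'] at h1 h2
    refine ⟨h1, ?_⟩
    have h3 : a ^ 2 = 64 := by linarith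
    have h4 : (a - 8) * (a + 8) = 0 := by linear_combination h3
    rcases mul_eq_zero.1 h4 with h5 | h5
    · left; linarith
    · right; linarith
  · exfalso
    rw [hb'] at h2
    have h3 : a ^ 2 = 41 := by linarith
    interval_cases a <;> omega

theorem dotInt_option (x y : GolayPt → ℤ) :
    dotInt x y = x none * y none + ∑ s : ZMod 23, x (some s) * y (some s) := by
  unfold dotInt
  rw [sum_option]

/-- An element commuting with the shift and fixing `(c, 1^23)` fixes `8 e_∞`. -/
theorem fix_e8_none (c : ℤ) (hc : c = -3 ∨ c = 5) (h : Co0) (hs : Commute h shift)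
    (hu : h.1 (u c hc) = u c hc) : h.1 (e8 none) = e8 none := by
  have h1 : shift.1 (h.1 (e8 none)) = h.1 (e8 none) := by
    have h2 : shift.1 (h.1 (e8 none)) = h.1 (shift.1 (e8 none)) := by
      have := congrArg (fun g : Co0 => g.1 (e8 none)) hs.eq
      exact this.symm
    rw [h2, shift_e8]
    rfl
  have hn : sqNorm (h.1 (e8 none) : GolayPt → ℤ) = 64 := by
    rw [map_sqNorm, sqNorm_e8]
  obtain ⟨h3, h4⟩ := fixed_norm64 _ h1 hn
  have h5 := map_dot h (u c hc) (e8 none)
  rw [hu, dot_e8, dotInt_option] at h5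
  simp only [h3, mul_zero, Finset.sum_const_zero, add_zero] at h5
  have hcc : (u c hc : GolayPt → ℤ) none = c := rfl
  rw [hcc] at h5
  have h6 : (h.1 (e8 none) : GolayPt → ℤ) none = 8 := by
    rcases h4 with h4 | h4
    · exact h4
    · exfalso
      rw [h4] at h5
      rcases hc with rfl | rfl <;> omega
  apply Subtype.ext
  funext i
  rcases i with _ | s
  · rw [h6, e8_apply, if_pos rfl]
  · rw [h3 s, e8_apply, if_neg (by simp)]

/-- `4 e_i + 4 s e_j` is in the lattice. -/
theorem pair4_mem (i j : GolayPt) (s t : ℤ) (hs : s = 4 ∨ s = -4) (ht : t = 4 ∨ t = -4) :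
    (Pi.single i s + Pi.single j t : GolayPt → ℤ) ∈ leechLattice := by
  apply AddSubgroup.subset_closure
  refine Cfsg.Spor.mem_leechSet_of_const_mod_four _ 0 0 (by decide) ?_ ?_
  · intro k
    have h1 : (Pi.single i s : GolayPt → ℤ) k ≡ 0 [ZMOD 4] := by
      by_cases h : k = i
      · subst h
        rw [Pi.single_eq_same]
        rcases hs with rfl | rfl <;> decide
      · rw [Pi.single_eq_of_ne h]
    have h2 : (Pi.single j t : GolayPt → ℤ) k ≡ 0 [ZMOD 4] := by
      by_cases h : k = j
      · subst h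
        rw [Pi.single_eq_same]
        rcases ht with rfl | rfl <;> decide
      · rw [Pi.single_eq_of_ne h]
    simpa using h1.add h2
  · simp only [Pi.add_apply, Finset.sum_add_distrib, Finset.sum_pi_single', Finset.mem_univ,
      if_true]
    rcases hs with rfl | rfl <;> rcases ht with rfl | rfl <;> decide

theorem e8_sub_e8 (i j : GolayPt) : ∃ z : leechLattice, e8 i - e8 j = z + z := by
  refine ⟨⟨_, pair4_mem i j 4 (-4) (Or.inl rfl) (Or.inr rfl)⟩, ?_⟩
  apply Subtype.ext
  funext k
  simp only [AddSubgroup.coe_sub, AddSubgroup.coe_add, Pi.sub_apply, Pi.add_apply, e8_apply,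
    Pi.single_apply]
  split_ifs <;> norm_num

theorem e8_add_e8 (i j : GolayPt) : ∃ z : leechLattice, e8 i + e8 j = z + z := by
  refine ⟨⟨_, pair4_mem i j 4 4 (Or.inl rfl) (Or.inl rfl)⟩, ?_⟩
  apply Subtype.ext
  funext k
  simp only [AddSubgroup.coe_add, Pi.add_apply, e8_apply, Pi.single_apply]
  split_ifs <;> norm_num

theorem sqNorm_double (z : leechLattice) :
    sqNorm ((z + z : leechLattice) : GolayPt → ℤ) = 4 * sqNorm (z : GolayPt → ℤ) := by
  unfold sqNorm
  rw [Finset.mul_sum]
  refine Finset.sum_congr rfl fun i _ => ?_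
  simp only [AddSubgroup.coe_add, Pi.add_apply]
  ring

/-- The vectors of norm 64 congruent to `8 e_∞` modulo `2Λ` are `± 8 e_j`. -/
theorem eq_e8_of_congr (hmin : ∀ x : GolayPt → ℤ, x ∈ leechLattice → x ≠ 0 → 32 ≤ sqNorm x)
    (y : leechLattice) (hn : sqNorm (y : GolayPt → ℤ) = 64)
    (hz : ∃ z : leechLattice, y - e8 none = z + z) : ∃ j, y = e8 j ∨ y = - e8 j := by
  by_contra hcon
  push Not at hcon
  have hall : ∀ j, (y : GolayPt → ℤ) j = 0 := by
    intro j
    -- y - e8 j and y + e8 j are in 2Λ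
    obtain ⟨z0, hz0⟩ := hz
    have key : ∀ w : leechLattice, (∃ z : leechLattice, w = z + z) → w ≠ 0 →
        128 ≤ sqNorm (w : GolayPt → ℤ) := by
      rintro w ⟨z, rfl⟩ hw
      rw [sqNorm_double]
      have hz : (z : GolayPt → ℤ) ≠ 0 := by
        intro h
        apply hw
        have : z = 0 := Subtype.ext h
        rw [this, add_zero]
      have := hmin _ z.2 hz
      linarith
    have h1 : 128 ≤ sqNorm ((y - e8 j : leechLattice) : GolayPt → ℤ) := by
      apply key
      · obtain ⟨z1, hz1⟩ := e8_sub_e8 none j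
        refine ⟨z0 + z1, ?_⟩
        calc y - e8 j = (y - e8 none) + (e8 none - e8 j) := by abel
          _ = _ := by rw [hz0, hz1]; abel
      · intro h
        exact (hcon j).1 (sub_eq_zero.1 h)
    have h2 : 128 ≤ sqNorm ((y + e8 j : leechLattice) : GolayPt → ℤ) := by
      apply key
      · obtain ⟨z1, hz1⟩ := e8_add_e8 none j
        refine ⟨z0 + z1, ?_⟩
        calc y + e8 j = (y - e8 none) + (e8 none + e8 j) := by abel
          _ = _ := by rw [hz0, hz1]; abel
      · intro h
        exact (hcon j).2 (eq_neg_of_add_eq_zero_left h)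
    have h3 : sqNorm ((y + e8 j : leechLattice) : GolayPt → ℤ) =
        64 + 64 + 2 * (8 * (y : GolayPt → ℤ) j) := by
      have := sqNorm_add (y : GolayPt → ℤ) (e8 j : GolayPt → ℤ)
      rw [hn, sqNorm_e8, dot_e8] at this
      exact this
    have h4 : sqNorm ((y - e8 j : leechLattice) : GolayPt → ℤ) =
        64 + 64 - 2 * (8 * (y : GolayPt → ℤ) j) := by
      have := sqNorm_add ((y - e8 j : leechLattice) : GolayPt → ℤ) (e8 j : GolayPt → ℤ)
      rw [dot_e8, sqNorm_e8] at this
      have h5 : ((y - e8 j : leechLattice) : GolayPt → ℤ) + (e8 j : GolayPt → ℤ) = y := by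
        funext k
        simp
      rw [h5, hn] at this
      have h6 : ((y - e8 j : leechLattice) : GolayPt → ℤ) j = (y : GolayPt → ℤ) j - 8 := by
        simp only [AddSubgroup.coe_sub, Pi.sub_apply, e8_apply, if_true]
      rw [h6] at this
      linarith
    rw [h3] at h2
    rw [h4] at h1
    linarith
  have : sqNorm (y : GolayPt → ℤ) = 0 := by
    unfold sqNorm
    apply Finset.sum_eq_zero
    intro i _
    rw [hall i]; norm_num
  rw [hn] at this
  norm_num at this

/-- **The shift is self-centralising** in the stabiliser of `(c, 1^23)`. -/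
theorem mem_zpowers_shift (hmin : ∀ x : GolayPt → ℤ, x ∈ leechLattice → x ≠ 0 → 32 ≤ sqNorm x)
    (c : ℤ) (hc : c = -3 ∨ c = 5) (h : Co0) (hs : Commute h shift)
    (hu : h.1 (u c hc) = u c hc) : ∃ n : ℕ, h = shift ^ n := by
  have hnone := fix_e8_none c hc h hs hu
  obtain ⟨z, hz⟩ := e8_sub_e8 (some 0) none
  have h1 : h.1 (e8 (some 0)) - e8 none = h.1 z + h.1 z := by
    have h2 : h.1 (e8 (some 0) - e8 none) = h.1 (z + z) := by rw [hz]
    rw [map_add] at h2
    have h3 : h.1 (e8 (some 0) - e8 none) = h.1 (e8 (some 0)) - h.1 (e8 none) :=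
      (toHom h).map_sub _ _
    rw [h3, hnone] at h2
    exact h2
  have hn : sqNorm (h.1 (e8 (some 0)) : GolayPt → ℤ) = 64 := by rw [map_sqNorm, sqNorm_e8]
  obtain ⟨j, hj⟩ := eq_e8_of_congr hmin _ hn ⟨_, h1⟩
  have h5 := map_dot h (u c hc) (e8 (some 0))
  rw [hu, dot_e8] at h5
  have hu0 : (u c hc : GolayPt → ℤ) (some 0) = 1 := rfl
  have hun : (u c hc : GolayPt → ℤ) none = c := rfl
  rw [hu0] at h5
  have hj' : ∃ t : ZMod 23, h.1 (e8 (some 0)) = e8 (some t) := by
    rcases hj with hj | hj
    · rw [hj, dot_e8] at h5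
      rcases j with _ | t
      · rw [hun] at h5
        exfalso
        rcases hc with rfl | rfl <;> omega
      · exact ⟨t, hj⟩
    · rw [hj] at h5
      have h6 : dotInt (u c hc : GolayPt → ℤ) ((- e8 j : leechLattice) : GolayPt → ℤ) =
          - (8 * (u c hc : GolayPt → ℤ) j) := by
        rw [← dot_e8]
        unfold dotInt
        rw [← Finset.sum_neg_distrib]
        refine Finset.sum_congr rfl fun i _ => ?_
        simp
      rw [h6] at h5
      exfalso
      rcases j with _ | t
      · rw [hun] at h5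
        rcases hc with rfl | rfl <;> omega
      · have hut : (u c hc : GolayPt → ℤ) (some t) = 1 := rfl
        rw [hut] at h5
        omega
  obtain ⟨t, ht⟩ := hj'
  have hcomm : ∀ v : leechLattice, h.1 (shift.1 v) = shift.1 (h.1 v) := by
    intro v
    exact congrArg (fun g : Co0 => g.1 v) hs.eq
  have hall : ∀ n : ℕ, h.1 (e8 (some (n : ZMod 23))) = e8 (some (t + n)) := by
    intro n
    induction n with
    | zero => simpa using ht
    | succ n ih =>
      have h7 : e8 (some ((n + 1 : ℕ) : ZMod 23)) = shift.1 (e8 (some (n : ZMod 23))) := by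
        rw [shift_e8]
        push_cast
        rfl
      rw [h7, hcomm, ih, shift_e8]
      change e8 (some (t + n + 1)) = _
      push_cast
      rw [add_assoc]
  refine ⟨t.val, ?_⟩
  apply ext_e8
  intro i
  rw [shift_pow_e8]
  rcases i with _ | s
  · rw [tau_pow_none, hnone]
  · rw [tau_pow_apply]
    have h8 := hall s.val
    rw [ZMod.natCast_zmod_val] at h8
    rw [h8, ZMod.natCast_zmod_val, add_comm]

/-- The shift as an element of the stabiliser. -/
def shiftStab (c : ℤ) (hc : c = -3 ∨ c = 5) : MulAction.stabilizer Co0 (u c hc) :=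
  ⟨shift, shift_u c hc⟩

theorem orderOf_shiftStab (c : ℤ) (hc : c = -3 ∨ c = 5) : orderOf (shiftStab c hc) = 23 := by
  rw [← Subgroup.orderOf_coe]
  exact orderOf_shift

theorem shiftStab_selfCent
    (hmin : ∀ x : GolayPt → ℤ, x ∈ leechLattice → x ≠ 0 → 32 ≤ sqNorm x)
    (c : ℤ) (hc : c = -3 ∨ c = 5) (z : MulAction.stabilizer Co0 (u c hc))
    (hz : Commute z (shiftStab c hc)) : z ∈ Subgroup.zpowers (shiftStab c hc) := by
  have h1 : Commute (z : Co0) shift := by
    have := congrArg (Subtype.val) hz.eq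
    exact this
  obtain ⟨n, hn⟩ := mem_zpowers_shift hmin c hc z.1 h1 z.2
  rw [Subgroup.mem_zpowers_iff]
  refine ⟨n, ?_⟩
  apply Subtype.ext
  rw [zpow_natCast, hn]
  rfl

end Cfsg.Agent.SporadicA.ConwayShift
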