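import Mathlib
import Cfsg.Prelude.Def_Sporadic_a
import Cfsg.Agent.S0359
import Cfsg.Agent.S0363

/-!
Intersections of octads with dodecads in the length-24 code built from the squares modulo 23.
-/

set_option autoImplicit false
open Cfsg

namespace Cfsg.Agent.SporadicA.Dodecad

open Finset

theorem mem_support₂ {α : Type*} [Fintype α] (w : α → ZMod 2) (a : α) :
    a ∈ support₂ w ↔ w a ≠ 0 := by
  show a ∈ Finset.univ.filter (fun a => w a ≠ 0) ↔ _
  simp

theorem zmod2_add_ne_zero : ∀ a b : ZMod 2, a + b ≠ 0 ↔ (a ≠ 0 ∧ ¬ b ≠ 0) ∨ (b ≠ 0 ∧ ¬ a ≠ 0) := by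
  decide

theorem support₂_add {α : Type*} [Fintype α] [DecidableEq α] (v w : α → ZMod 2) :
    support₂ (v + w) = symmDiff (support₂ v) (support₂ w) := by
  ext a
  rw [mem_support₂, Finset.mem_symmDiff, mem_support₂, mem_support₂]
  exact zmod2_add_ne_zero (v a) (w a)

theorem symmDiff_mem_supports {b c : Finset GolayPt}
    (hb : b ∈ supports (golayCode : Set (GolayPt → ZMod 2)))
    (hc : c ∈ supports (golayCode : Set (GolayPt → ZMod 2))) :
    symmDiff b c ∈ supports (golayCode : Set (GolayPt → ZMod 2)) := by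
  obtain ⟨v, hv, rfl⟩ := hb
  obtain ⟨w, hw, rfl⟩ := hc
  exact ⟨v + w, golayCode.add_mem hv hw, support₂_add v w⟩

theorem one_mem_golayCode : (1 : GolayPt → ZMod 2) ∈ golayCode :=
  Submodule.subset_span (Or.inr rfl)

theorem univ_mem_supports :
    (Finset.univ : Finset GolayPt) ∈ supports (golayCode : Set (GolayPt → ZMod 2)) := by
  refine ⟨1, one_mem_golayCode, ?_⟩
  ext a
  rw [mem_support₂]
  simp

theorem compl_mem_supports {b : Finset GolayPt}
    (hb : b ∈ supports (golayCode : Set (GolayPt → ZMod 2))) :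
    bᶜ ∈ supports (golayCode : Set (GolayPt → ZMod 2)) := by
  have h := symmDiff_mem_supports univ_mem_supports hb
  have h2 : symmDiff (Finset.univ : Finset GolayPt) b = bᶜ := by
    ext a
    rw [Finset.mem_symmDiff, Finset.mem_compl]
    simp
  rwa [h2] at h

theorem card_mem_supports {b : Finset GolayPt}
    (hb : b ∈ supports (golayCode : Set (GolayPt → ZMod 2))) :
    b.card = 0 ∨ b.card = 8 ∨ b.card = 12 ∨ b.card = 16 ∨ b.card = 24 := by
  obtain ⟨v, hv, rfl⟩ := hb
  have h := Cfsg.Agent.S0359.result v hv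
  have h2 : (support₂ v).card = hammingNorm v := by
    rw [hammingNorm]
    congr 1
  rw [h2]
  exact h

theorem card_golayPt : Fintype.card GolayPt = 24 := by
  simp [GolayPt, ZMod.card]

theorem compl_dodecad {d : Finset GolayPt} (hd : d ∈ dodecads) : dᶜ ∈ dodecads := by
  refine ⟨compl_mem_supports hd.1, ?_⟩
  rw [Finset.card_compl, card_golayPt, hd.2]

/-- An octad meets a dodecad in 2, 4 or 6 points. -/
theorem octad_inter_dodecad {o d : Finset GolayPt} (ho : o ∈ octads) (hd : d ∈ dodecads) :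
    (o ∩ d).card = 2 ∨ (o ∩ d).card = 4 ∨ (o ∩ d).card = 6 := by
  have ho2 : o.card = 8 := ho.2
  have hd2 : d.card = 12 := hd.2
  have h := card_mem_supports (symmDiff_mem_supports ho.1 hd.1)
  have h1 : (symmDiff o d).card = (o \ d).card + (d \ o).card := by
    rw [show symmDiff o d = (o \ d) ∪ (d \ o) from rfl,
      Finset.card_union_of_disjoint disjoint_sdiff_sdiff]
  have h2 := Finset.card_sdiff_add_card_inter o d
  have h3 := Finset.card_sdiff_add_card_inter d o
  rw [Finset.inter_comm d o] at h3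
  omega

/-- Two octads sharing five points are equal. -/
theorem octad_eq_of_five {o o' s : Finset GolayPt} (ho : o ∈ octads) (ho' : o' ∈ octads)
    (hs : 5 ≤ s.card) (h : s ⊆ o) (h' : s ⊆ o') : o = o' := by
  obtain ⟨t, hts, ht⟩ := Finset.exists_subset_card_eq hs
  have hS := Cfsg.Agent.S0363.result.2 t ht
  exact hS.unique ⟨ho, hts.trans h⟩ ⟨ho', hts.trans h'⟩

/-- The hexads cut out on a dodecad by the octads meeting it in six points. -/
def hexads (d : Finset GolayPt) : Set (Finset {p : GolayPt // p ∈ d}) :=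
  {h | ∃ o ∈ octads, (o ∩ d).card = 6 ∧ h = Finset.subtype (fun p => p ∈ d) o}

theorem card_subtype_inter (o d : Finset GolayPt) :
    (Finset.subtype (fun p => p ∈ d) o).card = (o ∩ d).card := by
  rw [Finset.card_subtype, Finset.filter_mem_eq_inter]

/-- The hexads of a dodecad form a Steiner system S(5,6,12). -/
theorem hexads_steiner (d : Finset GolayPt) (hd : d ∈ dodecads) :
    IsSteinerSystem 5 6 (hexads d) := by
  refine ⟨?_, ?_⟩
  · rintro b ⟨o, ho, hod, rfl⟩
    rw [card_subtype_inter, hod]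
  · intro s hs
    obtain ⟨o, ⟨ho, hso⟩, hu⟩ := Cfsg.Agent.S0363.result.2 (s.map (Function.Embedding.subtype _))
      (by rw [Finset.card_map, hs])
    have hsub : s.map (Function.Embedding.subtype _) ⊆ o ∩ d := by
      intro x hx
      refine Finset.mem_inter.2 ⟨hso hx, ?_⟩
      obtain ⟨y, -, rfl⟩ := Finset.mem_map.1 hx
      exact y.2
    have h5 : 5 ≤ (o ∩ d).card := by
      have := Finset.card_le_card hsub
      rwa [Finset.card_map, hs] at this
    have h6 : (o ∩ d).card = 6 := by
      rcases octad_inter_dodecad ho hd with h | h | h <;> omega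
    refine ⟨Finset.subtype (fun p => p ∈ d) o, ⟨⟨o, ho, h6, rfl⟩, ?_⟩, ?_⟩
    · intro x hx
      rw [Finset.mem_subtype]
      exact hso (Finset.mem_map_of_mem _ hx)
    · rintro b ⟨⟨o', ho', -, rfl⟩, hsb⟩
      have : o' = o := by
        refine hu o' ⟨ho', ?_⟩
        intro x hx
        obtain ⟨y, hy, rfl⟩ := Finset.mem_map.1 hx
        exact Finset.mem_subtype.1 (hsb hy)
      rw [this]

end Cfsg.Agent.SporadicA.Dodecad
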