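/-
The Norton trick for `N` the normaliser of a Sylow subgroup of prime order `p = 2 e + 1`, `|N| = p e`.
-/
import Mathlib
import Cfsg.Agent.SporadicA.NortonTrick

set_option autoImplicit false

open scoped ComplexConjugate
open Cfsg

namespace Cfsg.Agent.SporadicA.NortonCor

universe u

variable {G : Type u} [Group G] [Fintype G]

/-- Sum over the normaliser of a Sylow subgroup of order `p` of a function which is constant on the
nonidentity elements of `P` and on the elements outside `P`. -/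
theorem sum_normalizer {p e : ℕ} (P N : Subgroup G) [Fintype N] (hP : Nat.card P = p)
    (hN : Nat.card N = p * e) (hPN : P ≤ N)
    (f : G → ℂ) (a b c : ℂ) (ha : f 1 = a) (hb : ∀ x ∈ P, x ≠ 1 → f x = b)
    (hc : ∀ y ∈ N, y ∉ P → f y = c) :
    ∑ m : N, f m = a + (p - 1) * b + (p * e - p) * c := by
  classical
  have key : ∀ m : N, f m = c + ((if (m : G) ∈ P then b - c else 0) + (if m = 1 then a - b else 0)) := by
    intro m
    by_cases h1 : m = 1
    · subst h1
      have : ((1 : N) : G) ∈ P := by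
        rw [Subgroup.coe_one]; exact Subgroup.one_mem _
      rw [if_pos this, if_pos rfl, Subgroup.coe_one, ha]
      ring
    · rw [if_neg h1]
      by_cases h2 : (m : G) ∈ P
      · rw [if_pos h2, hb m h2 (fun h => h1 (Subtype.ext h))]
        ring
      · rw [if_neg h2, hc m m.2 h2]
        ring
  have c1 : (Finset.univ.filter (fun m : N => (m : G) ∈ P)).card = p := by
    have : (Finset.univ.filter (fun m : N => (m : G) ∈ P)).card = Fintype.card P := by
      refine Finset.card_bij' (fun m hm => (⟨(m : G), (Finset.mem_filter.mp hm).2⟩ : P))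
        (fun x _ => ⟨(x : G), hPN x.2⟩) ?_ ?_ ?_ ?_
      · intro m hm; exact Finset.mem_univ _
      · intro x _; exact Finset.mem_filter.mpr ⟨Finset.mem_univ _, x.2⟩
      · intro m hm; rfl
      · intro x _; rfl
    rw [this, ← Nat.card_eq_fintype_card, hP]
  have c2 : (Finset.univ.filter (fun m : N => m = 1)).card = 1 := by
    rw [Finset.filter_eq' Finset.univ (1 : N), if_pos (Finset.mem_univ _), Finset.card_singleton]
  have c3 : (Finset.univ : Finset N).card = p * e := by
    rw [Finset.card_univ, ← Nat.card_eq_fintype_card, hN]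
  rw [Finset.sum_congr rfl (fun m _ => key m)]
  rw [Finset.sum_add_distrib, Finset.sum_add_distrib, Finset.sum_const, c3, ← Finset.sum_filter, Finset.sum_const,
    ← Finset.sum_filter, Finset.sum_const, c1, c2]
  simp only [nsmul_eq_mul, Nat.cast_mul, one_smul]
  ring

/-- **Norton trick**, Sylow version. -/
theorem exists_index_of_normalizer {p e : ℕ} [Fact p.Prime] (hpe : p = 2 * e + 1) (he : Odd e) (hp4 : 4 ≤ p)
    (P : Sylow p G) (hP : Nat.card P = p)
    (hN : Nat.card (Subgroup.normalizer ((P : Subgroup G) : Set G)) = p * e)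
    (S : Set (G → ℂ)) (hne : S.Nonempty) (hirr : ∀ χ ∈ S, IsIrrCharacter G χ)
    (hreal : ∀ χ ∈ S, ∀ g, conj (χ g) = χ g) (hdeg : ∀ χ ∈ S, χ 1 = p)
    (h0 : ∀ χ ∈ S, ∀ x ∈ (P : Subgroup G), x ≠ 1 → χ x = 0)
    (h1 : ∀ χ ∈ S, ∀ y ∈ Subgroup.normalizer ((P : Subgroup G) : Set G), y ∉ (P : Subgroup G) → χ y = 1)
    (hS : ∀ χ ∈ S, ∃ ψ ∈ S, ∑ g : G, (χ g ^ 2 + χ (g * g)) * ψ g ≠ 0) :
    ∃ H : Subgroup G, Subgroup.normalizer ((P : Subgroup G) : Set G) ≤ H ∧ H.index = p + 1 := by
  classical
  have hp : p.Prime := Fact.out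
  set N := Subgroup.normalizer ((P : Subgroup G) : Set G) with hNdef
  have : Fintype N := Fintype.ofFinite N
  have hPN : (P : Subgroup G) ≤ N := Subgroup.le_normalizer
  have hp' : (p : ℂ) = 2 * e + 1 := by exact_mod_cast hpe
  -- squares
  have hsqP : ∀ x ∈ (P : Subgroup G), x ≠ 1 → x * x ≠ 1 := by
    intro x hx hx1 hxx
    have ho : orderOf x ∣ 2 := orderOf_dvd_of_pow_eq_one (by rw [sq]; exact hxx)
    have ho2 : orderOf x ∣ p := by
      rw [← hP, ← Subgroup.orderOf_mk x hx]
      exact orderOf_dvd_natCard _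
    have hodd : Nat.Coprime 2 p := by
      rw [Nat.coprime_primes Nat.prime_two hp]; omega
    have : orderOf x ∣ 1 := by
      rw [← Nat.Coprime.gcd_eq_one hodd]; exact Nat.dvd_gcd ho ho2
    exact hx1 (orderOf_eq_one_iff.mp (Nat.dvd_one.mp this))
  have hsqN : ∀ y ∈ N, y ∉ (P : Subgroup G) → y * y ∉ (P : Subgroup G) := by
    intro y hy hyP hyy
    -- y has odd order
    have hodd : Odd (orderOf y) := by
      have h3 : orderOf y ∣ p * e := by
        rw [← hN, ← Subgroup.orderOf_mk y hy]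
        exact orderOf_dvd_natCard _
      have h4 : Odd (p * e) := by
        apply Odd.mul _ he
        rw [hpe]; exact ⟨e, rfl⟩
      exact h4.of_dvd_nat h3
    obtain ⟨k, hk⟩ := hodd
    apply hyP
    have : y = (y * y) ^ (k + 1) := by
      rw [← sq, ← pow_mul, show 2 * (k + 1) = orderOf y + 1 by omega, pow_succ, pow_orderOf_eq_one, one_mul]
    rw [this]
    exact Subgroup.pow_mem _ hyy _
  refine NortonTrick.exists_subgroup_index N p hp4 S hne hirr hreal hdeg ?_ ?_ hS
  · intro χ hχ
    rw [sum_normalizer (P : Subgroup G) N hP hN hPN χ p 0 1 (hdeg χ hχ) (h0 χ hχ) (h1 χ hχ), hN]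
    push_cast
    ring
  · intro χ hχ
    rw [sum_normalizer (P : Subgroup G) N hP hN hPN (fun g => χ g ^ 2 + χ (g * g)) (p ^ 2 + p) 0 2 ?_ ?_ ?_, hN]
    · push_cast
      rw [hp']
      ring
    · simp [hdeg χ hχ]
    · intro x hx hx1
      rw [h0 χ hχ x hx hx1, h0 χ hχ (x * x) (Subgroup.mul_mem _ hx hx) (hsqP x hx hx1)]
      ring
    · intro y hy hyP
      rw [h1 χ hχ y hy hyP, h1 χ hχ (y * y) (Subgroup.mul_mem _ hy hy) (hsqN y hy hyP)]
      norm_num

end Cfsg.Agent.SporadicA.NortonCor
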