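import Cfsg.Agent.SporadicA.Cand24
import Cfsg.Agent.S0364
import Cfsg.Agent.S0374

/-!
A simple group of order 244823040 with a subgroup of index 24 is isomorphic to the Mathieu group M24.

The group acts on 24 points and contains the translation of the projective line over `ZMod 23`; by
Sylow's theorem it contains `x ↦ 2 x`, an element normalizing `⟨x ↦ 2 x⟩` and fixing 0 and
infinity, and one exchanging them. A kernel-checked table of words shows that all but the Mathieu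
candidates generate groups with elements of order 13, 17 or 19.
-/

set_option autoImplicit false

namespace Cfsg.Agent.SporadicA.M24OfIndex

open Equiv Equiv.Perm MulAction Cfsg.Agent.SporadicA.DegPOne Cfsg.Agent.SporadicA.Cand24

/-- words for the candidates fixing infinity: (a, s, b, word, cycle length, point) -/
def tabH : List (ℕ × ℕ × ℕ × List ℕ × ℕ × ℕ) :=
  [(1, 0, 1, [0, 2, 2, 2], 13, 0), (1, 0, 2, [0, 1, 2, 2], 13, 4), (1, 0, 3, [0, 2], 13, 0), 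
   (1, 0, 4, [0, 1, 2], 13, 4), (1, 0, 5, [0, 1, 1, 0, 2], 13, 0), 
   (1, 0, 6, [0, 1, 2, 0, 2], 17, 0), (1, 0, 7, [0, 2, 2], 13, 0), (1, 0, 8, [0, 2], 19, 0), 
   (1, 0, 9, [0, 2], 13, 0), (1, 0, 10, [0, 2, 2], 13, 0), (1, 1, 1, [0, 1, 1, 2], 17, 3), 
   (1, 1, 2, [0, 1, 1, 1, 2], 19, 0), (1, 1, 3, [0, 2], 13, 2), 
   (1, 1, 4, [0, 0, 2, 0, 2], 19, 0), (1, 1, 5, [0, 1, 2, 2, 2], 17, 0), 
   (1, 1, 6, [0, 1, 1, 2], 19, 0), (1, 1, 7, [0, 0, 2, 0, 2], 19, 0), (1, 1, 8, [0, 2], 13, 2), 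
   (1, 1, 9, [0, 1, 1, 2], 17, 0), (1, 1, 10, [0, 1, 2, 0, 2], 17, 0), 
   (2, 0, 0, [0, 1, 2, 2], 13, 4), (2, 0, 1, [0, 2, 1], 13, 0), (2, 0, 2, [0, 2], 19, 0), 
   (2, 0, 3, [0, 2], 13, 0), (2, 0, 4, [0, 0, 2], 19, 0), (2, 0, 5, [0, 2, 1], 13, 0), 
   (2, 0, 6, [0, 2], 13, 0), (2, 0, 7, [0, 2, 1, 2], 13, 0), (2, 0, 8, [0, 0, 0, 2, 1], 13, 0), 
   (2, 0, 9, [0, 2, 2], 17, 0), (2, 0, 10, [0, 0, 2], 13, 0), (2, 1, 0, [0, 1, 2, 2], 13, 4), 
   (2, 1, 1, [0, 2], 19, 2), (2, 1, 2, [0, 2, 2, 2], 13, 2), (2, 1, 3, [0, 0, 2, 1], 13, 4), 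
   (2, 1, 4, [0, 2, 1, 1, 1], 13, 0), (2, 1, 5, [0, 0, 2], 13, 0), (2, 1, 6, [0, 2], 17, 4), 
   (2, 1, 7, [0, 0, 2, 0, 2], 13, 0), (2, 1, 8, [0, 1, 2, 2], 17, 2), 
   (2, 1, 9, [0, 0, 2], 17, 0), (2, 1, 10, [0, 0, 2, 2], 13, 0), (3, 0, 0, [0, 1, 2], 17, 2), 
   (3, 0, 2, [0, 0, 2], 19, 1), (3, 0, 3, [0, 2, 2], 19, 0), (3, 0, 4, [0, 2], 19, 0), 
   (3, 0, 5, [0, 2, 2], 13, 0), (3, 0, 6, [0, 2], 17, 3), (3, 0, 7, [0, 1, 2, 1], 19, 0), 
   (3, 0, 8, [0, 1, 2, 2], 13, 2), (3, 0, 9, [0, 2], 17, 0), (3, 1, 0, [0, 2], 17, 3), 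
   (3, 1, 1, [0, 1, 2, 1], 13, 0), (3, 1, 2, [0, 2, 2, 2], 19, 0), (3, 1, 3, [0, 2], 13, 3), 
   (3, 1, 4, [0, 1, 2, 1], 17, 0), (3, 1, 5, [0, 2, 2], 13, 0), (3, 1, 6, [0, 0, 2], 17, 0), 
   (3, 1, 7, [0, 0, 0, 2], 17, 0), (3, 1, 8, [0, 2, 1], 13, 0), 
   (3, 1, 9, [0, 1, 2, 0, 2], 17, 0), (3, 1, 10, [0, 1, 2], 19, 0), (4, 0, 0, [0, 1, 2], 13, 4), 
   (4, 0, 1, [0, 1, 2], 19, 0), (4, 0, 2, [0, 1, 2, 2], 13, 0), (4, 0, 3, [0, 2, 2], 13, 0), 
   (4, 0, 5, [0, 2], 17, 0), (4, 0, 6, [0, 2], 19, 0), (4, 0, 8, [0, 2, 2], 17, 0), 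
   (4, 0, 9, [0, 2, 2, 2], 13, 0), (4, 0, 10, [0, 2, 2], 13, 3), (4, 1, 0, [0, 2], 17, 3), 
   (4, 1, 1, [0, 1, 2], 13, 0), (4, 1, 2, [0, 2, 2], 13, 0), (4, 1, 3, [0, 2, 2, 2], 19, 0), 
   (4, 1, 4, [0, 0, 2, 1], 19, 0), (4, 1, 5, [0, 0, 0, 2], 17, 0), 
   (4, 1, 6, [0, 1, 2, 2], 13, 2), (4, 1, 7, [0, 2, 2, 1], 13, 0), (4, 1, 8, [0, 2, 1], 13, 0), 
   (4, 1, 9, [0, 0, 2], 17, 0), (4, 1, 10, [0, 2], 13, 3), (5, 0, 0, [0, 1, 2, 2], 17, 2), 
   (5, 0, 1, [0, 2, 2], 17, 3), (5, 0, 3, [0, 0, 2, 1], 19, 0), (5, 0, 4, [0, 2], 13, 0), 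
   (5, 0, 5, [0, 2, 1], 19, 0), (5, 0, 6, [0, 2], 13, 3), (5, 0, 7, [0, 2], 17, 0), 
   (5, 0, 8, [0, 1, 2], 19, 0), (5, 0, 10, [0, 1, 2], 13, 0), (5, 1, 0, [0, 2], 19, 2), 
   (5, 1, 1, [0, 0, 2], 19, 0), (5, 1, 2, [0, 2], 13, 2), (5, 1, 3, [0, 1, 2, 1], 19, 0), 
   (5, 1, 4, [0, 2], 19, 2), (5, 1, 5, [0, 1, 2], 13, 2), (5, 1, 6, [0, 0, 2, 1, 2], 19, 1), 
   (5, 1, 7, [0, 0, 0, 2], 13, 0), (5, 1, 8, [0, 1, 2], 13, 0), (5, 1, 9, [0, 1, 2], 17, 0), 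
   (5, 1, 10, [0, 2, 1, 2], 19, 0), (6, 0, 0, [0, 1, 2, 2], 17, 2), (6, 0, 1, [0, 2, 1], 13, 2), 
   (6, 0, 2, [0, 1, 2], 17, 0), (6, 0, 3, [0, 0, 2], 19, 0), (6, 0, 4, [0, 2, 2], 17, 3), 
   (6, 0, 5, [0, 2], 13, 0), (6, 0, 6, [0, 2], 13, 3), (6, 0, 7, [0, 0, 0, 2], 19, 1), 
   (6, 0, 8, [0, 1, 1, 2], 13, 0), (6, 0, 9, [0, 0, 2, 1, 2], 13, 0), 
   (6, 0, 10, [0, 2, 2], 19, 0), (6, 1, 0, [0, 2, 1], 17, 0), (6, 1, 1, [0, 0, 2], 17, 0), 
   (6, 1, 2, [0, 0, 2, 0, 2], 13, 0), (6, 1, 3, [0, 0, 2], 13, 0), (6, 1, 4, [0, 1, 2], 13, 0), 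
   (6, 1, 5, [0, 2], 19, 2), (6, 1, 6, [0, 2, 1], 13, 0), (6, 1, 7, [0, 2, 1, 2], 19, 2), 
   (6, 1, 8, [0, 2], 17, 2), (6, 1, 9, [0, 1, 0, 2], 13, 0), (6, 1, 10, [0, 1, 2, 2], 17, 3), 
   (7, 0, 0, [0, 0, 2], 17, 0), (7, 0, 1, [0, 2], 19, 0), (7, 0, 2, [0, 1, 2], 13, 0), 
   (7, 0, 3, [0, 1, 2], 17, 0), (7, 0, 4, [0, 0, 2], 17, 1), (7, 0, 5, [0, 2, 2], 17, 0), 
   (7, 0, 6, [0, 2, 2], 13, 0), (7, 0, 7, [0, 2], 17, 0), (7, 0, 8, [0, 0, 2], 13, 1), 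
   (7, 0, 9, [0, 0, 2], 13, 1), (7, 0, 10, [0, 2, 1], 19, 0), (7, 1, 0, [0, 2, 1, 1], 19, 0), 
   (7, 1, 1, [0, 0, 2], 19, 0), (7, 1, 2, [0, 2, 2], 19, 2), (7, 1, 3, [0, 0, 2, 1], 17, 0), 
   (7, 1, 4, [0, 0, 2, 0, 2], 13, 0), (7, 1, 5, [0, 1, 2], 13, 2), 
   (7, 1, 6, [0, 0, 0, 2], 17, 0), (7, 1, 7, [0, 1, 0, 2], 13, 0), (7, 1, 8, [0, 2, 2], 19, 0), 
   (7, 1, 9, [0, 0, 2], 19, 0), (7, 1, 10, [0, 1, 0, 2], 19, 0), (8, 0, 0, [0, 0, 2], 17, 0), 
   (8, 0, 1, [0, 2, 1], 13, 0), (8, 0, 2, [0, 1, 2], 17, 0), (8, 0, 3, [0, 0, 2], 19, 0), 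
   (8, 0, 4, [0, 2], 13, 0), (8, 0, 5, [0, 2, 2], 19, 0), (8, 0, 6, [0, 1, 2], 13, 4), 
   (8, 0, 7, [0, 1, 0, 2], 19, 0), (8, 0, 8, [0, 0, 2], 17, 1), (8, 0, 9, [0, 1, 2, 1], 13, 2), 
   (8, 0, 10, [0, 2, 1], 17, 2), (8, 1, 0, [0, 2, 1], 13, 2), (8, 1, 1, [0, 0, 2, 0, 2], 13, 0), 
   (8, 1, 2, [0, 1, 2], 19, 0), (8, 1, 3, [0, 0, 2], 19, 0), (8, 1, 4, [0, 1, 0, 2], 13, 2), 
   (8, 1, 5, [0, 0, 2], 19, 0), (8, 1, 6, [0, 1, 2], 17, 0), (8, 1, 7, [0, 1, 2], 17, 0), 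
   (8, 1, 8, [0, 0, 2, 1], 19, 0), (8, 1, 9, [0, 2, 1], 17, 2), (8, 1, 10, [0, 0, 2, 1], 13, 0), 
   (9, 0, 0, [0, 1, 2, 2], 13, 4), (9, 0, 1, [0, 2], 19, 0), (9, 0, 2, [0, 2], 13, 0), 
   (9, 0, 3, [0, 0, 2], 13, 0), (9, 0, 5, [0, 2, 2], 19, 0), (9, 0, 6, [0, 2, 2], 17, 0), 
   (9, 0, 8, [0, 0, 2, 1], 13, 3), (9, 0, 9, [0, 2], 13, 0), (9, 0, 10, [0, 1, 2], 13, 2), 
   (9, 1, 0, [0, 2], 19, 2), (9, 1, 1, [0, 0, 2, 0, 1], 19, 0), (9, 1, 2, [0, 0, 2], 19, 0), 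
   (9, 1, 3, [0, 2, 1], 13, 0), (9, 1, 4, [0, 2], 13, 2), (9, 1, 5, [0, 1, 1, 2], 13, 0), 
   (9, 1, 6, [0, 1, 2], 19, 0), (9, 1, 7, [0, 2, 1], 17, 2), (9, 1, 8, [0, 2], 19, 2), 
   (9, 1, 9, [0, 0, 0, 2, 2], 19, 0), (9, 1, 10, [0, 0, 2, 1], 19, 0), 
   (10, 0, 0, [0, 2, 0, 2, 0, 2, 1], 13, 0), (10, 0, 1, [0, 2], 13, 0), 
   (10, 0, 2, [0, 1, 2], 17, 4), (10, 0, 3, [0, 2], 13, 3), (10, 0, 4, [0, 0, 0, 2, 1], 19, 0), 
   (10, 0, 5, [0, 2, 1], 17, 0), (10, 0, 6, [0, 1, 2], 13, 0), (10, 0, 7, [0, 0, 2], 19, 0), 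
   (10, 0, 8, [0, 1, 1, 1, 2], 13, 2), (10, 0, 9, [0, 1, 1, 1, 2], 17, 2), 
   (10, 0, 10, [0, 2], 17, 0), (10, 1, 0, [0, 1, 0, 1, 2, 0, 1, 2], 19, 1), 
   (10, 1, 1, [0, 1, 0, 2], 13, 4), (10, 1, 2, [0, 2], 19, 2), (10, 1, 3, [0, 2, 2], 13, 0), 
   (10, 1, 4, [0, 1, 1, 2], 13, 3), (10, 1, 5, [0, 0, 2, 1], 17, 1), (10, 1, 6, [0, 2], 13, 2), 
   (10, 1, 7, [0, 1, 0, 2], 13, 4), (10, 1, 8, [0, 2], 19, 2), (10, 1, 9, [0, 1, 2], 13, 3), 
   (10, 1, 10, [0, 1, 2], 13, 3)]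

/-- words for the candidates exchanging 0 and infinity -/
def tabU : List (ℕ × ℕ × ℕ × List ℕ × ℕ × ℕ) :=
  [(1, 0, 0, [0, 0, 0, 3, 0, 0, 3], 19, 1), (1, 0, 1, [0, 0, 2, 3], 19, 1), 
   (1, 0, 2, [0, 1, 3, 3], 13, 4), (1, 0, 3, [0, 2, 3], 19, 0), (1, 0, 4, [0, 1, 3], 13, 4), 
   (1, 0, 5, [0, 1, 3], 19, 0), (1, 0, 6, [0, 3], 13, 0), (1, 0, 7, [0, 3, 2], 17, 3), 
   (1, 0, 8, [0, 3, 2], 17, 0), (1, 0, 9, [0, 3, 2], 19, 0), (1, 0, 10, [0, 2, 3], 17, 0), 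
   (1, 1, 0, [0, 1, 0, 3, 2], 13, 2), (1, 1, 1, [0, 1, 3], 19, 0), 
   (1, 1, 2, [0, 2, 0, 3], 13, 0), (1, 1, 3, [0, 3], 13, 2), (1, 1, 4, [0, 3, 2], 13, 3), 
   (1, 1, 5, [0, 1, 3], 17, 0), (1, 1, 6, [0, 1, 3], 17, 0), (1, 1, 7, [0, 2, 3], 13, 2), 
   (1, 1, 8, [0, 3], 13, 2), (1, 1, 9, [0, 2, 3], 19, 0), (1, 1, 10, [0, 2, 0, 3], 13, 3), 
   (10, 0, 0, [0, 2, 1, 3], 19, 0), (10, 0, 1, [0, 1, 1, 3], 13, 2), 
   (10, 0, 2, [0, 1, 3], 17, 4), (10, 0, 3, [0, 3], 13, 3), (10, 0, 4, [0, 1, 2, 3], 13, 4), 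
   (10, 0, 5, [0, 0, 3], 17, 0), (10, 0, 6, [0, 3], 13, 0), (10, 0, 7, [0, 3, 2], 13, 0), 
   (10, 0, 8, [0, 3], 13, 0), (10, 0, 9, [0, 2, 0, 3], 13, 1), (10, 0, 10, [0, 1, 3, 2], 13, 4), 
   (10, 1, 1, [0, 0, 0, 3], 17, 0), (10, 1, 2, [0, 3], 19, 2), (10, 1, 3, [0, 0, 3], 17, 0), 
   (10, 1, 4, [0, 1, 1, 3], 13, 3), (10, 1, 5, [0, 0, 3, 1], 17, 1), (10, 1, 6, [0, 3], 13, 2), 
   (10, 1, 7, [0, 1, 0, 3], 13, 4), (10, 1, 8, [0, 3], 19, 2), (10, 1, 9, [0, 1, 3], 13, 3), 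
   (10, 1, 10, [0, 1, 3], 13, 3)]

/-- the good candidates fixing infinity -/
def goodH : List (ℕ × ℕ) :=
  [(3, 1), (3, 10), (4, 4), (4, 7), (5, 2), (5, 9), (9, 4), (9, 7)]

/-- the check for the first table -/
def chkH (a s b : ℕ) : Bool :=
  (a == 0) || (a == 1 && s == 0 && b == 0) || (a == 1 && s == 1 && b == 0) ||
    (s == 0 && goodH.contains (a, b)) || okT 24 [13, 17, 19] [tF, qF, cand a 0 s b] tabH a s b

/-- the check for the second table -/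
def chkU (a s b : ℕ) : Bool :=
  !(a == 1 || a == 10) || (a == 10 && s == 1 && b == 0) ||
    okT 24 [13, 17, 19] [tF, qF, cand 3 0 0 10, cand a 1 s b] tabU a s b

theorem chkH_ok : ((List.range 11).all fun a => (List.range 2).all fun s =>
    (List.range 11).all fun b => chkH a s b) = true := by
  decide +kernel

theorem chkU_ok : ((List.range 11).all fun a => (List.range 2).all fun s =>
    (List.range 11).all fun b => chkU a s b) = true := by
  decide +kernel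

theorem tabH_ok (a : ℕ) (ha : a < 11) (s : ℕ) (hs : s < 2) (b : ℕ) (hb : b < 11) (ha0 : 0 < a) :
    (a = 1 ∧ s = 0 ∧ b = 0) ∨ (a = 1 ∧ s = 1 ∧ b = 0) ∨ (s = 0 ∧ (a, b) ∈ goodH) ∨
      okT 24 [13, 17, 19] [tF, qF, cand a 0 s b] tabH a s b = true := by
  have h1 := chkH_ok
  rw [List.all_eq_true] at h1
  have h2 := h1 a (List.mem_range.2 ha)
  rw [List.all_eq_true] at h2
  have h3 := h2 s (List.mem_range.2 hs)
  rw [List.all_eq_true] at h3
  have h4 := h3 b (List.mem_range.2 hb)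
  simp only [chkH, Bool.or_eq_true, Bool.and_eq_true, beq_iff_eq, List.contains_iff_mem] at h4
  rcases h4 with (((h4 | h4) | h4) | h4) | h4
  · omega
  · exact Or.inl ⟨h4.1.1, h4.1.2, h4.2⟩
  · exact Or.inr (Or.inl ⟨h4.1.1, h4.1.2, h4.2⟩)
  · exact Or.inr (Or.inr (Or.inl h4))
  · exact Or.inr (Or.inr (Or.inr h4))

theorem tabU_ok (a : ℕ) (ha : a < 11) (s : ℕ) (hs : s < 2) (b : ℕ) (hb : b < 11)
    (ha1 : a = 1 ∨ a = 10) :
    (a = 10 ∧ s = 1 ∧ b = 0) ∨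
      okT 24 [13, 17, 19] [tF, qF, cand 3 0 0 10, cand a 1 s b] tabU a s b = true := by
  have h1 := chkU_ok
  rw [List.all_eq_true] at h1
  have h2 := h1 a (List.mem_range.2 ha)
  rw [List.all_eq_true] at h2
  have h3 := h2 s (List.mem_range.2 hs)
  rw [List.all_eq_true] at h3
  have h4 := h3 b (List.mem_range.2 hb)
  simp only [chkU, Bool.or_eq_true, Bool.and_eq_true, beq_iff_eq, Bool.not_eq_true',
    Bool.or_eq_false_iff, beq_eq_false_iff_ne] at h4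
  rcases h4 with (h4 | h4) | h4
  · omega
  · exact Or.inl ⟨h4.1.1, h4.1.2, h4.2⟩
  · exact Or.inr h4

theorem good_pow : ∀ e ∈ goodH, ∃ j < 5,
    (∀ x : Fin 24, iter (cand e.1 0 0 e.2) j x = cand 3 0 0 1 x) ∨
    (∀ x : Fin 24, iter (cand e.1 0 0 e.2) j x = cand 3 0 0 10 x) := by
  decide +kernel

/-- the good element for the code of squares -/
def v10 : Perm (Fin 24) := mkPerm 24 (cand 3 0 0 10) (cand 4 0 0 4) (by decide +kernel)
/-- the good element for the code of non-squares -/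
def v1 : Perm (Fin 24) := mkPerm 24 (cand 3 0 0 1) (cand 4 0 0 7) (by decide +kernel)
/-- the exchange `x ↦ -1/x` -/
def uP : Perm (Fin 24) := mkPerm 24 (cand 10 1 1 0) (cand 10 1 1 0) (by decide +kernel)

theorem v10_comp : Comp v10 (cand 3 0 0 10) := mkPerm_comp _ _ _ _
theorem v1_comp : Comp v1 (cand 3 0 0 1) := mkPerm_comp _ _ _ _
theorem uP_comp : Comp uP (cand 10 1 1 0) := mkPerm_comp _ _ _ _

theorem sign_nP : sign nP = -1 := by decide +kernel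

theorem not_dvd {l : ℕ} (hl : l ∈ [13, 17, 19]) : ¬ l ∣ 244823040 := by
  simp only [List.mem_cons, List.not_mem_nil, or_false] at hl
  rcases hl with rfl | rfl | rfl <;> norm_num

theorem prime_of_mem {l : ℕ} (hl : l ∈ [13, 17, 19]) : l.Prime := by
  simp only [List.mem_cons, List.not_mem_nil, or_false] at hl
  rcases hl with rfl | rfl | rfl <;> norm_num

/-- The hypotheses on the permutation group of degree 24. -/
structure Hyp (L : Subgroup (Perm (Fin 24))) : Prop where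
  card : Nat.card L = 244823040
  even : ∀ g ∈ L, sign g = 1
  trans : ∀ x y, ∃ g ∈ L, g x = y
  t_mem : tP ∈ L

theorem fix_t : ∀ a < 23, 0 < a → ∀ y : Fin 24, iter tF a y = y → y = 23 := by
  decide +kernel

theorem fix_q : ∀ a < 11, 0 < a → ∀ y : Fin 24, iter qF a y = y → y = 0 ∨ y = 23 := by
  decide +kernel

/-- multiplication by `a` -/
def mF (a x : ℕ) : ℕ := if x < 23 then (a * x) % 23 else x

theorem t_zero : ∀ x : Fin 24, x ≠ 23 → iter tF x 0 = x := by decide +kernel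

theorem t_mF : ∀ a < 23, ∀ x : Fin 24, x ≠ 23 → iter tF (a * x) 0 = mF a x := by decide +kernel

theorem t_neg : ∀ y : Fin 24, y ≠ 23 → iter tF (23 - y) y = 0 := by decide +kernel

theorem mF_pow : ∀ a < 23, 1 < a → ∃ j < 22,
    (∀ x : Fin 24, iter (mF a) j x = qF x) ∨ (∀ x : Fin 24, iter (mF a) j x = nF x) := by
  decide +kernel

theorem mF_one : ∀ x : Fin 24, mF 1 x = x := by decide +kernel

theorem q_mem {L : Subgroup (Perm (Fin 24))} (h : Hyp L) : qP ∈ L := by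
  obtain ⟨k, n, hk, hkn, hn⟩ := sylow_congr L h.t_mem (r := 23) (m := 10644480) (by norm_num)
    orderOf_tP (by rw [h.card]) (by norm_num)
  -- an element of the normalizer outside the cyclic group
  obtain ⟨g, hgL, hgN, hgz⟩ : ∃ g, g ∈ L ∧ g ∈ Subgroup.normalizer (Subgroup.zpowers tP : Set _) ∧
      g ∉ Subgroup.zpowers tP := by
    by_contra hcon
    push Not at hcon
    have h1 : L ⊓ Subgroup.normalizer (Subgroup.zpowers tP : Set _) = Subgroup.zpowers tP := by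
      apply le_antisymm
      · rintro g ⟨h2, h3⟩
        exact hcon g h2 h3
      · refine le_inf ?_ Subgroup.le_normalizer
        rw [Subgroup.zpowers_le]; exact h.t_mem
    rw [h1, Nat.card_zpowers, orderOf_tP] at hk
    have hk1 : k = 1 := by omega
    rw [hk1, one_mul] at hkn
    rw [hkn] at hn
    exact absurd hn (by decide)
  obtain ⟨a, ha0, ha, hrel⟩ := exists_pow_of_mem_normalizer (by norm_num : Nat.Prime 23)
    orderOf_tP hgN
  have hval : ∀ (i : ℕ) (x : Fin 24), (((tP ^ i) x : Fin 24) : ℕ) = iter tF i x :=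
    fun i x => comp_iter tP_comp i x
  have ht23 : ∀ i : ℕ, (tP ^ i) 23 = 23 := by
    intro i
    induction i with
    | zero => rfl
    | succ i ih =>
      rw [pow_succ', Perm.mul_apply, ih]
      exact Fin.ext (by rw [tP_comp]; decide)
  have hg23 : g 23 = 23 := by
    apply fix_t a ha ha0
    rw [← hval]
    have h1 := congrArg (fun z : Perm (Fin 24) => z 23) hrel
    simp only [Perm.mul_apply] at h1
    have h2 := ht23 1
    rw [pow_one] at h2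
    rw [h2] at h1
    rw [← h1]
  have hg0 : g 0 ≠ 23 := fun e => absurd (g.injective (e.trans hg23.symm)) (by decide)
  set j := 23 - ((g 0 : Fin 24) : ℕ) with hj
  set g' := tP ^ j * g with hg'
  have hrel' : g' * tP = tP ^ a * g' := by
    rw [hg', mul_assoc, hrel, ← mul_assoc, ← mul_assoc, ← pow_add, ← pow_add, add_comm]
  have hg'0 : g' 0 = 0 := by
    apply Fin.ext
    rw [hg', Perm.mul_apply, hval, hj]
    exact t_neg _ hg0
  have hg'23 : g' 23 = 23 := by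
    rw [hg', Perm.mul_apply, hg23, ht23]
  have hcomp : Comp g' (mF a) := by
    intro x
    by_cases hx : x = 23
    · rw [hx, hg'23]; rfl
    · have h1 := apply_pow_apply tP_comp hrel' 0 (x : ℕ)
      have h2 : (tP ^ (x : ℕ)) 0 = x := Fin.ext (by rw [hval]; exact t_zero x hx)
      rw [h2, hg'0] at h1
      rw [h1]
      exact t_mF a ha x hx
  have hg'L : g' ∈ L := L.mul_mem (L.pow_mem h.t_mem _) hgL
  have ha1 : a ≠ 1 := by
    rintro rfl
    apply hgz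
    have h1 : g' = 1 := by
      ext x
      rw [hcomp, mF_one]; rfl
    have h2 : g = (tP ^ j)⁻¹ := by
      rw [hg'] at h1
      exact (inv_eq_of_mul_eq_one_right h1).symm
    rw [h2]
    exact Subgroup.inv_mem _ (Subgroup.pow_mem _ (Subgroup.mem_zpowers _) _)
  obtain ⟨i, -, hi | hi⟩ := mF_pow a ha (by omega)
  · have h1 : g' ^ i = qP := perm_ext_comp (comp_pow hcomp i) qP_comp hi
    rw [← h1]
    exact L.pow_mem hg'L i
  · exfalso
    have h1 : g' ^ i = nP := perm_ext_comp (comp_pow hcomp i) nP_comp hi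
    have h2 := h.even (g' ^ i) (L.pow_mem hg'L i)
    rw [h1, sign_nP] at h2
    exact absurd h2 (by decide)

theorem q_fix (i : ℕ) (x : Fin 24) (hx : x = 0 ∨ x = 23) : (qP ^ i) x = x := by
  rcases hx with rfl | rfl
  · exact qP_pow_zero i
  · exact qP_pow_inf i

/-- An element normalizing `⟨q⟩` permutes the two fixed points. -/
theorem norm_fix {g : Perm (Fin 24)} {a : ℕ} (ha0 : 0 < a) (ha : a < 11)
    (hrel : g * qP = qP ^ a * g) (x : Fin 24) (hx : x = 0 ∨ x = 23) : g x = 0 ∨ g x = 23 := by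
  apply fix_q a ha ha0
  rw [← comp_iter qP_comp]
  have h1 := congrArg (fun z : Perm (Fin 24) => z x) hrel
  simp only [Perm.mul_apply] at h1
  have h2 := q_fix 1 x hx
  rw [pow_one] at h2
  rw [h2] at h1
  rw [← h1]

theorem v_mem {L : Subgroup (Perm (Fin 24))} (h : Hyp L) : v10 ∈ L ∨ v1 ∈ L := by
  have hq := q_mem h
  set H : Subgroup (Perm (Fin 24)) := L ⊓ stabilizer (Perm (Fin 24)) (23 : Fin 24) with hH
  have hcardH : Nat.card H = 10200960 := by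
    have h1 : 24 * Nat.card H = Nat.card L := orbit_card_eq L 23 (fun y => h.trans 23 y)
    rw [h.card] at h1
    omega
  have hqH : qP ∈ H := ⟨hq, qP_pow_inf 1⟩
  obtain ⟨k, n, hk, hkn, hn⟩ := sylow_congr H hqH (r := 11) (m := 927360) (by norm_num)
    orderOf_qP (by rw [hcardH]) (by norm_num)
  obtain ⟨g, hgH, hgN, hgz⟩ : ∃ g, g ∈ H ∧ g ∈ Subgroup.normalizer (Subgroup.zpowers qP : Set _) ∧
      g ∉ Subgroup.zpowers qP := by
    by_contra hcon
    push Not at hcon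
    have h1 : H ⊓ Subgroup.normalizer (Subgroup.zpowers qP : Set _) = Subgroup.zpowers qP := by
      apply le_antisymm
      · rintro g ⟨h2, h3⟩
        exact hcon g h2 h3
      · refine le_inf ?_ Subgroup.le_normalizer
        rw [Subgroup.zpowers_le]; exact hqH
    rw [h1, Nat.card_zpowers, orderOf_qP] at hk
    have hk1 : k = 1 := by omega
    rw [hk1, one_mul] at hkn
    rw [hkn] at hn
    exact absurd hn (by decide)
  obtain ⟨a, ha0, ha, hrel⟩ := exists_pow_of_mem_normalizer (by norm_num : Nat.Prime 11)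
    orderOf_qP hgN
  have hg23 : g 23 = 23 := hgH.2
  have hg0 : g 0 = 0 := by
    rcases norm_fix ha0 ha hrel 0 (Or.inl rfl) with h1 | h1
    · exact h1
    · exact absurd (g.injective (h1.trans hg23.symm)) (by decide)
  obtain ⟨i, hi, s, hs, b, hb, hc⟩ := param g a ha0 ha hrel 0 (Or.inl ⟨rfl, hg0, hg23⟩)
  set c := qP ^ i * g with hcdef
  have hcL : c ∈ L := L.mul_mem (L.pow_mem hq i) hgH.1
  rcases tabH_ok a ha s hs b hb ha0 with ⟨rfl, rfl, rfl⟩ | ⟨rfl, rfl, rfl⟩ | ⟨rfl, hgood⟩ | hok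
  · exfalso
    apply hgz
    have h1 : c = 1 := perm_ext_comp hc (f' := id) (fun _ => rfl) (by decide +kernel)
    have h2 : g = (qP ^ i)⁻¹ := by
      rw [hcdef] at h1
      exact (inv_eq_of_mul_eq_one_right h1).symm
    rw [h2]
    exact Subgroup.inv_mem _ (Subgroup.pow_mem _ (Subgroup.mem_zpowers _) _)
  · exfalso
    have h1 : c = nP := perm_ext_comp hc nP_comp (by decide +kernel)
    have h2 := h.even c hcL
    rw [h1, sign_nP] at h2
    exact absurd h2 (by decide)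
  · obtain ⟨j, -, hj | hj⟩ := good_pow (a, b) hgood
    · right
      have h1 : c ^ j = v1 := perm_ext_comp (comp_pow hc j) v1_comp hj
      rw [← h1]
      exact L.pow_mem hcL j
    · left
      have h1 : c ^ j = v10 := perm_ext_comp (comp_pow hc j) v10_comp hj
      rw [← h1]
      exact L.pow_mem hcL j
  · exfalso
    obtain ⟨l, hl, hdvd⟩ := exists_dvd_of_okT L (gs := [tP, qP, c])
      (fs := [tF, qF, cand a 0 s b]) (by
        intro g' hg'
        simp only [List.mem_cons, List.not_mem_nil, or_false] at hg'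
        rcases hg' with rfl | rfl | rfl
        · exact h.t_mem
        · exact hq
        · exact hcL)
      (List.Forall₂.cons tP_comp (List.Forall₂.cons qP_comp (List.Forall₂.cons hc
        List.Forall₂.nil))) (fun l hl => prime_of_mem hl) hok
    rw [h.card] at hdvd
    exact not_dvd hl hdvd

theorem card_norm_congr {L : Subgroup (Perm (Fin 24))} (h : Hyp L) :
    ∃ g, g ∈ L ∧ g ∈ Subgroup.normalizer (Subgroup.zpowers qP : Set _) ∧ g 23 ≠ 23 := by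
  have hq := q_mem h
  set H : Subgroup (Perm (Fin 24)) := L ⊓ stabilizer (Perm (Fin 24)) (23 : Fin 24) with hH
  have hcardH : Nat.card H = 10200960 := by
    have h1 : 24 * Nat.card H = Nat.card L := orbit_card_eq L 23 (fun y => h.trans 23 y)
    rw [h.card] at h1
    omega
  have hqH : qP ∈ H := ⟨hq, qP_pow_inf 1⟩
  obtain ⟨k, n, hk, hkn, hn⟩ := sylow_congr H hqH (r := 11) (m := 927360) (by norm_num)
    orderOf_qP (by rw [hcardH]) (by norm_num)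
  obtain ⟨k', n', hk', hkn', hn'⟩ := sylow_congr L hq (r := 11) (m := 22256640) (by norm_num)
    orderOf_qP (by rw [h.card]) (by norm_num)
  by_contra hcon
  push Not at hcon
  have h1 : L ⊓ Subgroup.normalizer (Subgroup.zpowers qP : Set _) =
      H ⊓ Subgroup.normalizer (Subgroup.zpowers qP : Set _) := by
    apply le_antisymm
    · rintro g ⟨h2, h3⟩
      exact ⟨⟨h2, hcon g h2 h3⟩, h3⟩
    · rintro g ⟨h2, h3⟩
      exact ⟨h2.1, h3⟩
  rw [h1, hk] at hk'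
  have hkk : k = k' := by omega
  have e1 : k * n ≡ k * 1 [MOD 11] := hn.mul_left k
  have e2 : k' * n' ≡ k' * 1 [MOD 11] := hn'.mul_left k'
  rw [hkn, mul_one] at e1
  rw [hkn', mul_one, ← hkk] at e2
  have e3 := e1.trans e2.symm
  exact absurd e3 (by decide)

theorem v10_rel : v10 * qP = qP ^ 3 * v10 :=
  perm_ext_comp (comp_mul v10_comp qP_comp) (comp_mul (comp_pow qP_comp 3) v10_comp)
    (by decide +kernel)

theorem exp_choice : ∀ a < 11, 0 < a → ∃ j < 5, (a * 3 ^ j) % 11 = 1 ∨ (a * 3 ^ j) % 11 = 10 := by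
  decide +kernel

theorem v10_pow_fix (j : ℕ) (x : Fin 24) (hx : x = 0 ∨ x = 23) : (v10 ^ j) x = x := by
  have h1 : v10 x = x := by
    rcases hx with rfl | rfl
    · exact Fin.ext (by rw [v10_comp]; decide +kernel)
    · exact Fin.ext (by rw [v10_comp]; decide +kernel)
  induction j with
  | zero => rfl
  | succ j ih => rw [pow_succ', Perm.mul_apply, ih, h1]

theorem u_mem {L : Subgroup (Perm (Fin 24))} (h : Hyp L) (hv : v10 ∈ L) : uP ∈ L := by
  have hq := q_mem h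
  obtain ⟨g, hgL, hgN, hg23⟩ := card_norm_congr h
  obtain ⟨a, ha0, ha, hrel⟩ := exists_pow_of_mem_normalizer (by norm_num : Nat.Prime 11)
    orderOf_qP hgN
  have h23 : g 23 = 0 := by
    rcases norm_fix ha0 ha hrel 23 (Or.inr rfl) with h1 | h1
    · exact h1
    · exact absurd h1 hg23
  have h0 : g 0 = 23 := by
    rcases norm_fix ha0 ha hrel 0 (Or.inl rfl) with h1 | h1
    · exact absurd (g.injective (h1.trans h23.symm)) (by decide)
    · exact h1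
  obtain ⟨j, -, hj⟩ := exp_choice a ha ha0
  set a' := (a * 3 ^ j) % 11 with ha'
  have hrel2 : (g * v10 ^ j) * qP = qP ^ a' * (g * v10 ^ j) := by
    have e1 : v10 ^ j * qP = qP ^ (3 ^ j) * v10 ^ j := pow_mul_eq v10_rel j
    have e2 : g * qP ^ (3 ^ j) = qP ^ (a * 3 ^ j) * g := mul_pow_eq hrel _
    have e3 : qP ^ (a * 3 ^ j) = qP ^ a' := by
      rw [ha', ← orderOf_qP, pow_mod_orderOf]
    rw [mul_assoc, e1, ← mul_assoc, e2, e3, mul_assoc]
  have ha'0 : 0 < a' := by rcases hj with h1 | h1 <;> omega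
  have ha'11 : a' < 11 := by rcases hj with h1 | h1 <;> omega
  obtain ⟨i, hi, s, hs, b, hb, hc⟩ := param (g * v10 ^ j) a' ha'0 ha'11 hrel2 1
    (Or.inr ⟨rfl, by rw [Perm.mul_apply, v10_pow_fix j 0 (Or.inl rfl), h0],
      by rw [Perm.mul_apply, v10_pow_fix j 23 (Or.inr rfl), h23]⟩)
  set c := qP ^ i * (g * v10 ^ j) with hcdef
  have hcL : c ∈ L := L.mul_mem (L.pow_mem hq i) (L.mul_mem hgL (L.pow_mem hv j))
  rcases tabU_ok a' ha'11 s hs b hb hj with ⟨h1, rfl, rfl⟩ | hok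
  · rw [h1] at hc
    have h2 : c = uP := comp_ext hc uP_comp
    rw [← h2]
    exact hcL
  · exfalso
    obtain ⟨l, hl, hdvd⟩ := exists_dvd_of_okT L (gs := [tP, qP, v10, c])
      (fs := [tF, qF, cand 3 0 0 10, cand a' 1 s b]) (by
        intro g' hg'
        simp only [List.mem_cons, List.not_mem_nil, or_false] at hg'
        rcases hg' with rfl | rfl | rfl | rfl
        · exact h.t_mem
        · exact hq
        · exact hv
        · exact hcL)
      (List.Forall₂.cons tP_comp (List.Forall₂.cons qP_comp (List.Forall₂.cons v10_comp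
        (List.Forall₂.cons hc List.Forall₂.nil)))) (fun l hl => prime_of_mem hl) hok
    rw [h.card] at hdvd
    exact not_dvd hl hdvd

theorem neg_t : nP * tP ^ 22 * nP⁻¹ = tP := by
  rw [mul_inv_eq_iff_eq_mul]
  exact perm_ext_comp (comp_mul nP_comp (comp_pow tP_comp 22)) (comp_mul tP_comp nP_comp)
    (by decide +kernel)

/-- Relabelling by `x ↦ -x`. -/
theorem hyp_neg {L : Subgroup (Perm (Fin 24))} (h : Hyp L) :
    Hyp (L.map (MulAut.conj nP).toMonoidHom) where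
  card := by
    rw [← h.card]
    exact (Nat.card_congr (Subgroup.equivMapOfInjective _ _ (MulAut.conj nP).injective).toEquiv).symm
  even := by
    rintro _ ⟨g, hg, rfl⟩
    have h1 : sign ((MulAut.conj nP).toMonoidHom g) = sign g := by
      show sign (nP * g * nP⁻¹) = sign g
      rw [map_mul, map_mul, map_inv, mul_right_comm, mul_inv_cancel, one_mul]
    rw [h1]
    exact h.even g hg
  trans := by
    intro x y
    obtain ⟨g, hg, hgx⟩ := h.trans (nP⁻¹ x) (nP⁻¹ y)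
    refine ⟨nP * g * nP⁻¹, ⟨g, hg, rfl⟩, ?_⟩
    rw [Perm.mul_apply, Perm.mul_apply, hgx]
    simp
  t_mem := by
    refine Subgroup.mem_map.2 ⟨tP ^ 22, L.pow_mem h.t_mem _, ?_⟩
    rw [MulEquiv.toMonoidHom_eq_coe, MonoidHom.coe_coe, MulAut.conj_apply, neg_t]

/-- Every permutation group as in `Hyp` is, after relabelling, one containing the standard
generators. -/
theorem exists_relabel {L : Subgroup (Perm (Fin 24))} (h : Hyp L) :
    ∃ σ : Perm (Fin 24), tP ∈ L.map (MulAut.conj σ).toMonoidHom ∧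
      qP ∈ L.map (MulAut.conj σ).toMonoidHom ∧ v10 ∈ L.map (MulAut.conj σ).toMonoidHom ∧
      uP ∈ L.map (MulAut.conj σ).toMonoidHom := by
  rcases v_mem h with hv | hv
  · refine ⟨1, ?_⟩
    have h1 : L.map (MulAut.conj (1 : Perm (Fin 24))).toMonoidHom = L := by
      ext g
      constructor
      · rintro ⟨g', hg', rfl⟩
        simpa using hg'
      · intro hg
        exact ⟨g, hg, by simp⟩
    rw [h1]
    exact ⟨h.t_mem, q_mem h, hv, u_mem h hv⟩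
  · refine ⟨nP, ?_⟩
    have h' := hyp_neg h
    have hq' := q_mem h'
    have hv' : v10 ∈ L.map (MulAut.conj nP).toMonoidHom := by
      have h1 : nP * v1 * nP⁻¹ ∈ L.map (MulAut.conj nP).toMonoidHom := ⟨v1, hv, rfl⟩
      have h2 : v10 = qP ^ 10 * (nP * v1 * nP⁻¹) := by
        have h3 : v10 * nP = qP ^ 10 * (nP * v1) :=
          perm_ext_comp (comp_mul v10_comp nP_comp)
            (comp_mul (comp_pow qP_comp 10) (comp_mul nP_comp v1_comp)) (by decide +kernel)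
        rw [← mul_assoc, ← h3]
        group
      rw [h2]
      exact Subgroup.mul_mem _ (Subgroup.pow_mem _ hq' _) h1
    exact ⟨h'.t_mem, hq', hv', u_mem h' hv'⟩

/-- The labelling of the 24 points, on natural numbers. -/
def toPtN (x : ℕ) : Cfsg.GolayPt := if x < 23 then some ((x : ℕ) : ZMod 23) else none

/-- The labelling of the 24 points. -/
def toPt (x : Fin 24) : Cfsg.GolayPt := toPtN x

/-- The inverse labelling. -/
def ofPt : Cfsg.GolayPt → Fin 24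
  | none => 23
  | some z => ⟨z.val % 23, by have := Nat.mod_lt z.val (show 0 < 23 by norm_num); omega⟩

/-- The labelling as an equivalence. -/
def ePt : Fin 24 ≃ Cfsg.GolayPt where
  toFun := toPt
  invFun := ofPt
  left_inv := by decide +kernel
  right_inv := by decide +kernel

theorem permCongr_apply (g : Perm (Fin 24)) (x : Cfsg.GolayPt) :
    (ePt.permCongrHom g) x = toPtN ((g (ofPt x) : Fin 24) : ℕ) := rfl

theorem permCongr_comp {g : Perm (Fin 24)} {f : ℕ → ℕ} (h : Comp g f) (x : Cfsg.GolayPt) :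
    (ePt.permCongrHom g) x = toPtN (f (ofPt x)) := by
  rw [permCongr_apply, h]

theorem shift_eq : Equiv.optionCongr (Equiv.addRight (1 : ZMod 23)) = ePt.permCongrHom tP := by
  ext1 x
  rw [permCongr_comp tP_comp]
  revert x
  decide +kernel

theorem projInv_eq : Cfsg.projInv = ePt.permCongrHom uP := by
  ext1 x
  rw [permCongr_comp uP_comp]
  show Cfsg.projInvFun x = _
  revert x
  decide +kernel

theorem cubeTwist_eq : ∃ i : ℕ, Cfsg.cubeTwist = ePt.permCongrHom (qP ^ i * v10) := by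
  refine ⟨6, ?_⟩
  ext1 x
  rw [permCongr_comp (comp_mul (comp_pow qP_comp 6) v10_comp)]
  show Cfsg.cubeTwistFun x = _
  revert x
  decide +kernel

/-- A simple group of order 244823040 with a subgroup of index 24 is the Mathieu group M24. -/
theorem mulEquiv_of_index {G : Type*} [Group G] [Finite G] (hs : IsSimpleGroup G)
    (hc : Nat.card G = 244823040) (H : Subgroup G) (hH : H.index = 24) :
    Nonempty (G ≃* Cfsg.M24) := by
  obtain ⟨ψ, hψ, ht, htr⟩ := exists_hom hs H hH (by norm_num) (by norm_num : Nat.Prime 23)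
    (by rw [hc]; norm_num) (by norm_num) tP orderOf_tP
  have hyp : Hyp ψ.range :=
    { card := by
        rw [← hc]
        exact (Nat.card_congr (MonoidHom.ofInjective hψ).toEquiv).symm
      even := by
        rintro _ ⟨g, rfl⟩
        exact sign_eq_one hs (by rw [hc]; norm_num) ψ g
      trans := by
        intro x y
        obtain ⟨g, hg⟩ := htr x y
        exact ⟨ψ g, ⟨g, rfl⟩, hg⟩
      t_mem := ht }
  obtain ⟨σ, h1, h2, h3, h4⟩ := exists_relabel hyp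
  let f : G →* Perm Cfsg.GolayPt :=
    (ePt.permCongrHom.toMonoidHom).comp ((MulAut.conj σ).toMonoidHom.comp ψ)
  have hf : Function.Injective f :=
    ePt.permCongrHom.injective.comp ((MulAut.conj σ).injective.comp hψ)
  have hmem : ∀ g ∈ ψ.range.map (MulAut.conj σ).toMonoidHom, ePt.permCongrHom g ∈ f.range := by
    rintro _ ⟨_, ⟨g, rfl⟩, rfl⟩
    exact ⟨g, rfl⟩
  have hle : Cfsg.M24 ≤ f.range := by
    rw [← Cfsg.Agent.S0374.result, Subgroup.closure_le]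
    intro g hg
    rcases hg with rfl | rfl | rfl
    · rw [shift_eq]; exact hmem _ h1
    · rw [projInv_eq]; exact hmem _ h4
    · obtain ⟨i, hi⟩ := cubeTwist_eq
      rw [hi]
      exact hmem _ (Subgroup.mul_mem _ (Subgroup.pow_mem _ h2 i) h3)
  have hcardf : Nat.card f.range = 244823040 := by
    rw [← hc]
    exact (Nat.card_congr (MonoidHom.ofInjective hf).toEquiv).symm
  have heq : Cfsg.M24 = f.range := by
    apply Subgroup.eq_of_le_of_card_ge hle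
    rw [hcardf, Cfsg.Agent.S0364.result]
  exact ⟨(MonoidHom.ofInjective hf).trans (MulEquiv.subgroupCongr heq.symm)⟩

end Cfsg.Agent.SporadicA.M24OfIndex
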