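import Cfsg.Agent.SporadicA.PermRank3
import Cfsg.Agent.SporadicA.J2Data

set_option autoImplicit false

/-!
The Hall-Janko group as a permutation group on 100 points: order 604800 and simplicity.
-/

namespace Cfsg.Agent.SporadicA.J2Hundred

open Equiv Cfsg.Agent.SporadicA.PermTab Cfsg.Agent.SporadicA.PermRank3 Cfsg.Agent.SporadicA.J2Data

noncomputable section

theorem iA : chkInv 100 tA tA = true := by decide +kernel
theorem iB : chkInv 100 tB tB = true := by decide +kernel
theorem iC : chkInv 100 tC tC = true := by decide +kernel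
theorem iD : chkInv 100 tD tD = true := by decide +kernel
theorem iE : chkInv 100 tE tE = true := by decide +kernel
theorem iT : chkInv 100 tT tT = true := by decide +kernel

theorem kA : chkAutBlk 100 adj tA 0 100 = true := by decide +kernel
theorem kB : chkAutBlk 100 adj tB 0 100 = true := by decide +kernel
theorem kC : chkAutBlk 100 adj tC 0 100 = true := by decide +kernel
theorem kD : chkAutBlk 100 adj tD 0 100 = true := by decide +kernel
theorem kE : chkAutBlk 100 adj tE 0 100 = true := by decide +kernel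
theorem kT : chkAutBlk 100 adj tT 0 100 = true := by decide +kernel

/-- the involution a -/
def pA : Perm (Fin 100) := mkPerm tA tA iA
/-- the involution b -/
def pB : Perm (Fin 100) := mkPerm tB tB iB
/-- the involution c -/
def pC : Perm (Fin 100) := mkPerm tC tC iC
/-- the involution d -/
def pD : Perm (Fin 100) := mkPerm tD tD iD
/-- the involution e -/
def pE : Perm (Fin 100) := mkPerm tE tE iE
/-- the odd involution -/
def pT : Perm (Fin 100) := mkPerm tT tT iT

/-- the five generators -/
def gens : Set (Perm (Fin 100)) := {pA, pB, pC, pD, pE}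

/-- the Hall-Janko group on 100 points -/
def G : Subgroup (Perm (Fin 100)) := Subgroup.closure gens

theorem mA : pA ∈ G := Subgroup.subset_closure (Or.inl rfl)
theorem mB : pB ∈ G := Subgroup.subset_closure (Or.inr (Or.inl rfl))
theorem mC : pC ∈ G := Subgroup.subset_closure (Or.inr (Or.inr (Or.inl rfl)))
theorem mD : pD ∈ G := Subgroup.subset_closure (Or.inr (Or.inr (Or.inr (Or.inl rfl))))
theorem mE : pE ∈ G := Subgroup.subset_closure (Or.inr (Or.inr (Or.inr (Or.inr rfl))))

theorem inA : InG G tA := ⟨pA, mA, fun _ => rfl⟩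
theorem inB : InG G tB := ⟨pB, mB, fun _ => rfl⟩
theorem inC : InG G tC := ⟨pC, mC, fun _ => rfl⟩
theorem inD : InG G tD := ⟨pD, mD, fun _ => rfl⟩
theorem inE : InG G tE := ⟨pE, mE, fun _ => rfl⟩

theorem inAll {L : List ℕ} (hL : ∀ P ∈ L, P ∈ [tA, tB, tC, tD, tE]) : ∀ P ∈ L, InG G P := by
  intro P hP
  have h := hL P hP
  simp only [List.mem_cons, List.not_mem_nil, or_false] at h
  rcases h with rfl | rfl | rfl | rfl | rfl
  exacts [inA, inB, inC, inD, inE]

/-- all letters of the word are generators -/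
def sub (L : List ℕ) : Bool := List.rec true (fun P _ ih =>
  band (notMemB P [tA, tB, tC, tD, tE] == false) ih) L

theorem inAll' {L : List ℕ} (h : sub L = true) : ∀ P ∈ L, InG G P := by
  apply inAll
  induction L with
  | nil => exact fun P hP => absurd hP List.not_mem_nil
  | cons Q L ih =>
    have : sub (Q :: L) = band (notMemB Q [tA, tB, tC, tD, tE] == false) (sub L) := rfl
    rw [this, band_eq_true] at h
    intro P hP
    rcases List.mem_cons.1 hP with h1 | h1
    · rw [h1]
      by_contra h2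
      have h3 := (notMemB_iff _ _).2 h2
      rw [h3] at h
      exact absurd h.1 (by decide)
    · exact ih h.2 P h1

/-! ### strong generators -/

theorem inu0 : InG G u0 := InG.word (inAll' (L := u0w) (by decide +kernel)) (by decide +kernel)
theorem inu1 : InG G u1 := InG.word (inAll' (L := u1w) (by decide +kernel)) (by decide +kernel)
theorem inv0 : InG G v0 := InG.word (inAll' (L := v0w) (by decide +kernel)) (by decide +kernel)
theorem inv1 : InG G v1 := InG.word (inAll' (L := v1w) (by decide +kernel)) (by decide +kernel)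
theorem inw0 : InG G w0 := InG.word (inAll' (L := w0w) (by decide +kernel)) (by decide +kernel)

/-- first base point -/
abbrev x0 : Fin 100 := 0
/-- second base point -/
abbrev x1 : Fin 100 := 13
/-- third base point -/
abbrev x2 : Fin 100 := 1
/-- fourth base point -/
abbrev x3 : Fin 100 := 2

theorem psu0 : InG (ps G x0) u0 := inu0.ps (by decide +kernel)
theorem psu1 : InG (ps G x0) u1 := inu1.ps (by decide +kernel)
theorem psv0 : InG (ps (ps G x0) x1) v0 := (inv0.ps (by decide +kernel)).ps (by decide +kernel)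
theorem psv1 : InG (ps (ps G x0) x1) v1 := (inv1.ps (by decide +kernel)).ps (by decide +kernel)
theorem psw0 : InG (ps (ps (ps G x0) x1) x2) w0 :=
  ((inw0.ps (by decide +kernel)).ps (by decide +kernel)).ps (by decide +kernel)

theorem or0 : chkOrb 100 x0 tA [tA, tB, tC, tD, tE] c0 = true := by decide +kernel
theorem or1 : chkOrb 100 x1 u0 [u0, u1] c1 = true := by decide +kernel
theorem or1b : chkOrb 100 x2 u0 [u0, u1] c1b = true := by decide +kernel
theorem or2 : chkOrb 100 x2 v0 [v0, v1] c2 = true := by decide +kernel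
theorem or3 : chkOrb 100 x3 w0 [w0] c3 = true := by decide +kernel
theorem cn0 : cntOrb 100 c0 100 = true := by decide +kernel
theorem cn1 : cntOrb 100 c1 36 = true := by decide +kernel
theorem cn1b : cntOrb 100 c1b 63 = true := by decide +kernel
theorem cn2 : cntOrb 100 c2 42 = true := by decide +kernel
theorem cn3 : cntOrb 100 c3 4 = true := by decide +kernel

theorem mem2 {P Q : ℕ} {H : Subgroup (Perm (Fin 100))} (hP : InG H P) (hQ : InG H Q) :
    ∀ R ∈ [P, Q], InG H R := by
  intro R hR
  simp only [List.mem_cons, List.not_mem_nil, or_false] at hR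
  rcases hR with rfl | rfl
  exacts [hP, hQ]

theorem mem1 {P : ℕ} {H : Subgroup (Perm (Fin 100))} (hP : InG H P) :
    ∀ R ∈ [P], InG H R := by
  intro R hR
  rw [List.mem_singleton] at hR
  rw [hR]; exact hP

theorem card_ge : 604800 ≤ Nat.card G := by
  have h3 : 4 * 1 ≤ Nat.card (ps (ps (ps G x0) x1) x2) :=
    card_ge_of_chk psw0 (mem1 psw0) or3 cn3 Nat.card_pos
  have h2 : 42 * (4 * 1) ≤ Nat.card (ps (ps G x0) x1) :=
    card_ge_of_chk psv0 (mem2 psv0 psv1) or2 cn2 h3
  have h1 : 36 * (42 * (4 * 1)) ≤ Nat.card (ps G x0) :=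
    card_ge_of_chk psu0 (mem2 psu0 psu1) or1 cn1 h2
  have h0 : 100 * (36 * (42 * (4 * 1))) ≤ Nat.card G :=
    card_ge_of_chk inA (inAll fun _ h => h) or0 cn0 h1
  exact h0

/-! ### elements of order five -/

theorem uvA : ∃ u ∈ G, ∃ v ∈ G, u ^ 5 = 1 ∧ v ^ 5 = 1 ∧ pA = u * v⁻¹ :=
  exists_uv mA (fun _ => rfl) (inAll' (L := fA) (by decide +kernel)) (by decide +kernel)
    (by decide +kernel)
theorem uvB : ∃ u ∈ G, ∃ v ∈ G, u ^ 5 = 1 ∧ v ^ 5 = 1 ∧ pB = u * v⁻¹ :=
  exists_uv mB (fun _ => rfl) (inAll' (L := fB) (by decide +kernel)) (by decide +kernel)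
    (by decide +kernel)
theorem uvC : ∃ u ∈ G, ∃ v ∈ G, u ^ 5 = 1 ∧ v ^ 5 = 1 ∧ pC = u * v⁻¹ :=
  exists_uv mC (fun _ => rfl) (inAll' (L := fC) (by decide +kernel)) (by decide +kernel)
    (by decide +kernel)
theorem uvD : ∃ u ∈ G, ∃ v ∈ G, u ^ 5 = 1 ∧ v ^ 5 = 1 ∧ pD = u * v⁻¹ :=
  exists_uv mD (fun _ => rfl) (inAll' (L := fD) (by decide +kernel)) (by decide +kernel)
    (by decide +kernel)
theorem uvE : ∃ u ∈ G, ∃ v ∈ G, u ^ 5 = 1 ∧ v ^ 5 = 1 ∧ pE = u * v⁻¹ :=
  exists_uv mE (fun _ => rfl) (inAll' (L := fE) (by decide +kernel)) (by decide +kernel)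
    (by decide +kernel)

theorem uvAll : ∀ s ∈ gens, ∃ u ∈ G, ∃ v ∈ G, u ^ 5 = 1 ∧ v ^ 5 = 1 ∧ s = u * v⁻¹ := by
  intro s hs
  rcases hs with rfl | rfl | rfl | rfl | rfl
  exacts [uvA, uvB, uvC, uvD, uvE]

theorem sign_gens : ∀ s ∈ gens, Perm.sign s = 1 := by
  intro s hs
  obtain ⟨u, -, v, -, hu, hv, rfl⟩ := uvAll s hs
  rw [Perm.sign_mul, Perm.sign_inv, sign_eq_one_of_odd_pow (by decide) hu,
    sign_eq_one_of_odd_pow (by decide) hv, one_mul]

theorem sign_G : ∀ g ∈ G, Perm.sign g = 1 := by
  have h : G ≤ (Perm.sign : Perm (Fin 100) →* ℤˣ).ker := by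
    rw [G, Subgroup.closure_le]
    exact fun s hs => sign_gens s hs
  exact fun g hg => h hg

/-! ### upper bound -/

theorem aut_le : G ≤ autG 100 adj := by
  rw [G, Subgroup.closure_le]
  intro s hs
  rcases hs with rfl | rfl | rfl | rfl | rfl
  · exact mkPerm_mem_autG iA (rowsOK_of_chk (chkInv_lt iA) (chkInv_inj iA) kA)
  · exact mkPerm_mem_autG iB (rowsOK_of_chk (chkInv_lt iB) (chkInv_inj iB) kB)
  · exact mkPerm_mem_autG iC (rowsOK_of_chk (chkInv_lt iC) (chkInv_inj iC) kC)
  · exact mkPerm_mem_autG iD (rowsOK_of_chk (chkInv_lt iD) (chkInv_inj iD) kD)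
  · exact mkPerm_mem_autG iE (rowsOK_of_chk (chkInv_lt iE) (chkInv_inj iE) kE)

theorem pT_mem : pT ∈ autG 100 adj :=
  mkPerm_mem_autG iT (rowsOK_of_chk (chkInv_lt iT) (chkInv_inj iT) kT)

theorem chain_ok : chainB 100 adj [] base = true := by decide +kernel
theorem dist_ok : chkDist 100 adj (maskL (lastF [] base)) rk od = true := by decide +kernel

theorem card_aut_le : Nat.card (autG 100 adj) ≤ 1209600 := by
  have h := card_autG_le chain_ok dist_ok
  have h2 : prodC base = 1209600 := by decide +kernel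
  rwa [h2] at h

/-- the number of moved points of the odd involution -/
theorem cntT : cntB (fun v => nbeq (lk tT v) v) 100 86 = true := by decide +kernel

theorem sign_T : Perm.sign pT = -1 := by
  have h1 : pT * pT = 1 := by
    ext i
    exact (chkInv_spec iT i).2.2.1
  have h2 : pT.support.card = 86 := by
    rw [← card_fin_of_cntB _ 100 86 cntT]
    refine congrArg Finset.card ?_
    ext v
    rw [Perm.mem_support, Finset.mem_filter, nbeq_iff]
    exact ⟨fun h => ⟨Finset.mem_univ _, fun h' => h (Fin.ext h')⟩,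
      fun h h' => h.2 (Fin.ext_iff.1 h')⟩
  rw [sign_of_involution h1, h2]
  decide

theorem card_G : Nat.card G = 604800 := by
  have h1 := two_mul_card_le aut_le sign_G pT_mem sign_T
  have h2 := card_aut_le
  have h3 := card_ge
  omega

/-! ### simplicity -/

theorem c_cover : allB (fun v => cond (Nat.beq v 0) true (cond (Nat.beq (lk c1 v) 2047)
    (nbeq (lk c1b v) 2047) true)) 100 = true := by decide +kernel

theorem trans (v : Fin 100) : ∃ g ∈ G, g x0 = v := by
  refine orb_of_chk inA (inAll fun _ h => h) or0 v ?_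
  have : allB (fun v => nbeq (lk c0 v) 2047) 100 = true := by decide +kernel
  exact (nbeq_iff _ _).1 ((allB_iff _ _).1 this v v.2)

theorem simple : IsSimpleGroup G := by
  refine isSimpleGroup_rank3 (p := 5) G x0 trans {v : Fin 100 | lk c1 v ≠ 2047}
    {v : Fin 100 | lk c1b v ≠ 2047} ?_ ?_ ?_ ?_ ?_ ?_ ?_ (by norm_num) ?_ gens rfl uvAll ?_
  · intro h
    exact h (by decide +kernel)
  · intro h
    exact h (by decide +kernel)
  · intro v
    have h := (allB_iff _ _).1 c_cover v v.2
    cases h1 : Nat.beq (v : ℕ) 0 with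
    | true => exact Or.inl (Fin.ext (Nat.eq_of_beq_eq_true h1))
    | false =>
      rw [h1, cond_false] at h
      cases h2 : Nat.beq (lk c1 v) 2047 with
      | true =>
        rw [h2, cond_true] at h
        exact Or.inr (Or.inr ((nbeq_iff _ _).1 h))
      | false => exact Or.inr (Or.inl (Nat.ne_of_beq_eq_false h2))
  · intro y hy z hz
    exact orb_pair psu0 (mem2 psu0 psu1) or1 y z hy hz
  · intro y hy z hz
    exact orb_pair psu0 (mem2 psu0 psu1) or1b y z hy hz
  · rw [ncard_of_cntOrb cn1, Nat.card_eq_fintype_card, Fintype.card_fin]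
    decide
  · rw [ncard_of_cntOrb cn1b, Nat.card_eq_fintype_card, Fintype.card_fin]
    decide
  · intro k hk
    rw [card_G, Nat.card_eq_fintype_card, Fintype.card_fin] at hk
    have : k = 6048 := by omega
    rw [this]; decide
  · rw [card_G]; decide

end

end Cfsg.Agent.SporadicA.J2Hundred
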