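import Mathlib

/-!
Uniqueness of the symmetric `2-(11,5,2)` design (biplane).
-/

set_option autoImplicit false

namespace Cfsg.Agent.SporadicA.Biplane

/-- A fixed incidence matrix of the biplane; rows are blocks, columns are points. -/
def M1 : Fin 11 → Fin 11 → Bool :=
  ![![true, true, true, true, true, false, false, false, false, false, false],
    ![true, true, false, false, false, true, true, true, false, false, false],
    ![true, false, true, false, false, true, false, false, true, true, false],
    ![true, false, false, true, false, false, true, false, true, false, true],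
    ![true, false, false, false, true, false, false, true, false, true, true],
    ![false, true, true, false, false, false, true, false, false, true, true],
    ![false, true, false, true, false, false, false, true, true, true, false],
    ![false, true, false, false, true, true, false, false, true, false, true],
    ![false, false, true, true, false, true, false, true, false, false, true],
    ![false, false, true, false, true, false, true, true, true, false, false],
    ![false, false, false, true, true, true, true, false, false, true, false]]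

/-- The permutation exchanging the two solutions. -/
def sg : Equiv.Perm (Fin 11) := Equiv.swap 3 4 * Equiv.swap 6 7 * Equiv.swap 8 9

/-- The mirror image of `M1`. -/
def M2 : Fin 11 → Fin 11 → Bool := fun j i => M1 (sg j) (sg i)

/-- Number of common `true` entries. -/
def cnt (r s : Fin 11 → Bool) : ℕ :=
  (r 0 && s 0).toNat + (r 1 && s 1).toNat + (r 2 && s 2).toNat + (r 3 && s 3).toNat +
  (r 4 && s 4).toNat + (r 5 && s 5).toNat + (r 6 && s 6).toNat + (r 7 && s 7).toNat +
  (r 8 && s 8).toNat + (r 9 && s 9).toNat + (r 10 && s 10).toNat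

theorem row_dec : ∀ j : Fin 11, ∀ b5 b6 b7 b8 b9 b10 : Bool, 5 ≤ j.val →
    cnt ![M1 j 0, M1 j 1, M1 j 2, M1 j 3, M1 j 4, b5, b6, b7, b8, b9, b10] (fun _ => true) = 5 →
    (∀ k : Fin 11, k.val < 5 →
      cnt ![M1 j 0, M1 j 1, M1 j 2, M1 j 3, M1 j 4, b5, b6, b7, b8, b9, b10] (M1 k) = 2) →
    (∀ i, (![M1 j 0, M1 j 1, M1 j 2, M1 j 3, M1 j 4, b5, b6, b7, b8, b9, b10] : Fin 11 → Bool) i
      = M1 j i) ∨
    (∀ i, (![M1 j 0, M1 j 1, M1 j 2, M1 j 3, M1 j 4, b5, b6, b7, b8, b9, b10] : Fin 11 → Bool) i
      = M2 j i) := by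
  decide +kernel

theorem row_cases (j : Fin 11) (hj : 5 ≤ j.val) (r : Fin 11 → Bool)
    (hr : ∀ i : Fin 11, i.val < 5 → r i = M1 j i)
    (h5 : cnt r (fun _ => true) = 5) (hk : ∀ k : Fin 11, k.val < 5 → cnt r (M1 k) = 2) :
    r = M1 j ∨ r = M2 j := by
  have hr' : r = ![M1 j 0, M1 j 1, M1 j 2, M1 j 3, M1 j 4, r 5, r 6, r 7, r 8, r 9, r 10] := by
    funext i
    fin_cases i
    · exact hr 0 (by decide)
    · exact hr 1 (by decide)
    · exact hr 2 (by decide)
    · exact hr 3 (by decide)
    · exact hr 4 (by decide)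
    all_goals rfl
  rw [hr'] at h5 hk
  rcases row_dec j (r 5) (r 6) (r 7) (r 8) (r 9) (r 10) hj h5 hk with h | h
  · left; rw [hr']; funext i; exact h i
  · right; rw [hr']; funext i; exact h i

theorem M12_ne : ∀ j : Fin 11, 6 ≤ j.val → cnt (M1 5) (M2 j) ≠ 2 ∧ cnt (M2 5) (M1 j) ≠ 2 := by
  decide +kernel

theorem M12_eq : ∀ j i : Fin 11, (j.val < 5 ∧ M2 j i = M1 j i) ∨ 5 ≤ j.val := by
  decide +kernel

theorem cnt_eq_card (r s : Fin 11 → Bool) :
    cnt r s = (Finset.univ.filter fun i => (r i = true ∧ s i = true)).card := by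
  rw [Finset.card_filter]
  have h : ∀ i, (if (r i = true ∧ s i = true) then 1 else 0) = (r i && s i).toNat := by
    intro i
    cases r i <;> cases s i <;> rfl
  simp only [h]
  simp only [cnt, Fin.sum_univ_succ, Fin.sum_univ_zero]
  simp only [add_assoc]
  rfl

/-- Uniqueness of the biplane: any `11` five-subsets of an `11`-set, pairwise meeting in two
points and such that any two points lie in exactly two of them, can be labelled as in `M1`. -/
theorem exists_label {E F : Type*} [Fintype E] [DecidableEq E] [Fintype F] [DecidableEq F]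
    (hE : Fintype.card E = 11) (hF : Fintype.card F = 11) (A : F → Finset E)
    (h1 : ∀ j, (A j).card = 5) (h2 : ∀ j k, j ≠ k → (A j ∩ A k).card = 2)
    (h3 : ∀ i i', i ≠ i' → (Finset.univ.filter fun j => i ∈ A j ∧ i' ∈ A j).card = 2) :
    ∃ (f : Fin 11 ≃ F) (g : Fin 11 ≃ E), ∀ j i, g i ∈ A (f j) ↔ M1 j i = true := by
  classical
  obtain ⟨x0⟩ : Nonempty F := Fintype.card_pos_iff.mp (by omega)
  -- label the points of the block `x0`
  have ha : ∃ a : Fin 5 → E, Function.Injective a ∧ ∀ p, p ∈ A x0 ↔ ∃ m, a m = p := by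
    have e : A x0 ≃ Fin 5 := (A x0).equivFinOfCardEq (h1 x0)
    refine ⟨fun m => (e.symm m : E), fun m n h => e.symm.injective (Subtype.ext h),
      fun p => ⟨fun hp => ⟨e ⟨p, hp⟩, by simp⟩, ?_⟩⟩
    rintro ⟨m, rfl⟩
    exact (e.symm m).2
  obtain ⟨a, ainj, hA0⟩ := ha
  -- the blocks through two points of `x0`
  have hy : ∀ k l : Fin 5, ∃ y : F, k ≠ l → y ≠ x0 ∧ ∀ m, a m ∈ A y ↔ m = k ∨ m = l := by
    intro k l
    by_cases hkl : k = l
    · exact ⟨x0, fun h => absurd hkl h⟩
    have hc := h3 (a k) (a l) (ainj.ne hkl)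
    obtain ⟨y, hy, hyx⟩ := Finset.exists_mem_ne (by omega : 1 < (Finset.univ.filter
      fun j => a k ∈ A j ∧ a l ∈ A j).card) x0
    rw [Finset.mem_filter] at hy
    refine ⟨y, fun _ => ⟨hyx, ?_⟩⟩
    have hI := h2 y x0 hyx
    have hk0 : a k ∈ A x0 := (hA0 _).2 ⟨k, rfl⟩
    have hl0 : a l ∈ A x0 := (hA0 _).2 ⟨l, rfl⟩
    have hsub : ({a k, a l} : Finset E) ⊆ A y ∩ A x0 := by
      intro z hz
      rw [Finset.mem_insert, Finset.mem_singleton] at hz
      rcases hz with rfl | rfl
      · exact Finset.mem_inter.2 ⟨hy.2.1, hk0⟩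
      · exact Finset.mem_inter.2 ⟨hy.2.2, hl0⟩
    have heq : ({a k, a l} : Finset E) = A y ∩ A x0 :=
      Finset.eq_of_subset_of_card_le hsub (by rw [hI, Finset.card_pair (ainj.ne hkl)])
    intro m
    constructor
    · intro hm
      have hm' : a m ∈ A y ∩ A x0 := Finset.mem_inter.2 ⟨hm, (hA0 _).2 ⟨m, rfl⟩⟩
      rw [← heq, Finset.mem_insert, Finset.mem_singleton] at hm'
      rcases hm' with h | h
      · exact Or.inl (ainj h)
      · exact Or.inr (ainj h)
    · rintro (rfl | rfl)
      · exact hy.2.1
      · exact hy.2.2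
  choose y hy using hy
  -- the remaining points
  have hp : ∀ k l : Fin 5, ∃ p : E, k ≠ 0 → l ≠ 0 → k ≠ l →
      p ∉ A x0 ∧ ∀ m, m ≠ 0 → (p ∈ A (y 0 m) ↔ m = k ∨ m = l) := by
    intro k l
    by_cases hk : k = 0
    · exact ⟨a 0, fun h => absurd hk h⟩
    by_cases hl : l = 0
    · exact ⟨a 0, fun _ h => absurd hl h⟩
    by_cases hkl : k = l
    · exact ⟨a 0, fun _ _ h => absurd hkl h⟩
    have hyne : ∀ m n : Fin 5, m ≠ 0 → n ≠ 0 → m ≠ n → y 0 m ≠ y 0 n := by
      intro m n hm hn hmn he
      have h1 := ((hy 0 m (Ne.symm hm)).2 m).2 (Or.inr rfl)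
      rw [he] at h1
      rcases ((hy 0 n (Ne.symm hn)).2 m).1 h1 with h | h
      · exact hm h
      · exact hmn h
    have hI := h2 (y 0 k) (y 0 l) (hyne k l hk hl hkl)
    obtain ⟨p, hp, hpa⟩ := Finset.exists_mem_ne (by omega : 1 < (A (y 0 k) ∩ A (y 0 l)).card) (a 0)
    rw [Finset.mem_inter] at hp
    refine ⟨p, fun _ _ _ => ⟨?_, ?_⟩⟩
    · intro hpx
      obtain ⟨m, rfl⟩ := (hA0 p).1 hpx
      rcases ((hy 0 k (Ne.symm hk)).2 m).1 hp.1 with h | h
      · exact hpa (by rw [h])
      · rcases ((hy 0 l (Ne.symm hl)).2 m).1 hp.2 with h' | h'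
        · exact hpa (by rw [h'])
        · exact hkl (h.symm.trans h')
    · intro m hm
      constructor
      · intro hmem
        by_contra hcon
        push Not at hcon
        have hc := h3 (a 0) p (Ne.symm hpa)
        have hsub : ({y 0 k, y 0 l, y 0 m} : Finset F) ⊆
            Finset.univ.filter fun j => a 0 ∈ A j ∧ p ∈ A j := by
          intro z hz
          simp only [Finset.mem_insert, Finset.mem_singleton] at hz
          rw [Finset.mem_filter]
          refine ⟨Finset.mem_univ _, ?_⟩
          rcases hz with rfl | rfl | rfl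
          · exact ⟨((hy 0 k (Ne.symm hk)).2 0).2 (Or.inl rfl), hp.1⟩
          · exact ⟨((hy 0 l (Ne.symm hl)).2 0).2 (Or.inl rfl), hp.2⟩
          · exact ⟨((hy 0 m (Ne.symm hm)).2 0).2 (Or.inl rfl), hmem⟩
        have h3c : ({y 0 k, y 0 l, y 0 m} : Finset F).card = 3 := by
          rw [Finset.card_eq_three]
          exact ⟨_, _, _, hyne k l hk hl hkl, hyne k m hk hm (Ne.symm hcon.1),
            hyne l m hl hm (Ne.symm hcon.2), rfl⟩
        have := Finset.card_le_card hsub
        omega
      · rintro (rfl | rfl)
        · exact hp.1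
        · exact hp.2
  choose p hp using hp
  -- the labellings
  let f0 : Fin 11 → F := ![x0, y 0 1, y 0 2, y 0 3, y 0 4, y 1 2, y 1 3, y 1 4, y 2 3, y 2 4, y 3 4]
  let g0 : Fin 11 → E := ![a 0, a 1, a 2, a 3, a 4, p 1 2, p 1 3, p 1 4, p 2 3, p 2 4, p 3 4]
  have hcolA : ∀ (j : Fin 11) (m : Fin 5), a m ∈ A (f0 j) ↔ M1 j (m.castLE (by decide)) = true := by
    intro j
    fin_cases j
    · intro m
      have h0 : ∀ m : Fin 5, M1 0 (m.castLE (by decide)) = true := by decide
      exact ⟨fun _ => h0 m, fun _ => (hA0 _).2 ⟨m, rfl⟩⟩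
    · intro m; exact ((hy 0 1 (by decide)).2 m).trans (by revert m; decide)
    · intro m; exact ((hy 0 2 (by decide)).2 m).trans (by revert m; decide)
    · intro m; exact ((hy 0 3 (by decide)).2 m).trans (by revert m; decide)
    · intro m; exact ((hy 0 4 (by decide)).2 m).trans (by revert m; decide)
    · intro m; exact ((hy 1 2 (by decide)).2 m).trans (by revert m; decide)
    · intro m; exact ((hy 1 3 (by decide)).2 m).trans (by revert m; decide)
    · intro m; exact ((hy 1 4 (by decide)).2 m).trans (by revert m; decide)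
    · intro m; exact ((hy 2 3 (by decide)).2 m).trans (by revert m; decide)
    · intro m; exact ((hy 2 4 (by decide)).2 m).trans (by revert m; decide)
    · intro m; exact ((hy 3 4 (by decide)).2 m).trans (by revert m; decide)
  have hcol : ∀ (j : Fin 11) (i : Fin 11), i.val < 5 → (g0 i ∈ A (f0 j) ↔ M1 j i = true) := by
    intro j i hi
    have h := hcolA j ⟨i.val, hi⟩
    have hg : g0 i = a ⟨i.val, hi⟩ := by
      fin_cases i
      · rfl
      · rfl
      · rfl
      · rfl
      · rfl
      all_goals (exact absurd hi (by decide))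
    rw [hg]
    exact h
  have hrow : ∀ (j : Fin 11) (i : Fin 11), j.val < 5 → (g0 i ∈ A (f0 j) ↔ M1 j i = true) := by
    intro j i hj
    by_cases hi : i.val < 5
    · exact hcol j i hi
    have key : ∀ k l : Fin 5, k ≠ 0 → l ≠ 0 → k ≠ l → ∀ m : Fin 5,
        (p k l ∈ A (f0 (m.castLE (by decide))) ↔ (m ≠ 0 ∧ (m = k ∨ m = l))) := by
      intro k l hk hl hkl m
      by_cases hm : m = 0
      · subst hm
        refine ⟨fun h => absurd h (hp k l hk hl hkl).1, fun h => absurd rfl h.1⟩
      · have hf : f0 (m.castLE (by decide)) = y 0 m := by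
          fin_cases m
          · exact absurd rfl hm
          all_goals rfl
        rw [hf, (hp k l hk hl hkl).2 m hm]
        tauto
    have hj' : j = (⟨j.val, hj⟩ : Fin 5).castLE (by decide) := rfl
    fin_cases i
    · exact absurd (by decide) hi
    · exact absurd (by decide) hi
    · exact absurd (by decide) hi
    · exact absurd (by decide) hi
    · exact absurd (by decide) hi
    all_goals rw [hj']
    · exact (key 1 2 (by decide) (by decide) (by decide) _).trans (by
        generalize (⟨j.val, hj⟩ : Fin 5) = m; revert m; decide)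
    · exact (key 1 3 (by decide) (by decide) (by decide) _).trans (by
        generalize (⟨j.val, hj⟩ : Fin 5) = m; revert m; decide)
    · exact (key 1 4 (by decide) (by decide) (by decide) _).trans (by
        generalize (⟨j.val, hj⟩ : Fin 5) = m; revert m; decide)
    · exact (key 2 3 (by decide) (by decide) (by decide) _).trans (by
        generalize (⟨j.val, hj⟩ : Fin 5) = m; revert m; decide)
    · exact (key 2 4 (by decide) (by decide) (by decide) _).trans (by
        generalize (⟨j.val, hj⟩ : Fin 5) = m; revert m; decide)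
    · exact (key 3 4 (by decide) (by decide) (by decide) _).trans (by
        generalize (⟨j.val, hj⟩ : Fin 5) = m; revert m; decide)
  have hf0 : Function.Injective f0 := by
    intro j j' h
    have : ∀ i : Fin 11, i.val < 5 → (M1 j i = M1 j' i) := by
      intro i hi
      have h1 := hcol j i hi
      have h2 := hcol j' i hi
      rw [h] at h1
      rw [Bool.eq_iff_iff]
      exact h1.symm.trans h2
    revert this
    clear * -
    revert j j'
    decide +kernel
  have hg0 : Function.Injective g0 := by
    intro i i' h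
    have : ∀ j : Fin 11, j.val < 5 → (M1 j i = M1 j i') := by
      intro j hj
      have h1 := hrow j i hj
      have h2 := hrow j i' hj
      rw [h] at h1
      rw [Bool.eq_iff_iff]
      exact h1.symm.trans h2
    revert this
    clear * -
    revert i i'
    decide +kernel
  have hfb : Function.Bijective f0 :=
    (Fintype.bijective_iff_injective_and_card f0).2 ⟨hf0, by rw [hF]; rfl⟩
  have hgb : Function.Bijective g0 :=
    (Fintype.bijective_iff_injective_and_card g0).2 ⟨hg0, by rw [hE]; rfl⟩
  let f : Fin 11 ≃ F := Equiv.ofBijective f0 hfb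
  let g : Fin 11 ≃ E := Equiv.ofBijective g0 hgb
  let T : Fin 11 → Fin 11 → Bool := fun j i => decide (g0 i ∈ A (f0 j))
  have hT : ∀ j i, T j i = true ↔ g0 i ∈ A (f0 j) := fun j i => by simp [T]
  have hTrow : ∀ j : Fin 11, j.val < 5 → T j = M1 j := by
    intro j hj
    funext i
    rw [Bool.eq_iff_iff, hT]
    exact hrow j i hj
  have hTcol : ∀ j i : Fin 11, i.val < 5 → T j i = M1 j i := by
    intro j i hi
    rw [Bool.eq_iff_iff, hT]
    exact hcol j i hi
  have hcard : ∀ s : Finset E, (Finset.univ.filter fun i => g0 i ∈ s).card = s.card := by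
    intro s
    have : s = (Finset.univ.filter fun i => g0 i ∈ s).map g.toEmbedding := by
      ext z
      simp only [Finset.mem_map, Finset.mem_filter, Finset.mem_univ, true_and,
        Equiv.coe_toEmbedding]
      constructor
      · intro hz
        refine ⟨g.symm z, ?_, g.apply_symm_apply z⟩
        have : g0 (g.symm z) = z := g.apply_symm_apply z
        rw [this]; exact hz
      · rintro ⟨i, hi, rfl⟩
        exact hi
    conv_rhs => rw [this]
    rw [Finset.card_map]
  have hcnt1 : ∀ j, cnt (T j) (fun _ => true) = 5 := by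
    intro j
    rw [cnt_eq_card, ← h1 (f0 j), ← hcard (A (f0 j))]
    congr 1
    ext i
    simp [hT]
  have hcnt2 : ∀ j k, j ≠ k → cnt (T j) (T k) = 2 := by
    intro j k hjk
    rw [cnt_eq_card, ← h2 (f0 j) (f0 k) (hf0.ne hjk), ← hcard (A (f0 j) ∩ A (f0 k))]
    congr 1
    ext i
    simp [hT]
  have hcase : ∀ j : Fin 11, 5 ≤ j.val → T j = M1 j ∨ T j = M2 j := by
    intro j hj
    refine row_cases j hj (T j) (hTcol j) (hcnt1 j) ?_
    intro k hk
    rw [← hTrow k hk]
    refine hcnt2 j k ?_
    rintro rfl
    omega
  have hfin : (T = M1) ∨ (T = M2) := by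
    rcases hcase 5 (by decide) with h | h
    · left
      funext j
      by_cases hj : j.val < 5
      · exact hTrow j hj
      · rcases hcase j (by omega) with h' | h'
        · exact h'
        · by_cases hj6 : 6 ≤ j.val
          · have h6 := hcnt2 5 j (by rintro rfl; exact absurd hj6 (by decide))
            rw [h, h'] at h6
            exact absurd h6 (M12_ne j hj6).1
          · have : j = 5 := by
              apply Fin.ext
              show j.val = 5
              omega
            rw [this, h]
    · right
      funext j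
      by_cases hj : j.val < 5
      · rw [hTrow j hj]
        funext i
        rcases M12_eq j i with h' | h'
        · exact h'.2.symm
        · omega
      · rcases hcase j (by omega) with h' | h'
        · by_cases hj6 : 6 ≤ j.val
          · have h6 := hcnt2 5 j (by rintro rfl; exact absurd hj6 (by decide))
            rw [h, h'] at h6
            exact absurd h6 (M12_ne j hj6).2
          · have : j = 5 := by
              apply Fin.ext
              show j.val = 5
              omega
            rw [this, h]
        · exact h'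
  rcases hfin with h | h
  · refine ⟨f, g, fun j i => ?_⟩
    rw [← h, hT]
    rfl
  · refine ⟨sg.trans f, sg.trans g, fun j i => ?_⟩
    have hh : M1 j i = M2 (sg j) (sg i) := by
      revert j i
      decide +kernel
    rw [hh, ← h, hT]
    rfl

end Cfsg.Agent.SporadicA.Biplane
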