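import Cfsg.Prelude.Def_Sporadic_a
import Cfsg.Agent.S0370
import Cfsg.Agent.S0371
import Cfsg.Agent.SporadicA.M24Mem
import Cfsg.Agent.SporadicA.SimpleCrit

/-!
Simplicity of `M₂₃`: the Sylow 23-subgroup of the stabiliser of `none` in `M24` is the group of
translations and its normaliser has order `23 * 11`.
-/

set_option autoImplicit false

namespace Cfsg.Agent.SporadicA.M23Simple

open Cfsg MulAction

theorem prime23 : Nat.Prime 23 := by norm_num

/-- translation by `b`, fixing the extra point -/
def tr (b : ZMod 23) : Equiv.Perm GolayPt := Equiv.optionCongr (Equiv.addRight b)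

theorem tr_none (b : ZMod 23) : tr b none = none := rfl

theorem tr_some (b x : ZMod 23) : tr b (some x) = some (x + b) := rfl

theorem tr_mem (b : ZMod 23) : tr b ∈ M24 := by
  refine M24Mem.mem_M24_of_qrWord _ fun t => ?_
  have h := M24Mem.qrWord_comp_affine (tr b) 1 b (by decide) rfl
    (fun x => by rw [tr_some]; congr 1; ring) (t - b)
  have e : (1 : ZMod 23) ^ 2 * (t - b) + b = t := by ring
  rw [e] at h
  rw [h]
  exact M24Mem.qrWord_mem_golayCode _

/-- multiplication by a unit, fixing the extra point -/
def mu (u : (ZMod 23)ˣ) : Equiv.Perm GolayPt := Equiv.optionCongr (Units.mulLeft u)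

theorem mu_none (u : (ZMod 23)ˣ) : mu u none = none := rfl

theorem mu_some (u : (ZMod 23)ˣ) (x : ZMod 23) : mu u (some x) = some (u * x) := rfl

theorem mu_mem (u : (ZMod 23)ˣ) (hu : IsSquare u) : mu u ∈ M24 := S0371.result u hu

/-- The stabiliser of the extra point. -/
abbrev M0 : Subgroup M24 := stabilizer M24 (none : GolayPt)

/-- underlying permutation of an element of `M0` -/
def toPerm (g : M0) : Equiv.Perm GolayPt := ((g : M24) : Equiv.Perm GolayPt)

theorem toPerm_injective : Function.Injective toPerm := fun _ _ h =>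
  Subtype.ext (Subtype.ext h)

theorem toPerm_mul (g h : M0) : toPerm (g * h) = toPerm g * toPerm h := rfl

theorem toPerm_inv (g : M0) : toPerm g⁻¹ = (toPerm g)⁻¹ := rfl

theorem toPerm_none (g : M0) : toPerm g none = none := g.2

theorem toPerm_mem (g : M0) : toPerm g ∈ M24 := (g : M24).2

/-- translations as elements of `M0` -/
def T (b : ZMod 23) : M0 := ⟨⟨tr b, tr_mem b⟩, rfl⟩

theorem toPerm_T (b : ZMod 23) : toPerm (T b) = tr b := rfl

theorem T_mul (a b : ZMod 23) : T a * T b = T (b + a) := by
  apply toPerm_injective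
  rw [toPerm_mul, toPerm_T, toPerm_T, toPerm_T]
  ext1 x
  rw [Equiv.Perm.mul_apply]
  cases x with
  | none => rfl
  | some x => rw [tr_some, tr_some, tr_some, add_assoc]

theorem T_injective : Function.Injective T := by
  intro a b h
  have h1 : toPerm (T a) (some 0) = toPerm (T b) (some 0) := by rw [h]
  rw [toPerm_T, toPerm_T, tr_some, tr_some, zero_add, zero_add] at h1
  exact Option.some.inj h1

/-- multiplications by squares as elements of `M0` -/
def Mu (u : {u : (ZMod 23)ˣ // IsSquare u}) : M0 := ⟨⟨mu u, mu_mem u u.2⟩, rfl⟩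

theorem toPerm_Mu (u : {u : (ZMod 23)ˣ // IsSquare u}) : toPerm (Mu u) = mu u := rfl

/-- The group of translations, as a subgroup of `M0`. -/
def P0 : Subgroup M0 where
  carrier := Set.range T
  one_mem' := ⟨0, by
    apply toPerm_injective
    rw [toPerm_T]
    ext1 x
    cases x with
    | none => rfl
    | some x => rw [tr_some, add_zero]; rfl⟩
  mul_mem' := by
    rintro _ _ ⟨a, rfl⟩ ⟨b, rfl⟩
    exact ⟨b + a, (T_mul a b).symm⟩
  inv_mem' := by
    rintro _ ⟨a, rfl⟩
    refine ⟨-a, ?_⟩
    rw [eq_inv_iff_mul_eq_one, T_mul, add_neg_cancel]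
    apply toPerm_injective
    rw [toPerm_T]
    ext1 x
    cases x with
    | none => rfl
    | some x => rw [tr_some, add_zero]; rfl

theorem mem_P0 (g : M0) : g ∈ P0 ↔ ∃ b, T b = g := Iff.rfl

theorem card_P0 : Nat.card P0 = 23 := by
  have : Nat.card P0 = Nat.card (ZMod 23) := by
    symm
    exact Nat.card_congr (Equiv.ofInjective T T_injective)
  rw [this, Nat.card_zmod]

/-- the word with support all nonzero residues is not in the code... in fact the word supported
on `{none, some 0}` is not in the code. -/
theorem dot_zero (w : GolayPt → ZMod 2) (hw : w ∈ golayCode) :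
    ∑ p, w p * qrWord 0 p = 0 := by
  have key : golayCode ≤ LinearMap.ker
      (∑ p : GolayPt, (qrWord 0 p) • LinearMap.proj (R := ZMod 2) (φ := fun _ : GolayPt => ZMod 2) p) := by
    conv_lhs => unfold golayCode
    rw [Submodule.span_le]
    rintro _ (⟨t, rfl⟩ | rfl)
    · rw [SetLike.mem_coe, LinearMap.mem_ker]
      simp only [LinearMap.sum_apply, LinearMap.smul_apply, LinearMap.proj_apply, smul_eq_mul]
      revert t
      decide
    · rw [SetLike.mem_coe, LinearMap.mem_ker]
      simp only [LinearMap.sum_apply, LinearMap.smul_apply, LinearMap.proj_apply, smul_eq_mul]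
      decide
  have := key hw
  rw [LinearMap.mem_ker] at this
  simp only [LinearMap.sum_apply, LinearMap.smul_apply, LinearMap.proj_apply, smul_eq_mul] at this
  rw [← this]
  exact Finset.sum_congr rfl fun p _ => mul_comm _ _

/-- `x ↦ -x` does not preserve the code. -/
theorem neg_not_mem (σ : Equiv.Perm GolayPt) (h0 : σ none = none)
    (h1 : ∀ x : ZMod 23, σ (some x) = some (-x)) : σ ∉ M24 := by
  intro hσ
  have h2 := (M24Mem.mem_M24_iff' σ).1 hσ (qrWord 0) (M24Mem.qrWord_mem_golayCode 0)
  have h3 := dot_zero _ h2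
  have h4 : (fun p => (qrWord 0 ∘ σ) p * qrWord 0 p) =
      fun p : GolayPt => match p with
        | none => 0
        | some x => (if ∃ r : ZMod 23, -x = r ^ 2 then 1 else 0) *
            (if ∃ r : ZMod 23, x = r ^ 2 then (1 : ZMod 2) else 0) := by
    funext p
    cases p with
    | none => simp only [Function.comp_apply, h0, M24Mem.qrWord_none, mul_zero]
    | some x => simp only [Function.comp_apply, h1, M24Mem.qrWord_some, add_zero]
  rw [h4] at h3
  revert h3
  decide

theorem exists_affine (h : M0) (hh : h ∈ Subgroup.normalizer (P0 : Set M0)) :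
    ∃ k c : ZMod 23, ∀ x : ZMod 23, toPerm h (some x) = some (k * x + c) := by
  have hh' : ∀ n : M0, n ∈ P0 ↔ h * n * h⁻¹ ∈ P0 := hh
  obtain ⟨k, hk⟩ := (hh' (T 1)).1 ⟨1, rfl⟩
  have hsome : ∀ x : ZMod 23, ∃ y, toPerm h (some x) = some y := by
    intro x
    rcases hx : toPerm h (some x) with _ | y
    · exfalso
      have := (toPerm h).injective (hx.trans (toPerm_none h).symm)
      simp at this
    · exact ⟨y, rfl⟩
  choose f hf using hsome
  have hstep : ∀ x, f (x + 1) = f x + k := by
    intro x
    have h1 : toPerm (T k * h) (some x) = toPerm (h * T 1) (some x) := by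
      rw [hk, inv_mul_cancel_right]
    rw [toPerm_mul, toPerm_mul, Equiv.Perm.mul_apply, Equiv.Perm.mul_apply, toPerm_T, toPerm_T,
      tr_some, hf, hf, tr_some] at h1
    exact (Option.some.inj h1).symm
  have hind : ∀ n : ℕ, f (n : ZMod 23) = k * n + f 0 := by
    intro n
    induction n with
    | zero => simp
    | succ n ih =>
      rw [Nat.cast_succ, hstep, ih]; ring
  refine ⟨k, f 0, fun x => ?_⟩
  rw [hf]
  congr 1
  have := hind x.val
  rwa [ZMod.natCast_zmod_val] at this

theorem neg_square : ∀ k : (ZMod 23)ˣ, ¬ IsSquare k → IsSquare (-k) := by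
  decide

/-- The map from pairs (square multiplier, translation) to the normaliser. -/
def F (x : {u : (ZMod 23)ˣ // IsSquare u} × ZMod 23) : Subgroup.normalizer (P0 : Set M0) :=
  ⟨T x.2 * Mu x.1, by
    have hconj : ∀ b : ZMod 23, T x.2 * Mu x.1 * T b = T ((x.1 : (ZMod 23)ˣ) * b) * (T x.2 * Mu x.1) := by
      intro b
      apply toPerm_injective
      simp only [toPerm_mul, toPerm_T, toPerm_Mu]
      ext1 y
      simp only [Equiv.Perm.mul_apply]
      cases y with
      | none => rfl
      | some y =>
        simp only [tr_some, mu_some]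
        congr 1
        ring
    change ∀ n : M0, n ∈ P0 ↔ (T x.2 * Mu x.1) * n * (T x.2 * Mu x.1)⁻¹ ∈ P0
    intro n
    constructor
    · rintro ⟨b, rfl⟩
      rw [hconj, mul_inv_cancel_right]
      exact ⟨_, rfl⟩
    · rintro ⟨b, hb⟩
      refine ⟨((x.1 : (ZMod 23)ˣ)⁻¹ : (ZMod 23)ˣ) * b, ?_⟩
      have h1 := hconj (((x.1 : (ZMod 23)ˣ)⁻¹ : (ZMod 23)ˣ) * b)
      rw [Units.mul_inv_cancel_left, hb, inv_mul_cancel_right] at h1
      exact mul_left_cancel h1⟩

theorem F_bijective : Function.Bijective F := by
  constructor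
  · rintro ⟨u, c⟩ ⟨v, d⟩ h
    have h0 : toPerm (T c * Mu u) = toPerm (T d * Mu v) := by
      have := congrArg Subtype.val h
      exact congrArg toPerm this
    have h1 := congrArg (fun σ : Equiv.Perm GolayPt => σ (some 0)) h0
    have h2 := congrArg (fun σ : Equiv.Perm GolayPt => σ (some 1)) h0
    simp only [toPerm_mul, toPerm_T, toPerm_Mu, Equiv.Perm.mul_apply, tr_some, mu_some, mul_zero,
      zero_add, mul_one, Option.some.injEq] at h1 h2
    subst h1
    have h3 := add_right_cancel h2
    have h4 : u = v := Subtype.ext (Units.ext h3)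
    rw [h4]
  · rintro ⟨h, hh⟩
    obtain ⟨k, c, hkc⟩ := exists_affine h hh
    have hk0 : k ≠ 0 := by
      intro hk
      have h1 : toPerm h (some 0) = toPerm h (some 1) := by
        rw [hkc, hkc, hk]; simp
      have := (toPerm h).injective h1
      revert this
      decide
    have : Fact (Nat.Prime 23) := ⟨prime23⟩
    by_cases hsq : IsSquare (Units.mk0 k hk0)
    · refine ⟨(⟨Units.mk0 k hk0, hsq⟩, c), ?_⟩
      apply Subtype.ext
      apply toPerm_injective
      change toPerm (T c * Mu _) = toPerm h
      ext1 y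
      rw [toPerm_mul, Equiv.Perm.mul_apply]
      cases y with
      | none => rw [toPerm_none h]; rfl
      | some y =>
        rw [hkc, toPerm_T, toPerm_Mu, mu_some, tr_some]
        rfl
    · exfalso
      have hsq' := neg_square _ hsq
      have hsq'' : IsSquare (-(Units.mk0 k hk0))⁻¹ := hsq'.inv
      refine neg_not_mem (mu (-(Units.mk0 k hk0))⁻¹ * (tr (-c) * toPerm h)) ?_ ?_ ?_
      · rw [Equiv.Perm.mul_apply, Equiv.Perm.mul_apply, toPerm_none, tr_none, mu_none]
      · intro x
        rw [Equiv.Perm.mul_apply, Equiv.Perm.mul_apply, hkc, tr_some, mu_some,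
          add_neg_cancel_right]
        congr 1
        rw [inv_neg, Units.val_neg, neg_mul]
        congr 1
        exact Units.inv_mul_cancel_left (Units.mk0 k hk0) x
      · exact M24.mul_mem (mu_mem _ hsq'') (M24.mul_mem (tr_mem _) (toPerm_mem h))

theorem card_normalizer : Nat.card (Subgroup.normalizer (P0 : Set M0)) = 23 * 11 := by
  rw [← Nat.card_congr (Equiv.ofBijective F F_bijective), Nat.card_prod, Nat.card_zmod]
  have : Nat.card {u : (ZMod 23)ˣ // IsSquare u} = 11 := by
    rw [Nat.card_eq_fintype_card]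
    decide
  rw [this]

theorem isSimpleGroup_M0 (hcard : Nat.card M0 = 10200960)
    (h2 : IsMultiplyPretransitive M24 GolayPt 3) : IsSimpleGroup M0 := by
  have hf : Fact (Nat.Prime 23) := ⟨prime23⟩
  have hfac : (Nat.card M0).factorization 23 = 1 := by
    rw [hcard, show 10200960 = 23 ^ 1 * 443520 by norm_num]
    rw [Nat.factorization_mul (by norm_num) (by norm_num), Nat.Prime.factorization_pow prime23]
    simp only [Finsupp.add_apply, Finsupp.single_eq_same]
    rw [Nat.factorization_eq_zero_of_not_dvd (by norm_num)]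
  let P : Sylow 23 M0 := Sylow.ofCard P0 (by rw [hfac, card_P0, pow_one])
  have hPc : (P : Subgroup M0) = P0 := rfl
  have htr1 : IsPretransitive M24 GolayPt := by
    have : IsMultiplyPretransitive M24 GolayPt 1 :=
      isMultiplyPretransitive_of_le (n := 3) (by norm_num) (by
        rw [Nat.card_eq_fintype_card]; decide)
    exact is_one_pretransitive_iff.1 this
  have hΩ2 : IsMultiplyPretransitive M0 (SubMulAction.ofStabilizer M24 (none : GolayPt)) 2 :=
    SubMulAction.ofStabilizer.isMultiplyPretransitive.1 h2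
  have hprim : IsPreprimitive M0 (SubMulAction.ofStabilizer M24 (none : GolayPt)) :=
    isPreprimitive_of_is_two_pretransitive hΩ2
  have hcΩ : Nat.card (SubMulAction.ofStabilizer M24 (none : GolayPt)) = 23 := by
    have := SubMulAction.nat_card_ofStabilizer_eq M24 (none : GolayPt)
    rw [this, Nat.card_eq_fintype_card]
    rfl
  have hfaith : FaithfulSMul M0 (SubMulAction.ofStabilizer M24 (none : GolayPt)) := by
    constructor
    intro g h hgh
    apply toPerm_injective
    ext1 x
    cases x with
    | none => rw [toPerm_none, toPerm_none]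
    | some x =>
      have := hgh ⟨some x, by rw [SubMulAction.mem_ofStabilizer_iff]; simp⟩
      exact congrArg Subtype.val this
  have hne : Nonempty (SubMulAction.ofStabilizer M24 (none : GolayPt)) := by
    rw [← Finite.card_pos_iff, hcΩ]; norm_num
  refine SimpleCrit.isSimpleGroup_of_primitive (Ω := SubMulAction.ofStabilizer M24 (none : GolayPt))
    hprim 23 11 (by norm_num) (by rw [hcΩ]) P ?_ ?_ ?_
  · exact card_P0
  · exact card_normalizer
  · rw [hcard]; norm_num

end Cfsg.Agent.SporadicA.M23Simple
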