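import Cfsg.Agent.SporadicA.LeechCoordCount
import Cfsg.Agent.SporadicA.LeechSet

/-!
A lattice in frame coordinates with 196560 minimal vectors is the Leech lattice, up to a bijection of
the coordinates and a change of signs. The uniqueness of the length-24 code is an input `hcode`.
-/

set_option autoImplicit false

namespace Cfsg.Agent.SporadicA.LeechCoordIso

open Cfsg Cfsg.Agent.SporadicA.LeechCoord Cfsg.Agent.SporadicA.LeechCoordCode

variable {Λ : AddSubgroup (Fin 24 → ℤ)}

theorem mem_leech_iff (h : Coord Λ) (e : Fin 24 ≃ GolayPt)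
    (he : ∀ w : GolayPt → ZMod 2, w ∈ golayCode ↔ (fun i => w (e i)) ∈ code Λ)
    (u : Fin 24 → ℤ) (hu : ∀ i, u i = 1 ∨ u i = -1) (i0 : Fin 24)
    (hy0 : (fun i => u i * (1 - 4 * (Pi.single i0 1 : Fin 24 → ℤ) i)) ∈ Λ) (v : GolayPt → ℤ) :
    v ∈ leechLattice ↔ (fun i => u i * v (e i)) ∈ Λ := by
  set y0 : Fin 24 → ℤ := fun i => u i * (1 - 4 * (Pi.single i0 1 : Fin 24 → ℤ) i) with hy0def
  have huu : ∀ i, u i * u i = 1 := fun i => by
    rcases hu i with h | h <;> rw [h] <;> norm_num
  have hdot : ∑ i, (u i * v (e i)) * y0 i = ∑ p, v p - 4 * v (e i0) := by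
    have h1 : ∀ i, (u i * v (e i)) * y0 i =
        v (e i) - 4 * (v (e i) * (Pi.single i0 1 : Fin 24 → ℤ) i) := by
      intro i
      have := huu i
      simp only [hy0def]
      linear_combination (v (e i) * (1 - 4 * (Pi.single i0 1 : Fin 24 → ℤ) i)) * this
    rw [Finset.sum_congr rfl fun i _ => h1 i, Finset.sum_sub_distrib, ← Finset.mul_sum,
      Equiv.sum_comp e v]
    congr 2
    rw [Finset.sum_eq_single i0]
    · rw [Pi.single_eq_same, mul_one]
    · intro b _ hb
      rw [Pi.single_eq_of_ne hb, mul_zero]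
    · intro hj
      exact absurd (Finset.mem_univ i0) hj
  have hy0odd : ∀ i, y0 i % 2 = 1 := by
    intro i
    simp only [hy0def]
    by_cases hi : i = i0
    · subst hi
      rw [Pi.single_eq_same]
      rcases hu i with h | h <;> rw [h] <;> norm_num
    · rw [Pi.single_eq_of_ne hi]
      rcases hu i with h | h <;> rw [h] <;> norm_num
  rw [LeechSet.mem_leechLattice_iff']
  constructor
  · rintro ⟨m, z, hz, hs, hc⟩
    rw [he] at hc
    obtain ⟨z', hz', hzz⟩ := hc
    replace hzz : ∀ i, ((z (e i) : ℤ) : ZMod 2) = ((z' i : ℤ) : ZMod 2) := hzz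
    have hev : ∀ i, (2 : ℤ) ∣ u i * z (e i) - z' i := by
      intro i
      have h1 : ((z (e i) - z' i : ℤ) : ZMod 2) = 0 := by
        rw [Int.cast_sub, hzz i, sub_self]
      rw [cast_eq_zero_iff] at h1
      rcases hu i with h | h <;> rw [h] <;> omega
    choose b hb using hev
    have hmy : m • y0 + (fun i => 2 * z' i) ∈ Λ := Λ.add_mem (Λ.zsmul_mem hy0 m) hz'
    let a : Fin 24 → ℤ := fun i => b i + m * u i * (Pi.single i0 1 : Fin 24 → ℤ) i
    have hya : ∀ i, u i * v (e i) = (m • y0 + (fun i => 2 * z' i)) i + 4 * a i := by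
      intro i
      simp only [Pi.add_apply, Pi.smul_apply, smul_eq_mul, a, hy0def]
      have h1 := hb i
      have h2 := hz (e i)
      rw [h2]
      linear_combination 2 * h1
    apply mem_of_congr h hmy a _ hya
    -- parity of the sum of `a`
    have h1 : (8 : ℤ) ∣ ∑ i, (u i * v (e i)) * y0 i := by
      rw [hdot]
      have h2 := hs.dvd
      rw [hz (e i0)]
      omega
    have h2 := h.dot _ hmy _ hy0
    have h3 : ∑ i, (u i * v (e i)) * y0 i =
        ∑ i, (m • y0 + (fun i => 2 * z' i)) i * y0 i + 4 * ∑ i, a i * y0 i := by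
      rw [Finset.mul_sum, ← Finset.sum_add_distrib]
      apply Finset.sum_congr rfl
      intro i _
      rw [hya i]
      ring
    have h4 : (2 : ℤ) ∣ ∑ i, a i * y0 i := by omega
    have h5 : (2 : ℤ) ∣ ∑ i, a i * (y0 i - 1) := by
      apply Finset.dvd_sum
      intro i _
      apply Dvd.dvd.mul_left
      have := hy0odd i
      omega
    have h6 : ∑ i, a i * (y0 i - 1) = ∑ i, a i * y0 i - ∑ i, a i := by
      rw [← Finset.sum_sub_distrib]
      apply Finset.sum_congr rfl
      intro i _
      ring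
    rw [h6] at h5
    omega
  · intro hy
    have hpar : ∀ i, (2 : ℤ) ∣ v (e i) - v (e i0) := by
      intro i
      have h1 : (2 : ℤ) ∣ u i * v (e i) - u i0 * v (e i0) := h.par _ hy i i0
      rcases hu i with h | h <;> rcases hu i0 with h' | h' <;> rw [h, h'] at h1 <;> omega
    have hpar' : ∀ p, (2 : ℤ) ∣ v p - v (e i0) := by
      intro p
      have := hpar (e.symm p)
      rwa [e.apply_symm_apply] at this
    choose z hz using hpar'
    refine ⟨v (e i0), z, fun p => by linarith [hz p], ?_, ?_⟩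
    · have h1 := h.dot _ hy _ hy0
      rw [hdot] at h1
      rw [Int.modEq_iff_dvd]
      omega
    · rw [he]
      refine ⟨fun i => u i * z (e i) + 2 * (v (e i0) * u i * (Pi.single i0 1 : Fin 24 → ℤ) i),
        ?_, ?_⟩
      · convert Λ.sub_mem hy (Λ.zsmul_mem hy0 (v (e i0))) using 1
        funext i
        simp only [Pi.sub_apply, Pi.smul_apply, smul_eq_mul, hy0def]
        have := hz (e i)
        linear_combination (-(u i)) * this
      · intro i
        rw [← sub_eq_zero, ← Int.cast_sub, cast_eq_zero_iff]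
        have h1 : (2 : ℤ) ∣ z (e i) - u i * z (e i) := by
          rcases hu i with h | h <;> rw [h] <;> omega
        have h2 : (2 : ℤ) ∣ 2 * (v (e i0) * u i * (Pi.single i0 1 : Fin 24 → ℤ) i) :=
          Dvd.intro _ rfl
        have h3 := dvd_sub h1 h2
        rw [sub_sub] at h3
        exact h3

/-- The main theorem of this file, with the uniqueness of the code as an input. -/
theorem exists_iso (h : Coord Λ)
    (hM : {y : Fin 24 → ℤ | y ∈ Λ ∧ ∑ i, y i ^ 2 = 32}.ncard = 196560)
    (hcode : ∀ C : Submodule (ZMod 2) (Fin 24 → ZMod 2), Module.finrank (ZMod 2) C = 12 →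
      (∀ v ∈ C, ∀ w ∈ C, ∑ i, v i * w i = 0) → (∀ w ∈ C, 4 ∣ hammingNorm w) →
      (∀ w ∈ C, hammingNorm w ≠ 4) → ∃ e : Fin 24 ≃ GolayPt, ∀ w : GolayPt → ZMod 2,
        w ∈ golayCode ↔ (fun i => w (e i)) ∈ C) :
    ∃ (e : Fin 24 ≃ GolayPt) (u : Fin 24 → ℤ), (∀ i, u i = 1 ∨ u i = -1) ∧
      ∀ v : GolayPt → ℤ, v ∈ leechLattice ↔ (fun i => u i * v (e i)) ∈ Λ := by
  obtain ⟨hdim, y, hy, i0, hi0, hi⟩ := LeechCoordCount.main h hM
  obtain ⟨e, he⟩ := hcode (code Λ) hdim (fun v hv w hw => orth h hv hw)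
    (fun w hw => four_dvd h hw) (fun w hw h4 => by
      have := eight_le h hw (by
        rintro rfl
        simp at h4)
      omega)
  let u : Fin 24 → ℤ := fun i => if i = i0 then (if y i = 3 then -1 else 1) else y i
  have hu : ∀ i, u i = 1 ∨ u i = -1 := by
    intro i
    simp only [u]
    by_cases h1 : i = i0
    · rw [if_pos h1]
      split_ifs <;> simp
    · rw [if_neg h1]
      exact hi i h1
  refine ⟨e, u, hu, fun v => mem_leech_iff h e he u hu i0 ?_ v⟩
  convert hy using 1
  funext i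
  simp only [u]
  by_cases h1 : i = i0
  · subst h1
    rw [if_pos rfl, Pi.single_eq_same]
    rcases hi0 with h2 | h2 <;> rw [h2] <;> norm_num
  · rw [if_neg h1, Pi.single_eq_of_ne h1]
    ring

end Cfsg.Agent.SporadicA.LeechCoordIso
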