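import Mathlib

/-!
Conway's frame: an even positive definite lattice of rank 24 without vectors of norm 2 and with
196560, 16773120 and 398034000 vectors of norms 4, 6, 8 has 24 mutually orthogonal vectors of norm 8
that are congruent modulo 2.
-/

set_option autoImplicit false
set_option linter.constructorNameAsVariable false

open Matrix

namespace Cfsg.Agent.SporadicA.LeechFrame

/-- The bilinear form. -/
def bf (B : Matrix (Fin 24) (Fin 24) ℤ) (x y : Fin 24 → ℤ) : ℤ := x ⬝ᵥ (B *ᵥ y)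

theorem bf_def (B : Matrix (Fin 24) (Fin 24) ℤ) (x y : Fin 24 → ℤ) :
    bf B x y = x ⬝ᵥ (B *ᵥ y) := rfl

variable {B : Matrix (Fin 24) (Fin 24) ℤ}

theorem bf_comm (hs : B.IsSymm) (x y : Fin 24 → ℤ) : bf B x y = bf B y x := by
  unfold bf
  rw [dotProduct_mulVec, ← mulVec_transpose, hs.eq, dotProduct_comm]

theorem bf_add_left (x y z : Fin 24 → ℤ) : bf B (x + y) z = bf B x z + bf B y z := by
  unfold bf
  rw [add_dotProduct]

theorem bf_sub_left (x y z : Fin 24 → ℤ) : bf B (x - y) z = bf B x z - bf B y z := by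
  unfold bf
  rw [sub_dotProduct]

theorem bf_smul_left (c : ℤ) (x z : Fin 24 → ℤ) : bf B (c • x) z = c * bf B x z := by
  unfold bf
  rw [smul_dotProduct, smul_eq_mul]

theorem bf_add_right (x y z : Fin 24 → ℤ) : bf B x (y + z) = bf B x y + bf B x z := by
  unfold bf
  rw [mulVec_add, dotProduct_add]

theorem bf_sub_right (x y z : Fin 24 → ℤ) : bf B x (y - z) = bf B x y - bf B x z := by
  unfold bf
  rw [mulVec_sub, dotProduct_sub]

theorem bf_smul_right (c : ℤ) (x z : Fin 24 → ℤ) : bf B x (c • z) = c * bf B x z := by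
  unfold bf
  rw [mulVec_smul, dotProduct_smul, smul_eq_mul]

theorem bf_zero_left (z : Fin 24 → ℤ) : bf B 0 z = 0 := by
  unfold bf
  rw [zero_dotProduct]

/-- The hypotheses on the form. -/
structure Good (B : Matrix (Fin 24) (Fin 24) ℤ) : Prop where
  symm : B.IsSymm
  pos : ∀ x : Fin 24 → ℤ, x ≠ 0 → 0 < bf B x x
  even : ∀ x : Fin 24 → ℤ, (2 : ℤ) ∣ bf B x x
  two : ∀ x : Fin 24 → ℤ, bf B x x ≠ 2

theorem four_le (h : Good B) {x : Fin 24 → ℤ} (hx : x ≠ 0) : 4 ≤ bf B x x := by
  have h1 := h.pos x hx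
  have h2 := h.even x
  have h3 := h.two x
  omega

theorem short (h : Good B) {v w : Fin 24 → ℤ} (hv : bf B v v ≤ 8) (hw : bf B w w ≤ 8)
    (hvw : ∀ i, (2 : ℤ) ∣ v i - w i) (h1 : v ≠ w) (h1' : v ≠ -w) :
    bf B v v = 8 ∧ bf B w w = 8 ∧ bf B v w = 0 := by
  choose z hz using hvw
  have hvz : v = w + (2 : ℤ) • z := by
    funext i
    have := hz i
    simp only [Pi.add_apply, Pi.smul_apply, smul_eq_mul]
    linarith
  have hz0 : z ≠ 0 := by
    rintro rfl
    apply h1
    rw [hvz, smul_zero, add_zero]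
  have hz1 : z + w ≠ 0 := by
    intro h0
    apply h1'
    rw [hvz, eq_neg_of_add_eq_zero_left h0, two_smul]
    abel
  have a1 := four_le h hz0
  have a2 := four_le h hz1
  rw [bf_add_left, bf_add_right, bf_add_right] at a2
  have c := bf_comm h.symm w z
  subst hvz
  rw [bf_add_left, bf_add_right, bf_add_right, bf_smul_left, bf_smul_right, bf_smul_left,
    bf_smul_right] at hv ⊢
  rw [bf_add_left, bf_smul_left]
  rw [c] at a2 hv ⊢
  refine ⟨?_, ?_, ?_⟩ <;> linarith

/-- The reduction modulo 2. -/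
def red (x : Fin 24 → ℤ) : Fin 24 → ZMod 2 := fun i => (x i : ZMod 2)

theorem red_eq {x y : Fin 24 → ℤ} (h : red x = red y) (i : Fin 24) : (2 : ℤ) ∣ x i - y i := by
  have h1 : ((x i - y i : ℤ) : ZMod 2) = 0 := by
    rw [Int.cast_sub]
    exact sub_eq_zero.2 (congrFun h i)
  have := (ZMod.intCast_zmod_eq_zero_iff_dvd (x i - y i) 2).1 h1
  simpa using this

theorem fiber_card_le (h : Good B) (S : Finset (Fin 24 → ℤ)) (n : ℤ) (hn : n < 8)
    (hS : ∀ x ∈ S, bf B x x = n) : S.card ≤ 2 * (S.image red).card := by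
  classical
  apply Finset.card_le_mul_card_image
  intro c hc
  obtain ⟨v, hv, hvc⟩ := Finset.mem_image.1 hc
  have hsub : S.filter (fun x => red x = c) ⊆ {v, -v} := by
    intro w hw
    rw [Finset.mem_filter] at hw
    rw [Finset.mem_insert, Finset.mem_singleton]
    by_contra hcon
    push Not at hcon
    have := short h (v := w) (w := v) (by rw [hS w hw.1]; omega) (by rw [hS v hv]; omega)
      (red_eq (hw.2.trans hvc.symm)) hcon.1 hcon.2
    rw [hS v hv] at this
    omega
  exact (Finset.card_le_card hsub).trans Finset.card_le_two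

theorem disj (h : Good B) (S T : Finset (Fin 24 → ℤ)) (m n : ℤ) (hm : m ≤ 8) (hn : n ≤ 8)
    (hmn : m ≠ n) (hS : ∀ x ∈ S, bf B x x = m) (hT : ∀ x ∈ T, bf B x x = n) :
    Disjoint (S.image red) (T.image red) := by
  classical
  rw [Finset.disjoint_left]
  intro c hc hc'
  obtain ⟨v, hv, hvc⟩ := Finset.mem_image.1 hc
  obtain ⟨w, hw, hwc⟩ := Finset.mem_image.1 hc'
  have e1 := hS v hv
  have e2 := hT w hw
  have h1 : v ≠ w := by
    rintro rfl
    omega
  have h2 : v ≠ -w := by
    rintro rfl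
    have : bf B (-w) (-w) = bf B w w := by
      have e : (-w) = (-1 : ℤ) • w := by simp
      rw [e, bf_smul_left, bf_smul_right]
      ring
    omega
  have := short h (v := v) (w := w) (by omega) (by omega) (red_eq (hvc.trans hwc.symm)) h1 h2
  omega

/-- Some class modulo 2 holds at least 48 vectors of norm 8. -/
theorem exists_class (h : Good B) (h4 : {x : Fin 24 → ℤ | bf B x x = 4}.ncard = 196560)
    (h6 : {x : Fin 24 → ℤ | bf B x x = 6}.ncard = 16773120)
    (h8 : {x : Fin 24 → ℤ | bf B x x = 8}.ncard = 398034000) :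
    ∃ S : Finset (Fin 24 → ℤ), 48 ≤ S.card ∧ (∀ v ∈ S, bf B v v = 8) ∧
      ∀ v ∈ S, ∀ w ∈ S, ∀ i, (2 : ℤ) ∣ v i - w i := by
  classical
  have f4 : {x : Fin 24 → ℤ | bf B x x = 4}.Finite :=
    Set.finite_of_ncard_ne_zero (by rw [h4]; norm_num)
  have f6 : {x : Fin 24 → ℤ | bf B x x = 6}.Finite :=
    Set.finite_of_ncard_ne_zero (by rw [h6]; norm_num)
  have f8 : {x : Fin 24 → ℤ | bf B x x = 8}.Finite :=
    Set.finite_of_ncard_ne_zero (by rw [h8]; norm_num)
  obtain ⟨S4, hS4⟩ := f4.exists_finset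
  obtain ⟨S6, hS6⟩ := f6.exists_finset
  obtain ⟨S8, hS8⟩ := f8.exists_finset
  have c4 : S4.card = 196560 := by
    rw [← h4, ← Set.ncard_coe_finset]
    congr 1
    ext x
    exact hS4 x
  have c6 : S6.card = 16773120 := by
    rw [← h6, ← Set.ncard_coe_finset]
    congr 1
    ext x
    exact hS6 x
  have c8 : S8.card = 398034000 := by
    rw [← h8, ← Set.ncard_coe_finset]
    congr 1
    ext x
    exact hS8 x
  have m4 : ∀ x ∈ S4, bf B x x = 4 := fun x hx => (hS4 x).1 hx
  have m6 : ∀ x ∈ S6, bf B x x = 6 := fun x hx => (hS6 x).1 hx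
  have m8 : ∀ x ∈ S8, bf B x x = 8 := fun x hx => (hS8 x).1 hx
  have m0 : ∀ x ∈ ({0} : Finset (Fin 24 → ℤ)), bf B x x = 0 := by
    intro x hx
    rw [Finset.mem_singleton] at hx
    rw [hx, bf_zero_left]
  have k4 := fiber_card_le h S4 4 (by norm_num) m4
  have k6 := fiber_card_le h S6 6 (by norm_num) m6
  have d04 := disj h _ _ 0 4 (by norm_num) (by norm_num) (by norm_num) m0 m4
  have d06 := disj h _ _ 0 6 (by norm_num) (by norm_num) (by norm_num) m0 m6
  have d08 := disj h _ _ 0 8 (by norm_num) (by norm_num) (by norm_num) m0 m8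
  have d46 := disj h _ _ 4 6 (by norm_num) (by norm_num) (by norm_num) m4 m6
  have d48 := disj h _ _ 4 8 (by norm_num) (by norm_num) (by norm_num) m4 m8
  have d68 := disj h _ _ 6 8 (by norm_num) (by norm_num) (by norm_num) m6 m8
  have k0 : (({0} : Finset (Fin 24 → ℤ)).image red).card = 1 := by
    rw [Finset.image_singleton, Finset.card_singleton]
  have u1 : (({0} : Finset (Fin 24 → ℤ)).image red ∪ S4.image red ∪ S6.image red ∪
      S8.image red).card = 1 + (S4.image red).card + (S6.image red).card +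
        (S8.image red).card := by
    rw [Finset.card_union_of_disjoint, Finset.card_union_of_disjoint,
      Finset.card_union_of_disjoint d04, k0]
    · exact Finset.disjoint_union_left.2 ⟨d06, d46⟩
    · exact Finset.disjoint_union_left.2 ⟨Finset.disjoint_union_left.2 ⟨d08, d48⟩, d68⟩
  have u2 := Finset.card_le_univ (({0} : Finset (Fin 24 → ℤ)).image red ∪ S4.image red ∪
    S6.image red ∪ S8.image red)
  rw [u1, Fintype.card_fun, ZMod.card, Fintype.card_fin] at u2
  have u3 : (2 : ℕ) ^ 24 = 16777216 := by norm_num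
  rw [u3] at u2
  by_contra hcon
  push Not at hcon
  have k8 : S8.card ≤ 47 * (S8.image red).card := by
    apply Finset.card_le_mul_card_image
    intro c hc
    by_contra hgt
    push Not at hgt
    obtain ⟨v, hv, w, hw, i, hi⟩ := hcon (S8.filter (fun x => red x = c)) hgt
      (fun v hv => m8 v (Finset.mem_filter.1 hv).1)
    exact hi (red_eq ((Finset.mem_filter.1 hv).2.trans (Finset.mem_filter.1 hw).2.symm) i)
  omega

/-- Existence of a frame. -/
theorem exists_frame (h : Good B) (h4 : {x : Fin 24 → ℤ | bf B x x = 4}.ncard = 196560)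
    (h6 : {x : Fin 24 → ℤ | bf B x x = 6}.ncard = 16773120)
    (h8 : {x : Fin 24 → ℤ | bf B x x = 8}.ncard = 398034000) :
    ∃ t : Fin 24 → (Fin 24 → ℤ), (∀ i, bf B (t i) (t i) = 8) ∧
      (∀ i j, i ≠ j → bf B (t i) (t j) = 0) ∧ ∀ i j k, (2 : ℤ) ∣ t i k - t j k := by
  classical
  obtain ⟨S, hS48, hS8, hS2⟩ := exists_class h h4 h6 h8
  obtain ⟨P, hP⟩ : ∃ P : Finset (Finset (Fin 24 → ℤ)), ∀ T, T ∈ P ↔ T ⊆ S ∧
      ∀ v ∈ T, ∀ w ∈ T, v ≠ w → bf B v w = 0 := by
    refine ⟨S.powerset.filter fun T => ∀ v ∈ T, ∀ w ∈ T, v ≠ w → bf B v w = 0, fun T => ?_⟩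
    simp only [Finset.mem_filter, Finset.mem_powerset]
  have hne : P.Nonempty := ⟨∅, (hP ∅).2 ⟨Finset.empty_subset _, by simp⟩⟩
  obtain ⟨T, hT, hmax⟩ := Finset.exists_max_image P Finset.card hne
  obtain ⟨hTS, hTo⟩ := (hP T).1 hT
  have hcov : S ⊆ T ∪ T.image (fun x => -x) := by
    intro v hv
    by_contra hcon
    rw [Finset.mem_union, not_or, Finset.mem_image] at hcon
    obtain ⟨hv1, hv2⟩ := hcon
    have horth : ∀ w ∈ T, bf B v w = 0 := by
      intro w hw
      have h1 : v ≠ w := by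
        rintro rfl
        exact hv1 hw
      have h2 : v ≠ -w := by
        rintro rfl
        exact hv2 ⟨w, hw, rfl⟩
      exact (short h (hS8 v hv).le (hS8 w (hTS hw)).le (hS2 v hv w (hTS hw)) h1 h2).2.2
    have hmem : insert v T ∈ P := by
      rw [hP]
      refine ⟨Finset.insert_subset hv hTS, ?_⟩
      intro a ha b hb hab
      rw [Finset.mem_insert] at ha hb
      rcases ha with rfl | ha <;> rcases hb with rfl | hb
      · exact absurd rfl hab
      · exact horth b hb
      · rw [bf_comm h.symm]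
        exact horth a ha
      · exact hTo a ha b hb hab
    have := hmax _ hmem
    rw [Finset.card_insert_of_notMem hv1] at this
    omega
  have hcard : 24 ≤ T.card := by
    have h1 := Finset.card_le_card hcov
    have h2 := Finset.card_union_le T (T.image (fun x => -x))
    have h3 : (T.image (fun x => -x)).card ≤ T.card := Finset.card_image_le
    omega
  obtain ⟨T', hT', hT'c⟩ := Finset.exists_subset_card_eq hcard
  let e := (T'.equivFinOfCardEq hT'c).symm
  refine ⟨fun i => (e i : Fin 24 → ℤ), fun i => hS8 _ (hTS (hT' (e i).2)), fun i j hij => ?_,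
    fun i j k => hS2 _ (hTS (hT' (e i).2)) _ (hTS (hT' (e j).2)) k⟩
  apply hTo _ (hT' (e i).2) _ (hT' (e j).2)
  intro heq
  exact hij (e.injective (Subtype.ext heq))

/-- Parseval's identity for a frame. -/
theorem parseval (h : Good B) (t : Fin 24 → (Fin 24 → ℤ)) (t8 : ∀ i, bf B (t i) (t i) = 8)
    (t0 : ∀ i j, i ≠ j → bf B (t i) (t j) = 0) (x y : Fin 24 → ℤ) :
    ∑ i, bf B x (t i) * bf B y (t i) = 8 * bf B x y := by
  let T : Matrix (Fin 24) (Fin 24) ℤ := Matrix.of t
  let P : Matrix (Fin 24) (Fin 24) ℤ := B * Tᵀ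
  have hTP : T * P = (8 : ℤ) • (1 : Matrix (Fin 24) (Fin 24) ℤ) := by
    ext i j
    have h1 : (T * P) i j = bf B (t i) (t j) := rfl
    rw [h1, Matrix.smul_apply, smul_eq_mul]
    by_cases hij : i = j
    · subst hij
      rw [t8, Matrix.one_apply_eq, mul_one]
    · rw [t0 i j hij, Matrix.one_apply_ne hij, mul_zero]
  have hdet : P.det ≠ 0 := by
    intro h0
    have h1 := congrArg Matrix.det hTP
    rw [Matrix.det_mul, h0, mul_zero, Matrix.det_smul, Matrix.det_one, mul_one] at h1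
    have : (8 : ℤ) ^ Fintype.card (Fin 24) ≠ 0 := pow_ne_zero _ (by norm_num)
    exact this h1.symm
  have hPT : P * T = (8 : ℤ) • (1 : Matrix (Fin 24) (Fin 24) ℤ) := by
    have h1 : (P * T - (8 : ℤ) • (1 : Matrix (Fin 24) (Fin 24) ℤ)) * P = 0 := by
      rw [Matrix.sub_mul, Matrix.mul_assoc, hTP, Matrix.mul_smul, Matrix.mul_one, Matrix.smul_mul,
        Matrix.one_mul, sub_self]
    have h2 : (P * T - (8 : ℤ) • (1 : Matrix (Fin 24) (Fin 24) ℤ)) * P * P.adjugate = 0 := by
      rw [h1, Matrix.zero_mul]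
    rw [Matrix.mul_assoc, Matrix.mul_adjugate, Matrix.mul_smul, Matrix.mul_one] at h2
    have h3 := (smul_eq_zero.1 h2).resolve_left hdet
    exact sub_eq_zero.1 h3
  have hPP : P * Pᵀ = (8 : ℤ) • B := by
    have h1 : Pᵀ = T * B := by
      rw [Matrix.transpose_mul, Matrix.transpose_transpose, h.symm.eq]
    rw [h1, ← Matrix.mul_assoc, hPT, Matrix.smul_mul, Matrix.one_mul]
  have hx : ∀ x : Fin 24 → ℤ, (fun i => bf B x (t i)) = x ᵥ* P := by
    intro x
    funext i
    have h1 : B *ᵥ t i = P.col i := rfl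
    unfold bf
    rw [h1]
    rfl
  have h1 : ∑ i, bf B x (t i) * bf B y (t i) = (x ᵥ* P) ⬝ᵥ (y ᵥ* P) := by
    rw [← hx, ← hx]
    rfl
  rw [h1, ← Matrix.mulVec_transpose P y, Matrix.dotProduct_mulVec, Matrix.vecMul_vecMul, hPP,
    Matrix.vecMul_smul, smul_dotProduct, ← Matrix.dotProduct_mulVec, smul_eq_mul]
  rfl

end Cfsg.Agent.SporadicA.LeechFrame
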