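import Mathlib
import Cfsg.Agent.SporadicA.SteinerMask

/-!
# A checked search for Steiner systems S(t, t+1, n)

The known blocks are a list `K` of binary words.  One step of the search takes a `t`-subset `T` and runs
through the blocks containing it that do not contradict `K`; two branches that differ by a permutation
from a list `Sg` are identified, and at the end one of these permutations takes the standard
system into the blocks found.
-/

set_option autoImplicit false

namespace Cfsg.Agent.SporadicA.SteinerSolve

open Finset Cfsg.Agent.SporadicA.SteinerMask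

/-- at least `t` ones -/
def geN : ℕ → ℕ → Bool
  | 0, _ => true
  | t + 1, x => !(Nat.beq x 0) && geN t (x &&& (x - 1))

theorem geN_iff {f : ℕ} : ∀ (t x : ℕ), x < 2 ^ f → (geN t x = true ↔ t ≤ popc f x)
  | 0, x, _ => by simp [geN]
  | t + 1, x, hx => by
    rw [geN]
    by_cases h0 : x = 0
    · rw [h0, popc_of_zero]
      simp
    · rw [SteinerMask.beq_false h0, Bool.not_false, Bool.true_and,
        geN_iff t _ (lt_of_le_of_lt Nat.and_le_left hx), popc_drop f x h0 hx]
      omega

/-- no contradiction with the blocks of `K` -/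
def noConf (t : ℕ) (K : List ℕ) (c : ℕ) : Bool := K.all fun k => Nat.beq c k || !(geN t (c &&& k))

/-- the possible blocks through the `t`-subset `T` -/
def cand (n t : ℕ) (K : List ℕ) (T : ℕ) : List ℕ :=
  ((List.range n).map fun x => T ||| (1 <<< x)).filter fun c => !(Nat.beq c T) && noConf t K c

/-- action of a permutation, given by the list of its values, on words -/
def actM : List ℕ → ℕ → ℕ
  | [], _ => 0
  | a :: l, m => (m % 2) * 2 ^ a + actM l (m / 2)

/-- The search. -/
def solve (n t : ℕ) (Sg : List (List ℕ)) (Std : List ℕ) : List ℕ → List ℕ → Bool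
  | [], K => Sg.any fun s => Std.all fun m => K.contains (actM s m)
  | T :: Ts, K => (K.any fun k => Nat.beq (k &&& T) T) && solve n t Sg Std Ts K ||
    match cand n t K T with
    | [] => true
    | c' :: cs => solve n t Sg Std Ts (c' :: K) &&
        cs.all fun c => (Sg.any fun s => (c' :: K).all fun k => (c :: K).contains (actM s k)) ||
          solve n t Sg Std Ts (c :: K)

/-- the list of values of a permutation -/
def permOK (n : ℕ) (l : List ℕ) : Bool :=
  Nat.beq l.length n && (l.all fun x => Nat.blt x n) && decide l.Nodup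

theorem actM_eq : ∀ (l : List ℕ) (m : ℕ), actM l m =
    ∑ i : Fin l.length, if m.testBit i = true then 2 ^ (l.get i) else 0
  | [], m => by simp [actM]
  | a :: l, m => by
    rw [actM, actM_eq l]
    rw [show (∑ i : Fin (a :: l).length, if m.testBit (i : ℕ) = true then 2 ^ ((a :: l).get i) else 0) =
      ∑ i : Fin (l.length + 1), if m.testBit (i : ℕ) = true then 2 ^ ((a :: l).get i) else 0 from rfl]
    rw [Fin.sum_univ_succ]
    congr 1
    · simp only [Fin.val_zero, Nat.testBit_zero, decide_eq_true_eq]
      rcases Nat.mod_two_eq_zero_or_one m with h | h <;> simp [h]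
    · refine Finset.sum_congr rfl fun i _ => ?_
      rw [Fin.val_succ, Nat.testBit_succ]
      rfl

theorem exists_perm {n : ℕ} {l : List ℕ} (h : permOK n l = true) :
    ∃ σ : Equiv.Perm (Fin n), ∀ m, (ofMask n m).map σ.toEmbedding = ofMask n (actM l m) := by
  rw [permOK, Bool.and_eq_true, Bool.and_eq_true, decide_eq_true_eq] at h
  obtain ⟨⟨h1, h2⟩, h3⟩ := h
  have h1' := Nat.eq_of_beq_eq_true h1
  subst h1'
  rw [List.all_eq_true] at h2
  let f : Fin l.length → Fin l.length := fun i => ⟨l.get i, by
    have := h2 (l.get i) (List.get_mem l i)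
    rwa [Nat.blt_eq] at this⟩
  have hf : Function.Injective f := by
    intro i j hij
    have : l.get i = l.get j := congrArg Fin.val hij
    exact (List.nodup_iff_injective_get.1 h3) this
  have hbij : Function.Bijective f := Finite.injective_iff_bijective.1 hf
  refine ⟨Equiv.ofBijective f hbij, fun m => ?_⟩
  have key : mask ((ofMask l.length m).map (Equiv.ofBijective f hbij).toEmbedding) = actM l m := by
    rw [mask, Finset.sum_map, ofMask, Finset.sum_filter, actM_eq]
    rfl
  rw [← key, ofMask_mask]

variable {α : Type*} {B : Set (Finset α)}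

/-- all words of `K` are blocks in the labelling `e` -/
def Known (B : Set (Finset α)) {n : ℕ} (e : Fin n ≃ α) (K : List ℕ) : Prop :=
  ∀ k ∈ K, k < 2 ^ n ∧ (ofMask n k).map e.toEmbedding ∈ B

theorem exists_cand {n t : ℕ} {K : List ℕ} {T : ℕ} {S : Set (Finset (Fin n))}
    (hS : Cfsg.IsSteinerSystem t (t + 1) S) (hK : ∀ k ∈ K, k < 2 ^ n ∧ ofMask n k ∈ S)
    (hT : T < 2 ^ n) (hTt : popc n T = t) :
    ∃ c ∈ cand n t K T, c < 2 ^ n ∧ ofMask n c ∈ S := by
  have hcT : (ofMask n T).card = t := by rw [card_ofMask, hTt]
  obtain ⟨b, ⟨hb, hTb⟩, -⟩ := hS.2 (ofMask n T) hcT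
  have hbc := hS.1 b hb
  obtain ⟨x, hx⟩ : ∃ x, b \ ofMask n T = {x} := by
    rw [← Finset.card_eq_one, Finset.card_sdiff_of_subset hTb, hbc, hcT]
    omega
  have hbx : b = insert x (ofMask n T) := by
    rw [← Finset.union_sdiff_of_subset hTb, hx, Finset.union_comm]; rfl
  have hmask : mask b = T ||| (1 <<< (x : ℕ)) := by
    apply Nat.eq_of_testBit_eq
    intro i
    rw [Bool.eq_iff_iff, testBit_mask, Nat.testBit_or, Bool.or_eq_true, Nat.one_shiftLeft,
      Nat.testBit_two_pow, decide_eq_true_eq]
    constructor
    · rintro ⟨h, hi⟩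
      rw [hbx, Finset.mem_insert, mem_ofMask] at hi
      rcases hi with hi | hi
      · right; rw [← hi]
      · left; exact hi
    · rintro (hi | hi)
      · have h : i < n := by
          by_contra hn
          rw [Nat.testBit_lt_two_pow (lt_of_lt_of_le hT
            (Nat.pow_le_pow_right (by norm_num) (not_lt.1 hn)))] at hi
          exact Bool.false_ne_true hi
        exact ⟨h, by rw [hbx, Finset.mem_insert, mem_ofMask]; exact Or.inr hi⟩
      · subst hi
        exact ⟨x.2, by rw [hbx]; exact Finset.mem_insert_self _ _⟩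
  refine ⟨mask b, ?_, mask_lt b, by rw [ofMask_mask]; exact hb⟩
  rw [cand, List.mem_filter, List.mem_map]
  refine ⟨⟨x, List.mem_range.2 x.2, hmask.symm⟩, ?_⟩
  rw [Bool.and_eq_true]
  constructor
  · rw [Bool.not_eq_true', SteinerMask.beq_false]
    intro h
    have : popc n (mask b) = popc n T := by rw [h]
    rw [popc_mask, hbc, hTt] at this
    omega
  · rw [noConf, List.all_eq_true]
    intro k hk
    rw [Bool.or_eq_true]
    by_cases hbk : mask b = k
    · left; rw [hbk]; exact Nat.beq_refl k
    · right
      rw [Bool.not_eq_true', ← Bool.not_eq_true, geN_iff (f := n) t _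
        (lt_of_le_of_lt Nat.and_le_left (mask_lt b)), not_le]
      by_contra hcon
      rw [not_lt] at hcon
      apply hbk
      obtain ⟨h1, h2⟩ := hK k hk
      have e1 := mask_ofMask h1
      rw [← e1, popc_mask_and] at hcon
      rw [← e1, eq_of_card_inter hS hb h2 hcon]

theorem cand_lt {n t : ℕ} {K : List ℕ} {T : ℕ} (hT : T < 2 ^ n) : ∀ c ∈ cand n t K T, c < 2 ^ n := by
  intro c hc
  rw [cand, List.mem_filter, List.mem_map] at hc
  obtain ⟨⟨x, hx, rfl⟩, -⟩ := hc
  rw [List.mem_range] at hx
  refine Nat.or_lt_two_pow hT ?_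
  rw [Nat.one_shiftLeft]
  exact Nat.pow_lt_pow_right (by norm_num) hx

theorem solve_sound {n t : ℕ} {Sg : List (List ℕ)} {Std : List ℕ}
    (hB : Cfsg.IsSteinerSystem t (t + 1) B) (hSg : ∀ s ∈ Sg, permOK n s = true)
    (hStd : ∀ m ∈ Std, m < 2 ^ n) :
    ∀ (Ts K : List ℕ), (∀ T ∈ Ts, T < 2 ^ n ∧ popc n T = t) → solve n t Sg Std Ts K = true →
      ∀ e : Fin n ≃ α, Known B e K → ∃ e' : Fin n ≃ α, Known B e' Std
  | [], K, _, hs, e, hK => by
    rw [solve, List.any_eq_true] at hs
    obtain ⟨s, hs1, hs2⟩ := hs
    rw [List.all_eq_true] at hs2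
    obtain ⟨σ, hσ⟩ := exists_perm (hSg s hs1)
    refine ⟨σ.trans e, fun m hm => ⟨hStd m hm, ?_⟩⟩
    have h1 := hs2 m hm
    rw [List.contains_iff_mem] at h1
    obtain ⟨h2, h3⟩ := hK _ h1
    have : (ofMask n m).map (σ.trans e).toEmbedding =
        ((ofMask n m).map σ.toEmbedding).map e.toEmbedding := by
      rw [Finset.map_map]; rfl
    rw [this, hσ]
    exact h3
  | T :: Ts, K, hTs, hs, e, hK => by
    have hTs' : ∀ T ∈ Ts, T < 2 ^ n ∧ popc n T = t := fun T hT => hTs T (List.mem_cons_of_mem _ hT)
    rw [solve, Bool.or_eq_true, Bool.and_eq_true] at hs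
    rcases hs with hs | hs
    · exact solve_sound hB hSg hStd Ts K hTs' hs.2 e hK
    · obtain ⟨hT1, hT2⟩ := hTs T List.mem_cons_self
      obtain ⟨c, hc, hc1, hc2⟩ := exists_cand (steiner_pull hB e) (K := K) (T := T)
        (fun k hk => hK k hk) hT1 hT2
      have hcK : Known B e (c :: K) := by
        intro k hk
        rcases List.mem_cons.1 hk with rfl | hk
        · exact ⟨hc1, hc2⟩
        · exact hK k hk
      have hlt := cand_lt (t := t) (K := K) hT1
      revert hs hc hlt
      generalize cand n t K T = C
      intro hs hc hlt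
      cases C with
      | nil => exact absurd hc List.not_mem_nil
      | cons c' cs =>
        simp only [Bool.and_eq_true, List.all_eq_true] at hs
        obtain ⟨hs1, hs2⟩ := hs
        rcases List.mem_cons.1 hc with rfl | hc
        · exact solve_sound hB hSg hStd Ts _ hTs' hs1 e hcK
        · have h1 := hs2 c hc
          rw [Bool.or_eq_true] at h1
          rcases h1 with h1 | h1
          · rw [List.any_eq_true] at h1
            obtain ⟨s, hsS, hs3⟩ := h1
            rw [List.all_eq_true] at hs3
            obtain ⟨σ, hσ⟩ := exists_perm (hSg s hsS)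
            refine solve_sound hB hSg hStd Ts (c' :: K) hTs' hs1 (σ.trans e) ?_
            intro k hk
            have h4 := hs3 k hk
            rw [List.contains_iff_mem] at h4
            obtain ⟨h2, h3⟩ := hcK _ h4
            constructor
            · rcases List.mem_cons.1 hk with rfl | hk
              · exact hlt _ List.mem_cons_self
              · exact (hK k hk).1
            · have : (ofMask n k).map (σ.trans e).toEmbedding =
                  ((ofMask n k).map σ.toEmbedding).map e.toEmbedding := by
                rw [Finset.map_map]; rfl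
              rw [this, hσ]
              exact h3
          · exact solve_sound hB hSg hStd Ts _ hTs' h1 e hcK

end Cfsg.Agent.SporadicA.SteinerSolve
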