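import Mathlib
import Cfsg.Agent.SporadicA.SteinerSolve

/-!
# The Steiner systems S(4, 5, 11)

Every system has a labelling by `Fin 11` in which its blocks are the sixty-six words of the list `Std11`.
-/

set_option autoImplicit false

namespace Cfsg.Agent.SporadicA.Steiner11

open Finset Cfsg.Agent.SporadicA.SteinerMask Cfsg.Agent.SporadicA.SteinerSolve

/-- the blocks of the standard system -/
def Std11 : List ℕ :=
  [31, 103, 121, 171, 182, 213, 218, 236, 301, 314, 334, 339, 372, 391, 412, 433, 457, 482, 558, 565,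
    587, 604, 626, 653, 659, 696, 710, 737, 790, 793, 803, 837, 872, 906, 932, 976, 1075, 1084,
    1101, 1110, 1130, 1166, 1177, 1189, 1219, 1264, 1291, 1301, 1318, 1368, 1377, 1426, 1448, 1476,
    1543, 1562, 1577, 1617, 1636, 1684, 1698, 1736, 1804, 1840, 1858, 1921]

/-- the order in which the four-subsets are treated -/
def Ts11 : List ℕ :=
  [39, 135, 519, 43, 523, 267, 1059, 291, 275, 147, 195, 45, 269, 525, 77, 141, 1061, 293, 165, 53,
    149, 277, 85, 197, 325, 297, 57, 89, 105, 553, 537, 153, 201, 393, 649, 113, 177, 593, 401, 785,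
    225, 353, 609, 417, 673, 449, 833, 897, 300, 46, 556, 1068, 60, 108, 204, 270, 78, 142, 166, 54,
    150, 294, 278, 86, 198, 326, 58, 90, 106, 554, 538, 154, 202, 394, 650, 114, 178, 594, 402, 786,
    226, 354, 610, 418, 674, 450, 834, 898, 92, 156, 284, 540, 588, 396, 780, 116, 564, 212, 404,
    660, 228, 356, 612, 420, 804, 452, 708, 900, 184, 312, 216, 344, 232, 360, 424, 808, 456, 712,
    840, 240, 368, 432, 688, 816, 464, 720]

/-- permutations -/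
def Sg11 : List (List ℕ) :=
  [[0, 1, 2, 3, 4, 5, 7, 6, 8, 9, 10], [0, 1, 2, 3, 4, 5, 8, 7, 6, 9, 10], [0, 1, 2, 3, 4, 5, 9, 7, 8,
    6, 10], [0, 1, 2, 3, 4, 5, 10, 7, 8, 9, 6], [0, 1, 2, 3, 4, 5, 6, 7, 9, 8, 10], [0, 1, 2, 3, 4,
    5, 6, 7, 10, 9, 8], [0, 1, 2, 3, 4, 5, 6, 8, 7, 9, 10], [0, 1, 2, 3, 4, 5, 6, 9, 10, 7, 8], [0,
    1, 2, 3, 4, 5, 6, 10, 9, 7, 8], [0, 1, 2, 3, 4, 7, 8, 5, 6, 9, 10], [0, 1, 2, 3, 4, 5, 6, 7, 8,
    9, 10], [0, 1, 2, 3, 4, 6, 5, 9, 10, 7, 8], [0, 1, 2, 3, 4, 10, 9, 8, 7, 6, 5], [0, 1, 2, 3, 4,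
    9, 10, 6, 5, 8, 7], [0, 1, 2, 3, 4, 8, 7, 10, 9, 5, 6], [0, 1, 2, 3, 4, 7, 8, 5, 6, 10, 9]]

theorem Sg11_ok : ∀ s ∈ Sg11, permOK 11 s = true := by decide +kernel

theorem Ts11_ok : ∀ T ∈ Ts11, T < 2 ^ 11 ∧ popc 11 T = 4 := by decide +kernel

theorem Std11_lt : ∀ m ∈ Std11, m < 2 ^ 11 := by decide +kernel

theorem solve11 : solve 11 4 Sg11 Std11 Ts11 [31] = true := by decide +kernel

theorem Std11_cover : ∀ T < 2 ^ 11, popc 11 T = 4 → ∃ m ∈ Std11, T &&& m = T := by decide +kernel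

end Cfsg.Agent.SporadicA.Steiner11
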