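import Mathlib
import Cfsg.Agent.SporadicA.SteinerSolve

/-!
# Uniqueness of Steiner systems S(t, t+1, n) from the checked search
-/

set_option autoImplicit false

namespace Cfsg.Agent.SporadicA.SteinerSolveIso

open Finset Cfsg.Agent.SporadicA.SteinerMask Cfsg.Agent.SporadicA.SteinerSolve

/-- a labelling in which a given subset gets given labels -/
theorem exists_equiv_map {n : ℕ} {α : Type*} [Fintype α] [DecidableEq α] (hα : Fintype.card α = n)
    (s : Finset (Fin n)) (b : Finset α) (h : s.card = b.card) :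
    ∃ e : Fin n ≃ α, s.map e.toEmbedding = b := by
  let g : s ≃ b := Finset.equivOfCardEq h
  let f : Fin n → α := fun i => if hi : i ∈ s then (g ⟨i, hi⟩ : α) else
    (Fintype.equivFinOfCardEq hα).symm i
  have hinj : Set.InjOn f s := by
    intro x hx y hy hxy
    have hx' : x ∈ s := hx
    have hy' : y ∈ s := hy
    simp only [f, dif_pos hx', dif_pos hy'] at hxy
    have := g.injective (Subtype.ext hxy)
    exact congrArg (fun z : s => (z : Fin n)) this
  obtain ⟨e, he⟩ := Finset.exists_equiv_extend_of_card_eq (t := (Finset.univ : Finset α))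
    (by rw [Finset.card_univ, hα, Fintype.card_fin]) (s := s) (f := f) (Finset.subset_univ _) hinj
  refine ⟨e.trans (Equiv.subtypeUnivEquiv (by simp)), ?_⟩
  apply Finset.eq_of_subset_of_card_le
  · intro y hy
    obtain ⟨x, hx, rfl⟩ := Finset.mem_map.1 hy
    show ((e x : (Finset.univ : Finset α)) : α) ∈ b
    rw [he x hx]
    simp only [f, dif_pos hx]
    exact (g ⟨x, hx⟩).2
  · rw [Finset.card_map, h]

theorem exists_first {n t k : ℕ} {α : Type*} [Fintype α] [DecidableEq α] (hα : Fintype.card α = n)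
    (htn : t ≤ n) {B : Set (Finset α)} (hB : Cfsg.IsSteinerSystem t k B) {m : ℕ} (hm : m < 2 ^ n)
    (hmk : popc n m = k) : ∃ e : Fin n ≃ α, Known B e [m] := by
  obtain ⟨T, -, hT⟩ := Finset.exists_subset_card_eq (s := (Finset.univ : Finset α)) (n := t)
    (by rw [Finset.card_univ, hα]; exact htn)
  obtain ⟨b, ⟨hb, -⟩, -⟩ := hB.2 T hT
  obtain ⟨e, he⟩ := exists_equiv_map hα (ofMask n m) b (by rw [card_ofMask, hmk, hB.1 b hb])
  refine ⟨e, fun k hk => ?_⟩
  rw [List.mem_singleton] at hk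
  subst hk
  exact ⟨hm, by rw [he]; exact hb⟩

/-- a system that contains a family covering all the `t`-subsets is that family -/
theorem mem_iff_of_known {n t k : ℕ} {α : Type*} {B : Set (Finset α)}
    (hB : Cfsg.IsSteinerSystem t k B) (htk : t ≤ k) {e : Fin n ≃ α} {Std : List ℕ}
    (h : Known B e Std) (hcov : ∀ T < 2 ^ n, popc n T = t → ∃ m ∈ Std, T &&& m = T)
    (s : Finset (Fin n)) : s.map e.toEmbedding ∈ B ↔ mask s ∈ Std := by
  have hS := steiner_pull hB e
  constructor
  · intro hs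
    have hs' : s ∈ {s : Finset (Fin n) | s.map e.toEmbedding ∈ B} := hs
    obtain ⟨T, hT, hTt⟩ := Finset.exists_subset_card_eq (s := s) (n := t)
      (by rw [hS.1 s hs']; exact htk)
    obtain ⟨m, hm, hTm⟩ := hcov (mask T) (mask_lt T) (by rw [popc_mask, hTt])
    obtain ⟨h1, h2⟩ := h m hm
    rw [← mask_ofMask h1, mask_and_eq_iff_subset] at hTm
    have : s = ofMask n m := by
      apply eq_of_card_inter hS hs' h2
      rw [← hTt]
      exact Finset.card_le_card (Finset.subset_inter hT hTm)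
    rw [this, mask_ofMask h1]
    exact hm
  · intro hs
    have := (h _ hs).2
    rwa [ofMask_mask] at this

theorem exists_standard {n t : ℕ} {α : Type*} [Fintype α] [DecidableEq α]
    (hα : Fintype.card α = n) (htn : t ≤ n) {B : Set (Finset α)}
    (hB : Cfsg.IsSteinerSystem t (t + 1) B) {Sg : List (List ℕ)} {Std Ts : List ℕ} {m0 : ℕ}
    (hm0 : m0 < 2 ^ n) (hmk : popc n m0 = t + 1)
    (hSg : ∀ s ∈ Sg, permOK n s = true) (hStd : ∀ m ∈ Std, m < 2 ^ n)
    (hTs : ∀ T ∈ Ts, T < 2 ^ n ∧ popc n T = t) (hsolve : solve n t Sg Std Ts [m0] = true)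
    (hcov : ∀ T < 2 ^ n, popc n T = t → ∃ m ∈ Std, T &&& m = T) :
    ∃ e : Fin n ≃ α, ∀ s : Finset (Fin n), s.map e.toEmbedding ∈ B ↔ mask s ∈ Std := by
  obtain ⟨e, he⟩ := exists_first hα htn hB hm0 hmk
  obtain ⟨e', he'⟩ := solve_sound hB hSg hStd Ts [m0] hTs hsolve e he
  exact ⟨e', mem_iff_of_known hB (Nat.le_succ t) he' hcov⟩

end Cfsg.Agent.SporadicA.SteinerSolveIso
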