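import Cfsg.Agent.SporadicA.PermTab
import Cfsg.Agent.SporadicA.SuzData
import Cfsg.Agent.SporadicA.SuzAdj

set_option autoImplicit false
set_option Elab.async false

/-!
The table `tE` is an automorphism of the Suzuki graph: kernel check, 64 rows at a time.
-/

namespace Cfsg.Agent.SporadicA.SuzAutE

open Cfsg.Agent.SporadicA.PermTab Cfsg.Agent.SporadicA.SuzData Cfsg.Agent.SporadicA.SuzAdj

theorem inv : chkInv 1782 tE tE = true := by decide +kernel

theorem k0 : chkAutBlk 1782 adj tE 0 64 = true := by decide +kernel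
theorem k1 : chkAutBlk 1782 adj tE 64 64 = true := by decide +kernel
theorem k2 : chkAutBlk 1782 adj tE 128 64 = true := by decide +kernel
theorem k3 : chkAutBlk 1782 adj tE 192 64 = true := by decide +kernel
theorem k4 : chkAutBlk 1782 adj tE 256 64 = true := by decide +kernel
theorem k5 : chkAutBlk 1782 adj tE 320 64 = true := by decide +kernel
theorem k6 : chkAutBlk 1782 adj tE 384 64 = true := by decide +kernel
theorem k7 : chkAutBlk 1782 adj tE 448 64 = true := by decide +kernel
theorem k8 : chkAutBlk 1782 adj tE 512 64 = true := by decide +kernel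
theorem k9 : chkAutBlk 1782 adj tE 576 64 = true := by decide +kernel
theorem k10 : chkAutBlk 1782 adj tE 640 64 = true := by decide +kernel
theorem k11 : chkAutBlk 1782 adj tE 704 64 = true := by decide +kernel
theorem k12 : chkAutBlk 1782 adj tE 768 64 = true := by decide +kernel
theorem k13 : chkAutBlk 1782 adj tE 832 64 = true := by decide +kernel
theorem k14 : chkAutBlk 1782 adj tE 896 64 = true := by decide +kernel
theorem k15 : chkAutBlk 1782 adj tE 960 64 = true := by decide +kernel
theorem k16 : chkAutBlk 1782 adj tE 1024 64 = true := by decide +kernel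
theorem k17 : chkAutBlk 1782 adj tE 1088 64 = true := by decide +kernel
theorem k18 : chkAutBlk 1782 adj tE 1152 64 = true := by decide +kernel
theorem k19 : chkAutBlk 1782 adj tE 1216 64 = true := by decide +kernel
theorem k20 : chkAutBlk 1782 adj tE 1280 64 = true := by decide +kernel
theorem k21 : chkAutBlk 1782 adj tE 1344 64 = true := by decide +kernel
theorem k22 : chkAutBlk 1782 adj tE 1408 64 = true := by decide +kernel
theorem k23 : chkAutBlk 1782 adj tE 1472 64 = true := by decide +kernel
theorem k24 : chkAutBlk 1782 adj tE 1536 64 = true := by decide +kernel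
theorem k25 : chkAutBlk 1782 adj tE 1600 64 = true := by decide +kernel
theorem k26 : chkAutBlk 1782 adj tE 1664 64 = true := by decide +kernel
theorem k27 : chkAutBlk 1782 adj tE 1728 54 = true := by decide +kernel

theorem blk {i0 l : ℕ} (h : chkAutBlk 1782 adj tE i0 l = true) : RowsOK 1782 adj tE i0 l :=
  rowsOK_of_chk (chkInv_lt inv) (chkInv_inj inv) h

theorem r0 : RowsOK 1782 adj tE 0 64 := blk k0
theorem r1 : RowsOK 1782 adj tE 0 128 := r0.append (l' := 64) (blk k1)
theorem r2 : RowsOK 1782 adj tE 0 192 := r1.append (l' := 64) (blk k2)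
theorem r3 : RowsOK 1782 adj tE 0 256 := r2.append (l' := 64) (blk k3)
theorem r4 : RowsOK 1782 adj tE 0 320 := r3.append (l' := 64) (blk k4)
theorem r5 : RowsOK 1782 adj tE 0 384 := r4.append (l' := 64) (blk k5)
theorem r6 : RowsOK 1782 adj tE 0 448 := r5.append (l' := 64) (blk k6)
theorem r7 : RowsOK 1782 adj tE 0 512 := r6.append (l' := 64) (blk k7)
theorem r8 : RowsOK 1782 adj tE 0 576 := r7.append (l' := 64) (blk k8)
theorem r9 : RowsOK 1782 adj tE 0 640 := r8.append (l' := 64) (blk k9)
theorem r10 : RowsOK 1782 adj tE 0 704 := r9.append (l' := 64) (blk k10)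
theorem r11 : RowsOK 1782 adj tE 0 768 := r10.append (l' := 64) (blk k11)
theorem r12 : RowsOK 1782 adj tE 0 832 := r11.append (l' := 64) (blk k12)
theorem r13 : RowsOK 1782 adj tE 0 896 := r12.append (l' := 64) (blk k13)
theorem r14 : RowsOK 1782 adj tE 0 960 := r13.append (l' := 64) (blk k14)
theorem r15 : RowsOK 1782 adj tE 0 1024 := r14.append (l' := 64) (blk k15)
theorem r16 : RowsOK 1782 adj tE 0 1088 := r15.append (l' := 64) (blk k16)
theorem r17 : RowsOK 1782 adj tE 0 1152 := r16.append (l' := 64) (blk k17)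
theorem r18 : RowsOK 1782 adj tE 0 1216 := r17.append (l' := 64) (blk k18)
theorem r19 : RowsOK 1782 adj tE 0 1280 := r18.append (l' := 64) (blk k19)
theorem r20 : RowsOK 1782 adj tE 0 1344 := r19.append (l' := 64) (blk k20)
theorem r21 : RowsOK 1782 adj tE 0 1408 := r20.append (l' := 64) (blk k21)
theorem r22 : RowsOK 1782 adj tE 0 1472 := r21.append (l' := 64) (blk k22)
theorem r23 : RowsOK 1782 adj tE 0 1536 := r22.append (l' := 64) (blk k23)
theorem r24 : RowsOK 1782 adj tE 0 1600 := r23.append (l' := 64) (blk k24)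
theorem r25 : RowsOK 1782 adj tE 0 1664 := r24.append (l' := 64) (blk k25)
theorem r26 : RowsOK 1782 adj tE 0 1728 := r25.append (l' := 64) (blk k26)
theorem r27 : RowsOK 1782 adj tE 0 1782 := r26.append (l' := 54) (blk k27)

theorem rows : RowsOK 1782 adj tE 0 1782 := r27

end Cfsg.Agent.SporadicA.SuzAutE
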