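import Cfsg.Agent.SporadicA.PermTabRow
import Cfsg.Agent.SporadicA.SuzData
import Cfsg.Agent.SporadicA.SuzAdj

set_option autoImplicit false
set_option Elab.async false

/-!
Upper bound for the order of the automorphism group of the Suzuki graph on 1782 vertices.
-/

namespace Cfsg.Agent.SporadicA.SuzUpper

open Equiv Cfsg.Agent.SporadicA.PermTab Cfsg.Agent.SporadicA.PermTabRow
open Cfsg.Agent.SporadicA.SuzData Cfsg.Agent.SporadicA.SuzAdj

theorem chain_ok : chainRB 1782 adj [] base = true := by decide +kernel

theorem dist_ok : chkDistR 1782 adj (lastF [] base) rk od = true := by decide +kernel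

theorem card_aut_le : Nat.card (autG 1782 adj) ≤ 896690995200 := by
  have h := card_autG_leR (chainR_of_chainRB _ _ chain_ok) dist_ok
  have h2 : prodC base = 896690995200 := by decide +kernel
  rwa [h2] at h

end Cfsg.Agent.SporadicA.SuzUpper
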