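import Cfsg.Agent.SporadicA.PermRank3
import Cfsg.Agent.SporadicA.SuzUpper
import Cfsg.Agent.SporadicA.SuzAutA
import Cfsg.Agent.SporadicA.SuzAutB
import Cfsg.Agent.SporadicA.SuzAutC
import Cfsg.Agent.SporadicA.SuzAutD
import Cfsg.Agent.SporadicA.SuzAutE
import Cfsg.Agent.SporadicA.SuzAutF
import Cfsg.Agent.SporadicA.SuzAutG
import Cfsg.Agent.SporadicA.SuzAutT

set_option autoImplicit false
set_option Elab.async false

/-!
The sporadic Suzuki group as a permutation group on 1782 points (generators a, ..., g as in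
`Def_Spor_Suz`): order 448345497600 and simplicity.
-/

namespace Cfsg.Agent.SporadicA.Suz1782

open Equiv Cfsg.Agent.SporadicA.PermTab Cfsg.Agent.SporadicA.PermRank3
open Cfsg.Agent.SporadicA.SuzData Cfsg.Agent.SporadicA.SuzAdj

noncomputable section

/-- the involution a -/
def pA : Perm (Fin 1782) := mkPerm tA tA SuzAutA.inv
/-- the involution b -/
def pB : Perm (Fin 1782) := mkPerm tB tB SuzAutB.inv
/-- the involution c -/
def pC : Perm (Fin 1782) := mkPerm tC tC SuzAutC.inv
/-- the involution d -/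
def pD : Perm (Fin 1782) := mkPerm tD tD SuzAutD.inv
/-- the involution e -/
def pE : Perm (Fin 1782) := mkPerm tE tE SuzAutE.inv
/-- the involution f -/
def pF : Perm (Fin 1782) := mkPerm tF tF SuzAutF.inv
/-- the involution g -/
def pG : Perm (Fin 1782) := mkPerm tG tG SuzAutG.inv
/-- the odd involution -/
def pT : Perm (Fin 1782) := mkPerm tT tT SuzAutT.inv

/-- the seven generators -/
def gens : Set (Perm (Fin 1782)) := {pA, pB, pC, pD, pE, pF, pG}

/-- the sporadic Suzuki group on 1782 points -/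
def G : Subgroup (Perm (Fin 1782)) := Subgroup.closure gens

theorem mA : pA ∈ G := Subgroup.subset_closure (Or.inl rfl)
theorem mB : pB ∈ G := Subgroup.subset_closure (Or.inr (Or.inl rfl))
theorem mC : pC ∈ G := Subgroup.subset_closure (Or.inr (Or.inr (Or.inl rfl)))
theorem mD : pD ∈ G := Subgroup.subset_closure (Or.inr (Or.inr (Or.inr (Or.inl rfl))))
theorem mE : pE ∈ G := Subgroup.subset_closure (Or.inr (Or.inr (Or.inr (Or.inr (Or.inl rfl)))))
theorem mF : pF ∈ G :=
  Subgroup.subset_closure (Or.inr (Or.inr (Or.inr (Or.inr (Or.inr (Or.inl rfl))))))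
theorem mG : pG ∈ G :=
  Subgroup.subset_closure (Or.inr (Or.inr (Or.inr (Or.inr (Or.inr (Or.inr rfl))))))

theorem inA : InG G tA := ⟨pA, mA, fun _ => rfl⟩
theorem inB : InG G tB := ⟨pB, mB, fun _ => rfl⟩
theorem inC : InG G tC := ⟨pC, mC, fun _ => rfl⟩
theorem inD : InG G tD := ⟨pD, mD, fun _ => rfl⟩
theorem inE : InG G tE := ⟨pE, mE, fun _ => rfl⟩
theorem inF : InG G tF := ⟨pF, mF, fun _ => rfl⟩
theorem inGg : InG G tG := ⟨pG, mG, fun _ => rfl⟩

/-- all generator tables -/
def allT : List ℕ := [tA, tB, tC, tD, tE, tF, tG]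

theorem inAllT : ∀ P ∈ allT, InG G P := by
  intro P h
  simp only [allT, List.mem_cons, List.not_mem_nil, or_false] at h
  rcases h with rfl | rfl | rfl | rfl | rfl | rfl | rfl
  exacts [inA, inB, inC, inD, inE, inF, inGg]

/-- all letters of the word are generators -/
def sub (L : List ℕ) : Bool := List.rec true (fun P _ ih =>
  band (notMemB P allT == false) ih) L

theorem inAll' {L : List ℕ} (h : sub L = true) : ∀ P ∈ L, InG G P := by
  induction L with
  | nil => exact fun P hP => absurd hP List.not_mem_nil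
  | cons Q L ih =>
    have : sub (Q :: L) = band (notMemB Q allT == false) (sub L) := rfl
    rw [this, band_eq_true] at h
    intro P hP
    rcases List.mem_cons.1 hP with h1 | h1
    · rw [h1]
      by_contra h2
      have h4 : Q ∉ allT := fun h5 => h2 (inAllT Q h5)
      have h3 := (notMemB_iff _ _).2 h4
      rw [h3] at h
      exact absurd h.1 (by decide)
    · exact ih h.2 P h1

/-! ### strong generators -/

theorem inu0 : InG G u0 := InG.word (inAll' (L := u0w) (by decide +kernel)) (by decide +kernel)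
theorem inu1 : InG G u1 := InG.word (inAll' (L := u1w) (by decide +kernel)) (by decide +kernel)
theorem inv0 : InG G v0 := InG.word (inAll' (L := v0w) (by decide +kernel)) (by decide +kernel)
theorem inv1 : InG G v1 := InG.word (inAll' (L := v1w) (by decide +kernel)) (by decide +kernel)
theorem inw0 : InG G w0 := InG.word (inAll' (L := w0w) (by decide +kernel)) (by decide +kernel)

/-- stabiliser of the first point -/
abbrev G1 : Subgroup (Perm (Fin 1782)) := ps G x0
/-- stabiliser of the first two points -/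
abbrev G2 : Subgroup (Perm (Fin 1782)) := ps G1 x1
/-- stabiliser of the first three points -/
abbrev G3 : Subgroup (Perm (Fin 1782)) := ps G2 x2
/-- stabiliser of the first four points -/
abbrev G4 : Subgroup (Perm (Fin 1782)) := ps G3 x3
/-- stabiliser of the first five points -/
abbrev G5 : Subgroup (Perm (Fin 1782)) := ps G4 x4

theorem oneA : InG G1 tA := inA.ps (by decide +kernel)
theorem oneB : InG G1 tB := inB.ps (by decide +kernel)
theorem oneC : InG G1 tC := inC.ps (by decide +kernel)
theorem oneD : InG G1 tD := inD.ps (by decide +kernel)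
theorem oneE : InG G1 tE := inE.ps (by decide +kernel)
theorem oneF : InG G1 tF := inF.ps (by decide +kernel)
theorem twoA : InG G2 tA := oneA.ps (by decide +kernel)
theorem twoB : InG G2 tB := oneB.ps (by decide +kernel)
theorem twoC : InG G2 tC := oneC.ps (by decide +kernel)
theorem twoD : InG G2 tD := oneD.ps (by decide +kernel)
theorem twoE : InG G2 tE := oneE.ps (by decide +kernel)
theorem threeU0 : InG G3 u0 :=
  ((inu0.ps (by decide +kernel)).ps (by decide +kernel)).ps (by decide +kernel)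
theorem threeU1 : InG G3 u1 :=
  ((inu1.ps (by decide +kernel)).ps (by decide +kernel)).ps (by decide +kernel)
theorem fourV0 : InG G4 v0 :=
  (((inv0.ps (by decide +kernel)).ps (by decide +kernel)).ps (by decide +kernel)).ps
    (by decide +kernel)
theorem fourV1 : InG G4 v1 :=
  (((inv1.ps (by decide +kernel)).ps (by decide +kernel)).ps (by decide +kernel)).ps
    (by decide +kernel)
theorem fiveW0 : InG G5 w0 :=
  ((((inw0.ps (by decide +kernel)).ps (by decide +kernel)).ps (by decide +kernel)).ps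
    (by decide +kernel)).ps (by decide +kernel)

/-- the tables a, ..., f -/
def sixT : List ℕ := [tA, tB, tC, tD, tE, tF]
/-- the tables a, ..., e -/
def fiveT : List ℕ := [tA, tB, tC, tD, tE]

theorem inSix : ∀ P ∈ sixT, InG G1 P := by
  intro P h
  simp only [sixT, List.mem_cons, List.not_mem_nil, or_false] at h
  rcases h with rfl | rfl | rfl | rfl | rfl | rfl
  exacts [oneA, oneB, oneC, oneD, oneE, oneF]

theorem inFive : ∀ P ∈ fiveT, InG G2 P := by
  intro P h
  simp only [fiveT, List.mem_cons, List.not_mem_nil, or_false] at h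
  rcases h with rfl | rfl | rfl | rfl | rfl
  exacts [twoA, twoB, twoC, twoD, twoE]

theorem or0 : chkOrb 1782 x0 tA allT c0 = true := by decide +kernel
theorem or1 : chkOrb 1782 x1 tA sixT c1 = true := by decide +kernel
theorem or1b : chkOrb 1782 xf tA sixT c1b = true := by decide +kernel
theorem or2 : chkOrb 1782 x2 tA fiveT c2 = true := by decide +kernel
theorem or3 : chkOrb 1782 x3 u0 [u0, u1] c3 = true := by decide +kernel
theorem or4 : chkOrb 1782 x4 v0 [v0, v1] c4 = true := by decide +kernel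
theorem or5 : chkOrb 1782 x5 w0 [w0] c5 = true := by decide +kernel
theorem cn0 : cntOrb 1782 c0 1782 = true := by decide +kernel
theorem cn1 : cntOrb 1782 c1 416 = true := by decide +kernel
theorem cn1b : cntOrb 1782 c1b 1365 = true := by decide +kernel
theorem cn2 : cntOrb 1782 c2 100 = true := by decide +kernel
theorem cn3 : cntOrb 1782 c3 36 = true := by decide +kernel
theorem cn4 : cntOrb 1782 c4 42 = true := by decide +kernel
theorem cn5 : cntOrb 1782 c5 4 = true := by decide +kernel

theorem mem2 {P Q : ℕ} {H : Subgroup (Perm (Fin 1782))} (hP : InG H P) (hQ : InG H Q) :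
    ∀ R ∈ [P, Q], InG H R := by
  intro R hR
  simp only [List.mem_cons, List.not_mem_nil, or_false] at hR
  rcases hR with rfl | rfl
  exacts [hP, hQ]

theorem mem1 {P : ℕ} {H : Subgroup (Perm (Fin 1782))} (hP : InG H P) :
    ∀ R ∈ [P], InG H R := by
  intro R hR
  rw [List.mem_singleton] at hR
  rw [hR]; exact hP

theorem card_ge2 : 604800 ≤ Nat.card G2 := by
  have h5 : 4 * 1 ≤ Nat.card G5 :=
    card_ge_of_chk fiveW0 (mem1 fiveW0) or5 cn5 Nat.card_pos
  have h4 : 42 * (4 * 1) ≤ Nat.card G4 :=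
    card_ge_of_chk fourV0 (mem2 fourV0 fourV1) or4 cn4 h5
  have h3 : 36 * (42 * (4 * 1)) ≤ Nat.card G3 :=
    card_ge_of_chk threeU0 (mem2 threeU0 threeU1) or3 cn3 h4
  have h2 : 100 * (36 * (42 * (4 * 1))) ≤ Nat.card G2 :=
    card_ge_of_chk twoA inFive or2 cn2 h3
  exact h2

theorem card_ge1 : 251596800 ≤ Nat.card G1 := by
  have h1 : 416 * 604800 ≤ Nat.card G1 := card_ge_of_chk oneA inSix or1 cn1 card_ge2
  exact h1

theorem card_ge : 448345497600 ≤ Nat.card G := by
  have h0 : 1782 * 251596800 ≤ Nat.card G := card_ge_of_chk inA inAllT or0 cn0 card_ge1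
  exact h0

/-! ### elements of order eleven -/

theorem uvA : ∃ u ∈ G, ∃ v ∈ G, u ^ 11 = 1 ∧ v ^ 11 = 1 ∧ pA = u * v⁻¹ :=
  exists_uv mA (fun _ => rfl) (inAll' (L := fA) (by decide +kernel)) (by decide +kernel)
    (by decide +kernel)
theorem uvB : ∃ u ∈ G, ∃ v ∈ G, u ^ 11 = 1 ∧ v ^ 11 = 1 ∧ pB = u * v⁻¹ :=
  exists_uv mB (fun _ => rfl) (inAll' (L := fB) (by decide +kernel)) (by decide +kernel)
    (by decide +kernel)
theorem uvC : ∃ u ∈ G, ∃ v ∈ G, u ^ 11 = 1 ∧ v ^ 11 = 1 ∧ pC = u * v⁻¹ :=
  exists_uv mC (fun _ => rfl) (inAll' (L := fC) (by decide +kernel)) (by decide +kernel)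
    (by decide +kernel)
theorem uvD : ∃ u ∈ G, ∃ v ∈ G, u ^ 11 = 1 ∧ v ^ 11 = 1 ∧ pD = u * v⁻¹ :=
  exists_uv mD (fun _ => rfl) (inAll' (L := fD) (by decide +kernel)) (by decide +kernel)
    (by decide +kernel)
theorem uvE : ∃ u ∈ G, ∃ v ∈ G, u ^ 11 = 1 ∧ v ^ 11 = 1 ∧ pE = u * v⁻¹ :=
  exists_uv mE (fun _ => rfl) (inAll' (L := fE) (by decide +kernel)) (by decide +kernel)
    (by decide +kernel)
theorem uvF : ∃ u ∈ G, ∃ v ∈ G, u ^ 11 = 1 ∧ v ^ 11 = 1 ∧ pF = u * v⁻¹ :=
  exists_uv mF (fun _ => rfl) (inAll' (L := fF) (by decide +kernel)) (by decide +kernel)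
    (by decide +kernel)
theorem uvG : ∃ u ∈ G, ∃ v ∈ G, u ^ 11 = 1 ∧ v ^ 11 = 1 ∧ pG = u * v⁻¹ :=
  exists_uv mG (fun _ => rfl) (inAll' (L := fG) (by decide +kernel)) (by decide +kernel)
    (by decide +kernel)

theorem uvAll : ∀ s ∈ gens, ∃ u ∈ G, ∃ v ∈ G, u ^ 11 = 1 ∧ v ^ 11 = 1 ∧ s = u * v⁻¹ := by
  intro s hs
  rcases hs with rfl | rfl | rfl | rfl | rfl | rfl | rfl
  exacts [uvA, uvB, uvC, uvD, uvE, uvF, uvG]

theorem sign_gens : ∀ s ∈ gens, Perm.sign s = 1 := by
  intro s hs
  obtain ⟨u, -, v, -, hu, hv, rfl⟩ := uvAll s hs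
  rw [Perm.sign_mul, Perm.sign_inv, sign_eq_one_of_odd_pow (by decide) hu,
    sign_eq_one_of_odd_pow (by decide) hv, one_mul]

theorem sign_G : ∀ g ∈ G, Perm.sign g = 1 := by
  have h : G ≤ (Perm.sign : Perm (Fin 1782) →* ℤˣ).ker := by
    rw [G, Subgroup.closure_le]
    exact fun s hs => sign_gens s hs
  exact fun g hg => h hg

/-! ### upper bound -/

theorem aut_le : G ≤ autG 1782 adj := by
  rw [G, Subgroup.closure_le]
  intro s hs
  rcases hs with rfl | rfl | rfl | rfl | rfl | rfl | rfl
  · exact mkPerm_mem_autG SuzAutA.inv SuzAutA.rows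
  · exact mkPerm_mem_autG SuzAutB.inv SuzAutB.rows
  · exact mkPerm_mem_autG SuzAutC.inv SuzAutC.rows
  · exact mkPerm_mem_autG SuzAutD.inv SuzAutD.rows
  · exact mkPerm_mem_autG SuzAutE.inv SuzAutE.rows
  · exact mkPerm_mem_autG SuzAutF.inv SuzAutF.rows
  · exact mkPerm_mem_autG SuzAutG.inv SuzAutG.rows

theorem pT_mem : pT ∈ autG 1782 adj := mkPerm_mem_autG SuzAutT.inv SuzAutT.rows

/-- the number of moved points of the odd involution -/
theorem cntT : cntB (fun v => nbeq (lk tT v) v) 1782 1682 = true := by decide +kernel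

theorem sign_T : Perm.sign pT = -1 := by
  have h1 : pT * pT = 1 := by
    ext i
    exact (chkInv_spec SuzAutT.inv i).2.2.1
  have h2 : pT.support.card = 1682 := by
    rw [← card_fin_of_cntB _ 1782 1682 cntT]
    refine congrArg Finset.card ?_
    ext v
    rw [Perm.mem_support, Finset.mem_filter, nbeq_iff]
    exact ⟨fun h => ⟨Finset.mem_univ _, fun h' => h (Fin.ext h')⟩,
      fun h h' => h.2 (Fin.ext_iff.1 h')⟩
  rw [sign_of_involution h1, h2]
  exact Odd.neg_one_pow (by decide)

theorem card_G : Nat.card G = 448345497600 := by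
  have h1 := two_mul_card_le aut_le sign_G pT_mem sign_T
  have h2 := SuzUpper.card_aut_le
  have h3 := card_ge
  omega

/-! ### simplicity -/

theorem c_cover : allB (fun v => cond (Nat.beq v x0) true (cond (Nat.beq (lk c1 v) 2047)
    (nbeq (lk c1b v) 2047) true)) 1782 = true := by decide +kernel

theorem c_trans : allB (fun v => nbeq (lk c0 v) 2047) 1782 = true := by decide +kernel

theorem trans (v : Fin 1782) : ∃ g ∈ G, g x0 = v :=
  orb_of_chk inA inAllT or0 v ((nbeq_iff _ _).1 ((allB_iff _ _).1 c_trans v v.2))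

theorem simple : IsSimpleGroup G := by
  refine isSimpleGroup_rank3 (p := 11) G x0 trans {v : Fin 1782 | lk c1 v ≠ 2047}
    {v : Fin 1782 | lk c1b v ≠ 2047} ?_ ?_ ?_ ?_ ?_ ?_ ?_ (by norm_num) ?_ gens rfl uvAll ?_
  · intro h
    exact h (by decide +kernel)
  · intro h
    exact h (by decide +kernel)
  · intro v
    have h := (allB_iff _ _).1 c_cover v v.2
    cases h1 : Nat.beq (v : ℕ) (x0 : Fin 1782) with
    | true => exact Or.inl (Fin.ext (Nat.eq_of_beq_eq_true h1))
    | false =>
      rw [h1, cond_false] at h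
      cases h2 : Nat.beq (lk c1 v) 2047 with
      | true =>
        rw [h2, cond_true] at h
        exact Or.inr (Or.inr ((nbeq_iff _ _).1 h))
      | false => exact Or.inr (Or.inl (Nat.ne_of_beq_eq_false h2))
  · intro y hy z hz
    exact orb_pair oneA inSix or1 y z hy hz
  · intro y hy z hz
    exact orb_pair oneA inSix or1b y z hy hz
  · rw [ncard_of_cntOrb cn1, Nat.card_eq_fintype_card, Fintype.card_fin]
    decide
  · rw [ncard_of_cntOrb cn1b, Nat.card_eq_fintype_card, Fintype.card_fin]
    decide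
  · intro k hk
    rw [card_G, Nat.card_eq_fintype_card, Fintype.card_fin] at hk
    have : k = 251596800 := by omega
    rw [this]
    decide +kernel
  · rw [card_G]
    decide +kernel

end

end Cfsg.Agent.SporadicA.Suz1782
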