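import Mathlib

/-!
# The generalized quadrangle GQ(2,2): a labelling of its 15 points

`frame`: every generalized quadrangle of order (2,2) (given by its line relation `Ln`) contains
15 distinct points carrying the 15 lines of `mLines`.
-/

set_option autoImplicit false

namespace Cfsg.Agent.SporadicA.GQ22

/-- collinearity -/
def Col {Q : Type*} (Ln : Q → Q → Q → Prop) (x y : Q) : Prop := ∃ t, Ln x y t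

/-- the axioms used for a generalized quadrangle with lines of size 3 and 3 lines on a point -/
structure GQ {Q : Type*} (Ln : Q → Q → Q → Prop) : Prop where
  s12 : ∀ {x y z}, Ln x y z → Ln y x z
  s23 : ∀ {x y z}, Ln x y z → Ln x z y
  ne : ∀ {x y z}, Ln x y z → x ≠ y
  most : ∀ {x y z u}, Ln x y z → Col Ln u x → Col Ln u y → u = z
  least : ∀ {x y z u}, Ln x y z → u ≠ x → u ≠ y → u ≠ z → Col Ln u x ∨ Col Ln u y ∨ Col Ln u z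
  three : ∀ x, ∃ a a' b b' c c', Ln x a a' ∧ Ln x b b' ∧ Ln x c c' ∧
    b ≠ a ∧ b ≠ a' ∧ c ≠ a ∧ c ≠ a' ∧ c ≠ b ∧ c ≠ b'

variable {Q : Type*} {Ln : Q → Q → Q → Prop}

theorem GQ.csymm (G : GQ Ln) {x y : Q} (h : Col Ln x y) : Col Ln y x := by
  obtain ⟨t, h⟩ := h; exact ⟨t, G.s12 h⟩

theorem GQ.nsymm (G : GQ Ln) {x y : Q} (h : ¬ Col Ln x y) : ¬ Col Ln y x :=
  fun h' => h (G.csymm h')

theorem GQ.cne (G : GQ Ln) {x y : Q} (h : Col Ln x y) : x ≠ y := by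
  obtain ⟨t, h⟩ := h; exact G.ne h

theorem GQ.uniq (G : GQ Ln) {x y z z' : Q} (h : Ln x y z) (h' : Ln x y z') : z = z' :=
  (G.most h ⟨_, G.s12 (G.s23 h')⟩ ⟨_, G.s12 (G.s23 (G.s12 h'))⟩).symm

theorem GQ.dne (G : GQ Ln) {x y z y' z' : Q} (h : Ln x y z) (h' : Ln x y' z') (hne : y ≠ y') :
    z ≠ z' := by
  rintro rfl
  exact hne (G.uniq (G.s23 h) (G.s23 h'))

theorem GQ.excl (G : GQ Ln) {x y z u : Q} (h : Ln x y z) (hc : Col Ln u x) (hne : u ≠ z) :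
    ¬ Col Ln u y := fun hc' => hne (G.most h hc hc')

theorem GQ.dsep (_ : GQ Ln) {u v w : Q} (h : Col Ln u w) (h' : ¬ Col Ln v w) : u ≠ v := by
  rintro rfl; exact h' h

theorem GQ.forced (G : GQ Ln) {x y z u : Q} (h : Ln x y z) (h1 : u ≠ x) (h2 : u ≠ y) (h3 : u ≠ z)
    (h4 : ¬ Col Ln u x) (h5 : ¬ Col Ln u y) : Col Ln u z := by
  rcases G.least h h1 h2 h3 with k | k | k
  · exact (h4 k).elim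
  · exact (h5 k).elim
  · exact k

theorem GQ.close (G : GQ Ln) {x y z : Q} (h : Col Ln x y) (h1 : Col Ln z x) (h2 : Col Ln z y) :
    Ln x y z := by
  obtain ⟨t, h⟩ := h
  have := G.most h h1 h2
  rwa [this]

/-- the 15 lines of the model on `Fin 15` -/
def mLines : List (Fin 15 × Fin 15 × Fin 15) :=
  [(0, 1, 2), (0, 3, 4), (0, 5, 6), (1, 7, 8), (3, 7, 9), (6, 7, 10), (4, 8, 14), (5, 8, 13), (2, 9, 14), (5, 9, 12), (2, 10, 13), (4, 10, 12), (1, 11, 12), (3, 11, 13), (6, 11, 14)]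

theorem frame_aux (G : GQ Ln) {p a1 b1 a2 b2 a3 b3 u x y z : Q}
    (L_p_a1_b1 : Ln p a1 b1) (L_p_a2_b2 : Ln p a2 b2) (L_p_a3_b3 : Ln p a3 b3)
    (D_a1_a2 : a1 ≠ a2) (D_b1_a2 : b1 ≠ a2) (D_a1_a3 : a1 ≠ a3) (D_b1_a3 : b1 ≠ a3)
    (D_a2_a3 : a2 ≠ a3) (D_b2_a3 : b2 ≠ a3)
    (L_a1_u_x : Ln a1 u x) (L_a2_u_y : Ln a2 u y) (L_b3_u_z : Ln b3 u z)
    (D_p_u : p ≠ u) (D_b1_u : b1 ≠ u) :
    ∃ f : Fin 15 → Q, Function.Injective f ∧ ∀ l ∈ mLines, Ln (f l.1) (f l.2.1) (f l.2.2) := by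
  have C_p_a1 : Col Ln p a1 := ⟨_, L_p_a1_b1⟩
  have C_p_b1 : Col Ln p b1 := ⟨_, (G.s23 L_p_a1_b1)⟩
  have C_a1_b1 : Col Ln a1 b1 := ⟨_, (G.s23 (G.s12 L_p_a1_b1))⟩
  have C_p_a2 : Col Ln p a2 := ⟨_, L_p_a2_b2⟩
  have C_p_b2 : Col Ln p b2 := ⟨_, (G.s23 L_p_a2_b2)⟩
  have C_a2_b2 : Col Ln a2 b2 := ⟨_, (G.s23 (G.s12 L_p_a2_b2))⟩
  have C_p_a3 : Col Ln p a3 := ⟨_, L_p_a3_b3⟩
  have C_p_b3 : Col Ln p b3 := ⟨_, (G.s23 L_p_a3_b3)⟩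
  have C_a3_b3 : Col Ln a3 b3 := ⟨_, (G.s23 (G.s12 L_p_a3_b3))⟩
  have C_a1_u : Col Ln a1 u := ⟨_, L_a1_u_x⟩
  have C_a1_x : Col Ln a1 x := ⟨_, (G.s23 L_a1_u_x)⟩
  have C_u_x : Col Ln u x := ⟨_, (G.s23 (G.s12 L_a1_u_x))⟩
  have C_a2_u : Col Ln a2 u := ⟨_, L_a2_u_y⟩
  have C_a2_y : Col Ln a2 y := ⟨_, (G.s23 L_a2_u_y)⟩
  have C_u_y : Col Ln u y := ⟨_, (G.s23 (G.s12 L_a2_u_y))⟩
  have C_b3_u : Col Ln b3 u := ⟨_, L_b3_u_z⟩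
  have C_b3_z : Col Ln b3 z := ⟨_, (G.s23 L_b3_u_z)⟩
  have C_u_z : Col Ln u z := ⟨_, (G.s23 (G.s12 L_b3_u_z))⟩
  have D_p_a1 : p ≠ a1 := G.cne C_p_a1
  have D_p_b1 : p ≠ b1 := G.cne C_p_b1
  have D_a1_b1 : a1 ≠ b1 := G.cne C_a1_b1
  have D_p_a2 : p ≠ a2 := G.cne C_p_a2
  have D_p_b2 : p ≠ b2 := G.cne C_p_b2
  have D_a2_b2 : a2 ≠ b2 := G.cne C_a2_b2
  have D_p_a3 : p ≠ a3 := G.cne C_p_a3
  have D_p_b3 : p ≠ b3 := G.cne C_p_b3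
  have D_a3_b3 : a3 ≠ b3 := G.cne C_a3_b3
  have D_a1_u : a1 ≠ u := G.cne C_a1_u
  have D_a1_x : a1 ≠ x := G.cne C_a1_x
  have D_u_x : u ≠ x := G.cne C_u_x
  have D_a2_u : a2 ≠ u := G.cne C_a2_u
  have D_a2_y : a2 ≠ y := G.cne C_a2_y
  have D_u_y : u ≠ y := G.cne C_u_y
  have D_b3_u : b3 ≠ u := G.cne C_b3_u
  have D_b3_z : b3 ≠ z := G.cne C_b3_z
  have D_u_z : u ≠ z := G.cne C_u_z
  have D_b1_b2 : b1 ≠ b2 := G.dne L_p_a1_b1 L_p_a2_b2 D_a1_a2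
  have D_b1_b3 : b1 ≠ b3 := G.dne L_p_a1_b1 L_p_a3_b3 D_a1_a3
  have D_a1_b2 : a1 ≠ b2 := G.dne (G.s23 L_p_a1_b1) L_p_a2_b2 D_b1_a2
  have D_a1_b3 : a1 ≠ b3 := G.dne (G.s23 L_p_a1_b1) L_p_a3_b3 D_b1_a3
  have D_b1_x : b1 ≠ x := G.dne (G.s12 L_p_a1_b1) L_a1_u_x D_p_u
  have D_p_x : p ≠ x := G.dne (G.s23 (G.s12 L_p_a1_b1)) L_a1_u_x D_b1_u
  have D_b2_b3 : b2 ≠ b3 := G.dne L_p_a2_b2 L_p_a3_b3 D_a2_a3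
  have D_a2_b3 : a2 ≠ b3 := G.dne (G.s23 L_p_a2_b2) L_p_a3_b3 D_b2_a3
  have D_b2_y : b2 ≠ y := G.dne (G.s12 L_p_a2_b2) L_a2_u_y D_p_u
  have D_a3_z : a3 ≠ z := G.dne (G.s12 (G.s23 L_p_a3_b3)) L_b3_u_z D_p_u
  have D_x_y : x ≠ y := G.dne (G.s12 L_a1_u_x) (G.s12 L_a2_u_y) D_a1_a2
  have D_x_z : x ≠ z := G.dne (G.s12 L_a1_u_x) (G.s12 L_b3_u_z) D_a1_b3
  have D_y_z : y ≠ z := G.dne (G.s12 L_a2_u_y) (G.s12 L_b3_u_z) D_a2_b3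
  have N_p_u : ¬ Col Ln p u := G.nsymm (G.excl (G.s12 L_p_a1_b1) (G.csymm C_a1_u) (Ne.symm D_b1_u))
  have N_p_x : ¬ Col Ln p x := G.nsymm (G.excl (G.s12 L_p_a1_b1) (G.csymm C_a1_x) (Ne.symm D_b1_x))
  have N_p_y : ¬ Col Ln p y := G.nsymm (G.excl (G.s12 L_p_a2_b2) (G.csymm C_a2_y) (Ne.symm D_b2_y))
  have N_p_z : ¬ Col Ln p z := G.nsymm (G.excl (G.s12 (G.s23 L_p_a3_b3)) (G.csymm C_b3_z) (Ne.symm D_a3_z))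
  have N_a1_y : ¬ Col Ln a1 y := G.nsymm (G.excl (G.s12 L_a1_u_x) (G.csymm C_u_y) (Ne.symm D_x_y))
  have N_a1_z : ¬ Col Ln a1 z := G.nsymm (G.excl (G.s12 L_a1_u_x) (G.csymm C_u_z) (Ne.symm D_x_z))
  have N_a2_x : ¬ Col Ln a2 x := G.excl (G.s23 (G.s12 L_a1_u_x)) C_a2_u (Ne.symm D_a1_a2)
  have N_b3_x : ¬ Col Ln b3 x := G.excl (G.s23 (G.s12 L_a1_u_x)) C_b3_u (Ne.symm D_a1_b3)
  have N_a2_z : ¬ Col Ln a2 z := G.nsymm (G.excl (G.s12 L_a2_u_y) (G.csymm C_u_z) (Ne.symm D_y_z))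
  have N_b3_y : ¬ Col Ln b3 y := G.excl (G.s23 (G.s12 L_a2_u_y)) C_b3_u (Ne.symm D_a2_b3)
  have D_p_y : p ≠ y := G.dsep C_p_a1 (G.nsymm N_a1_y)
  have D_p_z : p ≠ z := G.dsep C_p_a1 (G.nsymm N_a1_z)
  have D_a1_y : a1 ≠ y := G.dsep (G.csymm C_p_a1) (G.nsymm N_p_y)
  have D_a1_z : a1 ≠ z := G.dsep (G.csymm C_p_a1) (G.nsymm N_p_z)
  have D_b1_y : b1 ≠ y := G.dsep (G.csymm C_p_b1) (G.nsymm N_p_y)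
  have D_b1_z : b1 ≠ z := G.dsep (G.csymm C_p_b1) (G.nsymm N_p_z)
  have D_a2_x : a2 ≠ x := G.dsep (G.csymm C_p_a2) (G.nsymm N_p_x)
  have D_a2_z : a2 ≠ z := G.dsep (G.csymm C_p_a2) (G.nsymm N_p_z)
  have D_b2_u : b2 ≠ u := G.dsep (G.csymm C_p_b2) (G.nsymm N_p_u)
  have D_b2_x : b2 ≠ x := G.dsep (G.csymm C_p_b2) (G.nsymm N_p_x)
  have D_b2_z : b2 ≠ z := G.dsep (G.csymm C_p_b2) (G.nsymm N_p_z)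
  have D_a3_u : a3 ≠ u := G.dsep (G.csymm C_p_a3) (G.nsymm N_p_u)
  have D_a3_x : a3 ≠ x := G.dsep (G.csymm C_p_a3) (G.nsymm N_p_x)
  have D_a3_y : a3 ≠ y := G.dsep (G.csymm C_p_a3) (G.nsymm N_p_y)
  have D_b3_x : b3 ≠ x := G.dsep (G.csymm C_p_b3) (G.nsymm N_p_x)
  have D_b3_y : b3 ≠ y := G.dsep (G.csymm C_p_b3) (G.nsymm N_p_y)
  have C_b1_y : Col Ln b1 y := G.csymm (G.forced L_p_a1_b1 (Ne.symm D_p_y) (Ne.symm D_a1_y) (Ne.symm D_b1_y) (G.nsymm N_p_y) (G.nsymm N_a1_y))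
  have C_b1_z : Col Ln b1 z := G.csymm (G.forced L_p_a1_b1 (Ne.symm D_p_z) (Ne.symm D_a1_z) (Ne.symm D_b1_z) (G.nsymm N_p_z) (G.nsymm N_a1_z))
  have C_b2_x : Col Ln b2 x := G.csymm (G.forced L_p_a2_b2 (Ne.symm D_p_x) (Ne.symm D_a2_x) (Ne.symm D_b2_x) (G.nsymm N_p_x) (G.nsymm N_a2_x))
  have C_b2_z : Col Ln b2 z := G.csymm (G.forced L_p_a2_b2 (Ne.symm D_p_z) (Ne.symm D_a2_z) (Ne.symm D_b2_z) (G.nsymm N_p_z) (G.nsymm N_a2_z))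
  have C_a3_x : Col Ln a3 x := G.csymm (G.forced (G.s23 L_p_a3_b3) (Ne.symm D_p_x) (Ne.symm D_b3_x) (Ne.symm D_a3_x) (G.nsymm N_p_x) (G.nsymm N_b3_x))
  have C_a3_y : Col Ln a3 y := G.csymm (G.forced (G.s23 L_p_a3_b3) (Ne.symm D_p_y) (Ne.symm D_b3_y) (Ne.symm D_a3_y) (G.nsymm N_p_y) (G.nsymm N_b3_y))
  obtain ⟨Y, h_Y⟩ := (G.csymm C_a3_x)
  have L_a3_x_Y : Ln a3 x Y := (G.s12 h_Y)
  have C_a3_Y : Col Ln a3 Y := ⟨_, (G.s23 L_a3_x_Y)⟩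
  have C_x_Y : Col Ln x Y := ⟨_, (G.s23 (G.s12 L_a3_x_Y))⟩
  have D_a3_Y : a3 ≠ Y := G.cne C_a3_Y
  have D_x_Y : x ≠ Y := G.cne C_x_Y
  have D_b3_Y : b3 ≠ Y := G.dne (G.s12 L_p_a3_b3) L_a3_x_Y D_p_x
  have D_p_Y : p ≠ Y := G.dne (G.s23 (G.s12 L_p_a3_b3)) L_a3_x_Y D_b3_x
  have D_u_Y : u ≠ Y := G.dne (G.s12 (G.s23 L_a1_u_x)) (G.s12 L_a3_x_Y) D_a1_a3
  have D_a1_Y : a1 ≠ Y := G.dne (G.s12 (G.s23 (G.s12 L_a1_u_x))) (G.s12 L_a3_x_Y) (Ne.symm D_a3_u)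
  have N_p_Y : ¬ Col Ln p Y := G.nsymm (G.excl (G.s12 L_p_a3_b3) (G.csymm C_a3_Y) (Ne.symm D_b3_Y))
  have N_b3_Y : ¬ Col Ln b3 Y := G.nsymm (G.excl (G.s23 (G.s12 L_p_a3_b3)) (G.csymm C_a3_Y) (Ne.symm D_p_Y))
  have N_a1_Y : ¬ Col Ln a1 Y := G.nsymm (G.excl (G.s12 (G.s23 L_a1_u_x)) (G.csymm C_x_Y) (Ne.symm D_u_Y))
  have N_u_Y : ¬ Col Ln u Y := G.nsymm (G.excl (G.s12 (G.s23 (G.s12 L_a1_u_x))) (G.csymm C_x_Y) (Ne.symm D_a1_Y))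
  have N_b2_Y : ¬ Col Ln b2 Y := G.excl (G.s23 (G.s12 L_a3_x_Y)) C_b2_x D_b2_a3
  have D_b1_Y : b1 ≠ Y := G.dsep (G.csymm C_p_b1) (G.nsymm N_p_Y)
  have D_a2_Y : a2 ≠ Y := G.dsep (G.csymm C_p_a2) (G.nsymm N_p_Y)
  have D_b2_Y : b2 ≠ Y := G.dsep (G.csymm C_p_b2) (G.nsymm N_p_Y)
  have D_y_Y : y ≠ Y := G.dsep (G.csymm C_u_y) (G.nsymm N_u_Y)
  have D_z_Y : z ≠ Y := G.dsep (G.csymm C_b3_z) (G.nsymm N_b3_Y)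
  have C_b1_Y : Col Ln b1 Y := G.csymm (G.forced L_p_a1_b1 (Ne.symm D_p_Y) (Ne.symm D_a1_Y) (Ne.symm D_b1_Y) (G.nsymm N_p_Y) (G.nsymm N_a1_Y))
  have C_a2_Y : Col Ln a2 Y := G.csymm (G.forced (G.s23 L_p_a2_b2) (Ne.symm D_p_Y) (Ne.symm D_b2_Y) (Ne.symm D_a2_Y) (G.nsymm N_p_Y) (G.nsymm N_b2_Y))
  have C_z_Y : Col Ln z Y := G.csymm (G.forced L_b3_u_z (Ne.symm D_b3_Y) (Ne.symm D_u_Y) (Ne.symm D_z_Y) (G.nsymm N_b3_Y) (G.nsymm N_u_Y))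
  have L_b1_z_Y : Ln b1 z Y := G.close C_b1_z (G.csymm C_b1_Y) (G.csymm C_z_Y)
  obtain ⟨Z, h_Z⟩ := (G.csymm C_b2_x)
  have L_b2_x_Z : Ln b2 x Z := (G.s12 h_Z)
  have C_b2_Z : Col Ln b2 Z := ⟨_, (G.s23 L_b2_x_Z)⟩
  have C_x_Z : Col Ln x Z := ⟨_, (G.s23 (G.s12 L_b2_x_Z))⟩
  have D_b2_Z : b2 ≠ Z := G.cne C_b2_Z
  have D_x_Z : x ≠ Z := G.cne C_x_Z
  have D_a2_Z : a2 ≠ Z := G.dne (G.s12 (G.s23 L_p_a2_b2)) L_b2_x_Z D_p_x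
  have D_p_Z : p ≠ Z := G.dne (G.s12 (G.s23 (G.s12 L_p_a2_b2))) L_b2_x_Z D_a2_x
  have D_u_Z : u ≠ Z := G.dne (G.s12 (G.s23 L_a1_u_x)) (G.s12 L_b2_x_Z) D_a1_b2
  have D_a1_Z : a1 ≠ Z := G.dne (G.s12 (G.s23 (G.s12 L_a1_u_x))) (G.s12 L_b2_x_Z) (Ne.symm D_b2_u)
  have D_Y_Z : Y ≠ Z := G.dne (G.s12 L_a3_x_Y) (G.s12 L_b2_x_Z) (Ne.symm D_b2_a3)
  have D_a3_Z : a3 ≠ Z := G.dne (G.s23 (G.s12 L_a3_x_Y)) (G.s12 L_b2_x_Z) (Ne.symm D_b2_Y)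
  have N_p_Z : ¬ Col Ln p Z := G.nsymm (G.excl (G.s12 (G.s23 L_p_a2_b2)) (G.csymm C_b2_Z) (Ne.symm D_a2_Z))
  have N_a2_Z : ¬ Col Ln a2 Z := G.nsymm (G.excl (G.s12 (G.s23 (G.s12 L_p_a2_b2))) (G.csymm C_b2_Z) (Ne.symm D_p_Z))
  have N_a1_Z : ¬ Col Ln a1 Z := G.nsymm (G.excl (G.s12 (G.s23 L_a1_u_x)) (G.csymm C_x_Z) (Ne.symm D_u_Z))
  have N_u_Z : ¬ Col Ln u Z := G.nsymm (G.excl (G.s12 (G.s23 (G.s12 L_a1_u_x))) (G.csymm C_x_Z) (Ne.symm D_a1_Z))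
  have N_a3_Z : ¬ Col Ln a3 Z := G.nsymm (G.excl (G.s12 L_a3_x_Y) (G.csymm C_x_Z) (Ne.symm D_Y_Z))
  have D_b1_Z : b1 ≠ Z := G.dsep (G.csymm C_p_b1) (G.nsymm N_p_Z)
  have D_b3_Z : b3 ≠ Z := G.dsep (G.csymm C_p_b3) (G.nsymm N_p_Z)
  have D_y_Z : y ≠ Z := G.dsep (G.csymm C_a2_y) (G.nsymm N_a2_Z)
  have D_z_Z : z ≠ Z := G.dsep (G.csymm C_u_z) (G.nsymm N_u_Z)
  have C_b1_Z : Col Ln b1 Z := G.csymm (G.forced L_p_a1_b1 (Ne.symm D_p_Z) (Ne.symm D_a1_Z) (Ne.symm D_b1_Z) (G.nsymm N_p_Z) (G.nsymm N_a1_Z))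
  have C_b3_Z : Col Ln b3 Z := G.csymm (G.forced L_p_a3_b3 (Ne.symm D_p_Z) (Ne.symm D_a3_Z) (Ne.symm D_b3_Z) (G.nsymm N_p_Z) (G.nsymm N_a3_Z))
  have C_y_Z : Col Ln y Z := G.csymm (G.forced L_a2_u_y (Ne.symm D_a2_Z) (Ne.symm D_u_Z) (Ne.symm D_y_Z) (G.nsymm N_a2_Z) (G.nsymm N_u_Z))
  have L_b1_y_Z : Ln b1 y Z := G.close C_b1_y (G.csymm C_b1_Z) (G.csymm C_y_Z)
  obtain ⟨X, h_X⟩ := (G.csymm C_a3_y)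
  have L_a3_y_X : Ln a3 y X := (G.s12 h_X)
  have C_a3_X : Col Ln a3 X := ⟨_, (G.s23 L_a3_y_X)⟩
  have C_y_X : Col Ln y X := ⟨_, (G.s23 (G.s12 L_a3_y_X))⟩
  have D_a3_X : a3 ≠ X := G.cne C_a3_X
  have D_y_X : y ≠ X := G.cne C_y_X
  have D_b3_X : b3 ≠ X := G.dne (G.s12 L_p_a3_b3) L_a3_y_X D_p_y
  have D_p_X : p ≠ X := G.dne (G.s23 (G.s12 L_p_a3_b3)) L_a3_y_X D_b3_y
  have D_u_X : u ≠ X := G.dne (G.s12 (G.s23 L_a2_u_y)) (G.s12 L_a3_y_X) D_a2_a3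
  have D_a2_X : a2 ≠ X := G.dne (G.s12 (G.s23 (G.s12 L_a2_u_y))) (G.s12 L_a3_y_X) (Ne.symm D_a3_u)
  have D_x_X : x ≠ X := G.dne (G.s23 L_a3_x_Y) L_a3_y_X (Ne.symm D_y_Y)
  have D_b1_X : b1 ≠ X := G.dne (G.s23 (G.s12 L_b1_y_Z)) (G.s12 L_a3_y_X) (Ne.symm D_a3_Z)
  have D_X_Y : X ≠ Y := G.dne L_a3_y_X L_a3_x_Y (Ne.symm D_x_y)
  have D_X_Z : X ≠ Z := G.dne (G.s12 L_a3_y_X) (G.s12 L_b1_y_Z) (Ne.symm D_b1_a3)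
  have N_p_X : ¬ Col Ln p X := G.nsymm (G.excl (G.s12 L_p_a3_b3) (G.csymm C_a3_X) (Ne.symm D_b3_X))
  have N_b3_X : ¬ Col Ln b3 X := G.nsymm (G.excl (G.s23 (G.s12 L_p_a3_b3)) (G.csymm C_a3_X) (Ne.symm D_p_X))
  have N_a2_X : ¬ Col Ln a2 X := G.nsymm (G.excl (G.s12 (G.s23 L_a2_u_y)) (G.csymm C_y_X) (Ne.symm D_u_X))
  have N_u_X : ¬ Col Ln u X := G.nsymm (G.excl (G.s12 (G.s23 (G.s12 L_a2_u_y))) (G.csymm C_y_X) (Ne.symm D_a2_X))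
  have N_b1_X : ¬ Col Ln b1 X := G.nsymm (G.excl (G.s12 L_b1_y_Z) (G.csymm C_y_X) D_X_Z)
  have D_a1_X : a1 ≠ X := G.dsep (G.csymm C_p_a1) (G.nsymm N_p_X)
  have D_b2_X : b2 ≠ X := G.dsep (G.csymm C_p_b2) (G.nsymm N_p_X)
  have D_z_X : z ≠ X := G.dsep (G.csymm C_b3_z) (G.nsymm N_b3_X)
  have C_a1_X : Col Ln a1 X := G.csymm (G.forced (G.s23 L_p_a1_b1) (Ne.symm D_p_X) (Ne.symm D_b1_X) (Ne.symm D_a1_X) (G.nsymm N_p_X) (G.nsymm N_b1_X))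
  have C_b2_X : Col Ln b2 X := G.csymm (G.forced L_p_a2_b2 (Ne.symm D_p_X) (Ne.symm D_a2_X) (Ne.symm D_b2_X) (G.nsymm N_p_X) (G.nsymm N_a2_X))
  have C_z_X : Col Ln z X := G.csymm (G.forced L_b3_u_z (Ne.symm D_b3_X) (Ne.symm D_u_X) (Ne.symm D_z_X) (G.nsymm N_b3_X) (G.nsymm N_u_X))
  have L_b2_z_X : Ln b2 z X := G.close C_b2_z (G.csymm C_b2_X) (G.csymm C_z_X)
  obtain ⟨U, h_U⟩ := C_a1_X
  have L_a1_U_X : Ln a1 U X := (G.s23 h_U)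
  have C_a1_U : Col Ln a1 U := ⟨_, L_a1_U_X⟩
  have C_U_X : Col Ln U X := ⟨_, (G.s23 (G.s12 L_a1_U_X))⟩
  have D_a1_U : a1 ≠ U := G.cne C_a1_U
  have D_U_X : U ≠ X := G.cne C_U_X
  have D_b1_U : b1 ≠ U := G.dne (G.s12 L_p_a1_b1) (G.s23 L_a1_U_X) D_p_X
  have D_p_U : p ≠ U := G.dne (G.s23 (G.s12 L_p_a1_b1)) (G.s23 L_a1_U_X) D_b1_X
  have D_x_U : x ≠ U := G.dne L_a1_u_x (G.s23 L_a1_U_X) D_u_X
  have D_u_U : u ≠ U := G.dne (G.s23 L_a1_u_x) (G.s23 L_a1_U_X) D_x_X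
  have D_y_U : y ≠ U := G.dne (G.s12 (G.s23 L_a3_y_X)) (G.s12 (G.s23 L_a1_U_X)) (Ne.symm D_a1_a3)
  have D_a3_U : a3 ≠ U := G.dne (G.s12 (G.s23 (G.s12 L_a3_y_X))) (G.s12 (G.s23 L_a1_U_X)) (Ne.symm D_a1_y)
  have D_z_U : z ≠ U := G.dne (G.s12 (G.s23 L_b2_z_X)) (G.s12 (G.s23 L_a1_U_X)) (Ne.symm D_a1_b2)
  have D_b2_U : b2 ≠ U := G.dne (G.s12 (G.s23 (G.s12 L_b2_z_X))) (G.s12 (G.s23 L_a1_U_X)) (Ne.symm D_a1_z)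
  have N_p_U : ¬ Col Ln p U := G.nsymm (G.excl (G.s12 L_p_a1_b1) (G.csymm C_a1_U) (Ne.symm D_b1_U))
  have N_x_U : ¬ Col Ln x U := G.nsymm (G.excl (G.s23 L_a1_u_x) (G.csymm C_a1_U) (Ne.symm D_u_U))
  have N_a3_U : ¬ Col Ln a3 U := G.nsymm (G.excl (G.s12 (G.s23 L_a3_y_X)) C_U_X (Ne.symm D_y_U))
  have N_b2_U : ¬ Col Ln b2 U := G.nsymm (G.excl (G.s12 (G.s23 L_b2_z_X)) C_U_X (Ne.symm D_z_U))
  have D_a2_U : a2 ≠ U := G.dsep (G.csymm C_p_a2) (G.nsymm N_p_U)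
  have D_b3_U : b3 ≠ U := G.dsep (G.csymm C_p_b3) (G.nsymm N_p_U)
  have D_U_Y : U ≠ Y := Ne.symm (G.dsep (G.csymm C_a3_Y) (G.nsymm N_a3_U))
  have D_U_Z : U ≠ Z := Ne.symm (G.dsep (G.csymm C_b2_Z) (G.nsymm N_b2_U))
  have C_a2_U : Col Ln a2 U := G.csymm (G.forced (G.s23 L_p_a2_b2) (Ne.symm D_p_U) (Ne.symm D_b2_U) (Ne.symm D_a2_U) (G.nsymm N_p_U) (G.nsymm N_b2_U))
  have C_b3_U : Col Ln b3 U := G.csymm (G.forced L_p_a3_b3 (Ne.symm D_p_U) (Ne.symm D_a3_U) (Ne.symm D_b3_U) (G.nsymm N_p_U) (G.nsymm N_a3_U))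
  have C_U_Y : Col Ln U Y := G.forced L_a3_x_Y (Ne.symm D_a3_U) (Ne.symm D_x_U) D_U_Y (G.nsymm N_a3_U) (G.nsymm N_x_U)
  have C_U_Z : Col Ln U Z := G.forced L_b2_x_Z (Ne.symm D_b2_U) (Ne.symm D_x_U) D_U_Z (G.nsymm N_b2_U) (G.nsymm N_x_U)
  have L_a2_U_Y : Ln a2 U Y := G.close C_a2_U (G.csymm C_a2_Y) (G.csymm C_U_Y)
  have L_b3_U_Z : Ln b3 U Z := G.close C_b3_U (G.csymm C_b3_Z) (G.csymm C_U_Z)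
  refine ⟨![p, a1, b1, a2, b2, a3, b3, u, x, y, z, U, X, Y, Z], ?_, ?_⟩
  · apply List.nodup_ofFn.1
    show List.Nodup [p, a1, b1, a2, b2, a3, b3, u, x, y, z, U, X, Y, Z]
    simp only [List.nodup_cons, List.mem_cons, List.not_mem_nil, or_false, not_or,
      List.nodup_nil, not_false_eq_true, and_true]
    exact ⟨⟨D_p_a1, D_p_b1, D_p_a2, D_p_b2, D_p_a3, D_p_b3, D_p_u, D_p_x, D_p_y, D_p_z, D_p_U, D_p_X, D_p_Y, D_p_Z⟩,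
      ⟨D_a1_b1, D_a1_a2, D_a1_b2, D_a1_a3, D_a1_b3, D_a1_u, D_a1_x, D_a1_y, D_a1_z, D_a1_U, D_a1_X, D_a1_Y, D_a1_Z⟩,
      ⟨D_b1_a2, D_b1_b2, D_b1_a3, D_b1_b3, D_b1_u, D_b1_x, D_b1_y, D_b1_z, D_b1_U, D_b1_X, D_b1_Y, D_b1_Z⟩,
      ⟨D_a2_b2, D_a2_a3, D_a2_b3, D_a2_u, D_a2_x, D_a2_y, D_a2_z, D_a2_U, D_a2_X, D_a2_Y, D_a2_Z⟩,
      ⟨D_b2_a3, D_b2_b3, D_b2_u, D_b2_x, D_b2_y, D_b2_z, D_b2_U, D_b2_X, D_b2_Y, D_b2_Z⟩,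
      ⟨D_a3_b3, D_a3_u, D_a3_x, D_a3_y, D_a3_z, D_a3_U, D_a3_X, D_a3_Y, D_a3_Z⟩,
      ⟨D_b3_u, D_b3_x, D_b3_y, D_b3_z, D_b3_U, D_b3_X, D_b3_Y, D_b3_Z⟩,
      ⟨D_u_x, D_u_y, D_u_z, D_u_U, D_u_X, D_u_Y, D_u_Z⟩,
      ⟨D_x_y, D_x_z, D_x_U, D_x_X, D_x_Y, D_x_Z⟩,
      ⟨D_y_z, D_y_U, D_y_X, D_y_Y, D_y_Z⟩,
      ⟨D_z_U, D_z_X, D_z_Y, D_z_Z⟩,
      ⟨D_U_X, D_U_Y, D_U_Z⟩,
      ⟨D_X_Y, D_X_Z⟩,
      D_Y_Z⟩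
  · intro l hl
    simp only [mLines, List.mem_cons, List.not_mem_nil, or_false] at hl
    rcases hl with rfl | rfl | rfl | rfl | rfl | rfl | rfl | rfl | rfl | rfl | rfl | rfl | rfl |
      rfl | rfl
    · exact L_p_a1_b1
    · exact L_p_a2_b2
    · exact L_p_a3_b3
    · exact L_a1_u_x
    · exact L_a2_u_y
    · exact L_b3_u_z
    · exact L_b2_x_Z
    · exact L_a3_x_Y
    · exact L_b1_y_Z
    · exact L_a3_y_X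
    · exact L_b1_z_Y
    · exact L_b2_z_X
    · exact L_a1_U_X
    · exact L_a2_U_Y
    · exact L_b3_U_Z

theorem frame (G : GQ Ln) (p : Q) :
    ∃ f : Fin 15 → Q, Function.Injective f ∧ ∀ l ∈ mLines, Ln (f l.1) (f l.2.1) (f l.2.2) := by
  obtain ⟨a1, b1, a2, b2, a3, b3, l1, l2, l3, n1, n2, n3, n4, n5, n6⟩ := G.three p
  -- a line on `a1` not through `p`
  obtain ⟨s, t, hst, hps, hpt⟩ : ∃ s t, Ln a1 s t ∧ p ≠ s ∧ p ≠ t := by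
    obtain ⟨c, c', d, d', e, e', k1, k2, -, m1, m2, -, -, -, -⟩ := G.three a1
    by_cases h : p = c ∨ p = c'
    · refine ⟨d, d', k2, ?_, ?_⟩
      · rintro rfl
        rcases h with h | h
        · exact m1 h
        · exact m2 h
      · rintro rfl
        rcases h with rfl | rfl
        · exact m2 (G.uniq (G.s23 k2) (G.s12 (G.s12 k1)))
        · exact m1 (G.uniq (G.s23 k2) (G.s23 k1))
    · push Not at h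
      exact ⟨c, c', k1, h.1, h.2⟩
  have c12 : ¬ Col Ln a2 a1 := G.excl l1 ⟨_, G.s12 l2⟩ n2
  have key : ∃ u x, Ln a1 u x ∧ p ≠ u ∧ Col Ln a2 u := by
    have e1 : a2 ≠ s := by
      rintro rfl
      exact c12 ⟨_, G.s12 hst⟩
    have e2 : a2 ≠ t := by
      rintro rfl
      exact c12 ⟨_, G.s12 (G.s23 hst)⟩
    rcases G.least hst n1 e1 e2 with k | k | k
    · exact (c12 k).elim
    · exact ⟨s, t, hst, hps, k⟩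
    · exact ⟨t, s, G.s23 hst, hpt, k⟩
  obtain ⟨u, x, hu, hpu, y, h2y⟩ := key
  have hb1u : b1 ≠ u := by
    rintro rfl
    have := G.uniq hu (G.s23 (G.s12 l1))
    -- a2 is collinear with b1 and p
    exact G.excl (G.s23 l1) ⟨_, G.s12 l2⟩ n1 ⟨_, h2y⟩
  have cup : ¬ Col Ln u p := by
    have : Col Ln u a1 := ⟨_, G.s12 hu⟩
    exact G.excl (G.s12 l1) this (Ne.symm hb1u)
  have e3 : u ≠ a3 := by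
    rintro rfl
    exact cup ⟨_, G.s12 l3⟩
  have e4 : u ≠ b3 := by
    rintro rfl
    exact cup ⟨_, G.s12 (G.s23 l3)⟩
  rcases G.least l3 (Ne.symm hpu) e3 e4 with k | k | k
  · exact (cup k).elim
  · obtain ⟨z, hz⟩ := G.csymm k
    have d1 : a1 ≠ b3 := by
      rintro rfl
      exact n4 (G.uniq (G.s23 l3) l1)
    have d2 : b1 ≠ b3 := by
      rintro rfl
      exact n3 (G.uniq (G.s23 l3) (G.s23 l1))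
    have d3 : a2 ≠ b3 := by
      rintro rfl
      exact n6 (G.uniq (G.s23 l3) l2)
    have d4 : b2 ≠ b3 := by
      rintro rfl
      exact n5 (G.uniq (G.s23 l3) (G.s23 l2))
    exact frame_aux G l1 l2 (G.s23 l3) (Ne.symm n1) (Ne.symm n2) d1 d2 d3 d4
      hu h2y hz hpu hb1u
  · obtain ⟨z, hz⟩ := G.csymm k
    exact frame_aux G l1 l2 l3 (Ne.symm n1) (Ne.symm n2) (Ne.symm n3) (Ne.symm n4)
      (Ne.symm n5) (Ne.symm n6) hu h2y hz hpu hb1u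

end Cfsg.Agent.SporadicA.GQ22
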