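import Mathlib

/-!
# srg(77,16,0,4): local structure

`S77 N` : the neighbourhood function `N : V → Finset V` of a strongly regular graph
with parameters (77, 16, 0, 4).
-/

set_option autoImplicit false

namespace Cfsg.Agent.SporadicA.Srg77

open Finset

variable {V : Type*} [Fintype V] [DecidableEq V]

/-- neighbourhood data of a srg(77,16,0,4) -/
structure S77 (N : V → Finset V) : Prop where
  card : Fintype.card V = 77
  symm : ∀ x y, x ∈ N y → y ∈ N x
  irr : ∀ x, x ∉ N x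
  deg : ∀ x, (N x).card = 16
  tri : ∀ x y w, x ∈ N y → w ∈ N x → w ∉ N y
  mu : ∀ x y, x ≠ y → x ∉ N y → (N x ∩ N y).card = 4

variable {N : V → Finset V}

theorem S77.inter_le (h : S77 N) {x y : V} (hxy : x ≠ y) : (N x ∩ N y).card ≤ 4 := by
  by_cases h1 : x ∈ N y
  · have : N x ∩ N y = ∅ := by
      ext w
      simp only [mem_inter, notMem_empty, iff_false, not_and]
      exact fun hw => h.tri x y w h1 hw
    simp [this]
  · exact (h.mu x y hxy h1).le

/-- two vertices with a common neighbour are not adjacent -/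
theorem S77.nadj (h : S77 N) {x y w : V} (hx : w ∈ N x) (hy : w ∈ N y) : x ∉ N y :=
  fun hxy => h.tri x y w hxy hx hy

theorem S77.mu' (h : S77 N) {x y w : V} (hne : x ≠ y) (hx : w ∈ N x) (hy : w ∈ N y) :
    (N x ∩ N y).card = 4 := h.mu x y hne (h.nadj hx hy)

omit [Fintype V] in
theorem card_union3 (A B C : Finset V) :
    (A ∪ B ∪ C).card + (A ∩ B).card + (A ∩ C).card + (B ∩ C).card =
      A.card + B.card + C.card + (A ∩ B ∩ C).card := by
  have h1 := card_union_add_card_inter (A ∪ B) C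
  have h2 := card_union_add_card_inter A B
  have h3 := card_union_add_card_inter (A ∩ C) (B ∩ C)
  have h4 : (A ∪ B) ∩ C = (A ∩ C) ∪ (B ∩ C) := union_inter_distrib_right A B C
  have h5 : (A ∩ C) ∩ (B ∩ C) = A ∩ B ∩ C := by ext; simp only [mem_inter]; tauto
  rw [h4] at h1
  rw [h5] at h3
  omega

theorem S77.card3 (h : S77 N) {x1 x2 x3 w : V} (h12 : x1 ≠ x2) (h13 : x1 ≠ x3) (h23 : x2 ≠ x3)
    (w1 : w ∈ N x1) (w2 : w ∈ N x2) (w3 : w ∈ N x3) :
    (N x1 ∪ N x2 ∪ N x3).card = 36 + (N x1 ∩ N x2 ∩ N x3).card := by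
  have := card_union3 (N x1) (N x2) (N x3)
  rw [h.deg, h.deg, h.deg, h.mu' h12 w1 w2, h.mu' h13 w1 w3, h.mu' h23 w2 w3] at this
  omega

/-- no `K_{3,3}`: three distinct vertices have at most 2 common neighbours -/
theorem S77.noK33 (h : S77 N) {x1 x2 x3 : V} (h12 : x1 ≠ x2) (h13 : x1 ≠ x3) (h23 : x2 ≠ x3) :
    (N x1 ∩ N x2 ∩ N x3).card ≤ 2 := by
  by_contra hc
  push Not at hc
  obtain ⟨y1, y2, y3, m1, m2, m3, n12, n13, n23⟩ := Finset.two_lt_card_iff.1 hc
  simp only [mem_inter] at m1 m2 m3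
  have hX := h.card3 h12 h13 h23 m1.1.1 m1.1.2 m1.2
  have hY := h.card3 (w := x1) n12 n13 n23 (h.symm _ _ m1.1.1) (h.symm _ _ m2.1.1)
    (h.symm _ _ m3.1.1)
  have hY3 : 3 ≤ (N y1 ∩ N y2 ∩ N y3).card := by
    have : ({x1, x2, x3} : Finset V) ⊆ N y1 ∩ N y2 ∩ N y3 := by
      intro t ht
      simp only [mem_insert, mem_singleton] at ht
      simp only [mem_inter]
      rcases ht with rfl | rfl | rfl
      · exact ⟨⟨h.symm _ _ m1.1.1, h.symm _ _ m2.1.1⟩, h.symm _ _ m3.1.1⟩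
      · exact ⟨⟨h.symm _ _ m1.1.2, h.symm _ _ m2.1.2⟩, h.symm _ _ m3.1.2⟩
      · exact ⟨⟨h.symm _ _ m1.2, h.symm _ _ m2.2⟩, h.symm _ _ m3.2⟩
    calc 3 = ({x1, x2, x3} : Finset V).card := by
            rw [card_insert_of_notMem, card_insert_of_notMem, card_singleton] <;>
              simp [h12, h13, h23]
      _ ≤ _ := card_le_card this
  have hdis : Disjoint (N x1 ∪ N x2 ∪ N x3) (N y1 ∪ N y2 ∪ N y3) := by
    rw [Finset.disjoint_left]
    intro t ht ht'
    simp only [mem_union] at ht ht'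
    have key : ∀ x y, y ∈ N x → t ∈ N x → t ∈ N y → False := fun x y hy hx hty =>
      h.tri y x t hy hty hx
    rcases ht with (ht | ht) | ht <;> rcases ht' with (ht' | ht') | ht'
    · exact key _ _ m1.1.1 ht ht'
    · exact key _ _ m2.1.1 ht ht'
    · exact key _ _ m3.1.1 ht ht'
    · exact key _ _ m1.1.2 ht ht'
    · exact key _ _ m2.1.2 ht ht'
    · exact key _ _ m3.1.2 ht ht'
    · exact key _ _ m1.2 ht ht'
    · exact key _ _ m2.2 ht ht'
    · exact key _ _ m3.2 ht ht'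
  have h1 := card_union_of_disjoint hdis
  have h2 := card_le_univ ((N x1 ∪ N x2 ∪ N x3) ∪ (N y1 ∪ N y2 ∪ N y3))
  rw [h.card] at h2
  omega

theorem S77.noK33' (h : S77 N) {x1 x2 x3 a b c : V} (h12 : x1 ≠ x2) (h13 : x1 ≠ x3)
    (h23 : x2 ≠ x3) (hab : a ≠ b) (hac : a ≠ c) (hbc : b ≠ c)
    (ha1 : a ∈ N x1) (ha2 : a ∈ N x2) (ha3 : a ∈ N x3)
    (hb1 : b ∈ N x1) (hb2 : b ∈ N x2) (hb3 : b ∈ N x3)
    (hc1 : c ∈ N x1) (hc2 : c ∈ N x2) (hc3 : c ∈ N x3) : False := by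
  have h1 := h.noK33 h12 h13 h23
  have h2 : 2 < (N x1 ∩ N x2 ∩ N x3).card :=
    Finset.two_lt_card_iff.2 ⟨a, b, c, by simp [*], by simp [*], by simp [*], hab, hac, hbc⟩
  omega

/-- the union of the four neighbourhoods in the "triangle" configuration -/
theorem S77.card4 (h : S77 N) {x0 x1 x2 x3 p a b c : V}
    (h01 : x0 ≠ x1) (h02 : x0 ≠ x2) (h03 : x0 ≠ x3) (h12 : x1 ≠ x2) (h13 : x1 ≠ x3)
    (h23 : x2 ≠ x3) (hpa : p ≠ a) (hpb : p ≠ b) (hpc : p ≠ c)
    (p0 : p ∈ N x0) (p1 : p ∈ N x1) (p2 : p ∈ N x2) (p3 : p ∈ N x3)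
    (a0 : a ∈ N x0) (a1 : a ∈ N x1) (a3 : a ∈ N x3)
    (b0 : b ∈ N x0) (b1 : b ∈ N x1) (b2 : b ∈ N x2)
    (c0 : c ∈ N x0) (c2 : c ∈ N x2) (c3 : c ∈ N x3) :
    46 ≤ (N x0 ∪ N x1 ∪ N x2 ∪ N x3).card := by
  have e1 := h.card3 h01 h02 h12 p0 p1 p2
  have e2 : 2 ≤ (N x0 ∩ N x1 ∩ N x2).card := by
    have : ({p, b} : Finset V) ⊆ N x0 ∩ N x1 ∩ N x2 := by
      intro t ht; simp only [mem_insert, mem_singleton] at ht
      rcases ht with rfl | rfl <;> simp [*]
    calc 2 = ({p, b} : Finset V).card := (card_pair hpb).symm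
      _ ≤ _ := card_le_card this
  have e3 := card_union_add_card_inter (N x0 ∪ N x1 ∪ N x2) (N x3)
  have e4 : (N x0 ∪ N x1 ∪ N x2) ∩ N x3 ⊆
      (N x0 ∩ N x3) ∪ ((N x1 ∩ N x3) \ {p, a}) ∪ ((N x2 ∩ N x3) \ {p, c}) := by
    intro t ht
    simp only [mem_inter, mem_union, mem_sdiff, mem_insert, mem_singleton] at ht ⊢
    by_cases h1 : t ∈ N x0
    · left; left; exact ⟨h1, ht.2⟩
    · have hp : t ≠ p := by rintro rfl; exact h1 p0
      have ha : t ≠ a := by rintro rfl; exact h1 a0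
      have hc : t ≠ c := by rintro rfl; exact h1 c0
      tauto
  have e5 := card_le_card e4
  have e6 : ((N x1 ∩ N x3) \ {p, a}).card = 2 := by
    rw [card_sdiff_of_subset, h.mu' h13 p1 p3, card_pair hpa]
    intro t ht; simp only [mem_insert, mem_singleton] at ht
    rcases ht with rfl | rfl <;> simp [*]
  have e7 : ((N x2 ∩ N x3) \ {p, c}).card = 2 := by
    rw [card_sdiff_of_subset, h.mu' h23 p2 p3, card_pair hpc]
    intro t ht; simp only [mem_insert, mem_singleton] at ht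
    rcases ht with rfl | rfl <;> simp [*]
  have e8 := h.mu' h03 p0 p3
  have e9 := card_union_le ((N x0 ∩ N x3) ∪ ((N x1 ∩ N x3) \ {p, a})) ((N x2 ∩ N x3) \ {p, c})
  have e10 := card_union_le (N x0 ∩ N x3) ((N x1 ∩ N x3) \ {p, a})
  have e11 := h.deg x3
  omega

/-- the "triangle" configuration does not occur -/
theorem S77.noTri (h : S77 N) {x0 x1 x2 x3 p a b c : V}
    (h01 : x0 ≠ x1) (h02 : x0 ≠ x2) (h03 : x0 ≠ x3) (h12 : x1 ≠ x2) (h13 : x1 ≠ x3)
    (h23 : x2 ≠ x3) (hpa : p ≠ a) (hpb : p ≠ b) (hpc : p ≠ c) (hab : a ≠ b) (hac : a ≠ c)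
    (hbc : b ≠ c)
    (p0 : p ∈ N x0) (p1 : p ∈ N x1) (p2 : p ∈ N x2) (p3 : p ∈ N x3)
    (a0 : a ∈ N x0) (a1 : a ∈ N x1) (a3 : a ∈ N x3)
    (b0 : b ∈ N x0) (b1 : b ∈ N x1) (b2 : b ∈ N x2)
    (c0 : c ∈ N x0) (c2 : c ∈ N x2) (c3 : c ∈ N x3) : False := by
  have e1 := h.card4 h01 h02 h03 h12 h13 h23 hpa hpb hpc p0 p1 p2 p3 a0 a1 a3 b0 b1 b2 c0 c2 c3
  have s := h.symm
  -- dual: x0 ↔ p ; vertices adjacent to a: x0 x1 x3 ; b : x0 x1 x2 ; c : x0 x2 x3
  have e2 := h.card4 (x0 := p) (x1 := a) (x2 := b) (x3 := c) (p := x0) (a := x3) (b := x1)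
    (c := x2) hpa hpb hpc hab hac hbc h03 h01 h02
    (s _ _ p0) (s _ _ a0) (s _ _ b0) (s _ _ c0)
    (s _ _ p3) (s _ _ a3) (s _ _ c3)
    (s _ _ p1) (s _ _ a1) (s _ _ b1)
    (s _ _ p2) (s _ _ b2) (s _ _ c2)
  have e3 := card_union_add_card_inter (N x0 ∪ N x1 ∪ N x2 ∪ N x3) (N p ∪ N a ∪ N b ∪ N c)
  have e4 := card_le_univ ((N x0 ∪ N x1 ∪ N x2 ∪ N x3) ∪ (N p ∪ N a ∪ N b ∪ N c))
  rw [h.card] at e4
  have e5 : (N x0 ∪ N x1 ∪ N x2 ∪ N x3) ∩ (N p ∪ N a ∪ N b ∪ N c) ⊆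
      (N x1 ∩ N c) ∪ (N x2 ∩ N a) ∪ (N x3 ∩ N b) := by
    intro t ht
    simp only [mem_inter, mem_union] at ht ⊢
    have key : ∀ x y, y ∈ N x → t ∈ N x → t ∈ N y → False := fun x y hy hx hty =>
      h.tri y x t hy hty hx
    obtain ⟨ht, ht'⟩ := ht
    rcases ht with ((ht | ht) | ht) | ht <;> rcases ht' with ((ht' | ht') | ht') | ht'
    · exact (key _ _ p0 ht ht').elim
    · exact (key _ _ a0 ht ht').elim
    · exact (key _ _ b0 ht ht').elim
    · exact (key _ _ c0 ht ht').elim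
    · exact (key _ _ p1 ht ht').elim
    · exact (key _ _ a1 ht ht').elim
    · exact (key _ _ b1 ht ht').elim
    · tauto
    · exact (key _ _ p2 ht ht').elim
    · tauto
    · exact (key _ _ b2 ht ht').elim
    · exact (key _ _ c2 ht ht').elim
    · exact (key _ _ p3 ht ht').elim
    · exact (key _ _ a3 ht ht').elim
    · tauto
    · exact (key _ _ c3 ht ht').elim
  have e6 := card_le_card e5
  have e7 := card_union_le ((N x1 ∩ N c) ∪ (N x2 ∩ N a)) (N x3 ∩ N b)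
  have e8 := card_union_le (N x1 ∩ N c) (N x2 ∩ N a)
  have n1 : x1 ≠ c := by rintro rfl; exact h.tri _ _ _ c0 p1 p0
  have n2 : x2 ≠ a := by rintro rfl; exact h.tri _ _ _ a0 p2 p0
  have n3 : x3 ≠ b := by rintro rfl; exact h.tri _ _ _ b0 p3 p0
  have e9 := h.inter_le n1
  have e10 := h.inter_le n2
  have e11 := h.inter_le n3
  omega

/-! ### Blocks on the neighbours of a vertex -/

/-- the triple `a b c` of neighbours of `v` is covered by a block -/
def Cov (N : V → Finset V) (v a b c : V) : Prop := ∃ u, u ≠ v ∧ u ∈ N a ∧ u ∈ N b ∧ u ∈ N c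

omit [Fintype V] [DecidableEq V] in
theorem Cov.swap12 {v a b c : V} (h : Cov N v a b c) : Cov N v b a c := by
  obtain ⟨u, h1, h2, h3, h4⟩ := h; exact ⟨u, h1, h3, h2, h4⟩

omit [Fintype V] [DecidableEq V] in
theorem Cov.swap23 {v a b c : V} (h : Cov N v a b c) : Cov N v a c b := by
  obtain ⟨u, h1, h2, h3, h4⟩ := h; exact ⟨u, h1, h2, h4, h3⟩

theorem S77.cov_atmost (h : S77 N) {v y a b c p : V} (hy : y ≠ v)
    (hab : a ≠ b) (hac : a ≠ c) (hbc : b ≠ c)
    (av : a ∈ N v) (ay : a ∈ N y) (bv : b ∈ N v) (b_y : b ∈ N y) (cv : c ∈ N v) (cy : c ∈ N y)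
    (pv : p ∈ N v) (py : p ∉ N y) (h1 : Cov N v p a b) (h2 : Cov N v p a c) : False := by
  obtain ⟨u1, u1v, u1p, u1a, u1b⟩ := h1
  obtain ⟨u2, u2v, u2p, u2a, u2c⟩ := h2
  have s := h.symm
  have n1 : u1 ≠ y := by rintro rfl; exact py (s _ _ u1p)
  have n2 : u2 ≠ y := by rintro rfl; exact py (s _ _ u2p)
  have pa : p ≠ a := by rintro rfl; exact py ay
  have pb : p ≠ b := by rintro rfl; exact py b_y
  have pc : p ≠ c := by rintro rfl; exact py cy
  have n12 : u1 ≠ u2 := by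
    rintro rfl
    exact h.noK33' hy.symm u1v.symm n1.symm hab hac hbc av ay (s _ _ u1a) bv b_y (s _ _ u1b) cv cy
      (s _ _ u2c)
  exact h.noTri (x0 := v) (x1 := y) (x2 := u2) (x3 := u1) (p := a) (a := b) (b := c) (c := p)
    hy.symm u2v.symm u1v.symm n2.symm n1.symm n12.symm hab hac pa.symm hbc pb.symm pc.symm
    av ay (s _ _ u2a) (s _ _ u1a) bv b_y (s _ _ u1b) cv cy (s _ _ u2c) pv (s _ _ u2p) (s _ _ u1p)

open Classical in
theorem S77.cov_card (h : S77 N) {v y a b : V} (hy : y ≠ v) (hab : a ≠ b)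
    (av : a ∈ N v) (ay : a ∈ N y) (bv : b ∈ N v) (b_y : b ∈ N y) :
    4 ≤ ((N v \ N y).filter (fun p => Cov N v p a b)).card := by
  have s := h.symm
  have e1 : (N a ∩ N b).card = 4 := h.mu' hab (s _ _ av) (s _ _ bv)
  have e2 : ((N a ∩ N b) \ {v, y}).card = 2 := by
    rw [card_sdiff_of_subset, e1, card_pair hy.symm]
    intro t ht; simp only [mem_insert, mem_singleton] at ht
    rcases ht with rfl | rfl
    · simp [s _ _ av, s _ _ bv]
    · simp [s _ _ ay, s _ _ b_y]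
  obtain ⟨u1, u2, n12, e3⟩ := Finset.card_eq_two.1 e2
  have m1 : u1 ∈ (N a ∩ N b) \ {v, y} := by rw [e3]; simp
  have m2 : u2 ∈ (N a ∩ N b) \ {v, y} := by rw [e3]; simp
  simp only [mem_inter, mem_sdiff, mem_insert, mem_singleton, not_or] at m1 m2
  obtain ⟨⟨u1a, u1b⟩, u1v, u1y⟩ := m1
  obtain ⟨⟨u2a, u2b⟩, u2v, u2y⟩ := m2
  have f : ∀ u, u ≠ v → u ≠ y → u ∈ N a → 2 ≤ ((N v ∩ N u) \ N y).card := by
    intro u uv uy ua
    have g1 : (N v ∩ N u).card = 4 := h.mu' uv.symm av (s _ _ ua)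
    have g2 : (N v ∩ N u ∩ N y).card ≤ 2 := h.noK33 uv.symm hy.symm uy
    have g3 := card_sdiff_add_card_inter (N v ∩ N u) (N y)
    omega
  have f1 := f u1 u1v u1y u1a
  have f2 := f u2 u2v u2y u2a
  have hd : Disjoint ((N v ∩ N u1) \ N y) ((N v ∩ N u2) \ N y) := by
    rw [Finset.disjoint_left]
    intro p hp hp'
    simp only [mem_sdiff, mem_inter] at hp hp'
    have pa : p ≠ a := by rintro rfl; exact hp.2 ay
    have pb : p ≠ b := by rintro rfl; exact hp.2 b_y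
    exact h.noK33' (Ne.symm u1v) (Ne.symm u2v) n12 hab pa.symm pb.symm av (s _ _ u1a) (s _ _ u2a)
      bv (s _ _ u1b) (s _ _ u2b) hp.1.1 hp.1.2 hp'.1.2
  have hsub : ((N v ∩ N u1) \ N y) ∪ ((N v ∩ N u2) \ N y) ⊆
      (N v \ N y).filter (fun p => Cov N v p a b) := by
    intro p hp
    simp only [mem_union, mem_sdiff, mem_inter, mem_filter] at hp ⊢
    rcases hp with ⟨⟨p1, p2⟩, p3⟩ | ⟨⟨p1, p2⟩, p3⟩
    · exact ⟨⟨p1, p3⟩, u1, u1v, s _ _ p2, u1a, u1b⟩
    · exact ⟨⟨p1, p3⟩, u2, u2v, s _ _ p2, u2a, u2b⟩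
  have := card_le_card hsub
  rw [card_union_of_disjoint hd] at this
  omega

open Classical in
theorem S77.cov_atleast (h : S77 N) {v y a b c d p : V} (hy : y ≠ v)
    (hab : a ≠ b) (hac : a ≠ c) (had : a ≠ d) (hbc : b ≠ c) (hbd : b ≠ d) (hcd : c ≠ d)
    (av : a ∈ N v) (ay : a ∈ N y) (bv : b ∈ N v) (b_y : b ∈ N y) (cv : c ∈ N v) (cy : c ∈ N y)
    (dv : d ∈ N v) (dy : d ∈ N y)
    (pv : p ∈ N v) (py : p ∉ N y) : Cov N v p a b ∨ Cov N v p a c ∨ Cov N v p a d := by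
  have cb := h.cov_card hy hab av ay bv b_y
  have cc := h.cov_card hy hac av ay cv cy
  have cd := h.cov_card hy had av ay dv dy
  set B := (N v \ N y).filter (fun p => Cov N v p a b) with hB
  set C := (N v \ N y).filter (fun p => Cov N v p a c) with hC
  set D := (N v \ N y).filter (fun p => Cov N v p a d) with hD
  have dBC : Disjoint B C := by
    rw [Finset.disjoint_left]; intro t ht ht'
    simp only [hB, hC, mem_filter, mem_sdiff] at ht ht'
    exact h.cov_atmost hy hab hac hbc av ay bv b_y cv cy ht.1.1 ht.1.2 ht.2 ht'.2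
  have dBD : Disjoint B D := by
    rw [Finset.disjoint_left]; intro t ht ht'
    simp only [hB, hD, mem_filter, mem_sdiff] at ht ht'
    exact h.cov_atmost hy hab had hbd av ay bv b_y dv dy ht.1.1 ht.1.2 ht.2 ht'.2
  have dCD : Disjoint C D := by
    rw [Finset.disjoint_left]; intro t ht ht'
    simp only [hC, hD, mem_filter, mem_sdiff] at ht ht'
    exact h.cov_atmost hy hac had hcd av ay cv cy dv dy ht.1.1 ht.1.2 ht.2 ht'.2
  have e1 : (B ∪ C ∪ D).card = B.card + C.card + D.card := by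
    rw [card_union_of_disjoint, card_union_of_disjoint dBC]
    exact Finset.disjoint_union_left.2 ⟨dBD, dCD⟩
  have e2 : (N v \ N y).card = 12 := by
    have g1 : (N v ∩ N y).card = 4 := h.mu' hy.symm av ay
    have g2 := card_sdiff_add_card_inter (N v) (N y)
    have g3 := h.deg v
    omega
  have e3 : B ∪ C ∪ D ⊆ N v \ N y := by
    intro t ht
    simp only [hB, hC, hD, mem_union, mem_filter] at ht
    tauto
  have e4 : B ∪ C ∪ D = N v \ N y := Finset.eq_of_subset_of_card_le e3 (by omega)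
  have e5 : p ∈ B ∪ C ∪ D := by rw [e4]; exact mem_sdiff.2 ⟨pv, py⟩
  simp only [hB, hC, hD, mem_union, mem_filter] at e5
  tauto

/-- symmetric difference of two blocks meeting in two points is a block -/
theorem S77.symmDiff (h : S77 N) {v y u a b c d e f : V} (hy : y ≠ v) (hu : u ≠ v)
    (hab : a ≠ b) (hac : a ≠ c) (had : a ≠ d) (hbc : b ≠ c) (hbd : b ≠ d) (hcd : c ≠ d)
    (hae : a ≠ e) (haf : a ≠ f) (hbe : b ≠ e) (hbf : b ≠ f) (hef : e ≠ f)
    (By : N v ∩ N y = {a, b, c, d}) (Bu : N v ∩ N u = {a, b, e, f}) (hey : e ∉ N y)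
    (hfy : f ∉ N y) :
    ∃ w, w ≠ v ∧ N v ∩ N w = {c, d, e, f} := by
  have s := h.symm
  have my : ∀ t, t ∈ N v ∩ N y ↔ t = a ∨ t = b ∨ t = c ∨ t = d := by intro t; rw [By]; simp
  have mu : ∀ t, t ∈ N v ∩ N u ↔ t = a ∨ t = b ∨ t = e ∨ t = f := by intro t; rw [Bu]; simp
  simp only [mem_inter] at my mu
  obtain ⟨av, ay⟩ := (my a).2 (by simp)
  obtain ⟨bv, b_y⟩ := (my b).2 (by simp)
  obtain ⟨cv, cy⟩ := (my c).2 (by simp)
  obtain ⟨dv, dy⟩ := (my d).2 (by simp)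
  obtain ⟨-, au⟩ := (mu a).2 (by simp)
  obtain ⟨-, bu⟩ := (mu b).2 (by simp)
  obtain ⟨ev, eu⟩ := (mu e).2 (by simp)
  obtain ⟨fv, fu⟩ := (mu f).2 (by simp)
  -- e is matched as ab | cd
  have hce : c ≠ e := by rintro rfl; exact hey cy
  have hde : d ≠ e := by rintro rfl; exact hey dy
  have k1 : Cov N v e a b := ⟨u, hu, s _ _ eu, s _ _ au, s _ _ bu⟩
  have k2 : Cov N v e c d := by
    rcases h.cov_atleast hy hac.symm hbc.symm hcd hab had hbd cv cy av ay bv b_y dv dy ev hey with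
      k | k | k
    · exact (h.cov_atmost hy hab hac hbc av ay bv b_y cv cy ev hey k1 k.swap23).elim
    · exact (h.cov_atmost hy hab.symm hbc hac bv b_y av ay cv cy ev hey k1.swap23 k.swap23).elim
    · exact k
  obtain ⟨w, wv, we, wc, wd⟩ := k2
  refine ⟨w, wv, ?_⟩
  have ew := s _ _ we
  have cw := s _ _ wc
  have dw := s _ _ wd
  have wy : w ≠ y := by rintro rfl; exact hey ew
  have cardw : (N v ∩ N w).card = 4 := h.mu' wv.symm ev ew
  have aw : a ∉ N w := fun aw => h.noK33' hy.symm wv.symm wy.symm hac had hcd av ay aw cv cy cw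
    dv dy dw
  have bw : b ∉ N w := fun bw => h.noK33' hy.symm wv.symm wy.symm hbc hbd hcd bv b_y bw cv cy cw
    dv dy dw
  -- it suffices that f ∈ N w
  suffices fw : f ∈ N w by
    symm
    apply Finset.eq_of_subset_of_card_le
    · intro t ht
      simp only [mem_insert, mem_singleton] at ht
      rcases ht with rfl | rfl | rfl | rfl <;> simp [*]
    · rw [cardw]
      have hcf : c ≠ f := by rintro rfl; exact hfy cy
      have hdf : d ≠ f := by rintro rfl; exact hfy dy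
      have : ({c, d, e, f} : Finset V).card = 4 := by
        rw [card_insert_of_notMem, card_insert_of_notMem, card_insert_of_notMem, card_singleton] <;>
          simp [hcd, hce, hde, hcf, hdf, hef]
      omega
  -- the fourth point of the block w
  have hg : ∃ g, g ∈ (N v ∩ N w) \ {c, d, e} := by
    have : 0 < ((N v ∩ N w) \ {c, d, e}).card := by
      have h1 := le_card_sdiff {c, d, e} (N v ∩ N w)
      have h2 : ({c, d, e} : Finset V).card ≤ 3 := Finset.card_le_three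
      omega
    exact card_pos.1 this
  obtain ⟨g, hg⟩ := hg
  simp only [mem_sdiff, mem_inter, mem_insert, mem_singleton, not_or] at hg
  obtain ⟨⟨gv, gw⟩, gc, gd, ge⟩ := hg
  have ka : Cov N v a c d := ⟨y, hy, s _ _ ay, s _ _ cy, s _ _ dy⟩
  have kb : Cov N v b c d := ⟨y, hy, s _ _ b_y, s _ _ cy, s _ _ dy⟩
  have ka' : Cov N v a e g := by
    rcases h.cov_atleast wv hce.symm hde.symm (Ne.symm ge) hcd (Ne.symm gc) (Ne.symm gd)
      ev ew cv cw dv dw gv gw av aw with k | k | k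
    · exact (h.cov_atmost wv hcd hce hde cv cw dv dw ev ew av aw ka k.swap23).elim
    · exact (h.cov_atmost wv hcd.symm hde hce dv dw cv cw ev ew av aw ka.swap23 k.swap23).elim
    · exact k
  have kb' : Cov N v b e g := by
    rcases h.cov_atleast wv hce.symm hde.symm (Ne.symm ge) hcd (Ne.symm gc) (Ne.symm gd)
      ev ew cv cw dv dw gv gw bv bw with k | k | k
    · exact (h.cov_atmost wv hcd hce hde cv cw dv dw ev ew bv bw kb k.swap23).elim
    · exact (h.cov_atmost wv hcd.symm hde hce dv dw cv cw ev ew bv bw kb.swap23 k.swap23).elim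
    · exact k
  by_cases gu : g ∈ N u
  · rcases (mu g).1 ⟨gv, gu⟩ with rfl | rfl | rfl | rfl
    · exact (aw gw).elim
    · exact (bw gw).elim
    · exact (ge rfl).elim
    · exact gw
  · exact (h.cov_atmost hu hae.symm hbe.symm hab ev eu av au bv bu gv gu
      (ka'.swap23.swap12.swap23) (kb'.swap23.swap12.swap23)).elim

end Cfsg.Agent.SporadicA.Srg77
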