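import Mathlib
import Cfsg.Agent.SporadicA.Srg77
import Cfsg.Agent.SporadicA.GQ22

/-!
# srg(77,16,0,4): labelling of the neighbours of a vertex by `Fin 16`
-/

set_option autoImplicit false

namespace Cfsg.Agent.SporadicA.Srg77Label

open Finset Cfsg.Agent.SporadicA.Srg77 Cfsg.Agent.SporadicA.GQ22

variable {V : Type*} [Fintype V] [DecidableEq V] {N : V → Finset V}

omit [Fintype V] in
theorem fourth {S : Finset V} (hS : S.card = 4) {a b c : V} (ha : a ∈ S) (hb : b ∈ S) (hc : c ∈ S)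
    (hab : a ≠ b) (hac : a ≠ c) (hbc : b ≠ c) :
    ∃ d, a ≠ d ∧ b ≠ d ∧ c ≠ d ∧ S = {a, b, c, d} := by
  have h3 : ({a, b, c} : Finset V).card = 3 := Finset.card_eq_three.2 ⟨a, b, c, hab, hac, hbc, rfl⟩
  have hsub : ({a, b, c} : Finset V) ⊆ S := by
    intro t ht; simp only [mem_insert, mem_singleton] at ht
    rcases ht with rfl | rfl | rfl <;> assumption
  have h1 : (S \ {a, b, c}).card = 1 := by rw [card_sdiff_of_subset hsub, hS, h3]
  obtain ⟨d, hd⟩ := Finset.card_eq_one.1 h1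
  have hd' : d ∈ S \ {a, b, c} := by rw [hd]; simp
  simp only [mem_sdiff, mem_insert, mem_singleton, not_or] at hd'
  refine ⟨d, Ne.symm hd'.2.1, Ne.symm hd'.2.2.1, Ne.symm hd'.2.2.2, ?_⟩
  have : S = {a, b, c} ∪ (S \ {a, b, c}) := (union_sdiff_of_subset hsub).symm
  rw [this, hd]
  ext t; simp only [mem_union, mem_insert, mem_singleton]; tauto

omit [Fintype V] in
theorem fourth2 {S : Finset V} (hS : S.card = 4) {a b : V} (ha : a ∈ S) (hb : b ∈ S)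
    (hab : a ≠ b) :
    ∃ c d, a ≠ c ∧ a ≠ d ∧ b ≠ c ∧ b ≠ d ∧ c ≠ d ∧ S = {a, b, c, d} := by
  have : ∃ c ∈ S, c ≠ a ∧ c ≠ b := by
    by_contra hc
    push Not at hc
    have : S ⊆ {a, b} := by
      intro t ht
      simp only [mem_insert, mem_singleton]
      by_cases h : t = a
      · exact Or.inl h
      · exact Or.inr (hc t ht h)
    have := card_le_card this
    have h2 : ({a, b} : Finset V).card ≤ 2 := card_le_two
    omega
  obtain ⟨c, hc, hca, hcb⟩ := this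
  obtain ⟨d, h1, h2, h3, h4⟩ := fourth hS ha hb hc hab (Ne.symm hca) (Ne.symm hcb)
  exact ⟨c, d, Ne.symm hca, h1, Ne.symm hcb, h2, h3, h4⟩

/-- `{o, x, y, z}` is a block of the design on the neighbours of `v` -/
def Ln (N : V → Finset V) (v o x y z : V) : Prop :=
  o ≠ x ∧ o ≠ y ∧ o ≠ z ∧ x ≠ y ∧ x ≠ z ∧ y ≠ z ∧ ∃ w, w ≠ v ∧ N v ∩ N w = {o, x, y, z}

omit [Fintype V] in
theorem Ln.s12 {v o x y z : V} (h : Ln N v o x y z) : Ln N v o y x z := by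
  obtain ⟨h1, h2, h3, h4, h5, h6, w, h7, h8⟩ := h
  refine ⟨h2, h1, h3, Ne.symm h4, h6, h5, w, h7, ?_⟩
  rw [h8]; ext t; simp only [mem_insert, mem_singleton]; tauto

omit [Fintype V] in
theorem Ln.s23 {v o x y z : V} (h : Ln N v o x y z) : Ln N v o x z y := by
  obtain ⟨h1, h2, h3, h4, h5, h6, w, h7, h8⟩ := h
  refine ⟨h1, h3, h2, h5, h4, Ne.symm h6, w, h7, ?_⟩
  rw [h8]; ext t; simp only [mem_insert, mem_singleton]; tauto

omit [Fintype V] in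
theorem Ln.mem {v o x y z : V} (h : Ln N v o x y z) :
    o ∈ N v ∧ x ∈ N v ∧ y ∈ N v ∧ z ∈ N v := by
  obtain ⟨-, -, -, -, -, -, w, -, h8⟩ := h
  have : ∀ t, t ∈ ({o, x, y, z} : Finset V) → t ∈ N v := fun t ht => by
    rw [← h8] at ht; exact (mem_inter.1 ht).1
  exact ⟨this _ (by simp), this _ (by simp), this _ (by simp), this _ (by simp)⟩

theorem S77.cov_of_ln (h : S77 N) {v o x y z : V} (hl : Ln N v o x y z) : Cov N v x o y := by
  obtain ⟨h1, h2, h3, h4, h5, h6, w, h7, h8⟩ := hl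
  have : ∀ t, t ∈ ({o, x, y, z} : Finset V) → t ∈ N w := fun t ht => by
    rw [← h8] at ht; exact (mem_inter.1 ht).2
  exact ⟨w, h7, h.symm _ _ (this _ (by simp)), h.symm _ _ (this _ (by simp)),
    h.symm _ _ (this _ (by simp))⟩

theorem S77.ln_of_cov (h : S77 N) {v o x y : V} (ho : o ∈ N v) (hx : x ∈ N v) (hy : y ∈ N v)
    (hox : o ≠ x) (hoy : o ≠ y) (hxy : x ≠ y) (hc : Cov N v x o y) : ∃ z, Ln N v o x y z := by
  obtain ⟨w, wv, wx, wo, wy⟩ := hc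
  have s := h.symm
  have hc : (N v ∩ N w).card = 4 := h.mu' wv.symm ho (s _ _ wo)
  obtain ⟨z, h1, h2, h3, h4⟩ := fourth hc (a := o) (b := x) (c := y) (by simp [ho, s _ _ wo])
    (by simp [hx, s _ _ wx]) (by simp [hy, s _ _ wy]) hox hoy hxy
  exact ⟨z, hox, hoy, h1, hxy, h2, h3, w, wv, h4⟩

/-- the derived structure at a neighbour `o` of `v` is a generalized quadrangle -/
theorem S77.gq (h : S77 N) {v o : V} (ho : o ∈ N v) :
    GQ (Q := {x : V // x ∈ N v ∧ x ≠ o}) (fun x y z => Ln N v o x.1 y.1 z.1) where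
  s12 := Ln.s12
  s23 := Ln.s23
  ne := fun hl => fun e => hl.2.2.2.1 (congrArg Subtype.val e)
  most := by
    rintro ⟨x, xv, xo⟩ ⟨y, yv, yo⟩ ⟨z, zv, zo⟩ ⟨u, uv, uo⟩ hl ⟨t1, h1⟩ ⟨t2, h2⟩
    simp only at hl h1 h2
    simp only [Subtype.mk.injEq]
    by_contra hne
    have hux : u ≠ x := h1.2.2.2.1
    have huy : u ≠ y := h2.2.2.2.1
    have c1 := S77.cov_of_ln h h1
    have c2 := S77.cov_of_ln h h2
    obtain ⟨l1, l2, l3, l4, l5, l6, w, wv, hw⟩ := hl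
    have hmem : ∀ t, t ∈ N v ∩ N w ↔ t = o ∨ t = x ∨ t = y ∨ t = z := by
      intro t; rw [hw]; simp
    have uw : u ∉ N w := by
      intro uw
      rcases (hmem u).1 (mem_inter.2 ⟨uv, uw⟩) with e | e | e | e
      · exact uo e
      · exact hux e
      · exact huy e
      · exact hne e
    exact h.cov_atmost wv l1 l2 l4 ho (mem_inter.1 ((hmem o).2 (by simp))).2
      xv (mem_inter.1 ((hmem x).2 (by simp))).2 yv (mem_inter.1 ((hmem y).2 (by simp))).2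
      uv uw c1 c2
  least := by
    rintro ⟨x, xv, xo⟩ ⟨y, yv, yo⟩ ⟨z, zv, zo⟩ ⟨u, uv, uo⟩ hl n1 n2 n3
    simp only [ne_eq, Subtype.mk.injEq] at n1 n2 n3
    simp only at hl
    obtain ⟨l1, l2, l3, l4, l5, l6, w, wv, hw⟩ := hl
    have hmem : ∀ t, t ∈ N v ∩ N w ↔ t = o ∨ t = x ∨ t = y ∨ t = z := by
      intro t; rw [hw]; simp
    have uw : u ∉ N w := by
      intro uw
      rcases (hmem u).1 (mem_inter.2 ⟨uv, uw⟩) with e | e | e | e
      · exact uo e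
      · exact n1 e
      · exact n2 e
      · exact n3 e
    have fin : ∀ x, x ∈ N v → x ≠ o → u ≠ x → Cov N v u o x → ∃ t, Ln N v o u x t := by
      intro x xv xo hux hc
      exact S77.ln_of_cov h ho uv xv (Ne.symm uo) (Ne.symm xo) hux hc
    have fin' : ∀ x (hx : x ∈ N v ∧ x ≠ o), u ≠ x → Cov N v u o x →
        Col (Q := {x : V // x ∈ N v ∧ x ≠ o}) (fun x y z => Ln N v o x.1 y.1 z.1)
          ⟨u, uv, uo⟩ ⟨x, hx⟩ := by
      intro x hx hux hc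
      obtain ⟨t, ht⟩ := fin x hx.1 hx.2 hux hc
      exact ⟨⟨t, (Ln.mem ht).2.2.2, Ne.symm ht.2.2.1⟩, ht⟩
    rcases h.cov_atleast wv l1 l2 l3 l4 l5 l6 ho (mem_inter.1 ((hmem o).2 (by simp))).2
      xv (mem_inter.1 ((hmem x).2 (by simp))).2 yv (mem_inter.1 ((hmem y).2 (by simp))).2
      zv (mem_inter.1 ((hmem z).2 (by simp))).2 uv uw with k | k | k
    · exact Or.inl (fin' x ⟨xv, xo⟩ n1 k)
    · exact Or.inr (Or.inl (fin' y ⟨yv, yo⟩ n2 k))
    · exact Or.inr (Or.inr (fin' z ⟨zv, zo⟩ n3 k))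
  three := by
    rintro ⟨x, xv, xo⟩
    have s := h.symm
    have e1 : (N o ∩ N x).card = 4 := h.mu' (Ne.symm xo) (s _ _ ho) (s _ _ xv)
    have e2 : ((N o ∩ N x).erase v).card = 3 := by
      rw [card_erase_of_mem (mem_inter.2 ⟨s _ _ ho, s _ _ xv⟩), e1]
    obtain ⟨w1, w2, w3, n12, n13, n23, e3⟩ := Finset.card_eq_three.1 e2
    have mem : ∀ w, w ∈ (N o ∩ N x).erase v → w ≠ v ∧ o ∈ N w ∧ x ∈ N w := by
      intro w hw
      simp only [mem_erase, mem_inter] at hw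
      exact ⟨hw.1, s _ _ hw.2.1, s _ _ hw.2.2⟩
    obtain ⟨w1v, ow1, xw1⟩ := mem w1 (by rw [e3]; simp)
    obtain ⟨w2v, ow2, xw2⟩ := mem w2 (by rw [e3]; simp)
    obtain ⟨w3v, ow3, xw3⟩ := mem w3 (by rw [e3]; simp)
    have blk : ∀ w, w ≠ v → o ∈ N w → x ∈ N w → ∃ c d, c ∈ N w ∧ d ∈ N w ∧ Ln N v o x c d := by
      intro w wv ow xw
      have hc : (N v ∩ N w).card = 4 := h.mu' wv.symm ho ow
      obtain ⟨c, d, k1, k2, k3, k4, k5, k6⟩ := fourth2 hc (a := o) (b := x) (by simp [ho, ow])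
        (by simp [xv, xw]) (Ne.symm xo)
      have hc : c ∈ N v ∩ N w := by rw [k6]; simp
      have hd : d ∈ N v ∩ N w := by rw [k6]; simp
      exact ⟨c, d, (mem_inter.1 hc).2, (mem_inter.1 hd).2, Ne.symm xo, k1, k2, k3, k4, k5, w, wv, k6⟩
    obtain ⟨a, a', aw, aw', la⟩ := blk w1 w1v ow1 xw1
    obtain ⟨b, b', bw, bw', lb⟩ := blk w2 w2v ow2 xw2
    obtain ⟨c, c', cw, cw', lc⟩ := blk w3 w3v ow3 xw3
    have key : ∀ w w' t t', w ≠ v → w' ≠ v → w ≠ w' → o ∈ N w → x ∈ N w → o ∈ N w' → x ∈ N w' →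
        t ∈ N w → t' ∈ N w' → t ∈ N v → t' ∈ N v → t ≠ o → t ≠ x → t' ≠ t := by
      intro w w' t t' wv w'v ww' ow xw ow' xw' tw t'w' tv t'v t_o tx e
      subst e
      exact h.noK33' (Ne.symm wv) (Ne.symm w'v) ww' (Ne.symm xo) (Ne.symm t_o) (Ne.symm tx)
        ho ow ow' xv xw xw' tv tw t'w'
    have oa : o ≠ a := la.2.1
    have oa' : o ≠ a' := la.2.2.1
    have xa : x ≠ a := la.2.2.2.1
    have xa' : x ≠ a' := la.2.2.2.2.1
    have ob : o ≠ b := lb.2.1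
    have ob' : o ≠ b' := lb.2.2.1
    have xb : x ≠ b := lb.2.2.2.1
    have xb' : x ≠ b' := lb.2.2.2.2.1
    have oc : o ≠ c := lc.2.1
    have oc' : o ≠ c' := lc.2.2.1
    obtain ⟨-, -, av, av'⟩ := Ln.mem la
    obtain ⟨-, -, bv, bv'⟩ := Ln.mem lb
    obtain ⟨-, -, cv, cv'⟩ := Ln.mem lc
    refine ⟨⟨a, av, oa.symm⟩, ⟨a', av', oa'.symm⟩, ⟨b, bv, ob.symm⟩, ⟨b', bv', ob'.symm⟩,
      ⟨c, cv, oc.symm⟩, ⟨c', cv', oc'.symm⟩, la, lb, lc, ?_, ?_, ?_, ?_, ?_, ?_⟩ <;>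
      simp only [ne_eq, Subtype.mk.injEq]
    · exact key w1 w2 a b w1v w2v n12 ow1 xw1 ow2 xw2 aw bw av bv oa.symm xa.symm
    · exact key w1 w2 a' b w1v w2v n12 ow1 xw1 ow2 xw2 aw' bw av' bv oa'.symm xa'.symm
    · exact key w1 w3 a c w1v w3v n13 ow1 xw1 ow3 xw3 aw cw av cv oa.symm xa.symm
    · exact key w1 w3 a' c w1v w3v n13 ow1 xw1 ow3 xw3 aw' cw av' cv oa'.symm xa'.symm
    · exact key w2 w3 b c w2v w3v n23 ow2 xw2 ow3 xw3 bw cw bv cv ob.symm xb.symm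
    · exact key w2 w3 b' c w2v w3v n23 ow2 xw2 ow3 xw3 bw' cw bv' cv ob'.symm xb'.symm

/-- labelling of the neighbours of `v` -/
theorem S77.exists_phi (h : S77 N) (v : V) : ∃ φ : Fin 16 → V, Function.Injective φ ∧
    (∀ i, φ i ∈ N v) ∧
    ∀ l ∈ mLines, Ln N v (φ 0) (φ l.1.succ) (φ l.2.1.succ) (φ l.2.2.succ) := by
  obtain ⟨o, ho⟩ : (N v).Nonempty := by
    rw [← card_pos, h.deg]; norm_num
  obtain ⟨p, hp⟩ : ∃ p, p ∈ N v ∧ p ≠ o := by
    have : ((N v).erase o).Nonempty := by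
      rw [← card_pos, card_erase_of_mem ho, h.deg]; norm_num
    obtain ⟨p, hp⟩ := this
    exact ⟨p, (mem_erase.1 hp).2, (mem_erase.1 hp).1⟩
  obtain ⟨f, hf, hl⟩ := frame (S77.gq h ho) ⟨p, hp⟩
  refine ⟨Fin.cons o (fun i => (f i).1), ?_, ?_, ?_⟩
  · rw [Fin.cons_injective_iff]
    refine ⟨?_, fun i j hij => hf (Subtype.ext hij)⟩
    rintro ⟨i, hi⟩
    exact (f i).2.2 hi
  · intro i
    refine Fin.cases ?_ (fun j => ?_) i
    · exact ho
    · exact (f j).2.1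
  · intro l hl'
    exact hl l hl'

end Cfsg.Agent.SporadicA.Srg77Label
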