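import Mathlib
import Cfsg.Agent.SporadicA.Srg77Label

/-!
# srg(77,16,0,4): the 60 blocks, and the isomorphism with the explicit model
-/

set_option autoImplicit false

namespace Cfsg.Agent.SporadicA.Srg77Model

open Finset Cfsg.Agent.SporadicA.Srg77 Cfsg.Agent.SporadicA.GQ22 Cfsg.Agent.SporadicA.Srg77Label

variable {V : Type*} [Fintype V] [DecidableEq V] {N : V → Finset V}

/-- the set of points with mask `m` is a block -/
def IsBlk (N : V → Finset V) (v : V) (φ : Fin 16 → V) (m : ℕ) : Prop :=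
  ∃ w, w ≠ v ∧ ∀ i : Fin 16, φ i ∈ N w ↔ m.testBit i = true

/-- masks of the 60 blocks, ordered by parallel classes -/
def mskL : List ℕ := [15, 240, 13056, 52224, 51, 204, 21760, 43520, 60, 195, 26112, 39168, 773,
  3216, 12298, 49248, 778, 3168, 12293, 49296, 1297, 2692, 20514, 41032, 1314, 2632, 20497, 41092,
  1556, 2433, 24616, 36930, 1576, 2370, 24596, 36993, 4688, 8608, 18441, 33798, 4768, 8528, 18438,
  33801, 5188, 10273, 16776, 33298, 5256, 10258, 16708, 33313, 6168, 9346, 16961, 33060, 6180,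
  9281, 17026, 33048]

/-- the mask of a block -/
def msk (b : Fin 60) : ℕ := mskL.getD b.val 0

/-- `m` is the mask of `{a, b, c, d}` -/
def isM (m : ℕ) (a b c d : Fin 16) : Bool :=
  decide (∀ i : Fin 16, m.testBit i = (i == a || i == b || i == c || i == d))

theorem isM_iff {m : ℕ} {a b c d : Fin 16} (h : isM m a b c d = true) (i : Fin 16) :
    m.testBit i = true ↔ i = a ∨ i = b ∨ i = c ∨ i = d := by
  have := of_decide_eq_true h i
  rw [this]
  simp [or_assoc]

/-- mask of four points -/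
def q4 (a b c d : Fin 16) : ℕ := (1 <<< a.val) + (1 <<< b.val) + (1 <<< c.val) + (1 <<< d.val)

theorem isM_lines : ∀ l ∈ mLines,
    isM (q4 0 l.1.succ l.2.1.succ l.2.2.succ) 0 l.1.succ l.2.1.succ l.2.2.succ = true := by
  decide +kernel

/-- each block not containing `0` as the sum of two blocks containing `0` -/
def xTab : List (Fin 16 × Fin 16 × Fin 16 × Fin 16 × Fin 16 × Fin 16) :=
  [(0, 1, 4, 5, 6, 7), (0, 2, 8, 9, 12, 13), (0, 3, 11, 14, 10, 15), (0, 1, 2, 3, 6, 7),
   (0, 4, 8, 10, 12, 14), (0, 5, 11, 13, 9, 15), (0, 1, 2, 3, 4, 5), (0, 6, 10, 13, 9, 14),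
   (0, 7, 8, 11, 12, 15), (0, 8, 4, 10, 7, 11), (0, 2, 1, 3, 12, 13), (0, 9, 6, 14, 5, 15),
   (0, 2, 1, 3, 8, 9), (0, 13, 6, 10, 5, 11), (0, 12, 4, 14, 7, 15), (0, 8, 2, 9, 7, 11),
   (0, 4, 1, 5, 12, 14), (0, 10, 6, 13, 3, 15), (0, 4, 1, 5, 8, 10), (0, 14, 6, 9, 3, 11),
   (0, 12, 2, 13, 7, 15), (0, 8, 2, 9, 4, 10), (0, 11, 5, 13, 3, 14), (0, 7, 1, 6, 12, 15),
   (0, 15, 5, 9, 3, 10), (0, 7, 1, 6, 8, 11), (0, 12, 2, 13, 4, 14), (0, 14, 6, 9, 4, 12),
   (0, 11, 7, 8, 5, 13), (0, 3, 1, 2, 10, 15), (0, 15, 5, 9, 7, 12), (0, 10, 4, 8, 6, 13),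
   (0, 3, 1, 2, 11, 14), (0, 13, 6, 10, 2, 12), (0, 11, 7, 8, 3, 14), (0, 5, 1, 4, 9, 15),
   (0, 15, 3, 10, 7, 12), (0, 5, 1, 4, 11, 13), (0, 9, 2, 8, 6, 14), (0, 14, 3, 11, 4, 12),
   (0, 6, 1, 7, 10, 13), (0, 9, 2, 8, 5, 15), (0, 13, 5, 11, 2, 12), (0, 6, 1, 7, 9, 14),
   (0, 10, 4, 8, 3, 15)]

/-- masks of the lines through `0` -/
def lineMasks : List ℕ := mLines.map fun l => q4 0 l.1.succ l.2.1.succ l.2.2.succ

theorem xTab_ok : ∀ t ∈ xTab,
    q4 t.1 t.2.1 t.2.2.1 t.2.2.2.1 ∈ lineMasks ∧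
    q4 t.1 t.2.1 t.2.2.2.2.1 t.2.2.2.2.2 ∈ lineMasks ∧
    isM (q4 t.1 t.2.1 t.2.2.1 t.2.2.2.1) t.1 t.2.1 t.2.2.1 t.2.2.2.1 = true ∧
    isM (q4 t.1 t.2.1 t.2.2.2.2.1 t.2.2.2.2.2) t.1 t.2.1 t.2.2.2.2.1 t.2.2.2.2.2 = true ∧
    isM (q4 t.2.2.1 t.2.2.2.1 t.2.2.2.2.1 t.2.2.2.2.2)
      t.2.2.1 t.2.2.2.1 t.2.2.2.2.1 t.2.2.2.2.2 = true ∧
    [t.1, t.2.1, t.2.2.1, t.2.2.2.1, t.2.2.2.2.1, t.2.2.2.2.2].Nodup := by
  decide +kernel

theorem msk_cases : ∀ b : Fin 60, msk b ∈ lineMasks ∨
    ∃ t ∈ xTab, msk b = q4 t.2.2.1 t.2.2.2.1 t.2.2.2.2.1 t.2.2.2.2.2 := by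
  decide +kernel

omit [Fintype V] in
theorem isBlk_of_set {v : V} {φ : Fin 16 → V} (hφ : Function.Injective φ)
    (hv : ∀ i, φ i ∈ N v) {w : V} (hw : w ≠ v) {a b c d : Fin 16}
    (hs : N v ∩ N w = {φ a, φ b, φ c, φ d}) {m : ℕ} (hm : isM m a b c d = true) :
    IsBlk N v φ m := by
  refine ⟨w, hw, fun i => ?_⟩
  rw [isM_iff hm i]
  have : φ i ∈ N w ↔ φ i ∈ N v ∩ N w := by simp [hv i]
  rw [this, hs]
  simp [hφ.eq_iff]

theorem set_of_isBlk (h : S77 N) {v : V} {φ : Fin 16 → V} (hφ : Function.Injective φ)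
    (hv : ∀ i, φ i ∈ N v) {a b c d : Fin 16} {m : ℕ} (hm : isM m a b c d = true)
    (hB : IsBlk N v φ m) : ∃ w, w ≠ v ∧ N v ∩ N w = {φ a, φ b, φ c, φ d} := by
  obtain ⟨w, wv, hw⟩ := hB
  refine ⟨w, wv, ?_⟩
  have hsurj : ∀ x ∈ N v, ∃ i, φ i = x := by
    have h1 : univ.image φ = N v := by
      apply Finset.eq_of_subset_of_card_le
      · intro t ht
        obtain ⟨i, -, rfl⟩ := mem_image.1 ht
        exact hv i
      · rw [card_image_of_injective _ hφ, h.deg]; simp
    intro x hx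
    rw [← h1] at hx
    obtain ⟨i, -, rfl⟩ := mem_image.1 hx
    exact ⟨i, rfl⟩
  ext t
  simp only [mem_inter, mem_insert, mem_singleton]
  constructor
  · rintro ⟨h1, h2⟩
    obtain ⟨i, rfl⟩ := hsurj t h1
    have := (isM_iff hm i).1 ((hw i).1 h2)
    rcases this with rfl | rfl | rfl | rfl <;> simp
  · have key : ∀ i, i = a ∨ i = b ∨ i = c ∨ i = d → φ i ∈ N v ∧ φ i ∈ N w := fun i hi =>
      ⟨hv i, (hw i).2 ((isM_iff hm i).2 hi)⟩
    rintro (rfl | rfl | rfl | rfl)
    · exact key a (by simp)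
    · exact key b (by simp)
    · exact key c (by simp)
    · exact key d (by simp)

theorem isBlk_msk (h : S77 N) {v : V} {φ : Fin 16 → V} (hφ : Function.Injective φ)
    (hv : ∀ i, φ i ∈ N v)
    (hl : ∀ l ∈ mLines, Ln N v (φ 0) (φ l.1.succ) (φ l.2.1.succ) (φ l.2.2.succ)) (b : Fin 60) :
    IsBlk N v φ (msk b) := by
  have base : ∀ m ∈ lineMasks, IsBlk N v φ m := by
    intro m hm
    obtain ⟨l, hlm, rfl⟩ := List.mem_map.1 hm
    obtain ⟨-, -, -, -, -, -, w, wv, hw⟩ := hl l hlm
    exact isBlk_of_set hφ hv wv hw (isM_lines l hlm)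
  rcases msk_cases b with hb | ⟨⟨a, b', c, d, e, f⟩, ht, hb⟩
  · exact base _ hb
  · obtain ⟨t1, t2, t3, t4, t5, t6⟩ := xTab_ok _ ht
    simp only at t1 t2 t3 t4 t5 t6 hb
    obtain ⟨y, yv, hy⟩ := set_of_isBlk h hφ hv t3 (base _ t1)
    obtain ⟨u, uv, hu⟩ := set_of_isBlk h hφ hv t4 (base _ t2)
    simp only [List.nodup_cons, List.mem_cons, List.not_mem_nil, or_false, not_or,
      List.nodup_nil, not_false_eq_true, and_true] at t6
    obtain ⟨⟨ab, ac, ad, ae, af⟩, ⟨bc, bd, be, bf⟩, ⟨cd, ce, cf⟩, ⟨de, df⟩, ef⟩ := t6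
    have ne : ∀ {i j : Fin 16}, ¬ i = j → φ i ≠ φ j := fun hij e => hij (hφ e)
    have nm : ∀ t : Fin 16, t ≠ a → t ≠ b' → t ≠ c → t ≠ d → φ t ∉ N y := by
      intro t ta tb tc td hty
      have : φ t ∈ N v ∩ N y := mem_inter.2 ⟨hv t, hty⟩
      rw [hy] at this
      simp [hφ.eq_iff, ta, tb, tc, td] at this
    obtain ⟨w, wv, hw⟩ := h.symmDiff yv uv (ne ab) (ne ac) (ne ad) (ne bc) (ne bd) (ne cd)
      (ne ae) (ne af) (ne be) (ne bf) (ne ef) hy hu
      (nm e (Ne.symm ae) (Ne.symm be) (Ne.symm ce) (Ne.symm de))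
      (nm f (Ne.symm af) (Ne.symm bf) (Ne.symm cf) (Ne.symm df))
    rw [hb]
    exact isBlk_of_set hφ hv wv hw t5

/-! ### The model graph -/

/-- vertices of the model -/
abbrev T : Type := Option (Fin 16 ⊕ Fin 60)

/-- adjacency in the model -/
def mAdj : T → T → Bool
  | none, none => false
  | none, some (Sum.inl _) => true
  | none, some (Sum.inr _) => false
  | some (Sum.inl _), none => true
  | some (Sum.inl _), some (Sum.inl _) => false
  | some (Sum.inl i), some (Sum.inr b) => (msk b).testBit i.val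
  | some (Sum.inr _), none => false
  | some (Sum.inr b), some (Sum.inl i) => (msk b).testBit i.val
  | some (Sum.inr b), some (Sum.inr c) =>
      Nat.beq (Nat.land (msk b) (msk c)) 0 && !(Nat.beq (b.val / 4) (c.val / 4))

theorem mAdj_card (s : T) : (univ.filter (fun t => mAdj s t = true)).card = 16 := by
  revert s
  decide +kernel

theorem msk_inj : ∀ b c : Fin 60, b ≠ c → ∃ i : Fin 16, (msk b).testBit i ≠ (msk c).testBit i := by
  decide +kernel

theorem msk_not_empty : ∀ b : Fin 60, ∃ i : Fin 16, (msk b).testBit i = true := by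
  decide +kernel

/-- number of blocks on a point `i` disjoint from a block `b` not on `i` -/
theorem five : ∀ (b : Fin 60) (i : Fin 16), (msk b).testBit i = false →
    (univ.filter (fun c : Fin 60 => (msk c).testBit i = true ∧
      Nat.beq (Nat.land (msk b) (msk c)) 0 = true)).card = 5 := by
  decide +kernel

/-- check for `three_blocks` -/
def chk3 (b c : Fin 60) : Bool :=
  (List.finRange 16).any fun i => !(msk b).testBit i && !(msk c).testBit i &&
    Nat.ble 3 ((List.finRange 60).countP fun k => (msk k).testBit i &&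
      Nat.beq (Nat.land (msk b) (msk k)) 0 && Nat.beq (Nat.land (msk c) (msk k)) 0)

theorem chk3_ok : ∀ b c : Fin 60, b ≠ c → b.val / 4 = c.val / 4 → chk3 b c = true := by
  decide +kernel

theorem three_blocks (b c : Fin 60) (hne : b ≠ c) (h4 : b.val / 4 = c.val / 4) :
    ∃ i : Fin 16, (msk b).testBit i = false ∧ (msk c).testBit i = false ∧
      3 ≤ (univ.filter (fun k : Fin 60 => (msk k).testBit i = true ∧
        Nat.beq (Nat.land (msk b) (msk k)) 0 = true ∧
        Nat.beq (Nat.land (msk c) (msk k)) 0 = true)).card := by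
  have := chk3_ok b c hne h4
  unfold chk3 at this
  rw [List.any_eq_true] at this
  obtain ⟨i, -, hi⟩ := this
  simp only [Bool.and_eq_true, Bool.not_eq_true', Nat.ble_eq] at hi
  refine ⟨i, hi.1.1, hi.1.2, ?_⟩
  refine hi.2.trans (le_of_eq ?_)
  rw [List.countP_eq_length_filter]
  rw [← List.toFinset_card_of_nodup ((List.nodup_finRange 60).filter _)]
  congr 1
  ext k
  simp [and_assoc]

/-- the main labelling theorem -/
theorem exists_labelling (h : S77 N) : ∃ e : T ≃ V, ∀ s t, e t ∈ N (e s) ↔ mAdj s t = true := by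
  have s := h.symm
  obtain ⟨v⟩ : Nonempty V := by
    rw [← Fintype.card_pos_iff, h.card]; norm_num
  obtain ⟨φ, hφ, hv, hl⟩ := S77.exists_phi h v
  choose W hWv hW using isBlk_msk h hφ hv hl
  have hWn : ∀ b, W b ∉ N v := by
    intro b hb
    obtain ⟨i, hi⟩ := msk_not_empty b
    exact h.tri _ _ _ hb ((hW b i).2 hi) (hv i)
  have hWinj : Function.Injective W := by
    intro b c hbc
    by_contra hne
    obtain ⟨i, hi⟩ := msk_inj b c hne
    apply hi
    have h1 := hW b i
    have h2 := hW c i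
    rw [hbc] at h1
    rw [Bool.eq_iff_iff, ← h1, ← h2]
  -- the map
  let e : T → V := fun t => match t with
    | none => v
    | some (Sum.inl i) => φ i
    | some (Sum.inr b) => W b
  have hvφ : ∀ i, φ i ≠ v := fun i hi => h.irr v (by have := hv i; rwa [hi] at this)
  have einj : Function.Injective e := by
    rintro (_ | i | b) (_ | j | c) hst
    · rfl
    · exact (hvφ j hst.symm).elim
    · exact (hWv c hst.symm).elim
    · exact (hvφ i hst).elim
    · exact congrArg some (congrArg Sum.inl (hφ hst))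
    · exact (hWn c (by have := hv i; rw [show φ i = W c from hst] at this; exact this)).elim
    · exact (hWv b hst).elim
    · exact (hWn b (by have := hv j; rw [← show W b = φ j from hst] at this; exact this)).elim
    · exact congrArg some (congrArg Sum.inr (hWinj hst))
  have ebij : Function.Bijective e := by
    rw [Fintype.bijective_iff_injective_and_card]
    exact ⟨einj, by rw [h.card]; rfl⟩
  -- vertices other than `v` and its neighbours are blocks
  have hblk : ∀ x, x ≠ v → x ∉ N v → ∃ b, W b = x := by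
    intro x h1 h2
    obtain ⟨t, rfl⟩ := ebij.2 x
    rcases t with _ | i | b
    · exact (h1 rfl).elim
    · exact (h2 (hv i)).elim
    · exact ⟨b, rfl⟩
  -- adjacent blocks are disjoint
  have hdisj : ∀ b c, W c ∈ N (W b) → Nat.beq (Nat.land (msk b) (msk c)) 0 = true := by
    intro b c hbc
    rw [Nat.beq_eq]
    apply Nat.eq_of_testBit_eq
    intro i
    rw [Nat.zero_testBit]
    by_contra hne
    have hne : (Nat.land (msk b) (msk c)).testBit i = true := by simpa using hne
    have h2 : ((msk b) &&& (msk c)).testBit i = true := hne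
    rw [Nat.testBit_and, Bool.and_eq_true] at h2
    have hi16 : i < 16 := by
      by_contra hi
      have hlt : ∀ b : Fin 60, msk b < 2 ^ 16 := by decide +kernel
      have := Nat.testBit_lt_two_pow (lt_of_lt_of_le (hlt b) (Nat.pow_le_pow_right (by norm_num)
        (not_lt.1 hi)))
      rw [this] at h2
      simp at h2
    exact h.tri _ _ _ hbc ((hW c ⟨i, hi16⟩).2 h2.2) ((hW b ⟨i, hi16⟩).2 h2.1)
  -- for a point `i` off `b`: exactly 4 of the 5 blocks on `i` disjoint from `b` are adjacent to `b`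
  have hone : ∀ (b : Fin 60) (i : Fin 16), (msk b).testBit i = false →
      ((univ.filter (fun c : Fin 60 => (msk c).testBit i = true ∧
        Nat.beq (Nat.land (msk b) (msk c)) 0 = true)).filter (fun c => W c ∉ N (W b))).card ≤ 1 := by
    intro b i hi
    have h5 := five b i hi
    set D := univ.filter (fun c : Fin 60 => (msk c).testBit i = true ∧
        Nat.beq (Nat.land (msk b) (msk c)) 0 = true) with hD
    have hsum := Finset.card_filter_add_card_filter_not (s := D) (fun c => W c ∈ N (W b))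
    have hi' : φ i ∉ N (W b) := by
      rw [hW b i, hi]; simp
    have hne : φ i ≠ W b := by
      intro e
      exact hWn b (e ▸ hv i)
    have h4 : (N (φ i) ∩ N (W b)).card = 4 := h.mu _ _ hne hi'
    have hsub : N (φ i) ∩ N (W b) ⊆ (D.filter (fun c => W c ∈ N (W b))).image W := by
      intro x hx
      rw [mem_inter] at hx
      have xv : x ≠ v := by
        rintro rfl
        exact hWn b (s _ _ hx.2)
      have xv' : x ∉ N v := h.nadj (s _ _ hx.1) (hv i)
      obtain ⟨c, rfl⟩ := hblk x xv xv'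
      refine mem_image.2 ⟨c, ?_, rfl⟩
      simp only [hD, mem_filter, mem_univ, true_and]
      exact ⟨⟨(hW c i).1 (s _ _ hx.1), hdisj b c hx.2⟩, hx.2⟩
    have h6 := (card_le_card hsub).trans card_image_le
    omega
  -- parallel blocks are not adjacent
  have hpar : ∀ b c : Fin 60, W c ∈ N (W b) → ¬ b.val / 4 = c.val / 4 := by
    intro b c hbc h4
    have hne : b ≠ c := by
      rintro rfl; exact h.irr _ hbc
    obtain ⟨i, hib, hic, h3⟩ := three_blocks b c hne h4
    have h1 := hone b i hib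
    have h2 := hone c i hic
    set A := ((univ.filter (fun k : Fin 60 => (msk k).testBit i = true ∧
        Nat.beq (Nat.land (msk b) (msk k)) 0 = true)).filter (fun k => W k ∉ N (W b))) with hA
    set B := ((univ.filter (fun k : Fin 60 => (msk k).testBit i = true ∧
        Nat.beq (Nat.land (msk c) (msk k)) 0 = true)).filter (fun k => W k ∉ N (W c))) with hB
    have hsub : (univ.filter (fun k : Fin 60 => (msk k).testBit i = true ∧
        Nat.beq (Nat.land (msk b) (msk k)) 0 = true ∧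
        Nat.beq (Nat.land (msk c) (msk k)) 0 = true)) ⊆ A ∪ B := by
      intro k hk
      simp only [mem_filter, mem_univ, true_and] at hk
      rw [mem_union]
      by_cases hkb : W k ∈ N (W b)
      · right
        simp only [hB, mem_filter, mem_univ, true_and]
        exact ⟨⟨hk.1, hk.2.2⟩, fun hkc => h.tri _ _ _ hbc hkc hkb⟩
      · left
        simp only [hA, mem_filter, mem_univ, true_and]
        exact ⟨⟨hk.1, hk.2.1⟩, hkb⟩
    have h5 := card_le_card hsub
    have h6 := card_union_le A B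
    omega
  -- one inclusion
  have hadj : ∀ s t, e t ∈ N (e s) → mAdj s t = true := by
    rintro (_ | i | b) (_ | j | c) hst
    · exact (h.irr _ hst).elim
    · rfl
    · exact (hWn c hst).elim
    · rfl
    · exact (h.nadj (s _ _ (hv j)) (s _ _ (hv i)) hst).elim
    · exact (hW c i).1 (s _ _ hst)
    · exact (hWn b (s _ _ hst)).elim
    · exact (hW b j).1 hst
    · show (Nat.beq (Nat.land (msk b) (msk c)) 0 && !(Nat.beq (b.val / 4) (c.val / 4))) = true
      rw [Bool.and_eq_true]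
      refine ⟨hdisj b c hst, ?_⟩
      rw [Bool.not_eq_true', ← Bool.not_eq_true, Nat.beq_eq]
      exact hpar b c hst
  refine ⟨Equiv.ofBijective e ebij, fun a t => ⟨hadj a t, fun ht => ?_⟩⟩
  have h1 : N (e a) ⊆ (univ.filter (fun t => mAdj a t = true)).image e := by
    intro x hx
    obtain ⟨t, rfl⟩ := ebij.2 x
    exact mem_image.2 ⟨t, by simpa using hadj a t hx, rfl⟩
  have h2 : N (e a) = (univ.filter (fun t => mAdj a t = true)).image e := by
    apply Finset.eq_of_subset_of_card_le h1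
    rw [h.deg]
    exact card_image_le.trans (mAdj_card a).le
  show e t ∈ N (e a)
  rw [h2]
  exact mem_image.2 ⟨t, by simpa using ht, rfl⟩

end Cfsg.Agent.SporadicA.Srg77Model
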