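import Mathlib

/-!
An explicit strongly regular graph `G0` with parameters (100, 22, 0, 6) on `Fin 100`, and an
automorphism of it which is an odd permutation of the 100 vertices (a product of 47 disjoint
transpositions).  All checks are kernel computations on packed natural numbers.

* `isSRG : G0.IsSRGWith 100 22 0 6`
* `exists_odd_aut : ∃ f : G0 ≃g G0, f 0 = 0 ∧ Equiv.Perm.sign f.toEquiv = -1`
-/

set_option autoImplicit false

namespace Cfsg.Agent.SporadicA.HSGraphModel

/-- `P` holds for all numbers below `n`. -/
def allB (n : ℕ) (P : ℕ → Bool) : Bool := Nat.rec true (fun k ih => P k && ih) n

theorem allB_spec (P : ℕ → Bool) (n : ℕ) (h : allB n P = true) : ∀ i < n, P i = true := by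
  induction n with
  | zero => intro i hi; omega
  | succ n ih =>
    intro i hi
    have h' : (P n && allB n P) = true := h
    rw [Bool.and_eq_true] at h'
    rcases Nat.lt_succ_iff_lt_or_eq.1 hi with h1 | h1
    · exact ih h'.2 i h1
    · rw [h1]; exact h'.1

/-- Packed adjacency matrix: the adjacency of `i` and `j` is the binary digit `128 * i + j`. -/
def M : ℕ := 813160500438569601712901078962692881264813588448957120436973483426231128047834794400000519015184794390477825484181317971928740378290902450432775242110754532182091697855902433393357571212089269025724102276080269314721256558121552682810018959595429244159758595716084836382369316083916012479153429722351394566268967362066329040380307553907471504669227765700664328321577081513601008898683826804645371430607687212521195065546290150168109822334067492660462287932540050742124362378181844205311610900135716833446012416941338878534772315671233906345042079511509381245004942821927925654111435169305481977811828824789287207982318975646392625356136231025739879646981772940420555024004088147367182259439242984409962888142325888421252401882137202102767605744796207091518168231841603039883163040258865113283254633741996105907521307720110797159476774057245210746170057346538539569055862443044054108998343011851686730652824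8136738834219197071602260723535510171897446109549028642363409252987953212545579642342845390839918885106340474985108041978906728690365455582040199366532586273023815035314168782593838109207070392085686893867586750927475330361138668340701074595121461434258250221306746909444963771231779966692223002839430270584845508618561893649699420085881665749041092240469065435605057502269529150522215025632209398388394244437314079440505355564225532693182899284586832536409771572834312147876069233005139823620228560718847403712440275435947845355268569303940352880424246657434339997057136911566870174255397935683505095453336909535979329764352156476093387270612269286591380553623369773767462965557647261746017774358191022120953885856488221300904505429662364136057651299600782254488433421207674423153847304650637670274496167134057001930935396785215368450095895903873632860586649272110081666612572562131620352219895348275414275807138995400262507119229739364475533146891295313308073141728258153881788979274605880221231160741899134862502860305278944436981799827982295529231790231116897343762962524996944584854294241503674204339453817464780155132511288598649172428624962943903151092939526045570071494306710984269440600926454309454979973132331697372798872998517162034418533881728652786983889652243805327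1957463185194971578535809583767825434929047695655100713677937904148918653152707749829360477086080137773845205464849046952545172203888397925982645563340719615109000956096878146096449227767152576324672027116371472478037412422244998271414704591268060979955845040681428866299530931533789120870899548699963269315391370551968407458140709043336849788816430200463238164167118957373237894718399390760315241326035791911774626492557604570940527733399981827652461727630715764871531182621211381097073032922372859744227311940337882136633089917307162326550949330416964818771881487433311896975213199921397440236196826571821139201741155241312146726943475192931575977705927791185259793716482021571654239033847293893590307892621448133642748173575172137944237894114587202659005186680383329670772505760192022479092651619450481487144670917967180546429341824379025865842520590579651215017487297258131952552060261280370217536435595017120573107041831139469094045024080451593851835718991638404811242192070250187109950941704383010820901200531323140616392701464110575733264309198943964350945192832853825921232452174407504759204488201312380972486681820911998225093280576199413575988003317936230442713520972532525201271308641029934669887199527769383864341087937456561698269409318530871811580335436532304454638799237204012827727892011192765161941921187892670163525879802810479620959153317462413917902746525542545624599337147385267131306179153274142553905325129841600696724976214915149333083478481377352171179158646505059391514573517890037907306019606522782376526884186531124422924861463070625252240020813904962125094198307517320441702714085799753114884236819963684123419082750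

/-- Row `i` of the adjacency matrix. -/
def row (i : ℕ) : ℕ := (M >>> (128 * i)) % 2 ^ 100

/-- Adjacency. -/
def adjB (i j : ℕ) : Bool := (row i).testBit j

/-- The list of neighbours. -/
def nb (i : ℕ) : List ℕ := (List.range 100).filter fun k => (row i).testBit k

/-- The number of common neighbours. -/
def common (i j : ℕ) : ℕ := (nb i).countP fun k => (row j).testBit k

/-- The involutory automorphism, packed with 8 bits per entry. -/
def S : ℕ := 940864387781202520192467910657705571224263268925364958820833565166325527911061870837011871492329809012656804127902940165877089052512679347863605476757349437198256649913076687632003551000488674890643849304250918510668269345164459854363563520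

/-- The involutory automorphism. -/
def sg (i : ℕ) : ℕ := (S >>> (8 * i)) % 256

theorem adjB_symm_check : allB 100 (fun i => allB 100 fun j => adjB i j == adjB j i) = true := by
  decide +kernel

theorem adjB_irrefl_check : allB 100 (fun i => !(adjB i i)) = true := by
  decide +kernel

theorem adjB_sg_check :
    allB 100 (fun i => allB 100 fun j => adjB (sg i) (sg j) == adjB i j) = true := by
  decide +kernel

theorem sg_lt_check : allB 100 (fun i => decide (sg i < 100)) = true := by
  decide +kernel

theorem sg_sg_check : allB 100 (fun i => sg (sg i) == i) = true := by
  decide +kernel

theorem srg_check :
    allB 100 (fun i => (fun l : List ℕ => allB (i + 1) fun j =>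
      (l.countP fun k => (row j).testBit k) ==
        (if i == j then 22 else if adjB i j then 0 else 6)) (nb i)) = true := by
  decide +kernel

theorem adjB_symm {i j : ℕ} (hi : i < 100) (hj : j < 100) : adjB i j = adjB j i := by
  have h := allB_spec _ _ (allB_spec _ _ adjB_symm_check i hi) j hj
  simpa using h

theorem adjB_irrefl {i : ℕ} (hi : i < 100) : adjB i i = false := by
  have h := allB_spec _ _ adjB_irrefl_check i hi
  simpa using h

theorem adjB_sg {i j : ℕ} (hi : i < 100) (hj : j < 100) : adjB (sg i) (sg j) = adjB i j := by
  have h := allB_spec _ _ (allB_spec _ _ adjB_sg_check i hi) j hj
  simpa using h

theorem sg_lt {i : ℕ} (hi : i < 100) : sg i < 100 := by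
  have h := allB_spec _ _ sg_lt_check i hi
  simpa using h

theorem sg_sg {i : ℕ} (hi : i < 100) : sg (sg i) = i := by
  have h := allB_spec _ _ sg_sg_check i hi
  simpa using h

theorem card_filter_fin (P : ℕ → Bool) (n : ℕ) :
    (Finset.univ.filter fun k : Fin n => P k = true).card = (List.range n).countP P := by
  have h2 : (Finset.univ.filter fun k : Fin n => P k = true).card =
      ∑ k ∈ Finset.range n, if P k = true then 1 else 0 := by
    rw [Finset.card_filter, Finset.sum_range]
  rw [h2, ← Finset.card_filter]
  clear h2
  induction n with
  | zero => rfl
  | succ n ih =>
    rw [Finset.range_add_one, Finset.filter_insert, List.range_succ, List.countP_append, ← ih]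
    by_cases h : P n = true
    · rw [if_pos h, Finset.card_insert_of_notMem (by simp)]
      simp [h]
    · rw [if_neg h]
      simp [h]

/-- `common i j` counts the common neighbours. -/
theorem card_common (i j : ℕ) :
    (Finset.univ.filter fun k : Fin 100 => adjB i k = true ∧ adjB j k = true).card =
      common i j := by
  have h1 : common i j = (List.range 100).countP fun k => adjB i k && adjB j k := by
    show ((List.range 100).filter fun k => adjB i k).countP (fun k => adjB j k) = _
    rw [List.countP_filter]
    refine List.countP_congr fun k _ => ?_
    rw [Bool.and_comm]
  rw [h1, ← card_filter_fin]
  congr 1
  ext k
  simp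

theorem common_symm (i j : ℕ) : common i j = common j i := by
  rw [← card_common, ← card_common]
  congr 1
  ext k
  simp only [Finset.mem_filter, Finset.mem_univ, true_and]
  tauto

theorem common_eq {i j : ℕ} (hi : i < 100) (hj : j < 100) :
    common i j = if i = j then 22 else if adjB i j = true then 0 else 6 := by
  have key : ∀ i j : ℕ, i < 100 → j ≤ i →
      common i j = if i = j then 22 else if adjB i j = true then 0 else 6 := by
    intro i j hi hji
    have h := allB_spec _ _ srg_check i hi
    have h2 := allB_spec _ _ h j (by omega)
    have h3 := beq_iff_eq.1 h2
    show ((nb i).countP fun k => (row j).testBit k) = _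
    rw [h3]
    by_cases hij : i = j
    · simp [hij]
    · simp [hij]
  rcases le_total j i with h | h
  · exact key i j hi h
  · rw [common_symm, key j i hj h, adjB_symm hj hi]
    by_cases hij : i = j
    · simp [hij]
    · rw [if_neg hij, if_neg (Ne.symm hij)]

/-- The explicit graph. -/
def G0 : SimpleGraph (Fin 100) where
  Adj i j := adjB i j = true
  symm := ⟨fun i j h => by rw [adjB_symm j.2 i.2]; exact h⟩
  loopless := ⟨fun i h => by rw [adjB_irrefl i.2] at h; exact absurd h (by decide)⟩

instance G0_decidableRel : DecidableRel G0.Adj :=
  fun i j => inferInstanceAs (Decidable (adjB i j = true))

theorem G0_adj (i j : Fin 100) : G0.Adj i j ↔ adjB i j = true := Iff.rfl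

theorem card_commonNeighbors (i j : Fin 100) :
    Fintype.card (G0.commonNeighbors i j) = common i j := by
  rw [← card_common, Fintype.card_subtype]
  congr 1

theorem isSRG : G0.IsSRGWith 100 22 0 6 where
  card := by simp
  regular := by
    intro v
    have h : G0.degree v = Fintype.card (G0.commonNeighbors v v) := by
      rw [← SimpleGraph.card_neighborSet_eq_degree]
      apply Fintype.card_congr
      refine Equiv.subtypeEquivRight fun x => ?_
      simp [SimpleGraph.commonNeighbors]
    rw [h, card_commonNeighbors, common_eq v.2 v.2, if_pos rfl]
  of_adj v w h := by
    have hne : (v : ℕ) ≠ w := fun hh => h.ne (Fin.ext hh)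
    rw [card_commonNeighbors, common_eq v.2 w.2, if_neg hne, if_pos ((G0_adj v w).1 h)]
  of_not_adj v w hvw h := by
    have hne : (v : ℕ) ≠ w := fun hh => hvw (Fin.ext hh)
    rw [card_commonNeighbors, common_eq v.2 w.2, if_neg hne]
    exact if_neg h

/-- The automorphism as a permutation. -/
def sgPerm : Equiv.Perm (Fin 100) where
  toFun i := ⟨sg i, sg_lt i.2⟩
  invFun i := ⟨sg i, sg_lt i.2⟩
  left_inv i := Fin.ext (sg_sg i.2)
  right_inv i := Fin.ext (sg_sg i.2)

/-- The automorphism of the graph. -/
def sgAut : G0 ≃g G0 where
  toEquiv := sgPerm
  map_rel_iff' := by
    intro i j
    show adjB (sg i) (sg j) = true ↔ adjB i j = true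
    rw [adjB_sg i.2 j.2]

theorem sg_fixed_check : ((List.range 100).countP fun x => sg x == x) = 6 := by
  decide +kernel

theorem card_fixed_sgPerm : Fintype.card (Function.fixedPoints sgPerm) = 6 := by
  rw [← sg_fixed_check, ← card_filter_fin, ← Fintype.card_coe]
  apply Fintype.card_congr
  refine Equiv.subtypeEquivRight fun x => ?_
  have h : sgPerm x = x ↔ sg x = x := Fin.ext_iff
  rw [Function.mem_fixedPoints, Function.IsFixedPt, h, Finset.mem_filter]
  simp

theorem sign_sgPerm : Equiv.Perm.sign sgPerm = -1 := by
  have h2 : sgPerm ^ 2 = 1 := by
    ext x
    exact sg_sg x.2
  rw [Equiv.Perm.sign_of_pow_two_eq_one h2, card_fixed_sgPerm, Fintype.card_fin]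
  decide

theorem sgAut_zero : sgAut 0 = 0 := by
  show (⟨sg 0, sg_lt (by norm_num)⟩ : Fin 100) = 0
  apply Fin.ext
  decide +kernel

theorem exists_odd_aut : ∃ f : G0 ≃g G0, f 0 = 0 ∧ Equiv.Perm.sign f.toEquiv = -1 :=
  ⟨sgAut, sgAut_zero, sign_sgPerm⟩

end Cfsg.Agent.SporadicA.HSGraphModel
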