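import Mathlib

/-!
Rank 3 groups of degree 100 with suborbit lengths 1, 22, 77 and simple point stabiliser are
simple; subgroups of index 2 and orbits of odd length.

* `orbit_eq_univ_of_normal` : nontrivial normal subgroups of a faithful transitive group of
  degree 100 whose point stabiliser is transitive on sets `X`, `Y` of sizes 22 and 77 (which
  together with the fixed point exhaust all points) are transitive.
* `isSimpleGroup_of_rank_three` : if moreover the point stabiliser is simple, the group is simple.
* `exists_smul_eq_of_odd_orbit` : a normal subgroup of index 2 is transitive on every orbit of odd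
  length.
* `eq_of_index_two_of_isSimpleGroup` : a simple subgroup of index 2 and order greater than 2 is
  the only subgroup of index 2.
-/

set_option autoImplicit false

namespace Cfsg.Agent.SporadicA.RankThree100

open MulAction

section rank3

variable {G Ω : Type*} [Group G] [MulAction G Ω]

theorem orbit_eq_univ_of_normal [FaithfulSMul G Ω] [IsPretransitive G Ω] (hΩ : Nat.card Ω = 100)
    (a : Ω) (X Y : Set Ω) (haX : a ∉ X) (haY : a ∉ Y) (hX : X.ncard = 22) (hY : Y.ncard = 77)
    (hcov : ∀ x, x = a ∨ x ∈ X ∨ x ∈ Y)
    (tX : ∀ x ∈ X, ∀ y ∈ X, ∃ g : G, g • a = a ∧ g • x = y)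
    (tY : ∀ x ∈ Y, ∀ y ∈ Y, ∃ g : G, g • a = a ∧ g • x = y)
    (N : Subgroup G) [N.Normal] (hN : N ≠ ⊥) : orbit N a = Set.univ := by
  have hfin : Finite Ω := Nat.finite_of_card_ne_zero (by omega)
  have hblock : IsBlock G (orbit N a) := IsBlock.orbit_of_normal a
  have hdvd : (orbit N a).ncard ∣ 100 := by
    rw [← hΩ]
    exact hblock.ncard_dvd_card (nonempty_orbit a)
  have haD : a ∈ orbit N a := mem_orbit_self a
  -- invariance under the point stabiliser
  have hinv : ∀ g : G, g • a = a → ∀ x ∈ orbit N a, g • x ∈ orbit N a := by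
    rintro g hg x ⟨n, rfl⟩
    refine ⟨⟨g * n * g⁻¹, Subgroup.Normal.conj_mem inferInstance _ n.2 g⟩, ?_⟩
    show (g * n * g⁻¹) • a = g • ((n : G) • a)
    have : g⁻¹ • a = a := by rw [inv_smul_eq_iff, hg]
    rw [mul_smul, mul_smul, this]
  have hXs : (∃ x ∈ X, x ∈ orbit N a) → X ⊆ orbit N a := by
    rintro ⟨x, hx, hxD⟩ y hy
    obtain ⟨g, hg, hgx⟩ := tX x hx y hy
    rw [← hgx]
    exact hinv g hg x hxD
  have hYs : (∃ x ∈ Y, x ∈ orbit N a) → Y ⊆ orbit N a := by
    rintro ⟨x, hx, hxD⟩ y hy
    obtain ⟨g, hg, hgx⟩ := tY x hx y hy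
    rw [← hgx]
    exact hinv g hg x hxD
  by_cases h1 : ∃ x ∈ X, x ∈ orbit N a
  · by_cases h2 : ∃ x ∈ Y, x ∈ orbit N a
    · rw [Set.eq_univ_iff_forall]
      intro x
      rcases hcov x with h | h | h
      · rw [h]; exact haD
      · exact hXs h1 h
      · exact hYs h2 h
    · exfalso
      have hD : orbit N a = insert a X := by
        ext x
        rw [Set.mem_insert_iff]
        constructor
        · intro hx
          rcases hcov x with h | h | h
          · exact Or.inl h
          · exact Or.inr h
          · exact absurd ⟨x, h, hx⟩ h2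
        · rintro (h | h)
          · rw [h]; exact haD
          · exact hXs h1 h
      rw [hD, Set.ncard_insert_of_notMem haX, hX] at hdvd
      omega
  · by_cases h2 : ∃ x ∈ Y, x ∈ orbit N a
    · exfalso
      have hD : orbit N a = insert a Y := by
        ext x
        rw [Set.mem_insert_iff]
        constructor
        · intro hx
          rcases hcov x with h | h | h
          · exact Or.inl h
          · exact absurd ⟨x, h, hx⟩ h1
          · exact Or.inr h
        · rintro (h | h)
          · rw [h]; exact haD
          · exact hYs h2 h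
      rw [hD, Set.ncard_insert_of_notMem haY, hY] at hdvd
      omega
    · exfalso
      apply hN
      have hfix : ∀ n ∈ N, n • a = a := by
        intro n hn
        have hmem : n • a ∈ orbit N a := ⟨⟨n, hn⟩, rfl⟩
        rcases hcov (n • a) with h | h | h
        · exact h
        · exact absurd ⟨_, h, hmem⟩ h1
        · exact absurd ⟨_, h, hmem⟩ h2
      rw [Subgroup.eq_bot_iff_forall]
      intro n hn
      apply FaithfulSMul.eq_of_smul_eq_smul (α := Ω)
      intro x
      obtain ⟨g, rfl⟩ := exists_smul_eq G a x
      have h3 := hfix (g⁻¹ * n * g) (by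
        have := Subgroup.Normal.conj_mem (H := N) inferInstance _ hn g⁻¹
        rwa [inv_inv] at this)
      rw [mul_smul, mul_smul, inv_smul_eq_iff] at h3
      rw [h3, one_smul]

/-- Rank 3 simplicity criterion for degree 100. -/
theorem isSimpleGroup_of_rank_three [FaithfulSMul G Ω] [IsPretransitive G Ω]
    (hΩ : Nat.card Ω = 100)
    (a : Ω) (X Y : Set Ω) (haX : a ∉ X) (haY : a ∉ Y) (hX : X.ncard = 22) (hY : Y.ncard = 77)
    (hcov : ∀ x, x = a ∨ x ∈ X ∨ x ∈ Y)
    (tX : ∀ x ∈ X, ∀ y ∈ X, ∃ g : G, g • a = a ∧ g • x = y)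
    (tY : ∀ x ∈ Y, ∀ y ∈ Y, ∃ g : G, g • a = a ∧ g • x = y)
    (hs : IsSimpleGroup (stabilizer G a)) : IsSimpleGroup G := by
  have hfinΩ : Finite Ω := Nat.finite_of_card_ne_zero (by omega)
  have key : ∀ (N : Subgroup G), N.Normal → N ≠ ⊥ → orbit N a = Set.univ := by
    intro N hN hN1
    exact orbit_eq_univ_of_normal hΩ a X Y haX haY hX hY hcov tX tY N hN1
  have hnt : Nontrivial G := by
    obtain ⟨x, y, hxy⟩ := hs.exists_pair_ne
    exact ⟨x, y, fun h => hxy (Subtype.ext h)⟩
  refine ⟨fun N hN => ?_⟩
  by_cases hN1 : N = ⊥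
  · exact Or.inl hN1
  right
  have horb := key N hN hN1
  have hsurj : ∀ y : Ω, ∃ n : N, (n : G) • a = y := by
    intro y
    have : y ∈ orbit N a := by rw [horb]; exact Set.mem_univ y
    exact this
  rcases hs.eq_bot_or_eq_top_of_normal (N.subgroupOf (stabilizer G a)) inferInstance with h | h
  · exfalso
    have hreg : ∀ n ∈ N, n • a = a → n = 1 := by
      intro n hn hna
      have hmem : (⟨n, hna⟩ : stabilizer G a) ∈ N.subgroupOf (stabilizer G a) := by
        rw [Subgroup.mem_subgroupOf]
        exact hn
      rw [h, Subgroup.mem_bot] at hmem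
      exact congrArg Subtype.val hmem
    have hbij : Function.Bijective (fun n : N => (n : G) • a) := by
      constructor
      · intro x y hxy
        have hxy' : (x : G) • a = (y : G) • a := hxy
        have : ((y : G)⁻¹ * (x : G)) • a = a := by
          rw [mul_smul, hxy', inv_smul_smul]
        have h1 := hreg _ (N.mul_mem (N.inv_mem y.2) x.2) this
        rw [inv_mul_eq_one] at h1
        exact Subtype.ext h1.symm
      · exact hsurj
    have hcard : Nat.card N = 100 := by rw [Nat.card_eq_of_bijective _ hbij, hΩ]
    have hNfin : Finite N := Nat.finite_of_card_ne_zero (by omega)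
    have h5 : Fact (Nat.Prime 5) := ⟨by norm_num⟩
    -- the Sylow 5-subgroup
    obtain ⟨P⟩ : Nonempty (Sylow 5 N) := inferInstance
    have hPcard : Nat.card P = 25 := by
      rw [Sylow.card_eq_multiplicity, hcard]
      have : (100 : ℕ).factorization 5 = 2 := by
        have e : (100 : ℕ) = 5 ^ 2 * 4 := by norm_num
        rw [e, Nat.factorization_mul (by norm_num) (by norm_num)]
        simp only [Finsupp.add_apply]
        rw [Nat.Prime.factorization_pow (by norm_num), Finsupp.single_eq_same,
          Nat.factorization_eq_zero_of_not_dvd (by norm_num)]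
      rw [this]
      norm_num
    have hidx : (P : Subgroup N).index = 4 := by
      have := Subgroup.card_mul_index (P : Subgroup N)
      rw [show Nat.card (P : Subgroup N) = 25 from hPcard, hcard] at this
      omega
    have hn5 : Nat.card (Sylow 5 N) = 1 := by
      have h1 : Nat.card (Sylow 5 N) ∣ 4 := by
        rw [← hidx]
        exact P.card_dvd_index
      have h2 : Nat.card (Sylow 5 N) ≡ 1 [MOD 5] := card_sylow_modEq_one 5 N
      have h3 : Nat.card (Sylow 5 N) ≤ 4 := Nat.le_of_dvd (by norm_num) h1
      have h4 : 0 < Nat.card (Sylow 5 N) := Nat.card_pos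
      unfold Nat.ModEq at h2
      omega
    have hPn : (P : Subgroup N).Normal := by
      have : Subsingleton (Sylow 5 N) := (Nat.card_eq_one_iff_unique.1 hn5).1
      exact Sylow.normal_of_subsingleton P
    have hPc : (P : Subgroup N).Characteristic := P.characteristic_of_normal hPn
    have hQn : ((P : Subgroup N).map N.subtype).Normal :=
      ConjAct.normal_of_characteristic_of_normal
    have hQcard : Nat.card ((P : Subgroup N).map N.subtype) = 25 := by
      rw [Nat.card_congr (Subgroup.equivMapOfInjective (P : Subgroup N) N.subtype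
        N.subtype_injective).toEquiv.symm]
      exact hPcard
    have hQ1 : ((P : Subgroup N).map N.subtype) ≠ ⊥ := by
      intro h0
      rw [h0, Subgroup.card_bot] at hQcard
      omega
    have horbQ := key _ hQn hQ1
    have h6 : Nat.card (orbit ((P : Subgroup N).map N.subtype) a) ≤ 25 := by
      rw [← hQcard]
      have hQfin : Finite ((P : Subgroup N).map N.subtype) :=
        Nat.finite_of_card_ne_zero (by omega)
      exact Nat.card_le_card_of_surjective
        (fun g : ((P : Subgroup N).map N.subtype) => (⟨g • a, g, rfl⟩ : orbit _ a))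
        (by rintro ⟨_, g, rfl⟩; exact ⟨g, rfl⟩)
    rw [horbQ, Nat.card_univ, hΩ] at h6
    omega
  · rw [eq_top_iff]
    intro g _
    obtain ⟨n, hn'⟩ := hsurj (g • a)
    have hmem : (n : G)⁻¹ * g ∈ stabilizer G a := by
      rw [mem_stabilizer_iff, mul_smul, ← hn', inv_smul_smul]
    have : (⟨_, hmem⟩ : stabilizer G a) ∈ N.subgroupOf (stabilizer G a) := h ▸ Subgroup.mem_top _
    rw [Subgroup.mem_subgroupOf] at this
    have h1 := N.mul_mem n.2 this
    simpa using h1

/-- A normal subgroup of index 2 is transitive on every orbit of odd length. -/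
theorem exists_smul_eq_of_odd_orbit (K : Subgroup G) [K.Normal] (hK : K.index = 2) (x : Ω)
    (hodd : Odd (orbit G x).ncard) (y : Ω) (hy : y ∈ orbit G x) : ∃ k ∈ K, k • x = y := by
  have h1 : (stabilizer G x).index = (orbit G x).ncard := index_stabilizer G x
  have h2 : (stabilizer K x).index = (orbit K x).ncard := index_stabilizer K x
  have h3 : (stabilizer K x) = (stabilizer G x).subgroupOf K := by
    ext k
    rw [Subgroup.mem_subgroupOf, mem_stabilizer_iff, mem_stabilizer_iff]
    rfl
  have h4 : (stabilizer G x).relIndex K * K.index =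
      K.relIndex (stabilizer G x) * (stabilizer G x).index := by
    have e1 := Subgroup.relIndex_mul_index (inf_le_right : stabilizer G x ⊓ K ≤ K)
    have e2 := Subgroup.relIndex_mul_index (inf_le_left : stabilizer G x ⊓ K ≤ stabilizer G x)
    rw [Subgroup.inf_relIndex_right] at e1
    rw [Subgroup.inf_relIndex_left] at e2
    rw [e1, e2]
  have h5 : (stabilizer G x).relIndex K = (orbit K x).ncard := by
    rw [← h2, h3]; rfl
  rw [h5, hK, h1] at h4
  have h6 : K.relIndex (stabilizer G x) ∣ 2 := by
    rw [← hK]
    exact Subgroup.relIndex_dvd_index_of_normal K (stabilizer G x)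
  have h7 : K.relIndex (stabilizer G x) = 2 := by
    rcases (Nat.dvd_prime Nat.prime_two).1 h6 with h | h
    · exfalso
      rw [h, one_mul] at h4
      rw [← h4] at hodd
      exact (Nat.not_odd_iff_even.2 (even_iff_two_dvd.2 ⟨_, mul_comm _ _⟩)) hodd
    · exact h
  rw [h7, mul_comm] at h4
  have h8 : (orbit K x).ncard = (orbit G x).ncard := Nat.eq_of_mul_eq_mul_left (by norm_num) h4
  have hfin : (orbit G x).Finite := by
    apply Set.finite_of_ncard_ne_zero
    rintro h0
    rw [h0] at hodd
    exact absurd hodd (by decide)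
  have hsub : orbit K x ⊆ orbit G x := by
    rintro _ ⟨k, rfl⟩
    exact ⟨(k : G), rfl⟩
  have heq : orbit K x = orbit G x := Set.eq_of_subset_of_ncard_le hsub h8.ge hfin
  rw [← heq] at hy
  obtain ⟨k, hk⟩ := hy
  exact ⟨k, k.2, hk⟩

end rank3

/-- A simple subgroup of index 2 with more than two elements is the only subgroup of index 2. -/
theorem eq_of_index_two_of_isSimpleGroup {G : Type*} [Group G] [Finite G] (K L : Subgroup G)
    (hK : K.index = 2) (hL : L.index = 2) (hs : IsSimpleGroup K) (h2 : 2 < Nat.card K) :
    K = L := by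
  have hLn : L.Normal := Subgroup.normal_of_index_eq_two hL
  have hle : K ≤ L := by
    rcases hs.eq_bot_or_eq_top_of_normal (L.subgroupOf K) inferInstance with h | h
    · exfalso
      have h3 : L.relIndex K ∣ 2 := by
        rw [← hL]
        exact Subgroup.relIndex_dvd_index_of_normal L K
      have h4 : L.relIndex K = Nat.card K := by
        show (L.subgroupOf K).index = _
        rw [h, Subgroup.index_bot]
      rw [h4] at h3
      have := Nat.le_of_dvd (by norm_num) h3
      omega
    · exact Subgroup.subgroupOf_eq_top.1 h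
  apply Subgroup.eq_of_le_of_card_ge hle
  have e1 := Subgroup.card_mul_index K
  have e2 := Subgroup.card_mul_index L
  rw [hK] at e1
  rw [hL] at e2
  omega

end Cfsg.Agent.SporadicA.RankThree100
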