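import Cfsg.Agent.SporadicA.DegPOne

/-!
Permutations of `12` points normalizing the group generated by `x ↦ 3 x` on the projective
line over `ZMod 11`, in computable form (degree 12; the point 11 is the point at infinity).
-/

set_option autoImplicit false

namespace Cfsg.Agent.SporadicA.Cand12

open Equiv Equiv.Perm MulAction Cfsg.Agent.SporadicA.DegPOne

/-- translation -/
def tF (x : ℕ) : ℕ := if x < 11 then (x + 1) % 11 else x
/-- inverse translation -/
def tG (x : ℕ) : ℕ := if x < 11 then (x + 10) % 11 else x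
/-- multiplication by 3 -/
def qF (x : ℕ) : ℕ := if x < 11 then (3 * x) % 11 else x
/-- multiplication by the inverse of 3 -/
def qG (x : ℕ) : ℕ := if x < 11 then (4 * x) % 11 else x
/-- multiplication by -1 -/
def nF (x : ℕ) : ℕ := if x < 11 then (10 * x) % 11 else x

/-- translation `x ↦ x + 1` -/
def tP : Perm (Fin 12) := mkPerm 12 tF tG (by decide +kernel)
/-- multiplication `x ↦ 3 x` -/
def qP : Perm (Fin 12) := mkPerm 12 qF qG (by decide +kernel)
/-- negation `x ↦ -x` -/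
def nP : Perm (Fin 12) := mkPerm 12 nF nF (by decide +kernel)

theorem tP_comp : Comp tP tF := mkPerm_comp _ _ _ _
theorem qP_comp : Comp qP qF := mkPerm_comp _ _ _ _
theorem nP_comp : Comp nP nF := mkPerm_comp _ _ _ _

theorem perm_ext_comp {g g' : Perm (Fin 12)} {f f' : ℕ → ℕ} (h : Comp g f) (h' : Comp g' f')
    (hf : ∀ x : Fin 12, f x = f' x) : g = g' := by
  ext x
  rw [h x, h' x, hf x]

theorem orderOf_tP : orderOf tP = 11 := by
  have : Fact (Nat.Prime 11) := ⟨by norm_num⟩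
  refine orderOf_eq_prime ?_ ?_
  · refine perm_ext_comp (comp_pow tP_comp 11) (f' := id) (fun x => rfl) ?_
    decide +kernel
  · intro h
    have h1 := tP_comp 0
    rw [h] at h1
    exact absurd h1 (by decide)

theorem orderOf_qP : orderOf qP = 5 := by
  have : Fact (Nat.Prime 5) := ⟨by norm_num⟩
  refine orderOf_eq_prime ?_ ?_
  · refine perm_ext_comp (comp_pow qP_comp 5) (f' := id) (fun x => rfl) ?_
    decide +kernel
  · intro h
    have h1 := qP_comp 1
    rw [h] at h1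
    exact absurd h1 (by decide)

/-- discrete logarithm table: `x = 3^i` gives `i`, `x = -3^i` gives `5+i` -/
def dl (x : ℕ) : ℕ := (5706783280634880 >>> (5 * x)) % 32
/-- exponential table -/
def ex (j : ℕ) : ℕ := (252965323711585 >>> (5 * j)) % 32

/-- The candidate permutation with parameters `a` (exponent), `sw` (exchange of `0` and infinity),
`sn` (exchange of squares and non-squares) and `b` (relative shift). -/
def cand (a sw sn b : ℕ) (x : ℕ) : ℕ :=
  if x = 0 ∨ x = 11 then (if sw = 0 then x else 11 - x)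
  else ex (((dl x / 5 + sn) % 2) * 5 + (a * (dl x % 5) + (dl x / 5) * b) % 5)

theorem exists_pow_one_or (y : Fin 12) (h0 : y ≠ 0) (h1 : y ≠ 11) :
    ∃ i < 5, iter qF i y = 1 ∨ iter qF i y = 10 := by
  revert h0 h1
  revert y
  decide +kernel

theorem exists_pow_eq (y : Fin 12) (h0 : y ≠ 0) (h1 : y ≠ 11) :
    (∃ i < 5, iter qF i 1 = y) ∨ (∃ i < 5, iter qF i 10 = y) := by
  revert h0 h1
  revert y
  decide +kernel

theorem cover (a : ℕ) (ha0 : 0 < a) (ha : a < 5) (y : Fin 12) (h0 : y ≠ 0) (h1 : y ≠ 11) :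
    ((∃ i < 5, iter qF (a * i) 1 = y) ∨ (∃ b < 5, iter qF b 10 = y)) ∧
    ((∃ i < 5, iter qF (a * i) 10 = y) ∨ (∃ b < 5, iter qF b 1 = y)) := by
  revert h0 h1
  revert y
  interval_cases a <;> decide +kernel

theorem iter_ne (i : ℕ) (hi : i < 5) : iter qF i 1 ≠ 10 := by
  revert i
  decide +kernel

theorem cand_eq0 : ∀ a < 5, ∀ b < 5, ∀ i < 5, ∀ sw < 2,
    iter qF (a * i) 1 = cand a sw 0 b (iter qF i 1) ∧
    iter qF (a * i) (iter qF b 10) = cand a sw 0 b (iter qF i 10) := by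
  decide +kernel

theorem cand_eq1 : ∀ a < 5, ∀ b < 5, ∀ i < 5, ∀ sw < 2,
    iter qF (a * i) 10 = cand a sw 1 b (iter qF i 1) ∧
    iter qF (a * i) (iter qF b 1) = cand a sw 1 b (iter qF i 10) := by
  decide +kernel

theorem qP_pow_zero (i : ℕ) : (qP ^ i) 0 = 0 := by
  induction i with
  | zero => rfl
  | succ i ih =>
    rw [pow_succ', Perm.mul_apply, ih]
    exact Fin.ext (by rw [qP_comp]; decide)

theorem qP_pow_inf (i : ℕ) : (qP ^ i) 11 = 11 := by
  induction i with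
  | zero => rfl
  | succ i ih =>
    rw [pow_succ', Perm.mul_apply, ih]
    exact Fin.ext (by rw [qP_comp]; decide)

/-- Parametrization of the elements normalizing `⟨q⟩`, up to `⟨q⟩`. -/
theorem param (g : Perm (Fin 12)) (a : ℕ) (ha0 : 0 < a) (ha : a < 5)
    (h : g * qP = qP ^ a * g) (sw : ℕ)
    (hsw : (sw = 0 ∧ g 0 = 0 ∧ g 11 = 11) ∨ (sw = 1 ∧ g 0 = 11 ∧ g 11 = 0)) :
    ∃ i < 5, ∃ sn < 2, ∃ b < 5, Comp (qP ^ i * g) (cand a sw sn b) := by
  have hne : ∀ (g' : Perm (Fin 12)), ((g' 0 = 0 ∧ g' 11 = 11) ∨ (g' 0 = 11 ∧ g' 11 = 0)) →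
      ∀ y : Fin 12, y ≠ 0 → y ≠ 11 → g' y ≠ 0 ∧ g' y ≠ 11 := by
    intro g' h' y hy0 hy1
    rcases h' with ⟨h1, h2⟩ | ⟨h1, h2⟩
    · exact ⟨fun e => hy0 (g'.injective (e.trans h1.symm)),
        fun e => hy1 (g'.injective (e.trans h2.symm))⟩
    · exact ⟨fun e => hy1 (g'.injective (e.trans h2.symm)),
        fun e => hy0 (g'.injective (e.trans h1.symm))⟩
  have hsw' : (g 0 = 0 ∧ g 11 = 11) ∨ (g 0 = 11 ∧ g 11 = 0) := by
    rcases hsw with ⟨-, h1⟩ | ⟨-, h1⟩
    · exact Or.inl h1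
    · exact Or.inr h1
  obtain ⟨h10, h11⟩ := hne g hsw' 1 (by decide) (by decide)
  obtain ⟨i, hi, hi1⟩ := exists_pow_one_or (g 1) h10 h11
  set g' := qP ^ i * g with hg'
  have hg1 : ((g' 1 : Fin 12) : ℕ) = 1 ∨ ((g' 1 : Fin 12) : ℕ) = 10 := by
    rw [hg', Perm.mul_apply, comp_iter qP_comp]; exact hi1
  have hrel : g' * qP = qP ^ a * g' := by
    rw [hg', mul_assoc, h, ← mul_assoc, ← mul_assoc, ← pow_add, ← pow_add, add_comm]
  have hg'sw : (sw = 0 ∧ g' 0 = 0 ∧ g' 11 = 11) ∨ (sw = 1 ∧ g' 0 = 11 ∧ g' 11 = 0) := by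
    rcases hsw with ⟨h0, h1, h2⟩ | ⟨h0, h1, h2⟩
    · left; refine ⟨h0, ?_, ?_⟩
      · rw [hg', Perm.mul_apply, h1, qP_pow_zero]
      · rw [hg', Perm.mul_apply, h2, qP_pow_inf]
    · right; refine ⟨h0, ?_, ?_⟩
      · rw [hg', Perm.mul_apply, h1, qP_pow_inf]
      · rw [hg', Perm.mul_apply, h2, qP_pow_zero]
  have hsw2 : sw < 2 := by rcases hsw with ⟨h0, -⟩ | ⟨h0, -⟩ <;> omega
  have hg'sw' : (g' 0 = 0 ∧ g' 11 = 11) ∨ (g' 0 = 11 ∧ g' 11 = 0) := by
    rcases hg'sw with ⟨-, h1⟩ | ⟨-, h1⟩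
    · exact Or.inl h1
    · exact Or.inr h1
  obtain ⟨h20, h21⟩ := hne g' hg'sw' 10 (by decide) (by decide)
  have happ : ∀ (x : Fin 12) (j : ℕ), ((g' ((qP ^ j) x) : Fin 12) : ℕ) = iter qF (a * j) (g' x) :=
    fun x j => apply_pow_apply qP_comp hrel x j
  have hqj : ∀ (x : Fin 12) (j : ℕ), (((qP ^ j) x : Fin 12) : ℕ) = iter qF j x :=
    fun x j => comp_iter qP_comp j x
  -- `g' 22` is not in the orbit of `g' 1`
  have hno : ∀ j < 5, iter qF (a * j) (g' 1) ≠ g' 10 := by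
    intro j hj he
    rw [← happ 1 j] at he
    have h1 := g'.injective (Fin.ext he)
    have h2 : (((qP ^ j) 1 : Fin 12) : ℕ) = ((10 : Fin 12) : ℕ) := congrArg Fin.val h1
    rw [hqj] at h2
    exact iter_ne j hj h2
  have hzero : ∀ x : Fin 12, x = 0 ∨ x = 11 → ∀ sn b : ℕ, ((g' x : Fin 12) : ℕ) = cand a sw sn b x := by
    intro x hx sn b
    rcases hx with rfl | rfl
    · rcases hg'sw with ⟨h0, h1, h2⟩ | ⟨h0, h1, h2⟩
      · rw [h1, h0]; rfl
      · rw [h1, h0]; rfl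
    · rcases hg'sw with ⟨h0, h1, h2⟩ | ⟨h0, h1, h2⟩
      · rw [h2, h0]; rfl
      · rw [h2, h0]; rfl
  rcases hg1 with hg1 | hg1
  · -- sn = 0
    rcases (cover a ha0 ha (g' 10) h20 h21).1 with ⟨j, hj, hje⟩ | ⟨b, hb, hbe⟩
    · exact absurd (by rw [hg1]; exact hje) (hno j hj)
    · refine ⟨i, hi, 0, by norm_num, b, hb, ?_⟩
      intro x
      by_cases hx0 : x = 0 ∨ x = 11
      · exact hzero x hx0 0 b
      · rw [not_or] at hx0
        rcases exists_pow_eq x hx0.1 hx0.2 with ⟨j, hj, hjx⟩ | ⟨j, hj, hjx⟩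
        · have hx : x = (qP ^ j) 1 := Fin.ext (by rw [hqj]; exact hjx.symm)
          rw [hx, happ, hg1, hqj]
          exact (cand_eq0 a ha b hb j hj sw hsw2).1
        · have hx : x = (qP ^ j) 10 := Fin.ext (by rw [hqj]; exact hjx.symm)
          rw [hx, happ, ← hbe, hqj]
          exact (cand_eq0 a ha b hb j hj sw hsw2).2
  · -- sn = 1
    rcases (cover a ha0 ha (g' 10) h20 h21).2 with ⟨j, hj, hje⟩ | ⟨b, hb, hbe⟩
    · exact absurd (by rw [hg1]; exact hje) (hno j hj)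
    · refine ⟨i, hi, 1, by norm_num, b, hb, ?_⟩
      intro x
      by_cases hx0 : x = 0 ∨ x = 11
      · exact hzero x hx0 1 b
      · rw [not_or] at hx0
        rcases exists_pow_eq x hx0.1 hx0.2 with ⟨j, hj, hjx⟩ | ⟨j, hj, hjx⟩
        · have hx : x = (qP ^ j) 1 := Fin.ext (by rw [hqj]; exact hjx.symm)
          rw [hx, happ, hg1, hqj]
          exact (cand_eq1 a ha b hb j hj sw hsw2).1
        · have hx : x = (qP ^ j) 10 := Fin.ext (by rw [hqj]; exact hjx.symm)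
          rw [hx, happ, ← hbe, hqj]
          exact (cand_eq1 a ha b hb j hj sw hsw2).2

end Cfsg.Agent.SporadicA.Cand12
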