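import Cfsg.Agent.SporadicA.DegPOne

/-!
Permutations of `24` points normalizing the group generated by `x ↦ 2 x` on the projective
line over `ZMod 23`, in computable form (degree 24; the point 23 is the point at infinity).
-/

set_option autoImplicit false

namespace Cfsg.Agent.SporadicA.Cand24

open Equiv Equiv.Perm MulAction Cfsg.Agent.SporadicA.DegPOne

/-- translation -/
def tF (x : ℕ) : ℕ := if x < 23 then (x + 1) % 23 else x
/-- inverse translation -/
def tG (x : ℕ) : ℕ := if x < 23 then (x + 22) % 23 else x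
/-- multiplication by 2 -/
def qF (x : ℕ) : ℕ := if x < 23 then (2 * x) % 23 else x
/-- multiplication by the inverse of 2 -/
def qG (x : ℕ) : ℕ := if x < 23 then (12 * x) % 23 else x
/-- multiplication by -1 -/
def nF (x : ℕ) : ℕ := if x < 23 then (22 * x) % 23 else x

/-- translation `x ↦ x + 1` -/
def tP : Perm (Fin 24) := mkPerm 24 tF tG (by decide +kernel)
/-- multiplication `x ↦ 2 x` -/
def qP : Perm (Fin 24) := mkPerm 24 qF qG (by decide +kernel)
/-- negation `x ↦ -x` -/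
def nP : Perm (Fin 24) := mkPerm 24 nF nF (by decide +kernel)

theorem tP_comp : Comp tP tF := mkPerm_comp _ _ _ _
theorem qP_comp : Comp qP qF := mkPerm_comp _ _ _ _
theorem nP_comp : Comp nP nF := mkPerm_comp _ _ _ _

theorem perm_ext_comp {g g' : Perm (Fin 24)} {f f' : ℕ → ℕ} (h : Comp g f) (h' : Comp g' f')
    (hf : ∀ x : Fin 24, f x = f' x) : g = g' := by
  ext x
  rw [h x, h' x, hf x]

theorem orderOf_tP : orderOf tP = 23 := by
  have : Fact (Nat.Prime 23) := ⟨by norm_num⟩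
  refine orderOf_eq_prime ?_ ?_
  · refine perm_ext_comp (comp_pow tP_comp 23) (f' := id) (fun x => rfl) ?_
    decide +kernel
  · intro h
    have h1 := tP_comp 0
    rw [h] at h1
    exact absurd h1 (by decide)

theorem orderOf_qP : orderOf qP = 11 := by
  have : Fact (Nat.Prime 11) := ⟨by norm_num⟩
  refine orderOf_eq_prime ?_ ?_
  · refine perm_ext_comp (comp_pow qP_comp 11) (f' := id) (fun x => rfl) ?_
    decide +kernel
  · intro h
    have h1 := qP_comp 1
    rw [h] at h1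
    exact absurd h1 (by decide)

/-- discrete logarithm table: `x = 2^i` gives `i`, `x = -2^i` gives `11+i` -/
def dl (x : ℕ) : ℕ := (14790202742655623762254870834578432 >>> (5 * x)) % 32
/-- exponential table -/
def ex (j : ℕ) : ℕ := (468567943145732150613507710390337 >>> (5 * j)) % 32

/-- The candidate permutation with parameters `a` (exponent), `sw` (exchange of `0` and infinity),
`sn` (exchange of squares and non-squares) and `b` (relative shift). -/
def cand (a sw sn b : ℕ) (x : ℕ) : ℕ :=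
  if x = 0 ∨ x = 23 then (if sw = 0 then x else 23 - x)
  else ex (((dl x / 11 + sn) % 2) * 11 + (a * (dl x % 11) + (dl x / 11) * b) % 11)

theorem exists_pow_one_or (y : Fin 24) (h0 : y ≠ 0) (h1 : y ≠ 23) :
    ∃ i < 11, iter qF i y = 1 ∨ iter qF i y = 22 := by
  revert h0 h1
  revert y
  decide +kernel

theorem exists_pow_eq (y : Fin 24) (h0 : y ≠ 0) (h1 : y ≠ 23) :
    (∃ i < 11, iter qF i 1 = y) ∨ (∃ i < 11, iter qF i 22 = y) := by
  revert h0 h1
  revert y
  decide +kernel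

theorem cover (a : ℕ) (ha0 : 0 < a) (ha : a < 11) (y : Fin 24) (h0 : y ≠ 0) (h1 : y ≠ 23) :
    ((∃ i < 11, iter qF (a * i) 1 = y) ∨ (∃ b < 11, iter qF b 22 = y)) ∧
    ((∃ i < 11, iter qF (a * i) 22 = y) ∨ (∃ b < 11, iter qF b 1 = y)) := by
  revert h0 h1
  revert y
  interval_cases a <;> decide +kernel

theorem iter_ne (i : ℕ) (hi : i < 11) : iter qF i 1 ≠ 22 := by
  revert i
  decide +kernel

theorem cand_eq0 : ∀ a < 11, ∀ b < 11, ∀ i < 11, ∀ sw < 2,
    iter qF (a * i) 1 = cand a sw 0 b (iter qF i 1) ∧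
    iter qF (a * i) (iter qF b 22) = cand a sw 0 b (iter qF i 22) := by
  decide +kernel

theorem cand_eq1 : ∀ a < 11, ∀ b < 11, ∀ i < 11, ∀ sw < 2,
    iter qF (a * i) 22 = cand a sw 1 b (iter qF i 1) ∧
    iter qF (a * i) (iter qF b 1) = cand a sw 1 b (iter qF i 22) := by
  decide +kernel

theorem qP_pow_zero (i : ℕ) : (qP ^ i) 0 = 0 := by
  induction i with
  | zero => rfl
  | succ i ih =>
    rw [pow_succ', Perm.mul_apply, ih]
    exact Fin.ext (by rw [qP_comp]; decide)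

theorem qP_pow_inf (i : ℕ) : (qP ^ i) 23 = 23 := by
  induction i with
  | zero => rfl
  | succ i ih =>
    rw [pow_succ', Perm.mul_apply, ih]
    exact Fin.ext (by rw [qP_comp]; decide)

/-- Parametrization of the elements normalizing `⟨q⟩`, up to `⟨q⟩`. -/
theorem param (g : Perm (Fin 24)) (a : ℕ) (ha0 : 0 < a) (ha : a < 11)
    (h : g * qP = qP ^ a * g) (sw : ℕ)
    (hsw : (sw = 0 ∧ g 0 = 0 ∧ g 23 = 23) ∨ (sw = 1 ∧ g 0 = 23 ∧ g 23 = 0)) :
    ∃ i < 11, ∃ sn < 2, ∃ b < 11, Comp (qP ^ i * g) (cand a sw sn b) := by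
  have hne : ∀ (g' : Perm (Fin 24)), ((g' 0 = 0 ∧ g' 23 = 23) ∨ (g' 0 = 23 ∧ g' 23 = 0)) →
      ∀ y : Fin 24, y ≠ 0 → y ≠ 23 → g' y ≠ 0 ∧ g' y ≠ 23 := by
    intro g' h' y hy0 hy1
    rcases h' with ⟨h1, h2⟩ | ⟨h1, h2⟩
    · exact ⟨fun e => hy0 (g'.injective (e.trans h1.symm)),
        fun e => hy1 (g'.injective (e.trans h2.symm))⟩
    · exact ⟨fun e => hy1 (g'.injective (e.trans h2.symm)),
        fun e => hy0 (g'.injective (e.trans h1.symm))⟩
  have hsw' : (g 0 = 0 ∧ g 23 = 23) ∨ (g 0 = 23 ∧ g 23 = 0) := by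
    rcases hsw with ⟨-, h1⟩ | ⟨-, h1⟩
    · exact Or.inl h1
    · exact Or.inr h1
  obtain ⟨h10, h11⟩ := hne g hsw' 1 (by decide) (by decide)
  obtain ⟨i, hi, hi1⟩ := exists_pow_one_or (g 1) h10 h11
  set g' := qP ^ i * g with hg'
  have hg1 : ((g' 1 : Fin 24) : ℕ) = 1 ∨ ((g' 1 : Fin 24) : ℕ) = 22 := by
    rw [hg', Perm.mul_apply, comp_iter qP_comp]; exact hi1
  have hrel : g' * qP = qP ^ a * g' := by
    rw [hg', mul_assoc, h, ← mul_assoc, ← mul_assoc, ← pow_add, ← pow_add, add_comm]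
  have hg'sw : (sw = 0 ∧ g' 0 = 0 ∧ g' 23 = 23) ∨ (sw = 1 ∧ g' 0 = 23 ∧ g' 23 = 0) := by
    rcases hsw with ⟨h0, h1, h2⟩ | ⟨h0, h1, h2⟩
    · left; refine ⟨h0, ?_, ?_⟩
      · rw [hg', Perm.mul_apply, h1, qP_pow_zero]
      · rw [hg', Perm.mul_apply, h2, qP_pow_inf]
    · right; refine ⟨h0, ?_, ?_⟩
      · rw [hg', Perm.mul_apply, h1, qP_pow_inf]
      · rw [hg', Perm.mul_apply, h2, qP_pow_zero]
  have hsw2 : sw < 2 := by rcases hsw with ⟨h0, -⟩ | ⟨h0, -⟩ <;> omega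
  have hg'sw' : (g' 0 = 0 ∧ g' 23 = 23) ∨ (g' 0 = 23 ∧ g' 23 = 0) := by
    rcases hg'sw with ⟨-, h1⟩ | ⟨-, h1⟩
    · exact Or.inl h1
    · exact Or.inr h1
  obtain ⟨h20, h21⟩ := hne g' hg'sw' 22 (by decide) (by decide)
  have happ : ∀ (x : Fin 24) (j : ℕ), ((g' ((qP ^ j) x) : Fin 24) : ℕ) = iter qF (a * j) (g' x) :=
    fun x j => apply_pow_apply qP_comp hrel x j
  have hqj : ∀ (x : Fin 24) (j : ℕ), (((qP ^ j) x : Fin 24) : ℕ) = iter qF j x :=
    fun x j => comp_iter qP_comp j x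
  -- `g' 22` is not in the orbit of `g' 1`
  have hno : ∀ j < 11, iter qF (a * j) (g' 1) ≠ g' 22 := by
    intro j hj he
    rw [← happ 1 j] at he
    have h1 := g'.injective (Fin.ext he)
    have h2 : (((qP ^ j) 1 : Fin 24) : ℕ) = ((22 : Fin 24) : ℕ) := congrArg Fin.val h1
    rw [hqj] at h2
    exact iter_ne j hj h2
  have hzero : ∀ x : Fin 24, x = 0 ∨ x = 23 → ∀ sn b : ℕ, ((g' x : Fin 24) : ℕ) = cand a sw sn b x := by
    intro x hx sn b
    rcases hx with rfl | rfl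
    · rcases hg'sw with ⟨h0, h1, h2⟩ | ⟨h0, h1, h2⟩
      · rw [h1, h0]; rfl
      · rw [h1, h0]; rfl
    · rcases hg'sw with ⟨h0, h1, h2⟩ | ⟨h0, h1, h2⟩
      · rw [h2, h0]; rfl
      · rw [h2, h0]; rfl
  rcases hg1 with hg1 | hg1
  · -- sn = 0
    rcases (cover a ha0 ha (g' 22) h20 h21).1 with ⟨j, hj, hje⟩ | ⟨b, hb, hbe⟩
    · exact absurd (by rw [hg1]; exact hje) (hno j hj)
    · refine ⟨i, hi, 0, by norm_num, b, hb, ?_⟩
      intro x
      by_cases hx0 : x = 0 ∨ x = 23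
      · exact hzero x hx0 0 b
      · rw [not_or] at hx0
        rcases exists_pow_eq x hx0.1 hx0.2 with ⟨j, hj, hjx⟩ | ⟨j, hj, hjx⟩
        · have hx : x = (qP ^ j) 1 := Fin.ext (by rw [hqj]; exact hjx.symm)
          rw [hx, happ, hg1, hqj]
          exact (cand_eq0 a ha b hb j hj sw hsw2).1
        · have hx : x = (qP ^ j) 22 := Fin.ext (by rw [hqj]; exact hjx.symm)
          rw [hx, happ, ← hbe, hqj]
          exact (cand_eq0 a ha b hb j hj sw hsw2).2
  · -- sn = 1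
    rcases (cover a ha0 ha (g' 22) h20 h21).2 with ⟨j, hj, hje⟩ | ⟨b, hb, hbe⟩
    · exact absurd (by rw [hg1]; exact hje) (hno j hj)
    · refine ⟨i, hi, 1, by norm_num, b, hb, ?_⟩
      intro x
      by_cases hx0 : x = 0 ∨ x = 23
      · exact hzero x hx0 1 b
      · rw [not_or] at hx0
        rcases exists_pow_eq x hx0.1 hx0.2 with ⟨j, hj, hjx⟩ | ⟨j, hj, hjx⟩
        · have hx : x = (qP ^ j) 1 := Fin.ext (by rw [hqj]; exact hjx.symm)
          rw [hx, happ, hg1, hqj]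
          exact (cand_eq1 a ha b hb j hj sw hsw2).1
        · have hx : x = (qP ^ j) 22 := Fin.ext (by rw [hqj]; exact hjx.symm)
          rw [hx, happ, ← hbe, hqj]
          exact (cand_eq1 a ha b hb j hj sw hsw2).2

end Cfsg.Agent.SporadicA.Cand24
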