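import Cfsg.Agent.MTwelve.SmallDegree
import Cfsg.Agent.SmallSimple.DetKernel
import Cfsg.Agent.SmallSimple.SelfCentPrime
import Cfsg.Agent.Characters.Values
import Cfsg.Agent.S0141
import Cfsg.Agent.S0145
import Cfsg.Agent.S0840

/-!
# Tools for columns of character tables

* `finsum_irr`: sums over all irreducible characters as sums over `Fin n`;
* `order_four_value`: in a perfect group, `χ(u)` real, `u ^ 4 = 1`:
  `χ 1 + χ (u * u) = 2 * χ u + 8 * k`;
* `sum_eq_zero_of_nonreal`: the structure constant `(t, t, x)` vanishes for a nonreal `x`;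
* `exists_sqrt`: existence of square roots from the Frobenius–Schur numbers;
* `not_dvd_card_centralizer`: `C(P) = P`, `|P| = p` and `t` of order prime to `p`.
-/

set_option autoImplicit false

open Cfsg
open scoped ComplexConjugate

namespace Cfsg.Agent.SporadicA.ColTools

open Cfsg.Agent.Characters

universe u

theorem finsum_irr {G : Type u} [Group G] {n : ℕ} (X : Fin n → IrrCharacter G)
    (hX : Function.Bijective X) (F : IrrCharacter G → ℂ) : ∑ᶠ χ, F χ = ∑ i, F (X i) := by
  rw [← finsum_comp_equiv (Equiv.ofBijective X hX), finsum_eq_sum_of_fintype]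
  rfl

/-! ### Elements of order four -/

theorem exists_nat_of_pow_four_eq_one (s : Multiset ℂ) (h : ∀ z ∈ s, z ^ 4 = 1) :
    ∃ a b c e : ℕ, Multiset.card s = a + b + c + e ∧
      s.sum = (a : ℂ) - b + (c - e) * Complex.I ∧
      (s.map (· ^ 2)).sum = (a : ℂ) + b - c - e ∧
      s.prod = (-1) ^ b * Complex.I ^ c * (-Complex.I) ^ e := by
  induction s using Multiset.induction_on with
  | empty => exact ⟨0, 0, 0, 0, by simp, by simp, by simp, by simp⟩
  | cons z s ih =>
    obtain ⟨a, b, c, e, h1, h2, h3, h4⟩ := ih fun z hz => h z (Multiset.mem_cons_of_mem hz)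
    have hz : z ^ 4 = 1 := h z (Multiset.mem_cons_self z s)
    have hz2 : (z ^ 2) ^ 2 = 1 := by rw [← pow_mul]; exact hz
    rcases sq_eq_one_iff.1 hz2 with hz' | hz'
    · rcases sq_eq_one_iff.1 hz' with rfl | rfl
      · refine ⟨a + 1, b, c, e, ?_, ?_, ?_, ?_⟩
        · rw [Multiset.card_cons, h1]; ring
        · rw [Multiset.sum_cons, h2]; push_cast; ring
        · rw [Multiset.map_cons, Multiset.sum_cons, h3]; push_cast; ring
        · rw [Multiset.prod_cons, h4, one_mul]
      · refine ⟨a, b + 1, c, e, ?_, ?_, ?_, ?_⟩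
        · rw [Multiset.card_cons, h1]; ring
        · rw [Multiset.sum_cons, h2]; push_cast; ring
        · rw [Multiset.map_cons, Multiset.sum_cons, h3]; push_cast; ring
        · rw [Multiset.prod_cons, h4]; ring
    · have hI : (z - Complex.I) * (z + Complex.I) = 0 := by
        have : (z - Complex.I) * (z + Complex.I) = z ^ 2 - Complex.I ^ 2 := by ring
        rw [this, hz', Complex.I_sq]; ring
      rcases mul_eq_zero.1 hI with h5 | h5
      · have hzI : z = Complex.I := sub_eq_zero.1 h5
        subst hzI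
        refine ⟨a, b, c + 1, e, ?_, ?_, ?_, ?_⟩
        · rw [Multiset.card_cons, h1]; ring
        · rw [Multiset.sum_cons, h2]; push_cast; ring
        · rw [Multiset.map_cons, Multiset.sum_cons, h3, Complex.I_sq]; push_cast; ring
        · rw [Multiset.prod_cons, h4]; ring
      · have hzI : z = -Complex.I := eq_neg_of_add_eq_zero_left h5
        subst hzI
        refine ⟨a, b, c, e + 1, ?_, ?_, ?_, ?_⟩
        · rw [Multiset.card_cons, h1]; ring
        · rw [Multiset.sum_cons, h2]; push_cast; ring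
        · rw [Multiset.map_cons, Multiset.sum_cons, h3, neg_sq, Complex.I_sq]; push_cast; ring
        · rw [Multiset.prod_cons, h4]; ring

/-- In a perfect group, a real value at an element `u` with `u ^ 4 = 1`. -/
theorem order_four_value {G : Type u} [Group G] (hG : commutator G = ⊤) {χ : G → ℂ}
    (hχ : IsCharacter G χ) {u : G} (hu : u ^ 4 = 1) (hreal : (χ u).im = 0) :
    ∃ (n : ℤ) (k : ℕ), χ u = n ∧ χ 1 + χ (u * u) = 2 * n + 8 * k := by
  obtain ⟨m, ρ, rfl⟩ := hχ
  have hf : (ρ u) ^ 4 = 1 := by rw [← map_pow, hu, map_one]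
  obtain ⟨b, μ, h1, h2⟩ := GaloisBasic.exists_basis_eigenvectors (ρ u) (by norm_num) hf
  obtain ⟨a, b', c, e, h3, h4, h5, h6⟩ := exists_nat_of_pow_four_eq_one
    (Finset.univ.val.map μ) (by
      intro z hz
      obtain ⟨i, -, rfl⟩ := Multiset.mem_map.1 hz
      exact h2 i)
  have htr1 : ρ.character u = ∑ i, μ i := SmallSimple.DetKernel.trace_of_basis b μ (ρ u) h1
  have htr2 : ρ.character (u * u) = ∑ i, μ i ^ 2 := by
    have := GaloisBasic.trace_pow_of_basis (ρ u) b μ h1 2
    rw [← this, pow_two, ← map_mul]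
    rfl
  have hdet : ∏ i, μ i = 1 := by
    rw [← SmallSimple.DetKernel.det_of_basis b μ (ρ u) h1]
    exact MTwelve.SmallDegree.det_eq_one hG ρ u
  have h4' : ∑ i, μ i = (a : ℂ) - b' + (c - e) * Complex.I := h4
  have h5' : ∑ i, μ i ^ 2 = (a : ℂ) + b' - c - e := by
    rw [← h5, Multiset.map_map]
    rfl
  have h6' : ∏ i, μ i = (-1) ^ b' * Complex.I ^ c * (-Complex.I) ^ e := h6
  have hone : ρ.character 1 = (a : ℂ) + b' + c + e := by
    have h7 : ρ.character 1 = Module.finrank ℂ (Fin m → ℂ) := Representation.char_one ρ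
    rw [h7]
    rw [Multiset.card_map] at h3
    have h8 : Module.finrank ℂ (Fin m → ℂ) = a + b' + c + e := by
      rw [← h3]
      simp
    rw [h8]
    push_cast
    ring
  -- the value is real, hence c = e
  have hce : c = e := by
    rw [htr1, h4'] at hreal
    have h7 : ((a : ℂ) - b' + (c - e) * Complex.I).im = (c : ℝ) - e := by
      simp
    rw [h7] at hreal
    have h8 : (c : ℝ) = e := by linarith
    exact_mod_cast h8
  subst hce
  have heven : Even b' := by
    rw [h6', mul_assoc, ← mul_pow] at hdet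
    have h7 : Complex.I * -Complex.I = 1 := by
      rw [mul_neg, Complex.I_mul_I, neg_neg]
    rw [h7, one_pow, mul_one] at hdet
    by_contra hodd
    rw [Nat.not_even_iff_odd] at hodd
    rw [hodd.neg_one_pow] at hdet
    norm_num at hdet
  obtain ⟨k, hk⟩ := heven
  refine ⟨(a : ℤ) - b', k, ?_, ?_⟩
  · rw [htr1, h4']
    push_cast
    ring
  · rw [hone, htr2, h5', hk]
    push_cast
    ring

/-! ### Nonreal elements are not products of two involutions -/

theorem irr_inv {G : Type u} [Group G] [Finite G] (χ : IrrCharacter G) (g : G) :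
    (χ : G → ℂ) g⁻¹ = conj ((χ : G → ℂ) g) :=
  Core.isCharacter_apply_inv (Core.isIrr_isCharacter χ.2) g

theorem irr_isConj {G : Type u} [Group G] (χ : IrrCharacter G) {g h : G} (hgh : IsConj g h) :
    (χ : G → ℂ) g = (χ : G → ℂ) h := by
  obtain ⟨c, hc⟩ := isConj_iff.1 hgh
  rw [← hc]
  exact (Core.isIrr_isClassFunction χ.2 g c).symm

theorem sum_eq_zero_of_nonreal {G : Type u} [Group G] [Finite G] {t t' x : G} (ht : t * t = 1)
    (ht' : t' * t' = 1)
    (hx : ∃ χ : IrrCharacter G, ((χ : G → ℂ) x).im ≠ 0) :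
    ∑ᶠ χ : IrrCharacter G, (χ : G → ℂ) t * (χ : G → ℂ) t' * conj ((χ : G → ℂ) x) /
      (χ : G → ℂ) 1 = 0 := by
  have h0 := S0840.result t t' x
  have hempty : IsEmpty {p : G × G // IsConj t p.1 ∧ IsConj t' p.2 ∧ p.1 * p.2 = x} := by
    constructor
    rintro ⟨⟨a, b⟩, ha, hb, hab⟩
    have hsq : ∀ {s c : G}, s * s = 1 → IsConj s c → c * c = 1 := by
      intro s c hs hsc
      obtain ⟨g, hg⟩ := isConj_iff.1 hsc
      rw [← hg]
      have : g * s * g⁻¹ * (g * s * g⁻¹) = g * (s * s) * g⁻¹ := by group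
      rw [this, hs]
      group
    have ha2 : a * a = 1 := hsq ht ha
    have hb2 : b * b = 1 := hsq ht' hb
    have hab' : a * b = x := hab
    have hai : a⁻¹ = a := inv_eq_of_mul_eq_one_left ha2
    have hbi : b⁻¹ = b := inv_eq_of_mul_eq_one_left hb2
    have hconj : IsConj x x⁻¹ := by
      refine isConj_iff.2 ⟨a, ?_⟩
      rw [← hab', mul_inv_rev, hai, hbi]
      calc a * (a * b) * a = (a * a) * b * a := by group
        _ = b * a := by rw [ha2, one_mul]
    obtain ⟨χ, hχ⟩ := hx
    apply hχ
    have h1 := irr_isConj χ hconj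
    rw [irr_inv] at h1
    exact Complex.conj_eq_iff_im.1 h1.symm
  rw [Nat.card_of_isEmpty, Nat.cast_zero] at h0
  have hc : ∀ s : G, (Nat.card {x : G // IsConj s x} : ℂ) ≠ 0 := by
    intro s
    have : Nonempty {x : G // IsConj s x} := ⟨⟨s, IsConj.refl s⟩⟩
    exact_mod_cast Nat.card_pos.ne'
  have hG : (Nat.card G : ℂ) ≠ 0 := by exact_mod_cast Nat.card_pos.ne'
  rcases mul_eq_zero.1 h0.symm with h1 | h1
  · exfalso
    rcases div_eq_zero_iff.1 h1 with h2 | h2
    · rcases mul_eq_zero.1 h2 with h3 | h3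
      · exact hc t h3
      · exact hc t' h3
    · exact hG h2
  · exact h1

/-! ### Square roots -/

theorem exists_sqrt {G : Type u} [Group G] [Fintype G] {t : G}
    (h : ∑ᶠ χ : IrrCharacter G, (∑ s : G, (χ : G → ℂ) (s * s)) * conj ((χ : G → ℂ) t) ≠ 0) :
    ∃ s : G, s * s = t := by
  have : Finite (IrrCharacter G) := Core.finite_irr
  cases nonempty_fintype (IrrCharacter G)
  by_contra hno
  push Not at hno
  apply h
  rw [finsum_eq_sum_of_fintype]
  simp_rw [Finset.sum_mul]
  rw [Finset.sum_comm]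
  refine Finset.sum_eq_zero fun s _ => ?_
  have h1 := (S0145.result (s * s) t).2 (by
    intro hc
    obtain ⟨c, hc⟩ := isConj_iff.1 hc
    apply hno (c * s * c⁻¹)
    rw [← hc]
    group)
  rw [finsum_eq_sum_of_fintype] at h1
  exact h1

/-! ### Centralizers -/

section centralizer

variable {G : Type u} [Group G] [Finite G] {p : ℕ} [Fact p.Prime]

open Subgroup

theorem centralizer_eq_of_orderOf (P : Sylow p G) (hP : Nat.card P = p)
    (hC : centralizer ((P : Subgroup G) : Set G) = P) {x : G} (hx : orderOf x = p) :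
    centralizer ({x} : Set G) = zpowers x := by
  have hpg : IsPGroup p (zpowers x) := by
    apply IsPGroup.of_card (n := 1)
    rw [Nat.card_zpowers, hx, pow_one]
  obtain ⟨Q, hQ⟩ := hpg.exists_le_sylow
  have hQc : Nat.card Q = p := (Nat.card_congr (Sylow.equiv Q P).toEquiv).trans hP
  have hQx : zpowers x = (Q : Subgroup G) := by
    apply Subgroup.eq_of_le_of_card_ge hQ
    rw [Nat.card_zpowers, hx]
    exact hQc.le
  obtain ⟨g, hg⟩ := MulAction.exists_smul_eq G P Q
  have h1 : centralizer ((Q : Subgroup G) : Set G) = Q := by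
    rw [← hg]
    ext y
    rw [mem_centralizer_iff]
    have key : ∀ z : G, z ∈ ((g • P : Sylow p G) : Subgroup G) ↔ g⁻¹ * z * g ∈ (P : Subgroup G) := by
      intro z
      rw [Sylow.coe_subgroup_smul, Subgroup.mem_pointwise_smul_iff_inv_smul_mem]
      rw [← MulAut.conj_inv_apply]
      rfl
    constructor
    · intro hy
      rw [key, ← hC, mem_centralizer_iff]
      intro z hz
      have h2 := hy (g * z * g⁻¹) ((key _).2 (by
        have : g⁻¹ * (g * z * g⁻¹) * g = z := by group
        rw [this]; exact hz))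
      have h3 : z * (g⁻¹ * y * g) = g⁻¹ * ((g * z * g⁻¹) * y) * g := by group
      have h4 : (g⁻¹ * y * g) * z = g⁻¹ * (y * (g * z * g⁻¹)) * g := by group
      rw [h3, h4, h2]
    · intro hy z hz
      have hy' := (key y).1 hy
      have hz' := (key z).1 hz
      rw [← hC, mem_centralizer_iff] at hy'
      have h2 := hy' _ hz'
      have h3 : z * y = g * ((g⁻¹ * z * g) * (g⁻¹ * y * g)) * g⁻¹ := by group
      have h4 : y * z = g * ((g⁻¹ * y * g) * (g⁻¹ * z * g)) * g⁻¹ := by group
      rw [h3, h4, h2]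
  rw [← hQx] at h1
  rw [← SmallSimple.SelfCentPrime.centralizer_zpowers]
  exact h1

theorem not_dvd_card_centralizer (P : Sylow p G) (hP : Nat.card P = p)
    (hC : centralizer ((P : Subgroup G) : Set G) = P) {t : G} (ht1 : t ≠ 1)
    (ht : ¬ p ∣ orderOf t) : ¬ p ∣ Nat.card (centralizer ({t} : Set G)) := by
  intro hd
  obtain ⟨x, hx⟩ := exists_prime_orderOf_dvd_card' (G := centralizer ({t} : Set G)) p hd
  rw [← Subgroup.orderOf_coe] at hx
  have h1 := centralizer_eq_of_orderOf P hP hC hx
  have h2 : t ∈ centralizer ({(x : G)} : Set G) := by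
    rw [mem_centralizer_singleton_iff]
    have := mem_centralizer_singleton_iff.1 x.2
    exact this.symm
  rw [h1] at h2
  have h3 : orderOf t ∣ p := by
    rw [← hx]
    exact orderOf_dvd_of_mem_zpowers h2
  rcases (Nat.dvd_prime (Fact.out : p.Prime)).1 h3 with h4 | h4
  · exact ht1 (orderOf_eq_one_iff.1 h4)
  · exact ht (h4 ▸ dvd_rfl)

end centralizer

end Cfsg.Agent.SporadicA.ColTools
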