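import Mathlib

/-!
Labelling the points moved by an element of prime order, and the normaliser of a self-centralising
subgroup of prime order.
-/

set_option autoImplicit false

namespace Cfsg.Agent.SporadicA.CycleLabel

open MulAction Subgroup

section label

variable {G Ω : Type*} [Group G] [MulAction G Ω]

/-- The points of the orbit of `p0` under the powers of `x`, labelled by residues. -/
def lab {n : ℕ} (x : G) (p0 : Ω) (i : ZMod n) : Ω := x ^ i.val • p0

theorem pow_val_add {G : Type*} [Group G] {n : ℕ} [NeZero n] {x : G} (hx : x ^ n = 1)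
    (i j : ZMod n) : x ^ (i + j).val = x ^ i.val * x ^ j.val := by
  rw [ZMod.val_add, ← pow_eq_pow_mod _ hx, pow_add]

theorem pow_val_mul {G : Type*} [Group G] {n : ℕ} [NeZero n] {x : G} (hx : x ^ n = 1)
    (i j : ZMod n) : x ^ (i * j).val = (x ^ i.val) ^ j.val := by
  rw [ZMod.val_mul, ← pow_eq_pow_mod _ hx, pow_mul]

theorem lab_add {n : ℕ} [NeZero n] {x : G} (hx : x ^ n = 1) (p0 : Ω) (i j : ZMod n) :
    lab x p0 (i + j) = x ^ i.val • lab x p0 j := by
  rw [lab, pow_val_add hx, mul_smul]
  rfl

theorem lab_add_one {n : ℕ} (hn : 1 < n) {x : G} (hx : x ^ n = 1) (p0 : Ω) (i : ZMod n) :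
    lab x p0 (i + 1) = x • lab x p0 i := by
  have : Fact (1 < n) := ⟨hn⟩
  have : NeZero n := ⟨by omega⟩
  rw [add_comm, lab_add hx, ZMod.val_one, pow_one]

theorem lab_zero {n : ℕ} [NeZero n] (x : G) (p0 : Ω) : lab (n := n) x p0 0 = p0 := by
  rw [lab, ZMod.val_zero, pow_zero, one_smul]

theorem lab_injective {p : ℕ} [Fact p.Prime] {x : G} (hx : x ^ p = 1) {p0 : Ω}
    (h0 : x • p0 ≠ p0) : Function.Injective (lab (n := p) x p0) := by
  intro i j hij
  by_contra hne
  apply h0
  have hd : i - j ≠ 0 := sub_ne_zero.2 hne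
  have h1 : x ^ (i - j).val • p0 = p0 := by
    have h2 : i = (i - j) + j := by ring
    rw [h2, lab_add hx] at hij
    change x ^ (i - j).val • x ^ j.val • p0 = x ^ j.val • p0 at hij
    rw [← mul_smul, ← pow_add, add_comm, pow_add, mul_smul] at hij
    exact MulAction.injective _ hij
  have h3 : ∀ n : ℕ, (x ^ (i - j).val) ^ n • p0 = p0 := by
    intro n
    induction n with
    | zero => rw [pow_zero, one_smul]
    | succ n ih => rw [pow_succ, mul_smul, h1, ih]
  have h4 : x ^ ((i - j) * (i - j)⁻¹).val = x := by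
    rw [mul_inv_cancel₀ hd]
    have : Fact (1 < p) := ⟨(Fact.out : p.Prime).one_lt⟩
    rw [ZMod.val_one, pow_one]
  rw [← h4, pow_val_mul hx]
  exact h3 _

end label

/-- An element of order `p` commuting with a generator of a Sylow subgroup of order `p` lies in
it. -/
theorem mem_zpowers_of_commute {G : Type*} [Group G] [Finite G] {p : ℕ} [Fact p.Prime]
    {x h : G} (hx : orderOf x = p) (hp2 : ¬ p ^ 2 ∣ Nat.card G) (hh : h ^ p = 1)
    (hc : h * x = x * h) : h ∈ zpowers x := by
  by_contra hcon
  apply hp2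
  -- the subgroup generated by `x` and `h` has a quotient of order at least `p`
  have hxp : x ^ p = 1 := by rw [← hx]; exact pow_orderOf_eq_one x
  have hle : zpowers h ≤ normalizer (zpowers x : Set G) := by
    rw [zpowers_le, mem_normalizer_iff]
    intro y
    constructor
    · intro hy
      obtain ⟨k, rfl⟩ := mem_zpowers_iff.1 hy
      have : h * x ^ k * h⁻¹ = x ^ k := by
        have h1 : Commute h (x ^ k) := (show Commute h x from hc).zpow_right k
        rw [h1.eq, mul_inv_cancel_right]
      rw [this]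
      exact hy
    · intro hy
      obtain ⟨k, hk⟩ := mem_zpowers_iff.1 hy
      have : y = x ^ k := by
        have h1 : Commute h (x ^ k) := (show Commute h x from hc).zpow_right k
        have h2 : y = h⁻¹ * (h * y * h⁻¹) * h := by group
        rw [h2, ← hk, mul_assoc, ← h1.eq, inv_mul_cancel_left]
      rw [this]
      exact zpow_mem (mem_zpowers x) k
  have hP : IsPGroup p (zpowers x) := by
    apply IsPGroup.of_card (n := 1)
    rw [Nat.card_zpowers, hx, pow_one]
  have hQ : IsPGroup p (zpowers h) := by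
    rintro ⟨y, hy⟩
    refine ⟨1, ?_⟩
    obtain ⟨k, rfl⟩ := mem_zpowers_iff.1 hy
    apply Subtype.ext
    change (h ^ k) ^ (p ^ 1) = 1
    rw [pow_one, ← zpow_natCast, ← zpow_mul, mul_comm, zpow_mul, zpow_natCast, hh, one_zpow]
  have hS : IsPGroup p (zpowers h ⊔ zpowers x : Subgroup G) :=
    IsPGroup.to_sup_of_normal_right' hQ hP hle
  obtain ⟨n, hn⟩ := IsPGroup.iff_card.1 hS
  have h2 : 2 ≤ n := by
    by_contra hlt
    have hcard : Nat.card (zpowers h ⊔ zpowers x : Subgroup G) ≤ p := by
      rw [hn]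
      have : n = 0 ∨ n = 1 := by omega
      rcases this with rfl | rfl
      · rw [pow_zero]; exact (Fact.out : p.Prime).one_lt.le
      · rw [pow_one]
    have heq : zpowers x = zpowers h ⊔ zpowers x := by
      apply Subgroup.eq_of_le_of_card_ge le_sup_right
      rw [Nat.card_zpowers, hx]
      exact hcard
    apply hcon
    rw [heq]
    exact mem_sup_left (mem_zpowers h)
  calc p ^ 2 ∣ p ^ n := pow_dvd_pow p h2
    _ = Nat.card (zpowers h ⊔ zpowers x : Subgroup G) := hn.symm
    _ ∣ Nat.card G := Subgroup.card_subgroup_dvd_card _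

/-- The normaliser of a self-centralising subgroup of prime order `p`, where `p` divides the group
order exactly once. -/
theorem exists_conj_pow {G : Type*} [Group G] [Finite G] {p : ℕ} [Fact p.Prime] (x : G)
    (hx : orderOf x = p) (hp2 : ¬ p ^ 2 ∣ Nat.card G)
    (hC : ∀ g, g * x = x * g → g ∈ zpowers x) :
    ∃ e, e ∣ p - 1 ∧ (∃ m, Nat.card G = p * e * m ∧ m ≡ 1 [MOD p]) ∧
      ∀ j : ZMod p, j ≠ 0 → (j ^ e = 1 ↔ ∃ g : G, g * x * g⁻¹ = x ^ j.val) := by
  classical
  have hp : p.Prime := Fact.out
  have hxp : x ^ p = 1 := by rw [← hx]; exact pow_orderOf_eq_one x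
  have hx1 : x ≠ 1 := by
    intro h
    rw [h, orderOf_one] at hx
    exact hp.one_lt.ne hx
  -- exponents are determined modulo `p`
  have hinj : ∀ i j : ZMod p, x ^ i.val = x ^ j.val → i = j := by
    intro i j h
    have h1 := (pow_inj_mod (x := x)).1 h
    rw [hx, Nat.mod_eq_of_lt (ZMod.val_lt i), Nat.mod_eq_of_lt (ZMod.val_lt j)] at h1
    exact ZMod.val_injective p h1
  have hpow : ∀ y ∈ zpowers x, ∃ j : ZMod p, y = x ^ j.val := by
    intro y hy
    rw [← mem_powers_iff_mem_zpowers] at hy
    obtain ⟨n, rfl⟩ := Submonoid.mem_powers_iff _ _ |>.1 hy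
    refine ⟨(n : ZMod p), ?_⟩
    rw [ZMod.val_natCast, ← pow_eq_pow_mod _ hxp]
  -- the normaliser
  set N : Subgroup G := normalizer (zpowers x : Set G) with hNdef
  have hN : ∀ g : N, ∃ j : ZMod p, (g : G) * x * (g : G)⁻¹ = x ^ j.val := fun g =>
    hpow _ ((mem_normalizer_iff.1 g.2 x).1 (mem_zpowers x))
  have hN' : ∀ g : G, (∃ j : ZMod p, g * x * g⁻¹ = x ^ j.val) → g ∈ N := by
    rintro g ⟨j, hj⟩
    have h1 : (zpowers x).map (MulAut.conj g).toMonoidHom = zpowers x := by
      apply Subgroup.eq_of_le_of_card_ge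
      · rw [map_le_iff_le_comap, zpowers_le, mem_comap]
        change g * x * g⁻¹ ∈ zpowers x
        rw [hj]
        exact pow_mem (mem_zpowers x) _
      · rw [Subgroup.card_map_of_injective (MulAut.conj g).injective]
    rw [hNdef, mem_normalizer_iff]
    intro y
    constructor
    · intro hy
      have h2 : (MulAut.conj g).toMonoidHom y ∈ (zpowers x).map (MulAut.conj g).toMonoidHom :=
        mem_map_of_mem _ hy
      rw [h1] at h2
      exact h2
    · intro hy
      have h2 : (g * y * g⁻¹) ∈ (zpowers x).map (MulAut.conj g).toMonoidHom := by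
        rw [h1]
        exact hy
      obtain ⟨z, hz, hzy⟩ := mem_map.1 h2
      have : z = y := (MulAut.conj g).injective hzy
      rw [← this]
      exact hz
  choose θ hθ using hN
  let θ0 : N →* ZMod p :=
    { toFun := θ
      map_one' := by
        apply hinj
        rw [← hθ, OneMemClass.coe_one, one_mul, inv_one, mul_one]
        have : Fact (1 < p) := ⟨hp.one_lt⟩
        rw [ZMod.val_one, pow_one]
      map_mul' := by
        intro a b
        apply hinj
        rw [← hθ, pow_val_mul hxp, ← hθ a, Subgroup.coe_mul, mul_inv_rev]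
        have h1 : (a : G) * b * x * ((b : G)⁻¹ * (a : G)⁻¹) = a * (b * x * (b : G)⁻¹) * (a : G)⁻¹ := by
          group
        rw [h1, hθ b, conj_pow] }
  have hθ0 : ∀ g : N, (g : G) * x * (g : G)⁻¹ = x ^ (θ0 g).val := hθ
  let φ : N →* (ZMod p)ˣ := θ0.toHomUnits
  have hφ : ∀ g : N, ((φ g : (ZMod p)ˣ) : ZMod p) = θ0 g := fun g => rfl
  have hxN : zpowers x ≤ N := le_normalizer
  have hker : φ.ker = (zpowers x).subgroupOf N := by
    ext g
    rw [MonoidHom.mem_ker, mem_subgroupOf, Units.ext_iff, hφ, Units.val_one]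
    constructor
    · intro h
      have h1 := hθ0 g
      have : Fact (1 < p) := ⟨hp.one_lt⟩
      rw [h, ZMod.val_one, pow_one] at h1
      exact hC _ (mul_inv_eq_iff_eq_mul.1 h1)
    · intro h
      obtain ⟨j, hj⟩ := hpow _ h
      apply hinj
      rw [← hθ0]
      have : Fact (1 < p) := ⟨hp.one_lt⟩
      rw [ZMod.val_one, pow_one, hj]
      have h1 : Commute (x ^ j.val) x := (Commute.refl x).pow_left _
      rw [h1.eq, mul_inv_cancel_right]
  have hcardker : Nat.card φ.ker = p := by
    rw [hker, Nat.card_congr (subgroupOfEquivOfLe hxN).toEquiv, Nat.card_zpowers, hx]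
  set e := Nat.card φ.range with hedef
  have hcardN : Nat.card N = p * e := by
    rw [← Subgroup.card_mul_index φ.ker, Subgroup.index_ker, hcardker]
  have hedvd : e ∣ p - 1 := by
    have h1 := Subgroup.card_subgroup_dvd_card φ.range
    rwa [Nat.card_eq_fintype_card (α := (ZMod p)ˣ), ZMod.card_units] at h1
  refine ⟨e, hedvd, ?_, ?_⟩
  · -- Sylow
    have hpd : p ∣ Nat.card G := by
      rw [← hx]
      exact orderOf_dvd_natCard x
    have hfac : (Nat.card G).factorization p = 1 := by
      apply le_antisymm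
      · by_contra hlt
        push Not at hlt
        exact hp2 ((hp.pow_dvd_iff_le_factorization Nat.card_pos.ne').2 hlt)
      · exact (hp.dvd_iff_one_le_factorization Nat.card_pos.ne').1 hpd
    let P : Sylow p G := Sylow.ofCard (zpowers x) (by rw [Nat.card_zpowers, hx, hfac, pow_one])
    have hPx : (P : Subgroup G) = zpowers x := rfl
    have h1 := Sylow.card_eq_index_normalizer P
    have h2 := card_sylow_modEq_one p G
    refine ⟨Nat.card (Sylow p G), ?_, h2⟩
    rw [← hcardN, h1]
    exact (Subgroup.card_mul_index N).symm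
  · intro j hj
    constructor
    · intro hje
      -- the subgroup of `e`-th roots of unity
      have h1 : (Finset.univ.filter fun u : (ZMod p)ˣ => u ∈ φ.range) =
          Finset.univ.filter fun u : (ZMod p)ˣ => u ^ e = 1 := by
        apply Finset.eq_of_subset_of_card_le
        · intro u hu
          rw [Finset.mem_filter] at hu ⊢
          refine ⟨Finset.mem_univ _, ?_⟩
          have h2 : (⟨u, hu.2⟩ : φ.range) ^ e = 1 := pow_card_eq_one'
          exact congrArg Subtype.val h2
        · have h3 : (Finset.univ.filter fun u : (ZMod p)ˣ => u ∈ φ.range).card = e := by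
            rw [hedef, Nat.card_eq_fintype_card, Fintype.card_subtype]
          rw [h3]
          exact IsCyclic.card_pow_eq_one_le (Nat.card_pos)
      have h2 : Units.mk0 j hj ∈ Finset.univ.filter fun u : (ZMod p)ˣ => u ^ e = 1 := by
        rw [Finset.mem_filter]
        refine ⟨Finset.mem_univ _, ?_⟩
        apply Units.ext
        rw [Units.val_pow_eq_pow_val, Units.val_mk0, Units.val_one]
        exact hje
      rw [← h1, Finset.mem_filter] at h2
      obtain ⟨g, hg⟩ := h2.2
      refine ⟨(g : G), ?_⟩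
      rw [hθ0, ← hφ, hg, Units.val_mk0]
    · rintro ⟨g, hg⟩
      have hgN : g ∈ N := hN' g ⟨j, hg⟩
      have h1 : θ0 ⟨g, hgN⟩ = j := by
        apply hinj
        rw [← hθ0]
        exact hg
      have h2 : (⟨φ ⟨g, hgN⟩, ⟨_, rfl⟩⟩ : φ.range) ^ e = 1 := pow_card_eq_one'
      have h3 := congrArg (fun u : φ.range => ((u : (ZMod p)ˣ) : ZMod p)) h2
      simp only [SubmonoidClass.coe_pow, Units.val_pow_eq_pow_val, OneMemClass.coe_one,
        Units.val_one, hφ, h1] at h3
      exact h3

end Cfsg.Agent.SporadicA.CycleLabel
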