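import Mathlib

/-!
General tools for groups of degree `p + 1`: embedding a simple group with a subgroup of index `n`
in `Perm (Fin n)` with a prescribed `p`-cycle in the image; Sylow congruences for normalizers of
cyclic subgroups of prime order inside subgroups of a permutation group; cycles and divisibility;
evaluation of words in permutations through functions on natural numbers.
-/

set_option autoImplicit false

namespace Cfsg.Agent.SporadicA.DegPOne

open Equiv Equiv.Perm MulAction

/-- A simple group with a subgroup of index `n` embeds in `Perm (Fin n)` as a transitive group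
containing a given `p`-cycle. -/
theorem exists_hom {G : Type*} [Group G] [Finite G] (hs : IsSimpleGroup G) {n p : ℕ}
    (H : Subgroup G) (hH : H.index = n) (hn : 2 ≤ n) (hp : p.Prime) (hpG : p ∣ Nat.card G)
    (hnp : n < 2 * p) (t : Perm (Fin n)) (ht : orderOf t = p) :
    ∃ ψ : G →* Perm (Fin n), Function.Injective ψ ∧ t ∈ ψ.range ∧ ∀ x y, ∃ g, ψ g x = y := by
  classical
  have := Fintype.ofFinite G
  have : Finite (G ⧸ H) := inferInstance
  have := Fintype.ofFinite (G ⧸ H)
  have hcard : Fintype.card (G ⧸ H) = n := by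
    rw [← Nat.card_eq_fintype_card, ← hH]; rfl
  let e0 : (G ⧸ H) ≃ Fin n := Fintype.equivFinOfCardEq hcard
  let φ : G →* Perm (G ⧸ H) := MulAction.toPermHom G (G ⧸ H)
  have hφ : Function.Injective φ := by
    rw [← MonoidHom.ker_eq_bot_iff]
    rcases hs.eq_bot_or_eq_top_of_normal φ.ker inferInstance with h | h
    · exact h
    · exfalso
      have h1 : H = ⊤ := by
        rw [eq_top_iff]
        intro g _
        have hg : g ∈ φ.ker := h ▸ Subgroup.mem_top g
        have h2 : φ g ((1 : G) : G ⧸ H) = ((1 : G) : G ⧸ H) := by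
          rw [MonoidHom.mem_ker.1 hg]; rfl
        have h3 : ((g * 1 : G) : G ⧸ H) = ((1 : G) : G ⧸ H) := h2
        rw [QuotientGroup.eq] at h3
        simpa using h3
      rw [h1, Subgroup.index_top] at hH
      omega
  let φ2 : G →* Perm (Fin n) := (e0.permCongrHom).toMonoidHom.comp φ
  have hφ2 : Function.Injective φ2 := (e0.permCongrHom).injective.comp hφ
  have : Fact p.Prime := ⟨hp⟩
  obtain ⟨g, hg⟩ := exists_prime_orderOf_dvd_card' p hpG
  have hσ : orderOf (φ2 g) = p := by rw [orderOf_injective φ2 hφ2, hg]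
  have key : ∀ σ : Perm (Fin n), orderOf σ = p → σ.cycleType = {p} := by
    intro σ h
    obtain ⟨m, hm⟩ := cycleType_prime_order (σ := σ) (by rw [h]; exact hp)
    rw [h] at hm
    have hsum : σ.cycleType.sum ≤ n := by
      rw [sum_cycleType]
      simpa using Finset.card_le_univ σ.support
    rw [hm, Multiset.sum_replicate, smul_eq_mul] at hsum
    have hm0 : m = 0 := by
      by_contra hne
      have : 2 ≤ m + 1 := by omega
      have := Nat.mul_le_mul_right p this
      omega
    rw [hm, hm0]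
    rfl
  have hconj : IsConj (φ2 g) t := by
    rw [isConj_iff_cycleType_eq, key _ hσ, key _ ht]
  obtain ⟨c, hc⟩ := isConj_iff.1 hconj
  refine ⟨(MulAut.conj c).toMonoidHom.comp φ2, (MulAut.conj c).injective.comp hφ2, ⟨g, ?_⟩, ?_⟩
  · simpa using hc
  · intro x y
    obtain ⟨a, ha⟩ := QuotientGroup.mk_surjective (e0.symm (c⁻¹ x))
    obtain ⟨b, hb⟩ := QuotientGroup.mk_surjective (e0.symm (c⁻¹ y))
    refine ⟨b * a⁻¹, ?_⟩
    have h1 : φ2 (b * a⁻¹) (c⁻¹ x) = c⁻¹ y := by
      have h2 : φ2 (b * a⁻¹) (c⁻¹ x) = e0 (φ (b * a⁻¹) (e0.symm (c⁻¹ x))) := rfl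
      rw [h2, ← ha]
      have h3 : φ (b * a⁻¹) ((a : G) : G ⧸ H) = ((b * a⁻¹ * a : G) : G ⧸ H) := rfl
      have h4 : b * a⁻¹ * a = b := by group
      rw [h3, h4]
      have h5 : ((b : G) : G ⧸ H) = e0.symm (c⁻¹ y) := hb
      rw [h5, Equiv.apply_symm_apply]
    show (c * φ2 (b * a⁻¹) * c⁻¹) x = y
    rw [Perm.mul_apply, Perm.mul_apply, h1]
    simp

/-- The image of a finite simple group of order `> 2` in a symmetric group is even. -/
theorem sign_eq_one {G : Type*} [Group G] [Finite G] (hs : IsSimpleGroup G)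
    (hc : 2 < Nat.card G) {n : ℕ} (ψ : G →* Perm (Fin n)) (g : G) : sign (ψ g) = 1 := by
  let f : G →* ℤˣ := (sign : Perm (Fin n) →* ℤˣ).comp ψ
  rcases hs.eq_bot_or_eq_top_of_normal f.ker inferInstance with h | h
  · exfalso
    have hi : Function.Injective f := (MonoidHom.ker_eq_bot_iff f).1 h
    have h1 := Nat.card_le_card_of_injective f hi
    have h2 : Nat.card ℤˣ = 2 := by rw [Nat.card_eq_fintype_card]; rfl
    omega
  · have : g ∈ f.ker := h ▸ Subgroup.mem_top g
    exact MonoidHom.mem_ker.1 this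

/-- Sylow congruence for the normalizer in `K` of a cyclic subgroup of prime order which is a
Sylow subgroup of `K`. -/
theorem sylow_congr {A : Type*} [Group A] [Finite A] (K : Subgroup A) {q : A} (hq : q ∈ K)
    {r m : ℕ} (hr : r.Prime) (hord : orderOf q = r) (hcard : Nat.card K = r * m)
    (hm : ¬ r ∣ m) :
    ∃ k n : ℕ, Nat.card (K ⊓ Subgroup.normalizer (Subgroup.zpowers q : Set A) : Subgroup A) = r * k ∧
      k * n = m ∧ n ≡ 1 [MOD r] := by
  classical
  have : Fact r.Prime := ⟨hr⟩
  have hle : Subgroup.zpowers q ≤ K := by rwa [Subgroup.zpowers_le]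
  have hcz : Nat.card ((Subgroup.zpowers q).subgroupOf K) = r := by
    rw [Nat.card_congr (Subgroup.subgroupOfEquivOfLe hle).toEquiv, Nat.card_zpowers, hord]
  have hr0 : r ≠ 0 := hr.ne_zero
  have hm0 : m ≠ 0 := by rintro rfl; exact hm (dvd_zero r)
  have hfac : (Nat.card K).factorization r = 1 := by
    rw [hcard, Nat.factorization_mul hr0 hm0]
    simp [hr.factorization_self, Nat.factorization_eq_zero_of_not_dvd hm]
  let P : Sylow r K := Sylow.ofCard ((Subgroup.zpowers q).subgroupOf K) (by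
    rw [hcz, hfac, pow_one])
  have hP : (P : Subgroup K) = (Subgroup.zpowers q).subgroupOf K := rfl
  have h1 := card_sylow_modEq_one r K
  have h2 := P.card_eq_index_normalizer
  have h3 := Subgroup.card_mul_index (Subgroup.normalizer (P : Set K))
  have h4 : Nat.card (Subgroup.normalizer (P : Set K)) =
      Nat.card (K ⊓ Subgroup.normalizer (Subgroup.zpowers q : Set A) : Subgroup A) := by
    have h5 : Subgroup.normalizer (P : Set K) =
        (Subgroup.normalizer (Subgroup.zpowers q : Set A)).subgroupOf K := by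
      rw [Subgroup.subgroupOf_normalizer_eq hle]
      rfl
    rw [h5, inf_comm, ← Subgroup.subgroupOf_map_subtype]
    exact (Nat.card_congr (Subgroup.equivMapOfInjective _ _ K.subtype_injective).toEquiv)
  have hrN : r ∣ Nat.card (K ⊓ Subgroup.normalizer (Subgroup.zpowers q : Set A) : Subgroup A) := by
    have h6 : Subgroup.zpowers q ≤ K ⊓ Subgroup.normalizer (Subgroup.zpowers q : Set A) :=
      le_inf hle Subgroup.le_normalizer
    have h7 := Subgroup.card_dvd_of_le h6
    rwa [Nat.card_zpowers, hord] at h7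
  obtain ⟨k, hk⟩ := hrN
  refine ⟨k, Nat.card (Sylow r K), hk, ?_, h1⟩
  rw [h4, hk, ← h2, hcard, mul_assoc] at h3
  exact Nat.eq_of_mul_eq_mul_left hr.pos h3

/-- An element normalizing `⟨q⟩` satisfies `g q = q ^ a g` for some `a`, `0 < a < orderOf q`. -/
theorem exists_pow_of_mem_normalizer {A : Type*} [Group A] [Finite A] {q g : A} {r : ℕ}
    (hr : r.Prime) (hord : orderOf q = r)
    (hg : g ∈ Subgroup.normalizer (Subgroup.zpowers q : Set A)) :
    ∃ a : ℕ, 0 < a ∧ a < r ∧ g * q = q ^ a * g := by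
  classical
  have h1 : g * q * g⁻¹ ∈ Subgroup.zpowers q :=
    (Subgroup.mem_normalizer_iff.1 hg q).1 (Subgroup.mem_zpowers q)
  rw [mem_zpowers_iff_mem_range_orderOf] at h1
  obtain ⟨a, ha, hq⟩ := Finset.mem_image.1 h1
  rw [Finset.mem_range, hord] at ha
  refine ⟨a, ?_, ha, ?_⟩
  · rcases Nat.eq_zero_or_pos a with h | h
    · exfalso
      rw [h, pow_zero] at hq
      have h2 : q = 1 := by
        have := congrArg (fun z => g⁻¹ * z * g) hq
        simpa [mul_assoc] using this.symm
      rw [h2, orderOf_one] at hord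
      exact hr.one_lt.ne hord
    · exact h
  · rw [hq]; group

/-- Powers: if `g q = q ^ a g` then `g q ^ i = q ^ (a i) g`. -/
theorem mul_pow_eq {A : Type*} [Group A] {q g : A} {a : ℕ} (h : g * q = q ^ a * g) (i : ℕ) :
    g * q ^ i = q ^ (a * i) * g := by
  induction i with
  | zero => simp
  | succ i ih => rw [pow_succ, ← mul_assoc, ih, mul_assoc, h, ← mul_assoc, ← pow_add]; ring_nf

/-- If `g q = q ^ a g` then `g ^ j q = q ^ (a ^ j) g ^ j`. -/
theorem pow_mul_eq {A : Type*} [Group A] {q g : A} {a : ℕ} (h : g * q = q ^ a * g) (j : ℕ) :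
    g ^ j * q = q ^ (a ^ j) * g ^ j := by
  induction j with
  | zero => simp
  | succ j ih =>
    rw [pow_succ', mul_assoc, ih, ← mul_assoc, mul_pow_eq h, mul_assoc]
    congr 2
    ring

/-- Conversely such an element normalizes `⟨q⟩`. -/
theorem mem_normalizer_of_eq {A : Type*} [Group A] [Finite A] {q g : A} {a : ℕ}
    (h : g * q = q ^ a * g) : g ∈ Subgroup.normalizer (Subgroup.zpowers q : Set A) := by
  have h1 : g * q * g⁻¹ = q ^ a := by rw [h]; group
  rw [Subgroup.mem_normalizer_iff_map_conj_eq]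
  have h2 : (Subgroup.zpowers q).map (MulAut.conj g).toMonoidHom ≤ Subgroup.zpowers q := by
    rw [Subgroup.map_le_iff_le_comap, Subgroup.zpowers_le, Subgroup.mem_comap]
    have : (MulAut.conj g).toMonoidHom q = q ^ a := h1
    rw [this]
    exact Subgroup.pow_mem _ (Subgroup.mem_zpowers q) a
  apply Subgroup.eq_of_le_of_card_ge h2
  exact (Nat.card_congr (Subgroup.equivMapOfInjective _ _ (MulAut.conj g).injective).toEquiv).le

/-- A prime cycle length of an element of `K` divides the order of `K`. -/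
theorem dvd_card_of_cycle {n : ℕ} (K : Subgroup (Perm (Fin n))) {g : Perm (Fin n)} (hg : g ∈ K)
    {l : ℕ} (hl : l.Prime) {x : Fin n} (h1 : (g ^ l) x = x) (h2 : g x ≠ x) :
    l ∣ Nat.card K := by
  have hper : Function.minimalPeriod g x = l := by
    have : Fact l.Prime := ⟨hl⟩
    refine Function.minimalPeriod_eq_prime ?_ ?_
    · show g^[l] x = x
      rw [← Perm.coe_pow]; exact h1
    · exact h2
  have h3 : Function.minimalPeriod g x ∣ orderOf g := by
    apply Function.IsPeriodicPt.minimalPeriod_dvd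
    show g^[orderOf g] x = x
    rw [← Perm.coe_pow, pow_orderOf_eq_one]; rfl
  rw [hper] at h3
  exact h3.trans (by simpa using Subgroup.orderOf_dvd_natCard K hg)

/-- Words of functions on natural numbers. -/
def evalW (fs : List (ℕ → ℕ)) : List ℕ → ℕ → ℕ
  | [], x => x
  | (i :: w), x => (fs.getD i id) (evalW fs w x)

/-- Words of permutations. -/
def evalP {n : ℕ} (gs : List (Perm (Fin n))) : List ℕ → Perm (Fin n)
  | [] => 1
  | (i :: w) => gs.getD i 1 * evalP gs w

/-- `f` computes the permutation `g`. -/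
def Comp {n : ℕ} (g : Perm (Fin n)) (f : ℕ → ℕ) : Prop := ∀ x : Fin n, ((g x : Fin n) : ℕ) = f x

theorem comp_evalW {n : ℕ} {gs : List (Perm (Fin n))} {fs : List (ℕ → ℕ)}
    (h : List.Forall₂ Comp gs fs) (w : List ℕ) : Comp (evalP gs w) (evalW fs w) := by
  have h0 : ∀ i, Comp (gs.getD i 1) (fs.getD i id) := by
    induction h with
    | nil => intro i x; simp
    | cons h1 _ ih =>
      intro i
      cases i with
      | zero => simpa using h1
      | succ i => simpa using ih i
  induction w with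
  | nil => intro x; rfl
  | cons i w ih =>
    intro x
    show (((gs.getD i 1 * evalP gs w) x : Fin n) : ℕ) = (fs.getD i id) (evalW fs w x)
    rw [Perm.mul_apply, h0 i, ih x]

theorem evalP_mem {n : ℕ} (K : Subgroup (Perm (Fin n))) {gs : List (Perm (Fin n))}
    (h : ∀ g ∈ gs, g ∈ K) (w : List ℕ) : evalP gs w ∈ K := by
  induction w with
  | nil => exact K.one_mem
  | cons i w ih =>
    refine K.mul_mem ?_ ih
    rw [List.getD_eq_getElem?_getD]
    cases hi : gs[i]? with
    | none => simpa using K.one_mem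
    | some g => simpa using h g (List.mem_of_getElem? hi)

/-- Iteration, computed. -/
def iter (f : ℕ → ℕ) : ℕ → ℕ → ℕ
  | 0, x => x
  | (k + 1), x => f (iter f k x)

theorem comp_iter {n : ℕ} {g : Perm (Fin n)} {f : ℕ → ℕ} (h : Comp g f) (k : ℕ) (x : Fin n) :
    (((g ^ k) x : Fin n) : ℕ) = iter f k x := by
  induction k with
  | zero => rfl
  | succ k ih => rw [pow_succ', Perm.mul_apply, h, ih]; rfl

/-- A certificate that a word has an `l`-cycle through `x`. -/
def cycleOK (f : ℕ → ℕ) (l x : ℕ) : Bool := (iter f l x == x) && !(f x == x)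

theorem dvd_card_of_cycleOK {n : ℕ} (K : Subgroup (Perm (Fin n))) {gs : List (Perm (Fin n))}
    {fs : List (ℕ → ℕ)} (hgs : ∀ g ∈ gs, g ∈ K) (h : List.Forall₂ Comp gs fs) (w : List ℕ)
    {l x : ℕ} (hl : l.Prime) (hx : x < n) (hok : cycleOK (evalW fs w) l x = true) :
    l ∣ Nat.card K := by
  simp only [cycleOK, Bool.and_eq_true, beq_iff_eq, Bool.not_eq_true', beq_eq_false_iff_ne] at hok
  refine dvd_card_of_cycle K (evalP_mem K hgs w) hl (x := ⟨x, hx⟩) ?_ ?_
  · apply Fin.ext
    rw [comp_iter (comp_evalW h w)]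
    exact hok.1
  · intro he
    apply hok.2
    have := congrArg (fun z : Fin n => (z : ℕ)) he
    simp only at this
    rw [comp_evalW h w] at this
    exact this

/-- Look up a certificate for the parameters `(a, s, b)` in a table: a word with a cycle of prime
length `l` in a given list. -/
def okT (n : ℕ) (ps : List ℕ) (fs : List (ℕ → ℕ)) (tab : List (ℕ × ℕ × ℕ × List ℕ × ℕ × ℕ))
    (a s b : ℕ) : Bool :=
  tab.any fun e => (e.1 == a) && (e.2.1 == s) && (e.2.2.1 == b) && ps.contains e.2.2.2.2.1 &&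
    decide (e.2.2.2.2.2 < n) && cycleOK (evalW fs e.2.2.2.1) e.2.2.2.2.1 e.2.2.2.2.2

theorem exists_dvd_of_okT {n : ℕ} (K : Subgroup (Perm (Fin n))) {gs : List (Perm (Fin n))}
    {fs : List (ℕ → ℕ)} (hgs : ∀ g ∈ gs, g ∈ K) (h : List.Forall₂ Comp gs fs)
    {ps : List ℕ} (hps : ∀ l ∈ ps, Nat.Prime l) {tab : List (ℕ × ℕ × ℕ × List ℕ × ℕ × ℕ)}
    {a s b : ℕ} (hok : okT n ps fs tab a s b = true) : ∃ l ∈ ps, l ∣ Nat.card K := by
  rw [okT, List.any_eq_true] at hok
  obtain ⟨e, -, he⟩ := hok
  simp only [Bool.and_eq_true, decide_eq_true_eq, List.contains_iff_mem] at he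
  exact ⟨e.2.2.2.2.1, he.1.1.2, dvd_card_of_cycleOK K hgs h _ (hps _ he.1.1.2) he.1.2 he.2⟩

/-- Build a permutation of `Fin n` from a function and an inverse on natural numbers. -/
def mkPerm (n : ℕ) (f g : ℕ → ℕ)
    (h : ∀ x : Fin n, f x < n ∧ g x < n ∧ g (f x) = x ∧ f (g x) = x) : Perm (Fin n) where
  toFun x := ⟨f x, (h x).1⟩
  invFun x := ⟨g x, (h x).2.1⟩
  left_inv x := Fin.ext (h x).2.2.1
  right_inv x := Fin.ext (h x).2.2.2

theorem mkPerm_comp (n : ℕ) (f g : ℕ → ℕ)
    (h : ∀ x : Fin n, f x < n ∧ g x < n ∧ g (f x) = x ∧ f (g x) = x) :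
    Comp (mkPerm n f g h) f := fun _ => rfl

theorem comp_ext {n : ℕ} {g g' : Perm (Fin n)} {f : ℕ → ℕ} (h : Comp g f) (h' : Comp g' f) :
    g = g' := by
  ext x
  rw [h x, h' x]

theorem comp_mul {n : ℕ} {g g' : Perm (Fin n)} {f f' : ℕ → ℕ} (h : Comp g f) (h' : Comp g' f') :
    Comp (g * g') (fun x => f (f' x)) := by
  intro x
  rw [Perm.mul_apply, h, h']

theorem comp_pow {n : ℕ} {g : Perm (Fin n)} {f : ℕ → ℕ} (h : Comp g f) (k : ℕ) :
    Comp (g ^ k) (iter f k) := fun x => comp_iter h k x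

/-- The values of `g` on the `q`-orbit of `x` when `g q = q ^ a g`. -/
theorem apply_pow_apply {n : ℕ} {q g : Perm (Fin n)} {qF : ℕ → ℕ} (hq : Comp q qF) {a : ℕ}
    (h : g * q = q ^ a * g) (x : Fin n) (i : ℕ) :
    ((g ((q ^ i) x) : Fin n) : ℕ) = iter qF (a * i) (g x) := by
  have h1 : g ((q ^ i) x) = (q ^ (a * i)) (g x) := by
    have := congrArg (fun z : Perm (Fin n) => z x) (mul_pow_eq h i)
    simpa [Perm.mul_apply] using this
  rw [h1, comp_iter hq]

theorem orbit_card {n : ℕ} (K : Subgroup (Perm (Fin n))) (x : Fin n) (s : Finset (Fin n))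
    (hs : ∀ y ∈ s, ∃ g ∈ K, g x = y) :
    s.card * Nat.card (K ⊓ stabilizer (Perm (Fin n)) x : Subgroup (Perm (Fin n))) ≤ Nat.card K := by
  classical
  have h1 := Nat.card_congr (MulAction.orbitEquivQuotientStabilizer K x)
  have h2 := Subgroup.card_mul_index (stabilizer K x)
  have h3 : Nat.card (stabilizer K x) =
      Nat.card (K ⊓ stabilizer (Perm (Fin n)) x : Subgroup (Perm (Fin n))) := by
    have h5 : stabilizer K x = (stabilizer (Perm (Fin n)) x).subgroupOf K := by
      ext g; rfl
    rw [h5, inf_comm, ← Subgroup.subgroupOf_map_subtype]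
    exact (Nat.card_congr (Subgroup.equivMapOfInjective _ _ K.subtype_injective).toEquiv)
  have h4 : s.card ≤ Nat.card (orbit K x) := by
    rw [← Set.ncard_coe_finset]
    refine Set.ncard_le_ncard ?_ (Set.toFinite _)
    intro y hy
    obtain ⟨g, hg, hgy⟩ := hs y hy
    exact ⟨⟨g, hg⟩, hgy⟩
  rw [← h2, ← h3, mul_comm]
  refine Nat.mul_le_mul_left _ ?_
  rw [h1] at h4
  exact h4

theorem orbit_card_eq {n : ℕ} (K : Subgroup (Perm (Fin n))) (x : Fin n)
    (hs : ∀ y, ∃ g ∈ K, g x = y) :
    n * Nat.card (K ⊓ stabilizer (Perm (Fin n)) x : Subgroup (Perm (Fin n))) = Nat.card K := by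
  classical
  have h1 := Nat.card_congr (MulAction.orbitEquivQuotientStabilizer K x)
  have h2 := Subgroup.card_mul_index (stabilizer K x)
  have h3 : Nat.card (stabilizer K x) =
      Nat.card (K ⊓ stabilizer (Perm (Fin n)) x : Subgroup (Perm (Fin n))) := by
    have h5 : stabilizer K x = (stabilizer (Perm (Fin n)) x).subgroupOf K := by
      ext g; rfl
    rw [h5, inf_comm, ← Subgroup.subgroupOf_map_subtype]
    exact (Nat.card_congr (Subgroup.equivMapOfInjective _ _ K.subtype_injective).toEquiv)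
  have h4 : Nat.card (orbit K x) = n := by
    have : orbit K x = Set.univ := by
      ext y
      simp only [Set.mem_univ, iff_true]
      obtain ⟨g, hg, hgy⟩ := hs y
      exact ⟨⟨g, hg⟩, hgy⟩
    rw [this]
    simp
  rw [← h2, ← h3, mul_comm]
  rw [h1] at h4
  congr 1
  exact h4.symm

end Cfsg.Agent.SporadicA.DegPOne
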