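import Mathlib

/-!
Lattices in frame coordinates: the code of even vectors, and the count of the minimal vectors
(Conway's characterisation of the Leech lattice, first half).
-/

set_option autoImplicit false

namespace Cfsg.Agent.SporadicA.LeechCoord

/-- A lattice in coordinates with respect to a frame of 24 orthogonal vectors of norm 8 that are
congruent modulo 2 (coordinates scaled so that the frame vectors are `8 e_i`), with the norms
divisible by 16 and no vectors of norm 16. -/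
structure Coord (Λ : AddSubgroup (Fin 24 → ℤ)) : Prop where
  par : ∀ y ∈ Λ, ∀ i j, (2 : ℤ) ∣ y i - y j
  add4 : ∀ i j, i ≠ j → (Pi.single i 4 + Pi.single j 4 : Fin 24 → ℤ) ∈ Λ
  sub4 : ∀ i j, (Pi.single i 4 - Pi.single j 4 : Fin 24 → ℤ) ∈ Λ
  dot : ∀ y ∈ Λ, ∀ y' ∈ Λ, (8 : ℤ) ∣ ∑ i, y i * y' i
  sq : ∀ y ∈ Λ, (16 : ℤ) ∣ ∑ i, y i ^ 2
  min : ∀ y ∈ Λ, y ≠ 0 → 32 ≤ ∑ i, y i ^ 2

variable {Λ : AddSubgroup (Fin 24 → ℤ)}

theorem four_mem (h : Coord Λ) (a : Fin 24 → ℤ) (ha : (2 : ℤ) ∣ ∑ i, a i) :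
    (fun i => 4 * a i) ∈ Λ := by
  obtain ⟨k, hk⟩ := ha
  have h8 : (Pi.single 0 8 : Fin 24 → ℤ) ∈ Λ := by
    have := Λ.add_mem (h.add4 0 1 (by decide)) (h.sub4 0 1)
    have e : (Pi.single 0 4 + Pi.single 1 4 : Fin 24 → ℤ) + (Pi.single 0 4 - Pi.single 1 4) =
        Pi.single 0 8 := by
      funext j
      simp only [Pi.add_apply, Pi.sub_apply, Pi.single_apply]
      split_ifs <;> norm_num
    rwa [e] at this
  have e : (fun i => 4 * a i) = ∑ i, a i • (Pi.single i 4 - Pi.single 0 4 : Fin 24 → ℤ) +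
      k • (Pi.single 0 8 : Fin 24 → ℤ) := by
    funext j
    simp only [Pi.add_apply, Finset.sum_apply, Pi.smul_apply, Pi.sub_apply, smul_eq_mul, mul_sub,
      Finset.sum_sub_distrib, ← Finset.sum_mul, hk]
    have h1 : ∑ x, a x * (Pi.single x (4 : ℤ) : Fin 24 → ℤ) j = 4 * a j := by
      rw [Finset.sum_eq_single j]
      · simp [mul_comm]
      · intro b _ hb
        rw [Pi.single_eq_of_ne (Ne.symm hb), mul_zero]
      · intro hj
        exact absurd (Finset.mem_univ j) hj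
    rw [h1]
    simp only [Pi.single_apply]
    split_ifs <;> ring
  rw [e]
  exact Λ.add_mem (Λ.sum_mem fun i _ => Λ.zsmul_mem (h.sub4 i 0) _) (Λ.zsmul_mem h8 _)

theorem single_not_mem (h : Coord Λ) (i : Fin 24) : (Pi.single i 4 : Fin 24 → ℤ) ∉ Λ := by
  intro hi
  have h1 := h.min _ hi (by
    intro h0
    have := congrFun h0 i
    simp at this)
  have h2 : ∑ j, (Pi.single i 4 : Fin 24 → ℤ) j ^ 2 = 16 := by
    rw [Finset.sum_eq_single i]
    · simp
    · intro b _ hb
      rw [Pi.single_eq_of_ne hb]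
      norm_num
    · intro hj
      exact absurd (Finset.mem_univ i) hj
  omega

theorem even_of_four_mem (h : Coord Λ) (a : Fin 24 → ℤ) (ha : (fun i => 4 * a i) ∈ Λ) :
    (2 : ℤ) ∣ ∑ i, a i := by
  by_contra hodd
  have h1 : (2 : ℤ) ∣ ∑ i, (a - Pi.single 0 1 : Fin 24 → ℤ) i := by
    simp only [Pi.sub_apply, Finset.sum_sub_distrib]
    rw [Finset.sum_pi_single']
    simp
    omega
  have h2 := Λ.sub_mem ha (four_mem h _ h1)
  apply single_not_mem h 0
  convert h2 using 1
  funext j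
  simp only [Pi.sub_apply, Pi.single_apply]
  split_ifs <;> ring

theorem mem_of_congr (h : Coord Λ) {y y' : Fin 24 → ℤ} (hy : y ∈ Λ) (a : Fin 24 → ℤ)
    (ha : (2 : ℤ) ∣ ∑ i, a i) (e : ∀ i, y' i = y i + 4 * a i) : y' ∈ Λ := by
  have : y' = y + (fun i => 4 * a i) := by
    funext i
    rw [Pi.add_apply, e i]
  rw [this]
  exact Λ.add_mem hy (four_mem h a ha)

/-- The code of the halves of the even vectors modulo 2. -/
def code (Λ : AddSubgroup (Fin 24 → ℤ)) : Submodule (ZMod 2) (Fin 24 → ZMod 2) where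
  carrier := {w | ∃ z : Fin 24 → ℤ, (fun i => 2 * z i) ∈ Λ ∧ ∀ i, w i = (z i : ZMod 2)}
  add_mem' := by
    rintro v w ⟨z, hz, hv⟩ ⟨t, ht, hw⟩
    refine ⟨z + t, ?_, fun i => ?_⟩
    · convert Λ.add_mem hz ht using 1
      funext i
      simp only [Pi.add_apply]
      ring
    · simp only [Pi.add_apply, hv i, hw i]
      push_cast
      rfl
  zero_mem' := by
    refine ⟨0, ?_, fun i => by simp⟩
    convert Λ.zero_mem using 1
    funext i
    simp
  smul_mem' := by
    rintro c v ⟨z, hz, hv⟩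
    have hc : c = 0 ∨ c = 1 := by
      revert c
      decide
    rcases hc with rfl | rfl
    · refine ⟨0, ?_, fun i => by simp⟩
      convert Λ.zero_mem using 1
      funext i
      simp
    · refine ⟨z, hz, fun i => by simp [hv i]⟩

theorem mem_code_iff (w : Fin 24 → ZMod 2) : w ∈ code Λ ↔
    ∃ z : Fin 24 → ℤ, (fun i => 2 * z i) ∈ Λ ∧ ∀ i, w i = (z i : ZMod 2) := Iff.rfl

theorem cast_eq_zero_iff (z : ℤ) : ((z : ℤ) : ZMod 2) = 0 ↔ (2 : ℤ) ∣ z := by
  have := ZMod.intCast_zmod_eq_zero_iff_dvd z 2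
  simpa using this

/-- Normal form of a word of the code as a vector with coordinates `0, ±2`. -/
theorem exists_rep (h : Coord Λ) {w : Fin 24 → ZMod 2} (hw : w ∈ code Λ) (h0 : w ≠ 0) :
    ∃ y ∈ Λ, ∀ i, y i ^ 2 = if w i = 0 then 0 else 4 := by
  obtain ⟨z, hz, hwz⟩ := hw
  have hi0 : ∃ i0, w i0 ≠ 0 := by
    by_contra hcon
    push Not at hcon
    exact h0 (funext hcon)
  obtain ⟨i0, hi0⟩ := hi0
  -- z i = r i + 2 a i
  let a : Fin 24 → ℤ := fun i => z i / 2
  have hza : ∀ i, z i = z i % 2 + 2 * a i := fun i => by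
    simp only [a]
    omega
  have hr : ∀ i, (z i % 2 = 0 ∧ w i = 0) ∨ (z i % 2 = 1 ∧ w i ≠ 0) := by
    intro i
    rw [hwz i, Ne, cast_eq_zero_iff]
    omega
  by_cases hpar : (2 : ℤ) ∣ ∑ i, a i
  · refine ⟨fun i => 2 * (z i % 2), mem_of_congr h hz (fun i => - a i) ?_ ?_, ?_⟩
    · rw [Finset.sum_neg_distrib]
      exact (dvd_neg).2 hpar
    · intro i
      have := hza i
      linarith
    · intro i
      rcases hr i with ⟨h1, h2⟩ | ⟨h1, h2⟩
      · simp [h1, h2]
      · simp [h1, h2]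
  · refine ⟨fun i => 2 * (z i % 2) - (Pi.single i0 4 : Fin 24 → ℤ) i,
      mem_of_congr h hz (fun i => - a i - (Pi.single i0 1 : Fin 24 → ℤ) i) ?_ ?_, ?_⟩
    · rw [Finset.sum_sub_distrib, Finset.sum_neg_distrib, Finset.sum_pi_single',
        if_pos (Finset.mem_univ i0)]
      omega
    · intro i
      have := hza i
      by_cases hi : i = i0
      · subst hi
        simp only [Pi.single_eq_same]
        linarith
      · simp only [Pi.single_eq_of_ne hi]
        linarith
    · intro i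
      by_cases hi : i = i0
      · subst hi
        simp only [Pi.single_eq_same, if_neg hi0]
        rcases hr i with ⟨h1, h2⟩ | ⟨h1, h2⟩
        · exact absurd h2 hi0
        · rw [h1]; norm_num
      · simp only [Pi.single_eq_of_ne hi]
        rcases hr i with ⟨h1, h2⟩ | ⟨h1, h2⟩
        · simp [h1, h2]
        · simp [h1, h2]

theorem hammingNorm_eq (w : Fin 24 → ZMod 2) :
    ∑ i, (if w i = 0 then (0 : ℤ) else 4) = 4 * (hammingNorm w : ℤ) := by
  rw [Finset.sum_ite, Finset.sum_const_zero, zero_add, Finset.sum_const, hammingNorm]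
  simp [mul_comm]

theorem four_dvd (h : Coord Λ) {w : Fin 24 → ZMod 2} (hw : w ∈ code Λ) : 4 ∣ hammingNorm w := by
  by_cases h0 : w = 0
  · subst h0
    simp
  · obtain ⟨y, hy, hyw⟩ := exists_rep h hw h0
    have h1 := h.sq y hy
    simp only [hyw, hammingNorm_eq] at h1
    omega

theorem eight_le (h : Coord Λ) {w : Fin 24 → ZMod 2} (hw : w ∈ code Λ) (h0 : w ≠ 0) :
    8 ≤ hammingNorm w := by
  obtain ⟨y, hy, hyw⟩ := exists_rep h hw h0
  have hy0 : y ≠ 0 := by
    rintro rfl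
    apply h0
    funext i
    by_contra hi
    have h2 := hyw i
    rw [Pi.zero_apply] at hi
    rw [if_neg hi] at h2
    simp at h2
  have h1 := h.min y hy hy0
  simp only [hyw, hammingNorm_eq] at h1
  omega

theorem orth (h : Coord Λ) {v w : Fin 24 → ZMod 2} (hv : v ∈ code Λ) (hw : w ∈ code Λ) :
    ∑ i, v i * w i = 0 := by
  obtain ⟨z, hz, hvz⟩ := hv
  obtain ⟨t, ht, hwt⟩ := hw
  have h1 := h.dot _ hz _ ht
  have h2 : ∑ i, (2 * z i) * (2 * t i) = 4 * ∑ i, z i * t i := by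
    rw [Finset.mul_sum]
    apply Finset.sum_congr rfl
    intro i _
    ring
  rw [h2] at h1
  have h3 : (2 : ℤ) ∣ ∑ i, z i * t i := by omega
  have h4 : ∑ i, v i * w i = ((∑ i, z i * t i : ℤ) : ZMod 2) := by
    push_cast
    apply Finset.sum_congr rfl
    intro i _
    rw [hvz, hwt]
  rw [h4, cast_eq_zero_iff]
  exact h3

end Cfsg.Agent.SporadicA.LeechCoord
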