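import Mathlib

/-!
Binary codes of length 24: self-orthogonal codes have dimension at most 12, codes of minimal
weight 8 have at most 759 words of weight 8.
-/

set_option autoImplicit false
set_option linter.constructorNameAsVariable false

namespace Cfsg.Agent.SporadicA.LeechCoordCode

/-- A self-orthogonal code of length 24 has dimension at most 12. -/
theorem finrank_le (C : Submodule (ZMod 2) (Fin 24 → ZMod 2))
    (horth : ∀ v ∈ C, ∀ w ∈ C, ∑ i, v i * w i = 0) : Module.finrank (ZMod 2) C ≤ 12 := by
  have h1 := Subspace.finrank_add_finrank_dualAnnihilator_eq C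
  have h2 : C.map (dotProductEquiv (ZMod 2) (Fin 24)).toLinearMap ≤ C.dualAnnihilator := by
    rintro _ ⟨v, hv, rfl⟩
    rw [Submodule.mem_dualAnnihilator]
    intro w hw
    exact horth v hv w hw
  have h3 := Submodule.finrank_mono h2
  rw [LinearEquiv.finrank_map_eq] at h3
  simp only [Module.finrank_fintype_fun_eq_card, Fintype.card_fin] at h1
  omega

/-- The characteristic word of a set. -/
def ind (s : Finset (Fin 24)) : Fin 24 → ZMod 2 := fun i => if i ∈ s then 1 else 0

theorem ind_apply_eq_zero {s : Finset (Fin 24)} {i : Fin 24} : ind s i = 0 ↔ i ∉ s := by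
  unfold ind
  by_cases h : i ∈ s
  · simp [h]
  · simp [h]

theorem hammingNorm_ind (s : Finset (Fin 24)) : hammingNorm (ind s) = s.card := by
  unfold hammingNorm
  congr 1
  ext i
  simp only [Finset.mem_filter, Finset.mem_univ, true_and, ne_eq, ind_apply_eq_zero, not_not]

theorem ind_symmDiff (s t : Finset (Fin 24)) : ind (symmDiff s t) = ind s + ind t := by
  funext i
  unfold ind
  rw [Pi.add_apply]
  by_cases h1 : i ∈ s <;> by_cases h2 : i ∈ t <;> simp [Finset.mem_symmDiff, h1, h2]
  decide

theorem card_symmDiff_add (s t : Finset (Fin 24)) :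
    (symmDiff s t).card + 2 * (s ∩ t).card = s.card + t.card := by
  have h1 : (symmDiff s t).card = (s \ t).card + (t \ s).card := by
    rw [← Finset.card_union_of_disjoint]
    · rfl
    · exact disjoint_sdiff_sdiff
  have h2 := Finset.card_sdiff_add_card_inter s t
  have h3 := Finset.card_sdiff_add_card_inter t s
  rw [Finset.inter_comm t s] at h3
  omega

open Classical in
/-- The supports of the words of weight 8. -/
noncomputable def octs (C : Submodule (ZMod 2) (Fin 24 → ZMod 2)) : Finset (Finset (Fin 24)) :=
  (Finset.powersetCard 8 Finset.univ).filter fun s => ind s ∈ C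

theorem mem_octs {C : Submodule (ZMod 2) (Fin 24 → ZMod 2)} {s : Finset (Fin 24)} :
    s ∈ octs C ↔ s.card = 8 ∧ ind s ∈ C := by
  classical
  unfold octs
  rw [Finset.mem_filter, Finset.mem_powersetCard]
  simp

theorem card_octs_le (C : Submodule (ZMod 2) (Fin 24 → ZMod 2))
    (h8 : ∀ w ∈ C, w ≠ 0 → 8 ≤ hammingNorm w) : (octs C).card ≤ 759 := by
  have hdisj : ∀ s ∈ octs C, ∀ t ∈ octs C, s ≠ t →
      Disjoint (s.powersetCard 5) (t.powersetCard 5) := by
    intro s hs t ht hst
    rw [Finset.disjoint_left]
    intro u hu hv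
    rw [Finset.mem_powersetCard] at hu hv
    rw [mem_octs] at hs ht
    have hsub : u ⊆ s ∩ t := Finset.subset_inter hu.1 hv.1
    have h5 := Finset.card_le_card hsub
    have hne : ind (symmDiff s t) ≠ 0 := by
      intro h0
      apply hst
      have : symmDiff s t = ∅ := by
        rw [Finset.eq_empty_iff_forall_notMem]
        intro i
        rw [← ind_apply_eq_zero, h0]
        rfl
      rwa [← Finset.bot_eq_empty, symmDiff_eq_bot] at this
    have hw := h8 (ind (symmDiff s t)) (by
      rw [ind_symmDiff]
      exact C.add_mem hs.2 ht.2) hne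
    rw [hammingNorm_ind] at hw
    have := card_symmDiff_add s t
    omega
  have h1 := Finset.card_biUnion hdisj
  have h2 : (octs C).biUnion (fun s => s.powersetCard 5) ⊆
      (Finset.univ : Finset (Fin 24)).powersetCard 5 := by
    intro u hu
    rw [Finset.mem_biUnion] at hu
    obtain ⟨s, _, hu⟩ := hu
    rw [Finset.mem_powersetCard] at hu ⊢
    exact ⟨Finset.subset_univ _, hu.2⟩
  have h3 := Finset.card_le_card h2
  rw [h1] at h3
  have h4 : ∑ s ∈ octs C, (s.powersetCard 5).card = (octs C).card * 56 := by
    rw [Finset.sum_const_nat]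
    intro s hs
    rw [mem_octs] at hs
    rw [Finset.card_powersetCard, hs.1]
    rfl
  rw [h4, Finset.card_powersetCard, Finset.card_univ, Fintype.card_fin] at h3
  have h6 : Nat.choose 24 5 = 42504 := by norm_num [Nat.choose]
  rw [h6] at h3
  omega

end Cfsg.Agent.SporadicA.LeechCoordCode
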