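import Cfsg.Agent.SporadicA.LeechCoord
import Cfsg.Agent.SporadicA.LeechCoordCode

/-!
Counting the minimal vectors of a lattice in frame coordinates: there are at most
`1104 + 128 * A_8 + 24 * |C|` of them. If there are 196560, the code has dimension 12 and there is a
vector with all coordinates odd.
-/

set_option autoImplicit false
set_option linter.constructorNameAsVariable false

namespace Cfsg.Agent.SporadicA.LeechCoordCount

open Cfsg.Agent.SporadicA.LeechCoord Cfsg.Agent.SporadicA.LeechCoordCode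

variable {Λ : AddSubgroup (Fin 24 → ℤ)}

theorem sq_le {y : Fin 24 → ℤ} {n : ℤ} (h : ∑ i, y i ^ 2 = n) (i : Fin 24) : y i ^ 2 ≤ n := by
  rw [← h]
  exact Finset.single_le_sum (f := fun i => y i ^ 2) (fun j _ => sq_nonneg (y j)) (Finset.mem_univ i)

theorem sq_eq_one {a : ℤ} (h : a ^ 2 = 1) : a = 1 ∨ a = -1 := by
  have h1 : (a - 1) * (a + 1) = 0 := by
    ring_nf
    omega
  rcases mul_eq_zero.1 h1 with h2 | h2 <;> omega

/-- The support. -/
def supp (y : Fin 24 → ℤ) : Finset (Fin 24) := Finset.univ.filter fun i => y i ≠ 0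

/-- The negative positions. -/
def negs (y : Fin 24 → ℤ) : Finset (Fin 24) := Finset.univ.filter fun i => y i < 0

theorem mem_supp {y : Fin 24 → ℤ} {i : Fin 24} : i ∈ supp y ↔ y i ≠ 0 := by
  simp [supp]

theorem mem_negs {y : Fin 24 → ℤ} {i : Fin 24} : i ∈ negs y ↔ y i < 0 := by
  simp [negs]

theorem card_supp {y : Fin 24 → ℤ} {c n : ℤ} (hc : ∀ i, y i = 0 ∨ y i ^ 2 = c)
    (h : ∑ i, y i ^ 2 = n) : c * (supp y).card = n := by
  rw [← h]
  have h1 : ∀ i, y i ^ 2 = if i ∈ supp y then c else 0 := by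
    intro i
    rcases hc i with h0 | h0
    · rw [if_neg (by rw [mem_supp]; simpa using h0), h0]
      norm_num
    · by_cases h2 : y i = 0
      · rw [if_neg (by rw [mem_supp]; simpa using h2), h2]
        norm_num
      · rw [if_pos (by rw [mem_supp]; exact h2), h0]
  rw [Finset.sum_congr rfl (fun i _ => h1 i), ← Finset.sum_filter, Finset.sum_const]
  simp [mul_comm]

/-- The vectors with all coordinates divisible by 4. -/
theorem card_zero (S : Finset (Fin 24 → ℤ)) (hS : ∀ y ∈ S, ∑ i, y i ^ 2 = 32)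
    (h4 : ∀ y ∈ S, ∀ i, (4 : ℤ) ∣ y i) : S.card ≤ 1104 := by
  classical
  have hval : ∀ y ∈ S, ∀ i, y i = 0 ∨ y i = 4 ∨ y i = -4 := by
    intro y hy i
    obtain ⟨a, ha⟩ := h4 y hy i
    have h1 := sq_le (hS y hy) i
    rw [ha] at h1 ⊢
    have h2 : a ≤ 1 := by nlinarith
    have h3 : -1 ≤ a := by nlinarith
    omega
  have hsupp : ∀ y ∈ S, (supp y).card = 2 := by
    intro y hy
    have := card_supp (c := 16) (fun i => by
      rcases hval y hy i with h | h | h
      · exact Or.inl h
      · right; rw [h]; norm_num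
      · right; rw [h]; norm_num) (hS y hy)
    omega
  let T : Finset (Σ _ : Finset (Fin 24), Finset (Fin 24)) :=
    (Finset.powersetCard 2 (Finset.univ : Finset (Fin 24))).sigma fun s => s.powerset
  have hT : T.card = 1104 := by
    rw [Finset.card_sigma, Finset.sum_const_nat (m := 4)]
    · rw [Finset.card_powersetCard, Finset.card_univ, Fintype.card_fin]
      rfl
    · intro s hs
      rw [Finset.mem_powersetCard] at hs
      rw [Finset.card_powerset, hs.2]
      rfl
  rw [← hT]
  apply Finset.card_le_card_of_injOn (fun y => ⟨supp y, negs y⟩)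
  · intro y hy
    have hy : y ∈ S := hy
    simp only [T, Finset.coe_sigma, Set.mem_sigma_iff, Finset.mem_coe, Finset.mem_powersetCard,
      Finset.mem_powerset]
    refine ⟨⟨Finset.subset_univ _, hsupp y hy⟩, ?_⟩
    intro i hi
    rw [mem_negs] at hi
    rw [mem_supp]
    omega
  · intro y hy y' hy' he
    have hy : y ∈ S := hy
    have hy' : y' ∈ S := hy'
    simp only [Sigma.mk.injEq, heq_eq_eq] at he
    funext i
    have h1 : i ∈ supp y ↔ i ∈ supp y' := by rw [he.1]
    have h2 : i ∈ negs y ↔ i ∈ negs y' := by rw [he.2]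
    rw [mem_supp, mem_supp] at h1
    rw [mem_negs, mem_negs] at h2
    rcases hval y hy i with h | h | h <;> rcases hval y' hy' i with h' | h' | h' <;> omega

open Classical in
/-- A chosen element. -/
noncomputable def pick (s : Finset (Fin 24)) : Fin 24 := if h : s.Nonempty then h.choose else 0

theorem pick_mem {s : Finset (Fin 24)} (h : s.Nonempty) : pick s ∈ s := by
  unfold pick
  rw [dif_pos h]
  exact h.choose_spec

/-- The even vectors with some coordinate not divisible by 4. -/
theorem card_one (h : Coord Λ) (S : Finset (Fin 24 → ℤ)) (hS : ∀ y ∈ S, ∑ i, y i ^ 2 = 32)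
    (hΛ : ∀ y ∈ S, y ∈ Λ) (h2 : ∀ y ∈ S, ∀ i, (2 : ℤ) ∣ y i)
    (h4 : ∀ y ∈ S, ¬ ∀ i, (4 : ℤ) ∣ y i) : S.card ≤ 128 * (octs (code Λ)).card := by
  classical
  -- structure of the vectors
  have hstr : ∀ y ∈ S, supp y ∈ octs (code Λ) ∧ ∀ i, y i = 0 ∨ y i = 2 ∨ y i = -2 := by
    intro y hy
    choose z hz using h2 y hy
    have hy2 : y = fun i => 2 * z i := funext hz
    have hw : (fun i => ((z i : ℤ) : ZMod 2)) ∈ code Λ := ⟨z, by rw [← hy2]; exact hΛ y hy,
      fun i => rfl⟩
    have hw0 : (fun i => ((z i : ℤ) : ZMod 2)) ≠ 0 := by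
      intro h0
      apply h4 y hy
      intro i
      have := congrFun h0 i
      simp only [Pi.zero_apply] at this
      rw [cast_eq_zero_iff] at this
      rw [hz i]
      omega
    have hge := eight_le h hw hw0
    have hsum : ∑ i, z i ^ 2 = 8 := by
      have h1 := hS y hy
      have h2 : ∑ i, y i ^ 2 = 4 * ∑ i, z i ^ 2 := by
        rw [Finset.mul_sum]
        apply Finset.sum_congr rfl
        intro i _
        rw [hz i]
        ring
      omega
    let O : Finset (Fin 24) := Finset.univ.filter fun i => ((z i : ℤ) : ZMod 2) ≠ 0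
    have hO : hammingNorm (fun i => ((z i : ℤ) : ZMod 2)) = O.card := rfl
    have hle : ∀ i ∈ Finset.univ, (if i ∈ O then (1 : ℤ) else 0) ≤ z i ^ 2 := by
      intro i _
      by_cases hi : i ∈ O
      · rw [if_pos hi]
        have : z i ≠ 0 := by
          rintro h0
          simp [O, h0] at hi
        have := sq_pos_of_ne_zero this
        omega
      · rw [if_neg hi]
        exact sq_nonneg _
    have hsumO : ∑ i, (if i ∈ O then (1 : ℤ) else 0) = O.card := by
      rw [← Finset.sum_filter, Finset.sum_const]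
      simp
    have hsle := Finset.sum_le_sum hle
    have hcard : O.card = 8 := by
      rw [hsumO, hsum] at hsle
      omega
    have heq : ∑ i, (if i ∈ O then (1 : ℤ) else 0) = ∑ i, z i ^ 2 := by
      rw [hsumO, hsum, hcard]
      rfl
    have hpt := (Finset.sum_eq_sum_iff_of_le hle).1 heq
    have hval : ∀ i, (i ∈ O ∧ (z i = 1 ∨ z i = -1)) ∨ (i ∉ O ∧ z i = 0) := by
      intro i
      have h1 := hpt i (Finset.mem_univ i)
      by_cases hi : i ∈ O
      · left
        rw [if_pos hi] at h1
        exact ⟨hi, sq_eq_one h1.symm⟩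
      · right
        rw [if_neg hi] at h1
        exact ⟨hi, by
          have := h1.symm
          exact pow_eq_zero_iff (two_ne_zero) |>.1 this⟩
    have hsuppO : supp y = O := by
      ext i
      rw [mem_supp, hz i]
      rcases hval i with ⟨h1, h2 | h2⟩ | ⟨h1, h2⟩ <;> simp [h1, h2]
    refine ⟨?_, ?_⟩
    · rw [hsuppO, mem_octs]
      refine ⟨hcard, ?_⟩
      have : ind O = fun i => ((z i : ℤ) : ZMod 2) := by
        funext i
        unfold ind
        rcases hval i with ⟨h1, h2 | h2⟩ | ⟨h1, h2⟩ <;> simp [h1, h2]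
      rw [this]
      exact hw
    · intro i
      rw [hz i]
      rcases hval i with ⟨h1, h2 | h2⟩ | ⟨h1, h2⟩ <;> omega
  let T : Finset (Σ _ : Finset (Fin 24), Finset (Fin 24)) :=
    (octs (code Λ)).sigma fun s => (s.erase (pick s)).powerset
  have hT : T.card = 128 * (octs (code Λ)).card := by
    rw [Finset.card_sigma, Finset.sum_const_nat (m := 128), mul_comm]
    intro s hs
    rw [mem_octs] at hs
    have hne : s.Nonempty := by
      rw [← Finset.card_pos, hs.1]
      norm_num
    rw [Finset.card_powerset, Finset.card_erase_of_mem (pick_mem hne), hs.1]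
    rfl
  rw [← hT]
  apply Finset.card_le_card_of_injOn (fun y => ⟨supp y, (negs y).erase (pick (supp y))⟩)
  · intro y hy
    have hy : y ∈ S := hy
    simp only [T, Finset.coe_sigma, Set.mem_sigma_iff, Finset.mem_coe, Finset.mem_powerset]
    refine ⟨(hstr y hy).1, ?_⟩
    apply Finset.erase_subset_erase
    intro i hi
    rw [mem_negs] at hi
    rw [mem_supp]
    omega
  · intro y hy y' hy' he
    have hy : y ∈ S := hy
    have hy' : y' ∈ S := hy'
    simp only [Sigma.mk.injEq, heq_eq_eq] at he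
    obtain ⟨he1, he2⟩ := he
    rw [← he1] at he2
    set p := pick (supp y) with hp
    have hoff : ∀ i, i ≠ p → y i = y' i := by
      intro i hi
      have h1 : i ∈ supp y ↔ i ∈ supp y' := by rw [he1]
      have h2 : i ∈ (negs y).erase p ↔ i ∈ (negs y').erase p := by rw [he2]
      rw [mem_supp, mem_supp] at h1
      rw [Finset.mem_erase, Finset.mem_erase, mem_negs, mem_negs] at h2
      rcases (hstr y hy).2 i with h | h | h <;> rcases (hstr y' hy').2 i with h' | h' | h' <;>
        simp [h, h', hi] at h1 h2 <;> omega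
    by_cases hpp : y p = y' p
    · funext i
      by_cases hi : i = p
      · rw [hi]; exact hpp
      · exact hoff i hi
    · exfalso
      have hpy : p ∈ supp y := pick_mem (by
        rw [← Finset.card_pos, (mem_octs.1 (hstr y hy).1).1]
        norm_num)
      have h1 : p ∈ supp y ↔ p ∈ supp y' := by rw [he1]
      have hpy' := h1.1 hpy
      rw [mem_supp] at hpy hpy'
      apply single_not_mem h p
      rcases (hstr y hy).2 p with h | h | h <;> rcases (hstr y' hy').2 p with h' | h' | h'
      · exact absurd h hpy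
      · exact absurd h hpy
      · exact absurd h hpy
      · exact absurd h' hpy'
      · exact absurd (h.trans h'.symm) hpp
      · convert Λ.sub_mem (hΛ y hy) (hΛ y' hy') using 1
        funext i
        by_cases hi : i = p
        · subst hi
          rw [Pi.single_eq_same, Pi.sub_apply, h, h']
          norm_num
        · rw [Pi.single_eq_of_ne hi, Pi.sub_apply, hoff i hi, sub_self]
      · exact absurd h' hpy'
      · convert Λ.sub_mem (hΛ y' hy') (hΛ y hy) using 1
        funext i
        by_cases hi : i = p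
        · subst hi
          rw [Pi.single_eq_same, Pi.sub_apply, h, h']
          norm_num
        · rw [Pi.single_eq_of_ne hi, Pi.sub_apply, hoff i hi, sub_self]
      · exact absurd (h.trans h'.symm) hpp

theorem odd_vector (h : Coord Λ) {y : Fin 24 → ℤ} (hy : y ∈ Λ) (hS : ∑ i, y i ^ 2 = 32)
    (h2 : ¬ ∀ i, (2 : ℤ) ∣ y i) : ∃ i0, (y i0 = 3 ∨ y i0 = -3) ∧ ∀ i, i ≠ i0 → y i = 1 ∨ y i = -1 := by
  push Not at h2
  obtain ⟨j, hj⟩ := h2
  have hodd : ∀ i, y i % 2 = 1 := by
    intro i
    have := h.par y hy i j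
    omega
  have hval : ∀ i, (y i = 1 ∨ y i = -1) ∨ (y i = 3 ∨ y i = -3) := by
    intro i
    have h1 := sq_le hS i
    have h3 := hodd i
    have h4 : y i ≤ 5 := by nlinarith
    have h5 : -5 ≤ y i := by nlinarith
    have h6 : y i ≠ 5 := by
      rintro h6
      have h7 : (∑ i, y i ^ 2) - y i ^ 2 = ∑ k ∈ Finset.univ.erase i, y k ^ 2 := by
        rw [← Finset.add_sum_erase _ _ (Finset.mem_univ i)]
        ring
      have h8 : ((Finset.univ.erase i).card : ℤ) ≤ ∑ k ∈ Finset.univ.erase i, y k ^ 2 := by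
        rw [Finset.card_eq_sum_ones]
        push_cast
        apply Finset.sum_le_sum
        intro k _
        have := hodd k
        have h9 : y k ≠ 0 := by omega
        have := sq_pos_of_ne_zero h9
        omega
      rw [Finset.card_erase_of_mem (Finset.mem_univ i), Finset.card_univ, Fintype.card_fin] at h8
      rw [hS, h6] at h7
      norm_num at h7 h8
      omega
    have h6' : y i ≠ -5 := by
      rintro h6
      have h7 : (∑ i, y i ^ 2) - y i ^ 2 = ∑ k ∈ Finset.univ.erase i, y k ^ 2 := by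
        rw [← Finset.add_sum_erase _ _ (Finset.mem_univ i)]
        ring
      have h8 : ((Finset.univ.erase i).card : ℤ) ≤ ∑ k ∈ Finset.univ.erase i, y k ^ 2 := by
        rw [Finset.card_eq_sum_ones]
        push_cast
        apply Finset.sum_le_sum
        intro k _
        have := hodd k
        have h9 : y k ≠ 0 := by omega
        have := sq_pos_of_ne_zero h9
        omega
      rw [Finset.card_erase_of_mem (Finset.mem_univ i), Finset.card_univ, Fintype.card_fin] at h8
      rw [hS, h6] at h7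
      norm_num at h7 h8
      omega
    omega
  have hex : ∃ i0, y i0 = 3 ∨ y i0 = -3 := by
    by_contra hcon
    push Not at hcon
    have h1 : ∀ i, y i ^ 2 = 1 := by
      intro i
      rcases hval i with h | h
      · rcases h with h | h <;> rw [h] <;> norm_num
      · have := hcon i
        omega
    simp only [h1] at hS
    simp at hS
  obtain ⟨i0, hi0⟩ := hex
  refine ⟨i0, hi0, ?_⟩
  intro i hi
  by_contra hcon
  have hi3 : y i = 3 ∨ y i = -3 := by
    rcases hval i with h | h
    · exact absurd h hcon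
    · exact h
  have hsq : ∀ k, (y k = 3 ∨ y k = -3) → y k ^ 2 = 9 := by
    intro k hk
    rcases hk with hk | hk <;> rw [hk] <;> norm_num
  have h1 : ∑ k, y k ^ 2 = y i0 ^ 2 + (y i ^ 2 + ∑ k ∈ (Finset.univ.erase i0).erase i, y k ^ 2) := by
    rw [Finset.add_sum_erase (Finset.univ.erase i0) (fun k => y k ^ 2)
        (Finset.mem_erase.2 ⟨hi, Finset.mem_univ i⟩),
      Finset.add_sum_erase Finset.univ (fun k => y k ^ 2) (Finset.mem_univ i0)]
  have h8 : (((Finset.univ.erase i0).erase i).card : ℤ) ≤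
      ∑ k ∈ (Finset.univ.erase i0).erase i, y k ^ 2 := by
    rw [Finset.card_eq_sum_ones]
    push_cast
    apply Finset.sum_le_sum
    intro k _
    have := hodd k
    have h9 : y k ≠ 0 := by omega
    have := sq_pos_of_ne_zero h9
    omega
  rw [Finset.card_erase_of_mem (Finset.mem_erase.2 ⟨hi, Finset.mem_univ i⟩),
    Finset.card_erase_of_mem (Finset.mem_univ i0), Finset.card_univ, Fintype.card_fin] at h8
  rw [hS, hsq i0 hi0, hsq i hi3] at h1
  norm_num at h8
  omega

/-- The odd vectors. -/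
theorem card_two (h : Coord Λ) (S : Finset (Fin 24 → ℤ)) (hS : ∀ y ∈ S, ∑ i, y i ^ 2 = 32)
    (hΛ : ∀ y ∈ S, y ∈ Λ) (h2 : ∀ y ∈ S, ¬ ∀ i, (2 : ℤ) ∣ y i) :
    S.card ≤ 24 * Nat.card (code Λ) := by
  classical
  rcases S.eq_empty_or_nonempty with rfl | ⟨y0, hy0⟩
  · simp
  have hodd : ∀ y ∈ S, ∀ i, y i % 2 = 1 := by
    intro y hy i
    have := h2 y hy
    push Not at this
    obtain ⟨j, hj⟩ := this
    have := h.par y (hΛ y hy) i j
    omega
  have hstr : ∀ y ∈ S, ∃ i0, (y i0 = 3 ∨ y i0 = -3) ∧ ∀ i, i ≠ i0 → y i = 1 ∨ y i = -1 :=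
    fun y hy => odd_vector h (hΛ y hy) (hS y hy) (h2 y hy)
  let pos : (Fin 24 → ℤ) → Fin 24 := fun y => if hy : y ∈ S then (hstr y hy).choose else 0
  have hpos : ∀ y ∈ S, (y (pos y) = 3 ∨ y (pos y) = -3) ∧ ∀ i, i ≠ pos y → y i = 1 ∨ y i = -1 := by
    intro y hy
    simp only [pos, dif_pos hy]
    exact (hstr y hy).choose_spec
  let word : (Fin 24 → ℤ) → (Fin 24 → ZMod 2) := fun y i => (((y i - y0 i) / 2 : ℤ) : ZMod 2)
  have hword : ∀ y ∈ S, word y ∈ code Λ := by
    intro y hy
    refine ⟨fun i => (y i - y0 i) / 2, ?_, fun i => rfl⟩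
    convert Λ.sub_mem (hΛ y hy) (hΛ y0 hy0) using 1
    funext i
    have := hodd y hy i
    have := hodd y0 hy0 i
    simp only [Pi.sub_apply]
    omega
  have hfin : (Finset.univ : Finset (Fin 24 × code Λ)).card = 24 * Nat.card (code Λ) := by
    rw [Finset.card_univ, Fintype.card_prod, Fintype.card_fin, Nat.card_eq_fintype_card]
  rw [← hfin]
  let F : (Fin 24 → ℤ) → Fin 24 × code Λ := fun y =>
    (pos y, if hy : y ∈ S then ⟨word y, hword y hy⟩ else 0)
  apply Finset.card_le_card_of_injOn F (fun y _ => Finset.mem_coe.2 (Finset.mem_univ _))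
  intro y hy y' hy' he
  have hy : y ∈ S := hy
  have hy' : y' ∈ S := hy'
  simp only [F, Prod.mk.injEq, dif_pos hy, dif_pos hy', Subtype.mk.injEq] at he
  obtain ⟨he1, he2⟩ := he
  have hmod : ∀ i, (4 : ℤ) ∣ y i - y' i := by
    intro i
    have h1 : (((y i - y0 i) / 2 : ℤ) : ZMod 2) = (((y' i - y0 i) / 2 : ℤ) : ZMod 2) :=
      congrFun he2 i
    have h3 : ((((y i - y0 i) / 2 - (y' i - y0 i) / 2 : ℤ)) : ZMod 2) = 0 := by
      rw [Int.cast_sub, h1, sub_self]
    rw [cast_eq_zero_iff] at h3
    have := hodd y hy i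
    have := hodd y' hy' i
    have := hodd y0 hy0 i
    omega
  funext i
  have h1 := hpos y hy
  have h3 := hpos y' hy'
  rw [← he1] at h3
  have h4 := hmod i
  by_cases hi : i = pos y
  · rw [hi] at h4 ⊢
    have h5 := h1.1
    have h6 := h3.1
    omega
  · have h5 := h1.2 i hi
    have h6 := h3.2 i hi
    omega

/-- If there are 196560 minimal vectors, the code has dimension 12, and there is an odd vector. -/
theorem main (h : Coord Λ) (hM : {y : Fin 24 → ℤ | y ∈ Λ ∧ ∑ i, y i ^ 2 = 32}.ncard = 196560) :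
    Module.finrank (ZMod 2) (code Λ) = 12 ∧ ∃ y ∈ Λ, ∃ i0, (y i0 = 3 ∨ y i0 = -3) ∧
      ∀ i, i ≠ i0 → y i = 1 ∨ y i = -1 := by
  classical
  have hfin : {y : Fin 24 → ℤ | y ∈ Λ ∧ ∑ i, y i ^ 2 = 32}.Finite :=
    Set.finite_of_ncard_ne_zero (by rw [hM]; norm_num)
  let S := hfin.toFinset
  have hSm : ∀ y, y ∈ S ↔ y ∈ Λ ∧ ∑ i, y i ^ 2 = 32 := fun y => by
    simp only [S, Set.Finite.mem_toFinset, Set.mem_ofPred_eq]
  have hScard : S.card = 196560 := by
    rw [← hM, Set.ncard_eq_toFinset_card _ hfin]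
  let Se := S.filter fun y => ∀ i, (2 : ℤ) ∣ y i
  let So := S.filter fun y => ¬ ∀ i, (2 : ℤ) ∣ y i
  let S0 := Se.filter fun y => ∀ i, (4 : ℤ) ∣ y i
  let S1 := Se.filter fun y => ¬ ∀ i, (4 : ℤ) ∣ y i
  have hc1 : Se.card + So.card = S.card := Finset.card_filter_add_card_filter_not _
  have hc2 : S0.card + S1.card = Se.card := Finset.card_filter_add_card_filter_not _
  have hb0 : S0.card ≤ 1104 := card_zero S0
    (fun y hy => ((hSm y).1 (Finset.mem_filter.1 (Finset.mem_filter.1 hy).1).1).2)
    (fun y hy => (Finset.mem_filter.1 hy).2)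
  have hb1 : S1.card ≤ 128 * (octs (code Λ)).card := card_one h S1
    (fun y hy => ((hSm y).1 (Finset.mem_filter.1 (Finset.mem_filter.1 hy).1).1).2)
    (fun y hy => ((hSm y).1 (Finset.mem_filter.1 (Finset.mem_filter.1 hy).1).1).1)
    (fun y hy => (Finset.mem_filter.1 (Finset.mem_filter.1 hy).1).2)
    (fun y hy => (Finset.mem_filter.1 hy).2)
  have hb2 : So.card ≤ 24 * Nat.card (code Λ) := card_two h So
    (fun y hy => ((hSm y).1 (Finset.mem_filter.1 hy).1).2)
    (fun y hy => ((hSm y).1 (Finset.mem_filter.1 hy).1).1)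
    (fun y hy => (Finset.mem_filter.1 hy).2)
  have hoct := card_octs_le (code Λ) (fun w hw h0 => eight_le h hw h0)
  have hdim := finrank_le (code Λ) (fun v hv w hw => orth h hv hw)
  have hcard : Nat.card (code Λ) = 2 ^ Module.finrank (ZMod 2) (code Λ) := by
    rw [Module.natCard_eq_pow_finrank (K := ZMod 2), Nat.card_zmod]
  refine ⟨?_, ?_⟩
  · by_contra hne
    have hlt : Module.finrank (ZMod 2) (code Λ) ≤ 11 := by omega
    have h3 : Nat.card (code Λ) ≤ 2 ^ 11 := by
      rw [hcard]
      exact Nat.pow_le_pow_right (by norm_num) hlt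
    have h4 : (2 : ℕ) ^ 11 = 2048 := by norm_num
    rw [h4] at h3
    omega
  · have hne : So.Nonempty := by
      rw [← Finset.card_pos]
      omega
    obtain ⟨y, hy⟩ := hne
    have hy1 := (hSm y).1 (Finset.mem_filter.1 hy).1
    exact ⟨y, hy1.1, odd_vector h hy1.1 hy1.2 (Finset.mem_filter.1 hy).2⟩

end Cfsg.Agent.SporadicA.LeechCoordCount
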