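import Cfsg.Agent.SporadicA.M11Lines
import Cfsg.Agent.SporadicA.SharpFour

/-!
# A group of order 7920 of automorphisms of a graph with parameters (55, 18, 9, 4)

If `G` is a simple group of order 7920 acting on such a graph and the fixed point numbers on
vertices of elements of order 3, 5, 11 are at most 1, 0, 0, then `G` acts sharply 4-transitively on
the eleven 10-cliques.
-/

set_option autoImplicit false

namespace Cfsg.Agent.SporadicA.M11Action

open Finset Cfsg.Agent.SporadicA.M11Graph Cfsg.Agent.SporadicA.M11Lines
open Cfsg.Agent.SporadicA.SharpFour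

variable {V : Type*} [Fintype V] [DecidableEq V] (Γ : SimpleGraph V) [DecidableRel Γ.Adj]
variable (G : Type*) [Group G] [MulAction G V]

/-- The type of lines (10-cliques). -/
def Line : Type _ := {c : Finset V // IsLine Γ c}

noncomputable instance lineFintype : Fintype (Line Γ) := by
  classical
  exact Subtype.fintype _

noncomputable instance lineDecEq : DecidableEq (Line Γ) := Classical.decEq _

theorem card_line (h : Γ.IsSRGWith 55 18 9 4) : Fintype.card (Line Γ) = 11 := by
  rw [← card_lines h, ← Fintype.card_coe]
  apply Fintype.card_congr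
  exact Equiv.subtypeEquivRight fun c => mem_lines.symm

variable {Γ G}

theorem isLine_image {g : G} (hG : ∀ (g : G) (a b : V), Γ.Adj a b → Γ.Adj (g • a) (g • b))
    {c : Finset V} (hc : IsLine Γ c) : IsLine Γ (c.image fun a => g • a) := by
  refine ⟨by rw [card_image_of_injective _ (MulAction.injective g), hc.1], ?_⟩
  intro a ha b hb hab
  rw [mem_image] at ha hb
  obtain ⟨a', ha', rfl⟩ := ha
  obtain ⟨b', hb', rfl⟩ := hb
  exact hG g a' b' (hc.2 a' ha' b' hb' (fun h => hab (by rw [h])))

/-- The action on lines. -/
def lineAction (hG : ∀ (g : G) (a b : V), Γ.Adj a b → Γ.Adj (g • a) (g • b)) :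
    MulAction G (Line Γ) where
  smul g c := ⟨c.1.image fun a => g • a, isLine_image hG c.2⟩
  one_smul c := by
    apply Subtype.ext
    show c.1.image (fun a => (1 : G) • a) = c.1
    simp
  mul_smul g k c := by
    apply Subtype.ext
    show c.1.image (fun a => (g * k) • a) = (c.1.image fun a => k • a).image fun a => g • a
    rw [image_image]
    congr 1
    funext a
    exact mul_smul g k a

end Cfsg.Agent.SporadicA.M11Action
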