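import Mathlib

/-!
# The local structure of a strongly regular graph with parameters (55, 18, 9, 4)

The neighbourhood of every vertex is a disjoint union of two 9-cliques, hence the graph has exactly
eleven 10-cliques, every vertex lies in exactly two of them and every edge in exactly one.
-/

set_option autoImplicit false

namespace Cfsg.Agent.SporadicA.M11Graph

open Finset

variable {V : Type*} [Fintype V] [DecidableEq V] (Γ : SimpleGraph V) [DecidableRel Γ.Adj]

/-- What we use about the neighbourhood `N` of a vertex. -/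
structure Local (N : Finset V) : Prop where
  card : N.card = 18
  deg : ∀ x ∈ N, (N.filter (Γ.Adj x)).card = 9
  codeg : ∀ x ∈ N, ∀ y ∈ N, x ≠ y → ¬ Γ.Adj x y →
    (N.filter fun a => Γ.Adj x a ∧ Γ.Adj y a).card ≤ 3

variable {Γ} {N : Finset V}

theorem Local.no_claw (h : Local Γ N) {x y z : V} (hx : x ∈ N) (hy : y ∈ N) (hz : z ∈ N)
    (hxy : x ≠ y) (hxz : x ≠ z) (hyz : y ≠ z) (nxy : ¬ Γ.Adj x y) (nxz : ¬ Γ.Adj x z)
    (nyz : ¬ Γ.Adj y z) : False := by
  set nx := N.filter (Γ.Adj x) with hnx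
  set ny := N.filter (Γ.Adj y) with hny
  set nz := N.filter (Γ.Adj z) with hnz
  have cx : nx.card = 9 := h.deg x hx
  have cy : ny.card = 9 := h.deg y hy
  have cz : nz.card = 9 := h.deg z hz
  have ixy : (nx ∩ ny).card ≤ 3 := by
    rw [hnx, hny, ← filter_and]; exact h.codeg x hx y hy hxy nxy
  have ixz : (nx ∩ nz).card ≤ 3 := by
    rw [hnx, hnz, ← filter_and]; exact h.codeg x hx z hz hxz nxz
  have iyz : (ny ∩ nz).card ≤ 3 := by
    rw [hny, hnz, ← filter_and]; exact h.codeg y hy z hz hyz nyz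
  have hsub : nx ∪ ny ∪ nz ⊆ N \ {x, y, z} := by
    intro a ha
    simp only [hnx, hny, hnz, mem_union, mem_filter] at ha
    rw [mem_sdiff]
    simp only [mem_insert, mem_singleton, not_or]
    rcases ha with (⟨h1, h2⟩ | ⟨h1, h2⟩) | ⟨h1, h2⟩
    · refine ⟨h1, ?_, ?_, ?_⟩
      · rintro rfl; exact Γ.irrefl h2
      · rintro rfl; exact nxy h2
      · rintro rfl; exact nxz h2
    · refine ⟨h1, ?_, ?_, ?_⟩
      · rintro rfl; exact nxy h2.symm
      · rintro rfl; exact Γ.irrefl h2
      · rintro rfl; exact nyz h2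
    · refine ⟨h1, ?_, ?_, ?_⟩
      · rintro rfl; exact nxz h2.symm
      · rintro rfl; exact nyz h2.symm
      · rintro rfl; exact Γ.irrefl h2
  have hc3 : ({x, y, z} : Finset V).card = 3 := by
    rw [card_eq_three]; exact ⟨x, y, z, hxy, hxz, hyz, rfl⟩
  have hcard := card_le_card hsub
  rw [card_sdiff_of_subset (by
    intro a ha
    simp only [mem_insert, mem_singleton] at ha
    rcases ha with rfl | rfl | rfl <;> assumption), h.card, hc3] at hcard
  have e1 := card_union_add_card_inter nx ny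
  have e2 := card_union_add_card_inter (nx ∪ ny) nz
  have e3 : ((nx ∪ ny) ∩ nz).card ≤ (nx ∩ nz).card + (ny ∩ nz).card := by
    rw [union_inter_distrib_right]; exact card_union_le _ _
  omega

/-- The non-neighbours of `x` in `N`. -/
def non (Γ : SimpleGraph V) [DecidableRel Γ.Adj] (N : Finset V) (x : V) : Finset V :=
  N.filter fun a => ¬ Γ.Adj x a ∧ a ≠ x

theorem mem_non {x a : V} : a ∈ non Γ N x ↔ a ∈ N ∧ ¬ Γ.Adj x a ∧ a ≠ x := by
  rw [non, mem_filter]

theorem Local.card_non (h : Local Γ N) {x : V} (hx : x ∈ N) : (non Γ N x).card = 8 := by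
  have h1 := card_filter_add_card_filter_not (s := N) (p := Γ.Adj x)
  rw [h.deg x hx, h.card] at h1
  have h2 : non Γ N x = (N.filter fun a => ¬ Γ.Adj x a).erase x := by
    ext a
    rw [mem_non, mem_erase, mem_filter]
    tauto
  rw [h2, card_erase_of_mem (by rw [mem_filter]; exact ⟨hx, Γ.irrefl⟩)]
  omega

theorem Local.non_clique (h : Local Γ N) {x : V} (hx : x ∈ N) :
    ∀ a ∈ non Γ N x, ∀ b ∈ non Γ N x, a ≠ b → Γ.Adj a b := by
  intro a ha b hb hab
  rw [mem_non] at ha hb
  by_contra hcon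
  exact h.no_claw hx ha.1 hb.1 ha.2.2.symm hb.2.2.symm hab ha.2.1 hb.2.1 hcon

/-- auxiliary configuration: `A = non x`, `B = non y`. -/
structure Conf (Γ : SimpleGraph V) [DecidableRel Γ.Adj] (N A B : Finset V) (p q : V) : Prop where
  loc : Local Γ N
  cardA : A.card = 8
  cardB : B.card = 8
  subA : A ⊆ N
  subB : B ⊆ N
  clA : ∀ a ∈ A, ∀ b ∈ A, a ≠ b → Γ.Adj a b
  clB : ∀ a ∈ B, ∀ b ∈ B, a ≠ b → Γ.Adj a b
  disj : Disjoint A B
  pN : p ∈ N
  qN : q ∈ N
  pA : p ∉ A
  pB : p ∉ B
  qA : q ∉ A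
  qB : q ∉ B
  pq : p ≠ q
  cover : ∀ a ∈ N, a ∈ A ∨ a ∈ B ∨ a = p ∨ a = q

variable {A B : Finset V} {p q : V}

theorem Conf.swapAB (c : Conf Γ N A B p q) : Conf Γ N B A p q where
  loc := c.loc
  cardA := c.cardB
  cardB := c.cardA
  subA := c.subB
  subB := c.subA
  clA := c.clB
  clB := c.clA
  disj := c.disj.symm
  pN := c.pN
  qN := c.qN
  pA := c.pB
  pB := c.pA
  qA := c.qB
  qB := c.qA
  pq := c.pq
  cover := fun a ha => by
    rcases c.cover a ha with h | h | h | h
    · exact Or.inr (Or.inl h)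
    · exact Or.inl h
    · exact Or.inr (Or.inr (Or.inl h))
    · exact Or.inr (Or.inr (Or.inr h))

theorem Conf.swappq (c : Conf Γ N A B p q) : Conf Γ N A B q p where
  loc := c.loc
  cardA := c.cardA
  cardB := c.cardB
  subA := c.subA
  subB := c.subB
  clA := c.clA
  clB := c.clB
  disj := c.disj
  pN := c.qN
  qN := c.pN
  pA := c.qA
  pB := c.qB
  qA := c.pA
  qB := c.pB
  pq := c.pq.symm
  cover := fun a ha => by
    rcases c.cover a ha with h | h | h | h
    · exact Or.inl h
    · exact Or.inr (Or.inl h)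
    · exact Or.inr (Or.inr (Or.inr h))
    · exact Or.inr (Or.inr (Or.inl h))

/-- An element of `A` has at least 6 non-neighbours in `B`. -/
theorem Conf.six_le (c : Conf Γ N A B p q) {a : V} (ha : a ∈ A) :
    6 ≤ (non Γ N a ∩ B).card := by
  have haN := c.subA ha
  have h8 := c.loc.card_non haN
  have hsub : non Γ N a ⊆ (non Γ N a ∩ B) ∪ {p, q} := by
    intro b hb
    have hb' := mem_non.1 hb
    rw [mem_union, mem_inter, mem_insert, mem_singleton]
    rcases c.cover b hb'.1 with h | h | h | h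
    · exact absurd (c.clA a ha b h hb'.2.2.symm) hb'.2.1
    · exact Or.inl ⟨hb, h⟩
    · exact Or.inr (Or.inl h)
    · exact Or.inr (Or.inr h)
  have h1 := card_le_card hsub
  have h2 := card_union_le (non Γ N a ∩ B) {p, q}
  have h3 : ({p, q} : Finset V).card = 2 := card_pair c.pq
  omega

theorem Conf.two_ge (c : Conf Γ N A B p q) {a : V} (ha : a ∈ A) (hpa : ¬ Γ.Adj p a) :
    (non Γ N p ∩ B).card ≤ 2 := by
  have h6 := c.six_le ha
  have haN := c.subA ha
  have hdis : Disjoint (non Γ N a ∩ B) (non Γ N p ∩ B) := by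
    rw [disjoint_left]
    intro b hb1 hb2
    rw [mem_inter, mem_non] at hb1 hb2
    have hap : a ≠ p := by rintro rfl; exact c.pA ha
    refine c.loc.no_claw c.pN haN hb1.1.1 hap.symm hb2.1.2.2.symm hb1.1.2.2.symm hpa
      hb2.1.2.1 hb1.1.2.1
  have hsub : (non Γ N a ∩ B) ∪ (non Γ N p ∩ B) ⊆ B :=
    union_subset inter_subset_right inter_subset_right
  have h1 := card_le_card hsub
  rw [card_union_of_disjoint hdis, c.cardB] at h1
  omega

/-- `p` is adjacent to all of `B` or to all of `A`. -/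
theorem Conf.all_or (c : Conf Γ N A B p q) :
    (∀ b ∈ B, Γ.Adj p b) ∨ (∀ a ∈ A, Γ.Adj p a) := by
  by_contra hcon
  push_neg at hcon
  obtain ⟨⟨b, hb, hpb⟩, ⟨a, ha, hpa⟩⟩ := hcon
  have h1 := c.two_ge ha hpa
  have h2 := c.swapAB.two_ge hb hpb
  have h8 := c.loc.card_non c.pN
  have hsub : non Γ N p ⊆ ((non Γ N p ∩ B) ∪ (non Γ N p ∩ A)) ∪ {q} := by
    intro r hr
    have hr' := mem_non.1 hr
    rw [mem_union, mem_union, mem_inter, mem_inter, mem_singleton]
    rcases c.cover r hr'.1 with h | h | h | h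
    · exact Or.inl (Or.inr ⟨hr, h⟩)
    · exact Or.inl (Or.inl ⟨hr, h⟩)
    · exact absurd h hr'.2.2
    · exact Or.inr h
  have h3 := card_le_card hsub
  have h4 := card_union_le ((non Γ N p ∩ B) ∪ (non Γ N p ∩ A)) {q}
  have h5 := card_union_le (non Γ N p ∩ B) (non Γ N p ∩ A)
  rw [card_singleton] at h4
  omega

/-- `p` and `q` are not both adjacent to all of `B`. -/
theorem Conf.not_both (c : Conf Γ N A B p q) (hp : ∀ b ∈ B, Γ.Adj p b)
    (hq : ∀ b ∈ B, Γ.Adj q b) : False := by
  have hnonb : ∀ b ∈ B, non Γ N b = A := by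
    intro b hb
    apply eq_of_subset_of_card_le
    · intro a ha
      have ha' := mem_non.1 ha
      rcases c.cover a ha'.1 with h | h | h | h
      · exact h
      · exact absurd (c.clB b hb a h ha'.2.2.symm) ha'.2.1
      · subst h; exact absurd (hp b hb).symm ha'.2.1
      · subst h; exact absurd (hq b hb).symm ha'.2.1
    · rw [c.loc.card_non (c.subB hb), c.cardA]
  have hnona : ∀ a ∈ A, non Γ N a = B := by
    intro a ha
    symm
    apply eq_of_subset_of_card_le
    · intro b hb
      have : a ∈ non Γ N b := by rw [hnonb b hb]; exact ha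
      rw [mem_non] at this ⊢
      exact ⟨c.subB hb, fun h => this.2.1 h.symm, this.2.2.symm⟩
    · rw [c.loc.card_non (c.subA ha), c.cardB]
  have hpa : ∀ a ∈ A, Γ.Adj p a := by
    intro a ha
    by_contra hcon
    have : p ∈ non Γ N a := by
      rw [mem_non]
      refine ⟨c.pN, fun h => hcon h.symm, ?_⟩
      rintro rfl
      exact c.pA ha
    rw [hnona a ha] at this
    exact c.pB this
  have hsub : A ∪ B ⊆ N.filter (Γ.Adj p) := by
    intro a ha
    rw [mem_union] at ha
    rw [mem_filter]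
    rcases ha with h | h
    · exact ⟨c.subA h, hpa a h⟩
    · exact ⟨c.subB h, hp a h⟩
  have h1 := card_le_card hsub
  rw [card_union_of_disjoint c.disj, c.cardA, c.cardB, c.loc.deg p c.pN] at h1
  omega

theorem Conf.finish (c : Conf Γ N A B p q) (hp : ∀ b ∈ B, Γ.Adj p b) (hq : ∀ a ∈ A, Γ.Adj q a) :
    ∃ K L : Finset V, Disjoint K L ∧ K ∪ L = N ∧ K.card = 9 ∧ L.card = 9 ∧
      (∀ a ∈ K, ∀ b ∈ K, a ≠ b → Γ.Adj a b) ∧ (∀ a ∈ L, ∀ b ∈ L, a ≠ b → Γ.Adj a b) := by
  refine ⟨insert p B, insert q A, ?_, ?_, ?_, ?_, ?_, ?_⟩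
  · rw [disjoint_left]
    intro a ha hb
    rw [mem_insert] at ha hb
    rcases ha with rfl | ha <;> rcases hb with h | hb
    · exact c.pq h
    · exact c.pA hb
    · subst h; exact c.qB ha
    · exact (disjoint_left.1 c.disj) hb ha
  · ext a
    rw [mem_union, mem_insert, mem_insert]
    constructor
    · rintro ((rfl | h) | (rfl | h))
      · exact c.pN
      · exact c.subB h
      · exact c.qN
      · exact c.subA h
    · intro ha
      rcases c.cover a ha with h | h | h | h
      · exact Or.inr (Or.inr h)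
      · exact Or.inl (Or.inr h)
      · exact Or.inl (Or.inl h)
      · exact Or.inr (Or.inl h)
  · rw [card_insert_of_notMem c.pB, c.cardB]
  · rw [card_insert_of_notMem c.qA, c.cardA]
  · intro a ha b hb hab
    rw [mem_insert] at ha hb
    rcases ha with rfl | ha <;> rcases hb with h | hb
    · exact absurd h.symm hab
    · exact hp b hb
    · subst h; exact (hp a ha).symm
    · exact c.clB a ha b hb hab
  · intro a ha b hb hab
    rw [mem_insert] at ha hb
    rcases ha with rfl | ha <;> rcases hb with h | hb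
    · exact absurd h.symm hab
    · exact hq b hb
    · subst h; exact (hq a ha).symm
    · exact c.clA a ha b hb hab

theorem Local.split (h : Local Γ N) :
    ∃ K L : Finset V, Disjoint K L ∧ K ∪ L = N ∧ K.card = 9 ∧ L.card = 9 ∧
      (∀ a ∈ K, ∀ b ∈ K, a ≠ b → Γ.Adj a b) ∧ (∀ a ∈ L, ∀ b ∈ L, a ≠ b → Γ.Adj a b) := by
  obtain ⟨x, hx⟩ : N.Nonempty := card_pos.1 (by rw [h.card]; norm_num)
  have hA8 := h.card_non hx
  obtain ⟨y, hy⟩ : (non Γ N x).Nonempty := card_pos.1 (by rw [hA8]; norm_num)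
  have hy' := mem_non.1 hy
  have hB8 := h.card_non hy'.1
  have hdisj : Disjoint (non Γ N x) (non Γ N y) := by
    rw [disjoint_left]
    intro a ha hb
    have ha' := mem_non.1 ha
    have hb' := mem_non.1 hb
    exact h.no_claw hx hy'.1 ha'.1 hy'.2.2.symm ha'.2.2.symm hb'.2.2.symm hy'.2.1 ha'.2.1 hb'.2.1
  have hsub : non Γ N x ∪ non Γ N y ⊆ N := by
    apply union_subset <;> exact filter_subset _ _
  have hR : (N \ (non Γ N x ∪ non Γ N y)).card = 2 := by
    rw [card_sdiff_of_subset hsub, card_union_of_disjoint hdisj, hA8, hB8, h.card]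
  obtain ⟨p, q, hpq, hRe⟩ := card_eq_two.1 hR
  have hp : p ∈ N \ (non Γ N x ∪ non Γ N y) := by rw [hRe]; simp
  have hq : q ∈ N \ (non Γ N x ∪ non Γ N y) := by rw [hRe]; simp
  rw [mem_sdiff, mem_union, not_or] at hp hq
  have c : Conf Γ N (non Γ N x) (non Γ N y) p q :=
    { loc := h
      cardA := hA8
      cardB := hB8
      subA := filter_subset _ _
      subB := filter_subset _ _
      clA := h.non_clique hx
      clB := h.non_clique hy'.1
      disj := hdisj
      pN := hp.1
      qN := hq.1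
      pA := hp.2.1
      pB := hp.2.2
      qA := hq.2.1
      qB := hq.2.2
      pq := hpq
      cover := fun a ha => by
        by_cases hc : a ∈ non Γ N x ∪ non Γ N y
        · rw [mem_union] at hc
          rcases hc with hc | hc
          · exact Or.inl hc
          · exact Or.inr (Or.inl hc)
        · have : a ∈ N \ (non Γ N x ∪ non Γ N y) := by rw [mem_sdiff]; exact ⟨ha, hc⟩
          rw [hRe, mem_insert, mem_singleton] at this
          exact Or.inr (Or.inr this) }
  rcases c.all_or with h1 | h1 <;> rcases c.swappq.all_or with h2 | h2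
  · exact (c.not_both h1 h2).elim
  · exact c.finish h1 h2
  · exact c.swappq.finish h2 h1
  · exact (c.swapAB.not_both h1 h2).elim

end Cfsg.Agent.SporadicA.M11Graph
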