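import Cfsg.Agent.SporadicA.M11Graph

/-!
# The eleven 10-cliques of a strongly regular graph with parameters (55, 18, 9, 4)
-/

set_option autoImplicit false

namespace Cfsg.Agent.SporadicA.M11Lines

open Finset Cfsg.Agent.SporadicA.M11Graph

variable {V : Type*} [Fintype V] [DecidableEq V] {Γ : SimpleGraph V} [DecidableRel Γ.Adj]

theorem card_common (v w : V) :
    Fintype.card (Γ.commonNeighbors v w) = (univ.filter fun a => Γ.Adj v a ∧ Γ.Adj w a).card := by
  rw [Fintype.card_subtype]
  congr 1

theorem local_of_srg (h : Γ.IsSRGWith 55 18 9 4) (v : V) :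
    Local Γ (univ.filter (Γ.Adj v)) where
  card := by
    have := h.regular v
    rw [← Γ.card_neighborFinset_eq_degree] at this
    rw [← this]
    congr 1
    ext a
    simp
  deg := by
    intro x hx
    rw [mem_filter] at hx
    have := h.of_adj v x hx.2
    rw [card_common] at this
    rw [filter_filter]
    exact this
  codeg := by
    intro x hx y hy hxy hadj
    rw [mem_filter] at hx hy
    have := h.of_not_adj hxy hadj
    rw [card_common] at this
    have hsub : ((univ.filter (Γ.Adj v)).filter fun a => Γ.Adj x a ∧ Γ.Adj y a) ⊆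
        (univ.filter fun a => Γ.Adj x a ∧ Γ.Adj y a).erase v := by
      intro a ha
      rw [mem_filter, mem_filter] at ha
      rw [mem_erase, mem_filter]
      refine ⟨?_, mem_univ _, ha.2⟩
      rintro rfl
      exact Γ.irrefl ha.1.2
    have h1 := card_le_card hsub
    rw [card_erase_of_mem (by
      rw [mem_filter]; exact ⟨mem_univ _, hx.2.symm, hy.2.symm⟩), this] at h1
    omega

/-- A line is a 10-clique. -/
def IsLine (Γ : SimpleGraph V) (c : Finset V) : Prop :=
  c.card = 10 ∧ ∀ a ∈ c, ∀ b ∈ c, a ≠ b → Γ.Adj a b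

/-- Through each vertex there are exactly two lines, and they cover all neighbours. -/
theorem lines_through (h : Γ.IsSRGWith 55 18 9 4) (v : V) :
    ∃ c₁ c₂ : Finset V, c₁ ≠ c₂ ∧ IsLine Γ c₁ ∧ IsLine Γ c₂ ∧ v ∈ c₁ ∧ v ∈ c₂ ∧
      (∀ w, w ∈ c₁ → w ∈ c₂ → w = v) ∧ (∀ w, Γ.Adj v w → w ∈ c₁ ∨ w ∈ c₂) ∧
      ∀ c, IsLine Γ c → v ∈ c → c = c₁ ∨ c = c₂ := by
  have hloc := local_of_srg h v
  obtain ⟨K, L, hdis, hun, hK, hL, clK, clL⟩ := hloc.split
  have hmem : ∀ a, a ∈ K ∨ a ∈ L ↔ Γ.Adj v a := by
    intro a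
    rw [← mem_union, hun, mem_filter]
    simp
  have hvK : v ∉ K := fun h1 => Γ.irrefl ((hmem v).1 (Or.inl h1))
  have hvL : v ∉ L := fun h1 => Γ.irrefl ((hmem v).1 (Or.inr h1))
  have hKN : K ⊆ univ.filter (Γ.Adj v) := by rw [← hun]; exact subset_union_left
  have hLN : L ⊆ univ.filter (Γ.Adj v) := by rw [← hun]; exact subset_union_right
  -- at most one neighbour in the other clique
  have one_le : ∀ K L : Finset V, Disjoint K L → K ⊆ univ.filter (Γ.Adj v) →
      L ⊆ univ.filter (Γ.Adj v) → L.card = 9 → (∀ a ∈ L, ∀ b ∈ L, a ≠ b → Γ.Adj a b) →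
      ∀ b ∈ L, (K.filter (Γ.Adj b)).card ≤ 1 := by
    intro K L hdis hKN hLN hL clL b hb
    have h9 := hloc.deg b (hLN hb)
    have hsub : K.filter (Γ.Adj b) ∪ L.erase b ⊆ (univ.filter (Γ.Adj v)).filter (Γ.Adj b) := by
      intro a ha
      rw [mem_union, mem_filter, mem_erase] at ha
      rw [mem_filter]
      rcases ha with ha | ha
      · exact ⟨hKN ha.1, ha.2⟩
      · exact ⟨hLN ha.2, clL b hb a ha.2 ha.1.symm⟩
    have hd : Disjoint (K.filter (Γ.Adj b)) (L.erase b) :=
      disjoint_of_subset_left (filter_subset _ _)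
        (disjoint_of_subset_right (erase_subset _ _) hdis)
    have h1 := card_le_card hsub
    rw [card_union_of_disjoint hd, card_erase_of_mem hb, h9, hL] at h1
    omega
  have lineK : IsLine Γ (insert v K) := by
    refine ⟨by rw [card_insert_of_notMem hvK, hK], ?_⟩
    intro a ha b hb hab
    rw [mem_insert] at ha hb
    rcases ha with rfl | ha <;> rcases hb with h1 | hb
    · exact absurd h1.symm hab
    · exact (hmem b).1 (Or.inl hb)
    · subst h1; exact ((hmem a).1 (Or.inl ha)).symm
    · exact clK a ha b hb hab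
  have lineL : IsLine Γ (insert v L) := by
    refine ⟨by rw [card_insert_of_notMem hvL, hL], ?_⟩
    intro a ha b hb hab
    rw [mem_insert] at ha hb
    rcases ha with rfl | ha <;> rcases hb with h1 | hb
    · exact absurd h1.symm hab
    · exact (hmem b).1 (Or.inr hb)
    · subst h1; exact ((hmem a).1 (Or.inr ha)).symm
    · exact clL a ha b hb hab
  refine ⟨insert v K, insert v L, ?_, lineK, lineL, mem_insert_self _ _, mem_insert_self _ _,
    ?_, ?_, ?_⟩
  · intro he
    obtain ⟨a, ha⟩ : K.Nonempty := card_pos.1 (by rw [hK]; norm_num)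
    have h1 : a ∈ insert v L := by rw [← he]; exact mem_insert_of_mem ha
    rw [mem_insert] at h1
    rcases h1 with rfl | h1
    · exact hvK ha
    · exact (disjoint_left.1 hdis) ha h1
  · intro w h1 h2
    rw [mem_insert] at h1 h2
    rcases h1 with rfl | h1
    · rfl
    · rcases h2 with rfl | h2
      · rfl
      · exact absurd h2 ((disjoint_left.1 hdis) h1)
  · intro w hw
    rcases (hmem w).2 hw with h1 | h1
    · exact Or.inl (mem_insert_of_mem h1)
    · exact Or.inr (mem_insert_of_mem h1)
  · intro c hc hvc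
    have hsubc : ∀ a ∈ c.erase v, a ∈ K ∨ a ∈ L := by
      intro a ha
      rw [mem_erase] at ha
      exact (hmem a).2 (hc.2 v hvc a ha.2 ha.1.symm)
    have hc9 : (c.erase v).card = 9 := by rw [card_erase_of_mem hvc, hc.1]
    by_cases hKne : ∃ a ∈ c.erase v, a ∈ K
    · by_cases hLne : ∃ b ∈ c.erase v, b ∈ L
      · obtain ⟨a, hac, haK⟩ := hKne
        obtain ⟨b, hbc, hbL⟩ := hLne
        have h1 := one_le K L hdis hKN hLN hL clL b hbL
        have h2 := one_le L K hdis.symm hLN hKN hK clK a haK
        have hsub : c.erase v ⊆ K.filter (Γ.Adj b) ∪ L.filter (Γ.Adj a) := by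
          intro d hd
          rw [mem_union, mem_filter, mem_filter]
          rw [mem_erase] at hd hac hbc
          rcases hsubc d (by rw [mem_erase]; exact hd) with h3 | h3
          · left
            refine ⟨h3, hc.2 b hbc.2 d hd.2 ?_⟩
            rintro rfl
            exact (disjoint_left.1 hdis) h3 hbL
          · right
            refine ⟨h3, hc.2 a hac.2 d hd.2 ?_⟩
            rintro rfl
            exact (disjoint_left.1 hdis) haK h3
        have h3 := card_le_card hsub
        have h4 := card_union_le (K.filter (Γ.Adj b)) (L.filter (Γ.Adj a))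
        omega
      · left
        push_neg at hLne
        have hsub : c.erase v ⊆ K := fun a ha => (hsubc a ha).resolve_right (hLne a ha)
        have := eq_of_subset_of_card_le hsub (by rw [hc9, hK])
        rw [← this, insert_erase hvc]
    · right
      push_neg at hKne
      have hsub : c.erase v ⊆ L := fun a ha => (hsubc a ha).resolve_left (hKne a ha)
      have := eq_of_subset_of_card_le hsub (by rw [hc9, hL])
      rw [← this, insert_erase hvc]

/-- Two different lines share at most one vertex. -/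
theorem eq_of_two_mem (h : Γ.IsSRGWith 55 18 9 4) {c c' : Finset V} (hc : IsLine Γ c)
    (hc' : IsLine Γ c') {v w : V} (hvw : v ≠ w) (hv : v ∈ c) (hv' : v ∈ c') (hw : w ∈ c)
    (hw' : w ∈ c') : c = c' := by
  obtain ⟨c₁, c₂, hne, h1, h2, m1, m2, hint, hcov, hall⟩ := lines_through h v
  rcases hall c hc hv with rfl | rfl <;> rcases hall c' hc' hv' with rfl | rfl
  · rfl
  · exact absurd (hint w hw hw').symm hvw
  · exact absurd (hint w hw' hw).symm hvw
  · rfl

/-- The set of all lines. -/
noncomputable def lines (Γ : SimpleGraph V) : Finset (Finset V) := by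
  classical exact univ.filter fun c => IsLine Γ c

theorem mem_lines {c : Finset V} : c ∈ lines Γ ↔ IsLine Γ c := by
  unfold lines
  simp

theorem card_lines_through (h : Γ.IsSRGWith 55 18 9 4) (v : V) :
    ((lines Γ).filter fun c => v ∈ c).card = 2 := by
  obtain ⟨c₁, c₂, hne, h1, h2, m1, m2, hint, hcov, hall⟩ := lines_through h v
  rw [card_eq_two]
  refine ⟨c₁, c₂, hne, ?_⟩
  ext c
  rw [mem_filter, mem_lines, mem_insert, mem_singleton]
  constructor
  · rintro ⟨hc, hv⟩
    exact hall c hc hv
  · rintro (rfl | rfl)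
    · exact ⟨h1, m1⟩
    · exact ⟨h2, m2⟩

theorem card_lines (h : Γ.IsSRGWith 55 18 9 4) : (lines Γ).card = 11 := by
  have h1 := sum_card_bipartiteAbove_eq_sum_card_bipartiteBelow (s := (univ : Finset V))
    (t := lines Γ) (fun v c => v ∈ c)
  have h2 : ∀ v ∈ (univ : Finset V), (bipartiteAbove (fun v c => v ∈ c) (lines Γ) v).card = 2 :=
    fun v _ => card_lines_through h v
  have h3 : ∀ c ∈ lines Γ, (bipartiteBelow (fun v c => v ∈ c) (univ : Finset V) c).card = 10 := by
    intro c hc
    rw [mem_lines] at hc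
    rw [← hc.1]
    unfold bipartiteBelow
    congr 1
    ext a
    simp
  rw [sum_congr rfl h2, sum_congr rfl h3, sum_const, sum_const, card_univ, h.card] at h1
  simp only [smul_eq_mul] at h1
  omega

/-- Two different lines meet in exactly one vertex. -/
theorem card_inter (h : Γ.IsSRGWith 55 18 9 4) {c c' : Finset V} (hc : IsLine Γ c)
    (hc' : IsLine Γ c') (hne : c ≠ c') : (c ∩ c').card = 1 := by
  have hle : ∀ d ∈ (lines Γ).erase c, (c ∩ d).card ≤ 1 := by
    intro d hd
    rw [mem_erase, mem_lines] at hd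
    rw [card_le_one]
    intro v hv w hw
    rw [mem_inter] at hv hw
    by_contra hvw
    exact hd.1 (eq_of_two_mem h hd.2 hc hvw hv.2 hv.1 hw.2 hw.1)
  have hcl : ((lines Γ).erase c).card = 10 := by
    rw [card_erase_of_mem (mem_lines.2 hc), card_lines h]
  have hsum : ∑ d ∈ (lines Γ).erase c, (c ∩ d).card = 10 := by
    have h1 := sum_card_bipartiteAbove_eq_sum_card_bipartiteBelow (s := c)
      (t := (lines Γ).erase c) (fun v d => v ∈ d)
    have h2 : ∀ v ∈ c, (bipartiteAbove (fun v d => v ∈ d) ((lines Γ).erase c) v).card = 1 := by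
      intro v hv
      unfold bipartiteAbove
      rw [filter_erase, card_erase_of_mem (by rw [mem_filter, mem_lines]; exact ⟨hc, hv⟩),
        card_lines_through h v]
    have h3 : ∀ d ∈ (lines Γ).erase c, (bipartiteBelow (fun v d => v ∈ d) c d).card =
        (c ∩ d).card := by
      intro d _
      unfold bipartiteBelow
      rw [filter_mem_eq_inter]
    rw [sum_congr rfl h2, sum_congr rfl h3, sum_const, hc.1] at h1
    simpa using h1.symm
  have hd' : c' ∈ (lines Γ).erase c := by
    rw [mem_erase, mem_lines]; exact ⟨hne.symm, hc'⟩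
  by_contra hcon
  have hlt : ∑ d ∈ (lines Γ).erase c, (c ∩ d).card < ∑ d ∈ (lines Γ).erase c, 1 :=
    sum_lt_sum hle ⟨c', hd', lt_of_le_of_ne (hle c' hd') hcon⟩
  rw [hsum, sum_const, hcl] at hlt
  simp at hlt

theorem exists_unique_meet (h : Γ.IsSRGWith 55 18 9 4) {c c' : Finset V} (hc : IsLine Γ c)
    (hc' : IsLine Γ c') (hne : c ≠ c') : ∃! v, v ∈ c ∧ v ∈ c' := by
  obtain ⟨v, hv⟩ := card_eq_one.1 (card_inter h hc hc' hne)
  refine ⟨v, ?_, ?_⟩
  · have : v ∈ c ∩ c' := by rw [hv]; exact mem_singleton_self v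
    exact mem_inter.1 this
  · rintro w hw
    have : w ∈ c ∩ c' := mem_inter.2 hw
    rw [hv, mem_singleton] at this
    exact this

end Cfsg.Agent.SporadicA.M11Lines
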