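import Mathlib

/-!
# Parameters: a strongly regular graph with 55 vertices and valency 18 has parameters (55,18,9,4)
(integrality of the eigenvalue multiplicities).
-/

set_option autoImplicit false

namespace Cfsg.Agent.SporadicA.M11Param

open Matrix

/-- The trace of an idempotent real matrix is a natural number. -/
theorem exists_trace_eq {V : Type*} [Fintype V] [DecidableEq V] (P : Matrix V V ℝ)
    (hP : P * P = P) : ∃ m : ℕ, P.trace = m := by
  have h1 : IsIdempotentElem (Matrix.toLin' P) := by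
    show Matrix.toLin' P * Matrix.toLin' P = Matrix.toLin' P
    have := Matrix.toLin'_mul P P
    rw [hP] at this
    exact this.symm
  have h2 := LinearMap.IsIdempotentElem.isProj_range (Matrix.toLin' P) h1
  refine ⟨Module.finrank ℝ (LinearMap.range (Matrix.toLin' P)), ?_⟩
  rw [← h2.trace, Matrix.trace_toLin'_eq]

/-- Integrality of multiplicities, matrix form. `n` = number of vertices, `k` = valency. -/
theorem exists_mult {V : Type*} [Fintype V] [DecidableEq V] (A J : Matrix V V ℝ)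
    (n k s t μ : ℝ) (hn : n ≠ 0)
    (hJJ : J * J = n • J) (hAJ : A * J = k • J) (hJA : J * A = k • J)
    (hAA : A * A = t • (1 : Matrix V V ℝ) + s • A + μ • J)
    (htA : A.trace = 0) (htJ : J.trace = n) (ht1 : (1 : Matrix V V ℝ).trace = n)
    (hD : 0 < s ^ 2 + 4 * t) (hpar : n * μ = k ^ 2 - s * k - t) :
    ∃ m : ℕ, (2 * (m : ℝ) - (n - 1)) ^ 2 * (s ^ 2 + 4 * t) = (2 * k + (n - 1) * s) ^ 2 := by
  set r := Real.sqrt (s ^ 2 + 4 * t) with hr
  have hr2 : r ^ 2 = s ^ 2 + 4 * t := Real.sq_sqrt hD.le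
  have hr0 : r ≠ 0 := (Real.sqrt_pos.2 hD).ne'
  set θ := (s - r) / 2 with hθ
  set c := (k - θ) / n with hc
  have hcn : n * c = k - θ := by rw [hc]; field_simp
  have e1 : s - 2 * θ = r := by rw [hθ]; ring
  have e2 : θ ^ 2 + t = -(r * θ) := by
    rw [hθ]; linear_combination (-1 / 4) * hr2
  have e3 : μ - 2 * c * k + 2 * c * θ + c ^ 2 * n = -(r * c) := by
    have h1 : n * (μ - 2 * c * k + 2 * c * θ + c ^ 2 * n + r * c) = 0 := by
      have : n * (μ - 2 * c * k + 2 * c * θ + c ^ 2 * n + r * c) =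
          n * μ - 2 * (n * c) * k + 2 * (n * c) * θ + (n * c) ^ 2 + r * (n * c) := by ring
      rw [this, hcn, hpar]
      linear_combination (k - θ) * e1 - e2 - θ * e1
    have h2 := (mul_eq_zero.1 h1).resolve_left hn
    linear_combination h2
  set B := A - θ • (1 : Matrix V V ℝ) - c • J with hB
  have hBB : B * B = r • B := by
    have h1 : B * B = (θ ^ 2 + t) • (1 : Matrix V V ℝ) + (s - 2 * θ) • A +
        (μ - 2 * c * k + 2 * c * θ + c ^ 2 * n) • J := by
      rw [hB]
      simp only [sub_mul, mul_sub, smul_mul_assoc, mul_smul_comm, one_mul, mul_one, hAA, hAJ, hJA,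
        hJJ, smul_smul]
      module
    rw [h1, e1, e2, e3, hB]
    module
  have hP : (r⁻¹ • B) * (r⁻¹ • B) = r⁻¹ • B := by
    rw [smul_mul_assoc, mul_smul_comm, hBB, smul_smul, smul_smul]
    congr 1
    field_simp
  obtain ⟨m, hm⟩ := exists_trace_eq _ hP
  refine ⟨m, ?_⟩
  rw [trace_smul, hB, trace_sub, trace_sub, trace_smul, trace_smul, htA, htJ, ht1] at hm
  simp only [smul_eq_mul] at hm
  have h2 : (m : ℝ) * r = -θ * n - (k - θ) := by
    rw [← hm]
    rw [← hcn]
    field_simp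
    ring
  have h3 : (2 * (m : ℝ) - (n - 1)) * r = -(2 * k + (n - 1) * s) := by
    have h4 : 2 * θ = s - r := by rw [hθ]; ring
    linear_combination 2 * h2 - (n - 1) * h4
  rw [← hr2, ← mul_pow, h3]
  ring

/-- The adjacency matrix version for strongly regular graphs. -/
theorem srg_param {V : Type*} [Fintype V] [DecidableEq V] {Γ : SimpleGraph V}
    [DecidableRel Γ.Adj] {ℓ μ : ℕ} (h : Γ.IsSRGWith 55 18 ℓ μ) : ℓ = 9 ∧ μ = 4 := by
  have hpar := h.param_eq Γ (by norm_num)
  -- ℓ < 18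
  have hne : Nonempty V := by
    rw [← Fintype.card_pos_iff, h.card]; norm_num
  obtain ⟨v⟩ := hne
  have hdeg : Γ.degree v = 18 := h.regular v
  have hlt : ℓ < 18 := by
    have : 0 < (Γ.neighborFinset v).card := by
      rw [Γ.card_neighborFinset_eq_degree, hdeg]; norm_num
    obtain ⟨w, hw⟩ := Finset.card_pos.1 this
    rw [SimpleGraph.mem_neighborFinset] at hw
    have h1 := hw.card_commonNeighbors_lt_degree
    rw [h.of_adj v w hw, hdeg] at h1
    exact h1
  have hpar' : 18 * (17 - ℓ) = 36 * μ := by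
    have : 18 - ℓ - 1 = 17 - ℓ := by omega
    rw [← this]
    exact hpar
  have hμ : 2 * μ + ℓ = 17 := by omega
  set A := Γ.adjMatrix ℝ with hA
  set J : Matrix V V ℝ := Matrix.of fun _ _ => 1 with hJ
  have hcompl : Γᶜ.adjMatrix ℝ = J - 1 - A := by
    ext i j
    rw [SimpleGraph.adjMatrix_apply, Matrix.sub_apply, Matrix.sub_apply, hA, SimpleGraph.adjMatrix_apply,
      Matrix.one_apply, hJ, Matrix.of_apply]
    simp only [SimpleGraph.compl_adj]
    by_cases hij : i = j
    · subst hij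
      simp
    · by_cases ha : Γ.Adj i j <;> simp [hij, ha]
  have hAA : A * A = ((18 : ℝ) - μ) • (1 : Matrix V V ℝ) + ((ℓ : ℝ) - μ) • A + (μ : ℝ) • J := by
    have h1 := h.matrix_eq (α := ℝ)
    rw [hcompl, pow_two] at h1
    rw [h1]
    simp only [← Nat.cast_smul_eq_nsmul ℝ]
    push_cast
    module
  have hJJ : J * J = (55 : ℝ) • J := by
    ext i j
    rw [Matrix.mul_apply, Matrix.smul_apply, hJ]
    simp [h.card]
  have hAJ : A * J = (18 : ℝ) • J := by
    ext i j
    rw [Matrix.mul_apply, Matrix.smul_apply, hJ, hA]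
    simp only [SimpleGraph.adjMatrix_apply, Matrix.of_apply, mul_one, smul_eq_mul,
      Finset.sum_boole]
    have := h.regular i
    rw [← Γ.card_neighborFinset_eq_degree, SimpleGraph.neighborFinset_eq_filter] at this
    rw [this]
    norm_num
  have hJA : J * A = (18 : ℝ) • J := by
    ext i j
    rw [Matrix.mul_apply, Matrix.smul_apply, hJ, hA]
    simp only [SimpleGraph.adjMatrix_apply, Matrix.of_apply, mul_one, one_mul, smul_eq_mul,
      Finset.sum_boole]
    have := h.regular j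
    rw [← Γ.card_neighborFinset_eq_degree, SimpleGraph.neighborFinset_eq_filter] at this
    have h2 : (Finset.univ.filter fun x => Γ.Adj x j) = Finset.univ.filter (Γ.Adj j) := by
      ext x; simp [Γ.adj_comm]
    rw [h2, this]
    norm_num
  have htA : A.trace = 0 := by
    rw [hA]; exact SimpleGraph.trace_adjMatrix ℝ Γ
  have htJ : J.trace = 55 := by
    rw [Matrix.trace, hJ]
    simp [h.card]
  have ht1 : (1 : Matrix V V ℝ).trace = 55 := by
    rw [Matrix.trace_one, h.card]; norm_num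
  have hμ8 : μ ≤ 8 := by omega
  have hℓ : (ℓ : ℝ) = 17 - 2 * μ := by
    have : ((2 * μ + ℓ : ℕ) : ℝ) = 17 := by rw [hμ]; norm_num
    push_cast at this
    linarith
  have hmu : (μ : ℝ) ≤ 8 := by exact_mod_cast hμ8
  obtain ⟨m, hm⟩ := exists_mult A J 55 18 ((ℓ : ℝ) - μ) ((18 : ℝ) - μ) μ (by norm_num) hJJ hAJ
    hJA hAA htA htJ ht1 (by
      have : 0 ≤ ((ℓ : ℝ) - μ) ^ 2 := sq_nonneg _
      linarith) (by rw [hℓ]; ring)
  rw [hℓ] at hm
  -- an equation in integers
  have hZ : (2 * (m : ℤ) - 54) ^ 2 * ((17 - 3 * μ) ^ 2 + 4 * (18 - μ)) =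
      (36 + 54 * (17 - 3 * μ)) ^ 2 := by
    have : (((2 * (m : ℤ) - 54) ^ 2 * ((17 - 3 * μ) ^ 2 + 4 * (18 - μ)) : ℤ) : ℝ) =
        (((36 + 54 * (17 - 3 * μ)) ^ 2 : ℤ) : ℝ) := by
      push_cast
      rw [← sub_eq_zero] at hm ⊢
      rw [← hm]
      ring
    exact_mod_cast this
  set x : ℤ := (m : ℤ) - 27 with hx
  have hZ' : x ^ 2 * ((17 - 3 * μ) ^ 2 + 4 * (18 - μ)) = (18 + 27 * (17 - 3 * μ)) ^ 2 := by
    have h1 : 2 * (m : ℤ) - 54 = 2 * x := by rw [hx]; ring
    rw [h1] at hZ
    have h2 : (4 : ℤ) * (x ^ 2 * ((17 - 3 * μ) ^ 2 + 4 * (18 - μ))) =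
        4 * (18 + 27 * (17 - 3 * μ)) ^ 2 := by
      rw [← sub_eq_zero] at hZ ⊢
      rw [← hZ]
      ring
    exact mul_left_cancel₀ (by norm_num) h2
  have hx27 : |x| ≤ 27 * 2 := by
    by_contra hcon
    push_neg at hcon
    have h1 : (54 : ℤ) ^ 2 < x ^ 2 := by
      rw [← sq_abs x]
      have : (0 : ℤ) ≤ 54 := by norm_num
      nlinarith
    interval_cases μ <;> norm_num at hZ' <;> omega
  rw [abs_le] at hx27
  obtain ⟨hx1, hx2⟩ := hx27
  have : μ = 4 := by
    interval_cases μ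
    all_goals norm_num at hZ'
    all_goals try rfl
    all_goals exfalso
    all_goals (interval_cases x <;> omega)
  refine ⟨by omega, this⟩

end Cfsg.Agent.SporadicA.M11Param
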