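import Cfsg.Agent.SporadicA.Cand12

/-!
Permutation groups of degree 12 and order 95040 containing only even permutations, transitive and
containing the translation of the projective line over `ZMod 11`, are unique up to relabelling.
-/

set_option autoImplicit false

namespace Cfsg.Agent.SporadicA.M12Perm

open Equiv Equiv.Perm MulAction Cfsg.Agent.SporadicA.DegPOne Cfsg.Agent.SporadicA.Cand12

/-- words for the candidates fixing infinity: (a, s, b, word, cycle length, point) -/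
def tabH : List (ℕ × ℕ × ℕ × List ℕ × ℕ × ℕ) :=
  [(1, 0, 1, [0, 0, 1, 2], 7, 0), (1, 0, 2, [0, 0, 2], 7, 1), (1, 0, 3, [0, 2], 7, 3), 
   (1, 0, 4, [0, 2, 2], 7, 3), (1, 1, 1, [0, 0, 2], 7, 0), (1, 1, 2, [0, 1, 2], 7, 0), 
   (1, 1, 3, [0, 2, 2, 2], 7, 0), (1, 1, 4, [0, 0, 2], 7, 0), (2, 0, 0, [0, 0, 2], 7, 0), 
   (2, 0, 2, [0, 0, 2], 7, 0), (2, 0, 3, [0, 2, 1], 7, 2), (2, 1, 0, [0, 0, 0, 2, 0, 2], 7, 1), 
   (2, 1, 1, [0, 2], 7, 4), (2, 1, 2, [0, 1, 2, 1], 7, 0), (2, 1, 3, [0, 2, 2, 2], 7, 0), 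
   (2, 1, 4, [0, 2, 1], 7, 0), (3, 0, 0, [0, 0, 2], 7, 0), (3, 0, 1, [0, 0, 2], 7, 1), 
   (3, 0, 4, [0, 2], 7, 3), (3, 1, 0, [0, 0, 0, 2, 0, 2], 7, 0), (3, 1, 1, [0, 0, 1, 2], 7, 0), 
   (3, 1, 2, [0, 2], 7, 2), (3, 1, 3, [0, 1, 2], 7, 0), (3, 1, 4, [0, 1, 2], 7, 0), 
   (4, 0, 0, [0, 0, 2, 0, 2, 1], 7, 0), (4, 0, 1, [0, 0, 2, 0, 1, 2], 7, 1), 
   (4, 0, 4, [0, 0, 1, 2, 0, 2], 7, 0), (4, 1, 0, [0, 0, 1, 0, 2, 0, 2], 7, 0), 
   (4, 1, 1, [0, 1, 1, 2], 7, 2), (4, 1, 2, [0, 2], 7, 3), (4, 1, 3, [0, 1, 2], 7, 0), 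
   (4, 1, 4, [0, 2, 1], 7, 0)]

/-- words for the candidates exchanging 0 and infinity -/
def tabU : List (ℕ × ℕ × ℕ × List ℕ × ℕ × ℕ) :=
  [(1, 0, 0, [0, 0, 2, 2, 3], 7, 0), (1, 0, 1, [0, 0, 3], 7, 0), (1, 0, 2, [0, 0, 3], 7, 1), 
   (1, 0, 3, [0, 3], 7, 3), (1, 0, 4, [0, 3], 7, 0), (1, 1, 0, [0, 3, 2], 7, 4), 
   (1, 1, 1, [0, 2, 2, 3], 7, 0), (1, 1, 3, [0, 0, 2, 3], 7, 0), (1, 1, 4, [0, 3, 2, 2], 7, 3)]

/-- the good candidates fixing infinity -/
def goodH : List (ℕ × ℕ) :=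
  [(2, 1), (2, 4), (3, 2), (3, 3), (4, 2), (4, 3)]

/-- the check for the first table -/
def chkH (a s b : ℕ) : Bool :=
  (a == 0) || (a == 1 && s == 0 && b == 0) || (a == 1 && s == 1 && b == 0) ||
    (s == 0 && goodH.contains (a, b)) || okT 12 [7] [tF, qF, cand a 0 s b] tabH a s b

/-- the check for the second table -/
def chkU (s b : ℕ) : Bool :=
  (s == 1 && b == 2) || okT 12 [7] [tF, qF, cand 2 0 0 1, cand 1 1 s b] tabU 1 s b

theorem chkH_ok : ((List.range 5).all fun a => (List.range 2).all fun s =>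
    (List.range 5).all fun b => chkH a s b) = true := by
  decide +kernel

theorem chkU_ok : ((List.range 2).all fun s => (List.range 5).all fun b => chkU s b) = true := by
  decide +kernel

theorem tabH_ok (a : ℕ) (ha : a < 5) (s : ℕ) (hs : s < 2) (b : ℕ) (hb : b < 5) (ha0 : 0 < a) :
    (a = 1 ∧ s = 0 ∧ b = 0) ∨ (a = 1 ∧ s = 1 ∧ b = 0) ∨ (s = 0 ∧ (a, b) ∈ goodH) ∨
      okT 12 [7] [tF, qF, cand a 0 s b] tabH a s b = true := by
  have h1 := chkH_ok
  rw [List.all_eq_true] at h1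
  have h2 := h1 a (List.mem_range.2 ha)
  rw [List.all_eq_true] at h2
  have h3 := h2 s (List.mem_range.2 hs)
  rw [List.all_eq_true] at h3
  have h4 := h3 b (List.mem_range.2 hb)
  simp only [chkH, Bool.or_eq_true, Bool.and_eq_true, beq_iff_eq, List.contains_iff_mem] at h4
  rcases h4 with (((h4 | h4) | h4) | h4) | h4
  · omega
  · exact Or.inl ⟨h4.1.1, h4.1.2, h4.2⟩
  · exact Or.inr (Or.inl ⟨h4.1.1, h4.1.2, h4.2⟩)
  · exact Or.inr (Or.inr (Or.inl h4))
  · exact Or.inr (Or.inr (Or.inr h4))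

theorem tabU_ok (s : ℕ) (hs : s < 2) (b : ℕ) (hb : b < 5) :
    (s = 1 ∧ b = 2) ∨
      okT 12 [7] [tF, qF, cand 2 0 0 1, cand 1 1 s b] tabU 1 s b = true := by
  have h1 := chkU_ok
  rw [List.all_eq_true] at h1
  have h3 := h1 s (List.mem_range.2 hs)
  rw [List.all_eq_true] at h3
  have h4 := h3 b (List.mem_range.2 hb)
  simp only [chkU, Bool.or_eq_true, Bool.and_eq_true, beq_iff_eq] at h4
  exact h4

theorem good_cases : ∀ e ∈ goodH, (∃ j < 5,
    (∀ x : Fin 12, iter (cand e.1 0 0 e.2) j x = cand 2 0 0 1 x) ∨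
    (∀ x : Fin 12, iter (cand e.1 0 0 e.2) j x = cand 2 0 0 4 x)) ∨ e = (4, 2) ∨ e = (4, 3) := by
  decide +kernel

/-- first good element -/
def w1 : Perm (Fin 12) := mkPerm 12 (cand 2 0 0 1) (cand 3 0 0 2) (by decide +kernel)
/-- second good element -/
def w4 : Perm (Fin 12) := mkPerm 12 (cand 2 0 0 4) (cand 3 0 0 3) (by decide +kernel)
/-- square of the second good element -/
def z2 : Perm (Fin 12) := mkPerm 12 (cand 4 0 0 2) (cand 4 0 0 2) (by decide +kernel)
/-- square of the first good element -/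
def z3 : Perm (Fin 12) := mkPerm 12 (cand 4 0 0 3) (cand 4 0 0 3) (by decide +kernel)
/-- the exchange of zero and infinity -/
def uP : Perm (Fin 12) := mkPerm 12 (cand 1 1 1 2) (fun x => iter qF 3 (cand 1 1 1 2 x))
  (by decide +kernel)

theorem w1_comp : Comp w1 (cand 2 0 0 1) := mkPerm_comp _ _ _ _
theorem w4_comp : Comp w4 (cand 2 0 0 4) := mkPerm_comp _ _ _ _
theorem z2_comp : Comp z2 (cand 4 0 0 2) := mkPerm_comp _ _ _ _
theorem z3_comp : Comp z3 (cand 4 0 0 3) := mkPerm_comp _ _ _ _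
theorem uP_comp : Comp uP (cand 1 1 1 2) := mkPerm_comp _ _ _ _

theorem sign_nP : sign nP = -1 := by decide +kernel

theorem not_dvd {l : ℕ} (hl : l ∈ [7]) : ¬ l ∣ 95040 := by
  simp only [List.mem_cons, List.not_mem_nil, or_false] at hl
  rcases hl with rfl; norm_num

theorem prime_of_mem {l : ℕ} (hl : l ∈ [7]) : l.Prime := by
  simp only [List.mem_cons, List.not_mem_nil, or_false] at hl
  rcases hl with rfl; norm_num

/-- The hypotheses on the permutation group of degree 12. -/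
structure Hyp (L : Subgroup (Perm (Fin 12))) : Prop where
  card : Nat.card L = 95040
  even : ∀ g ∈ L, sign g = 1
  trans : ∀ x y, ∃ g ∈ L, g x = y
  t_mem : tP ∈ L

theorem fix_t : ∀ a < 11, 0 < a → ∀ y : Fin 12, iter tF a y = y → y = 11 := by
  decide +kernel

theorem fix_q : ∀ a < 5, 0 < a → ∀ y : Fin 12, iter qF a y = y → y = 0 ∨ y = 11 := by
  decide +kernel

/-- multiplication by `a` -/
def mF (a x : ℕ) : ℕ := if x < 11 then (a * x) % 11 else x

theorem t_zero : ∀ x : Fin 12, x ≠ 11 → iter tF x 0 = x := by decide +kernel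

theorem t_mF : ∀ a < 11, ∀ x : Fin 12, x ≠ 11 → iter tF (a * x) 0 = mF a x := by decide +kernel

theorem t_neg : ∀ y : Fin 12, y ≠ 11 → iter tF (11 - y) y = 0 := by decide +kernel

theorem mF_pow : ∀ a < 11, 1 < a → ∃ j < 10,
    (∀ x : Fin 12, iter (mF a) j x = qF x) ∨ (∀ x : Fin 12, iter (mF a) j x = nF x) := by
  decide +kernel

theorem mF_one : ∀ x : Fin 12, mF 1 x = x := by decide +kernel

theorem q_mem {L : Subgroup (Perm (Fin 12))} (h : Hyp L) : qP ∈ L := by
  obtain ⟨k, n, hk, hkn, hn⟩ := sylow_congr L h.t_mem (r := 11) (m := 8640) (by norm_num)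
    orderOf_tP (by rw [h.card]) (by norm_num)
  -- an element of the normalizer outside the cyclic group
  obtain ⟨g, hgL, hgN, hgz⟩ : ∃ g, g ∈ L ∧ g ∈ Subgroup.normalizer (Subgroup.zpowers tP : Set _) ∧
      g ∉ Subgroup.zpowers tP := by
    by_contra hcon
    push Not at hcon
    have h1 : L ⊓ Subgroup.normalizer (Subgroup.zpowers tP : Set _) = Subgroup.zpowers tP := by
      apply le_antisymm
      · rintro g ⟨h2, h3⟩
        exact hcon g h2 h3
      · refine le_inf ?_ Subgroup.le_normalizer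
        rw [Subgroup.zpowers_le]; exact h.t_mem
    rw [h1, Nat.card_zpowers, orderOf_tP] at hk
    have hk1 : k = 1 := by omega
    rw [hk1, one_mul] at hkn
    rw [hkn] at hn
    exact absurd hn (by decide)
  obtain ⟨a, ha0, ha, hrel⟩ := exists_pow_of_mem_normalizer (by norm_num : Nat.Prime 11)
    orderOf_tP hgN
  have hval : ∀ (i : ℕ) (x : Fin 12), (((tP ^ i) x : Fin 12) : ℕ) = iter tF i x :=
    fun i x => comp_iter tP_comp i x
  have ht11 : ∀ i : ℕ, (tP ^ i) 11 = 11 := by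
    intro i
    induction i with
    | zero => rfl
    | succ i ih =>
      rw [pow_succ', Perm.mul_apply, ih]
      exact Fin.ext (by rw [tP_comp]; decide)
  have hg11 : g 11 = 11 := by
    apply fix_t a ha ha0
    rw [← hval]
    have h1 := congrArg (fun z : Perm (Fin 12) => z 11) hrel
    simp only [Perm.mul_apply] at h1
    have h2 := ht11 1
    rw [pow_one] at h2
    rw [h2] at h1
    rw [← h1]
  have hg0 : g 0 ≠ 11 := fun e => absurd (g.injective (e.trans hg11.symm)) (by decide)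
  set j := 11 - ((g 0 : Fin 12) : ℕ) with hj
  set g' := tP ^ j * g with hg'
  have hrel' : g' * tP = tP ^ a * g' := by
    rw [hg', mul_assoc, hrel, ← mul_assoc, ← mul_assoc, ← pow_add, ← pow_add, add_comm]
  have hg'0 : g' 0 = 0 := by
    apply Fin.ext
    rw [hg', Perm.mul_apply, hval, hj]
    exact t_neg _ hg0
  have hg'11 : g' 11 = 11 := by
    rw [hg', Perm.mul_apply, hg11, ht11]
  have hcomp : Comp g' (mF a) := by
    intro x
    by_cases hx : x = 11
    · rw [hx, hg'11]; rfl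
    · have h1 := apply_pow_apply tP_comp hrel' 0 (x : ℕ)
      have h2 : (tP ^ (x : ℕ)) 0 = x := Fin.ext (by rw [hval]; exact t_zero x hx)
      rw [h2, hg'0] at h1
      rw [h1]
      exact t_mF a ha x hx
  have hg'L : g' ∈ L := L.mul_mem (L.pow_mem h.t_mem _) hgL
  have ha1 : a ≠ 1 := by
    rintro rfl
    apply hgz
    have h1 : g' = 1 := by
      ext x
      rw [hcomp, mF_one]; rfl
    have h2 : g = (tP ^ j)⁻¹ := by
      rw [hg'] at h1
      exact (inv_eq_of_mul_eq_one_right h1).symm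
    rw [h2]
    exact Subgroup.inv_mem _ (Subgroup.pow_mem _ (Subgroup.mem_zpowers _) _)
  obtain ⟨i, -, hi | hi⟩ := mF_pow a ha (by omega)
  · have h1 : g' ^ i = qP := perm_ext_comp (comp_pow hcomp i) qP_comp hi
    rw [← h1]
    exact L.pow_mem hg'L i
  · exfalso
    have h1 : g' ^ i = nP := perm_ext_comp (comp_pow hcomp i) nP_comp hi
    have h2 := h.even (g' ^ i) (L.pow_mem hg'L i)
    rw [h1, sign_nP] at h2
    exact absurd h2 (by decide)

theorem q_fix (i : ℕ) (x : Fin 12) (hx : x = 0 ∨ x = 11) : (qP ^ i) x = x := by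
  rcases hx with rfl | rfl
  · exact qP_pow_zero i
  · exact qP_pow_inf i

/-- An element normalizing `⟨q⟩` permutes the two fixed points. -/
theorem norm_fix {g : Perm (Fin 12)} {a : ℕ} (ha0 : 0 < a) (ha : a < 5)
    (hrel : g * qP = qP ^ a * g) (x : Fin 12) (hx : x = 0 ∨ x = 11) : g x = 0 ∨ g x = 11 := by
  apply fix_q a ha ha0
  rw [← comp_iter qP_comp]
  have h1 := congrArg (fun z : Perm (Fin 12) => z x) hrel
  simp only [Perm.mul_apply] at h1
  have h2 := q_fix 1 x hx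
  rw [pow_one] at h2
  rw [h2] at h1
  rw [← h1]

theorem card_H {L : Subgroup (Perm (Fin 12))} (h : Hyp L) :
    Nat.card (L ⊓ stabilizer (Perm (Fin 12)) (11 : Fin 12) : Subgroup (Perm (Fin 12))) = 7920 := by
  have h1 : 12 * Nat.card (L ⊓ stabilizer (Perm (Fin 12)) (11 : Fin 12) :
    Subgroup (Perm (Fin 12))) = Nat.card L := orbit_card_eq L 11 (fun y => h.trans 11 y)
  rw [h.card] at h1
  omega

/-- The elements normalizing `⟨q⟩` and fixing infinity, up to `⟨q⟩`. -/
theorem norm_cases {L : Subgroup (Perm (Fin 12))} (h : Hyp L) {g : Perm (Fin 12)} (hgL : g ∈ L)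
    (hg11 : g 11 = 11) (hgN : g ∈ Subgroup.normalizer (Subgroup.zpowers qP : Set _)) :
    ∃ i < 5, qP ^ i * g = 1 ∨ qP ^ i * g = z2 ∨ qP ^ i * g = z3 ∨ w1 ∈ L ∨ w4 ∈ L := by
  have hq := q_mem h
  obtain ⟨a, ha0, ha, hrel⟩ := exists_pow_of_mem_normalizer (by norm_num : Nat.Prime 5)
    orderOf_qP hgN
  have hg0 : g 0 = 0 := by
    rcases norm_fix ha0 ha hrel 0 (Or.inl rfl) with h1 | h1
    · exact h1
    · exact absurd (g.injective (h1.trans hg11.symm)) (by decide)
  obtain ⟨i, hi, s, hs, b, hb, hc⟩ := param g a ha0 ha hrel 0 (Or.inl ⟨rfl, hg0, hg11⟩)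
  refine ⟨i, hi, ?_⟩
  set c := qP ^ i * g with hcdef
  have hcL : c ∈ L := L.mul_mem (L.pow_mem hq i) hgL
  rcases tabH_ok a ha s hs b hb ha0 with ⟨rfl, rfl, rfl⟩ | ⟨rfl, rfl, rfl⟩ | ⟨rfl, hgood⟩ | hok
  · left
    exact perm_ext_comp hc (f' := id) (fun _ => rfl) (by decide +kernel)
  · exfalso
    have h1 : c = nP := perm_ext_comp hc nP_comp (by decide +kernel)
    have h2 := h.even c hcL
    rw [h1, sign_nP] at h2
    exact absurd h2 (by decide)
  · rcases good_cases (a, b) hgood with ⟨j, -, hj | hj⟩ | hj | hj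
    · right; right; right; left
      have h1 : c ^ j = w1 := perm_ext_comp (comp_pow hc j) w1_comp hj
      rw [← h1]
      exact L.pow_mem hcL j
    · right; right; right; right
      have h1 : c ^ j = w4 := perm_ext_comp (comp_pow hc j) w4_comp hj
      rw [← h1]
      exact L.pow_mem hcL j
    · right; left
      obtain ⟨rfl, rfl⟩ := Prod.mk.inj hj
      exact comp_ext hc z2_comp
    · right; right; left
      obtain ⟨rfl, rfl⟩ := Prod.mk.inj hj
      exact comp_ext hc z3_comp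
  · exfalso
    obtain ⟨l, hl, hdvd⟩ := exists_dvd_of_okT L (gs := [tP, qP, c])
      (fs := [tF, qF, cand a 0 s b]) (by
        intro g' hg'
        simp only [List.mem_cons, List.not_mem_nil, or_false] at hg'
        rcases hg' with rfl | rfl | rfl
        · exact h.t_mem
        · exact hq
        · exact hcL)
      (List.Forall₂.cons tP_comp (List.Forall₂.cons qP_comp (List.Forall₂.cons hc
        List.Forall₂.nil))) (fun l hl => prime_of_mem hl) hok
    rw [h.card] at hdvd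
    exact not_dvd hl hdvd

theorem w_mem {L : Subgroup (Perm (Fin 12))} (h : Hyp L) : w1 ∈ L ∨ w4 ∈ L := by
  classical
  by_contra hcon
  have hq := q_mem h
  set H : Subgroup (Perm (Fin 12)) := L ⊓ stabilizer (Perm (Fin 12)) (11 : Fin 12) with hH
  have hcardH : Nat.card H = 7920 := card_H h
  have hqH : qP ∈ H := ⟨hq, qP_pow_inf 1⟩
  obtain ⟨k, n, hk, hkn, hn⟩ := sylow_congr H hqH (r := 5) (m := 1584) (by norm_num)
    orderOf_qP (by rw [hcardH]) (by norm_num)
  -- at most 15 elements in the normalizer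
  let T : Finset (Perm (Fin 12)) :=
    ((Finset.range 5) ×ˢ ({1, z2, z3} : Finset (Perm (Fin 12)))).image
      (fun p => (qP ^ p.1)⁻¹ * p.2)
  have hT : T.card ≤ 15 := by
    refine Finset.card_image_le.trans ?_
    rw [Finset.card_product, Finset.card_range]
    have : ({1, z2, z3} : Finset (Perm (Fin 12))).card ≤ 3 := Finset.card_le_three
    omega
  have hsub : ((H ⊓ Subgroup.normalizer (Subgroup.zpowers qP : Set _) :
      Subgroup (Perm (Fin 12))) : Set (Perm (Fin 12))) ⊆ T := by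
    rintro g ⟨hgH, hgN⟩
    obtain ⟨i, hi, hi'⟩ := norm_cases h hgH.1 hgH.2 hgN
    have key : ∀ z ∈ ({1, z2, z3} : Finset (Perm (Fin 12))), qP ^ i * g = z → g ∈ T := by
      intro z hz he
      refine Finset.mem_image.2 ⟨(i, z), Finset.mem_product.2 ⟨Finset.mem_range.2 hi, hz⟩, ?_⟩
      show (qP ^ i)⁻¹ * z = g
      rw [← he]; group
    rcases hi' with h1 | h1 | h1 | h1 | h1
    · exact key 1 (by simp) h1
    · exact key z2 (by simp) h1
    · exact key z3 (by simp) h1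
    · exact absurd (Or.inl h1) hcon
    · exact absurd (Or.inr h1) hcon
  have hle : Nat.card (H ⊓ Subgroup.normalizer (Subgroup.zpowers qP : Set _) :
      Subgroup (Perm (Fin 12))) ≤ 15 := by
    have h1 := Set.ncard_le_ncard hsub (Set.toFinite _)
    rw [Set.ncard_coe_finset] at h1
    exact h1.trans hT
  rw [hk] at hle
  have hk3 : k ≤ 3 := by omega
  have e1 : k * n ≡ k * 1 [MOD 5] := hn.mul_left k
  rw [hkn, mul_one] at e1
  interval_cases k
  · exact absurd e1 (by decide)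
  · exact absurd e1 (by decide)
  · exact absurd e1 (by decide)
  · exact absurd e1 (by decide)

theorem exists_swap {L : Subgroup (Perm (Fin 12))} (h : Hyp L) :
    ∃ g, g ∈ L ∧ g ∈ Subgroup.normalizer (Subgroup.zpowers qP : Set _) ∧ g 11 ≠ 11 := by
  have hq := q_mem h
  set H : Subgroup (Perm (Fin 12)) := L ⊓ stabilizer (Perm (Fin 12)) (11 : Fin 12) with hH
  have hcardH : Nat.card H = 7920 := card_H h
  have hqH : qP ∈ H := ⟨hq, qP_pow_inf 1⟩
  obtain ⟨k, n, hk, hkn, hn⟩ := sylow_congr H hqH (r := 5) (m := 1584) (by norm_num)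
    orderOf_qP (by rw [hcardH]) (by norm_num)
  obtain ⟨k', n', hk', hkn', hn'⟩ := sylow_congr L hq (r := 5) (m := 19008) (by norm_num)
    orderOf_qP (by rw [h.card]) (by norm_num)
  by_contra hcon
  push Not at hcon
  have h1 : L ⊓ Subgroup.normalizer (Subgroup.zpowers qP : Set _) =
      H ⊓ Subgroup.normalizer (Subgroup.zpowers qP : Set _) := by
    apply le_antisymm
    · rintro g ⟨h2, h3⟩
      exact ⟨⟨h2, hcon g h2 h3⟩, h3⟩
    · rintro g ⟨h2, h3⟩
      exact ⟨h2.1, h3⟩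
  rw [h1, hk] at hk'
  have hkk : k = k' := by omega
  have e1 : k * n ≡ k * 1 [MOD 5] := hn.mul_left k
  have e2 : k' * n' ≡ k' * 1 [MOD 5] := hn'.mul_left k'
  rw [hkn, mul_one] at e1
  rw [hkn', mul_one, ← hkk] at e2
  have e3 := e1.trans e2.symm
  exact absurd e3 (by decide)

theorem w1_rel : w1 * qP = qP ^ 2 * w1 :=
  perm_ext_comp (comp_mul w1_comp qP_comp) (comp_mul (comp_pow qP_comp 2) w1_comp)
    (by decide +kernel)

theorem exp_choice : ∀ a < 5, 0 < a → ∃ j < 4, (a * 2 ^ j) % 5 = 1 := by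
  decide +kernel

theorem w1_pow_fix (j : ℕ) (x : Fin 12) (hx : x = 0 ∨ x = 11) : (w1 ^ j) x = x := by
  have h1 : w1 x = x := by
    rcases hx with rfl | rfl
    · exact Fin.ext (by rw [w1_comp]; decide +kernel)
    · exact Fin.ext (by rw [w1_comp]; decide +kernel)
  induction j with
  | zero => rfl
  | succ j ih => rw [pow_succ', Perm.mul_apply, ih, h1]

theorem u_mem {L : Subgroup (Perm (Fin 12))} (h : Hyp L) (hv : w1 ∈ L) : uP ∈ L := by
  have hq := q_mem h
  obtain ⟨g, hgL, hgN, hg11⟩ := exists_swap h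
  obtain ⟨a, ha0, ha, hrel⟩ := exists_pow_of_mem_normalizer (by norm_num : Nat.Prime 5)
    orderOf_qP hgN
  have h11 : g 11 = 0 := by
    rcases norm_fix ha0 ha hrel 11 (Or.inr rfl) with h1 | h1
    · exact h1
    · exact absurd h1 hg11
  have h0 : g 0 = 11 := by
    rcases norm_fix ha0 ha hrel 0 (Or.inl rfl) with h1 | h1
    · exact absurd (g.injective (h1.trans h11.symm)) (by decide)
    · exact h1
  obtain ⟨j, -, hj⟩ := exp_choice a ha ha0
  have hrel2 : (g * w1 ^ j) * qP = qP ^ 1 * (g * w1 ^ j) := by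
    have e1 : w1 ^ j * qP = qP ^ (2 ^ j) * w1 ^ j := pow_mul_eq w1_rel j
    have e2 : g * qP ^ (2 ^ j) = qP ^ (a * 2 ^ j) * g := mul_pow_eq hrel _
    have e3 : qP ^ (a * 2 ^ j) = qP ^ 1 := by
      rw [← pow_mod_orderOf, orderOf_qP, hj]
    rw [mul_assoc, e1, ← mul_assoc, e2, e3, mul_assoc]
  obtain ⟨i, hi, s, hs, b, hb, hc⟩ := param (g * w1 ^ j) 1 (by norm_num) (by norm_num) hrel2 1
    (Or.inr ⟨rfl, by rw [Perm.mul_apply, w1_pow_fix j 0 (Or.inl rfl), h0],
      by rw [Perm.mul_apply, w1_pow_fix j 11 (Or.inr rfl), h11]⟩)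
  set c := qP ^ i * (g * w1 ^ j) with hcdef
  have hcL : c ∈ L := L.mul_mem (L.pow_mem hq i) (L.mul_mem hgL (L.pow_mem hv j))
  rcases tabU_ok s hs b hb with ⟨rfl, rfl⟩ | hok
  · have h2 : c = uP := comp_ext hc uP_comp
    rw [← h2]
    exact hcL
  · exfalso
    obtain ⟨l, hl, hdvd⟩ := exists_dvd_of_okT L (gs := [tP, qP, w1, c])
      (fs := [tF, qF, cand 2 0 0 1, cand 1 1 s b]) (by
        intro g' hg'
        simp only [List.mem_cons, List.not_mem_nil, or_false] at hg'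
        rcases hg' with rfl | rfl | rfl | rfl
        · exact h.t_mem
        · exact hq
        · exact hv
        · exact hcL)
      (List.Forall₂.cons tP_comp (List.Forall₂.cons qP_comp (List.Forall₂.cons w1_comp
        (List.Forall₂.cons hc List.Forall₂.nil)))) (fun l hl => prime_of_mem hl) hok
    rw [h.card] at hdvd
    exact not_dvd hl hdvd

theorem neg_t : nP * tP ^ 10 * nP⁻¹ = tP := by
  rw [mul_inv_eq_iff_eq_mul]
  exact perm_ext_comp (comp_mul nP_comp (comp_pow tP_comp 10)) (comp_mul tP_comp nP_comp)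
    (by decide +kernel)

/-- Relabelling by `x ↦ -x`. -/
theorem hyp_neg {L : Subgroup (Perm (Fin 12))} (h : Hyp L) :
    Hyp (L.map (MulAut.conj nP).toMonoidHom) where
  card := by
    rw [← h.card]
    exact (Nat.card_congr (Subgroup.equivMapOfInjective _ _ (MulAut.conj nP).injective).toEquiv).symm
  even := by
    rintro _ ⟨g, hg, rfl⟩
    have h1 : sign ((MulAut.conj nP).toMonoidHom g) = sign g := by
      show sign (nP * g * nP⁻¹) = sign g
      rw [map_mul, map_mul, map_inv, mul_right_comm, mul_inv_cancel, one_mul]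
    rw [h1]
    exact h.even g hg
  trans := by
    intro x y
    obtain ⟨g, hg, hgx⟩ := h.trans (nP⁻¹ x) (nP⁻¹ y)
    refine ⟨nP * g * nP⁻¹, ⟨g, hg, rfl⟩, ?_⟩
    rw [Perm.mul_apply, Perm.mul_apply, hgx]
    simp
  t_mem := by
    refine Subgroup.mem_map.2 ⟨tP ^ 10, L.pow_mem h.t_mem _, ?_⟩
    rw [MulEquiv.toMonoidHom_eq_coe, MonoidHom.coe_coe, MulAut.conj_apply, neg_t]

/-- The standard group of degree 12. -/
def Std : Subgroup (Perm (Fin 12)) := Subgroup.closure {tP, qP, w1, uP}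

/-- The generators. -/
def gens : List (Perm (Fin 12)) := [tP, qP, w1, uP]

/-- The generators, computed. -/
def gensF : List (ℕ → ℕ) := [tF, qF, cand 2 0 0 1, cand 1 1 1 2]

theorem gens_comp : List.Forall₂ Comp gens gensF :=
  List.Forall₂.cons tP_comp (List.Forall₂.cons qP_comp (List.Forall₂.cons w1_comp
        (List.Forall₂.cons uP_comp List.Forall₂.nil)))

theorem gens_mem : ∀ g ∈ gens, g ∈ Std := by
  intro g hg
  simp only [gens, List.mem_cons, List.not_mem_nil, or_false] at hg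
  apply Subgroup.subset_closure
  simp only [Set.mem_insert_iff, Set.mem_singleton_iff]
  exact hg

/-- One step of the stabilizer chain: words fixing the points in `bs` and mapping `x` to the
listed points. -/
def chainOK (bs : List ℕ) (x : ℕ) (tab : List (ℕ × List ℕ)) (ys : List ℕ) : Bool :=
  ys.all fun y => tab.any fun e => (e.1 == y) && (evalW gensF e.2 x == y) &&
    bs.all fun b => evalW gensF e.2 b == b

/-- level 0 -/
def ch0 : List (ℕ × List ℕ) :=
  [(0, [3]), (1, [0, 3]), (2, [0, 0, 3]), (3, [1, 0, 3]), (4, [3, 0, 0, 3]), 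
   (5, [0, 3, 0, 0, 3]), (6, [1, 0, 0, 3]), (7, [0, 1, 0, 0, 3]), (8, [3, 1, 0, 3]), 
   (9, [1, 1, 0, 3]), (10, [3, 0, 3]), (11, [])]
/-- level 1 -/
def ch1 : List (ℕ × List ℕ) :=
  [(0, []), (1, [0]), (2, [0, 0]), (3, [1, 0]), (4, [0, 1, 0]), (5, [0, 0, 1, 0]), 
   (6, [1, 0, 0]), (7, [0, 1, 0, 0]), (8, [1, 2, 0, 0]), (9, [1, 1, 0]), (10, [2, 0, 0])]
/-- level 2 -/
def ch2 : List (ℕ × List ℕ) :=
  [(1, []), (2, [1, 1, 0, 2, 0, 0]), (3, [1]), (4, [2, 1, 1]), (5, [1, 1, 1]), 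
   (6, [0, 2, 2, 1, 0, 0]), (7, [0, 0, 2, 0, 0, 0]), (8, [1, 0, 2, 0, 0]), (9, [1, 1]), 
   (10, [0, 2, 0, 0])]
/-- level 3 -/
def ch3 : List (ℕ × List ℕ) :=
  [(2, []), (3, [0, 2, 2, 1, 0, 2, 0]), (4, [2, 0, 2, 0, 2, 0]), (5, [0, 2, 0, 0, 1, 1]), 
   (6, [2, 2, 2]), (7, [1, 0, 0, 2, 1, 0]), (8, [2, 2]), (9, [0, 2, 0, 2, 0]), (10, [2])]
/-- level 4 -/
def ch4 : List (ℕ × List ℕ) :=
  [(3, []), (4, [1, 2, 1, 0, 2, 0, 2, 0, 1]), (5, [0, 2, 0, 2, 0, 2]), 
   (6, [3, 1, 0, 2, 0, 0, 3]), (7, [0, 3, 2, 2, 0, 3, 0, 3, 2]), (8, [0, 2, 2, 1, 0, 0, 2, 1]), 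
   (9, [2, 0, 2, 0, 0, 2, 1]), (10, [2, 1, 0, 0, 2, 1, 0, 2])]

theorem ch0_ok : chainOK [] 11 ch0 [0, 1, 2, 3, 4, 5, 6, 7, 8, 9, 10, 11] = true := by
  decide +kernel
theorem ch1_ok : chainOK [11] 0 ch1 [0, 1, 2, 3, 4, 5, 6, 7, 8, 9, 10] = true := by
  decide +kernel
theorem ch2_ok : chainOK [11, 0] 1 ch2 [1, 2, 3, 4, 5, 6, 7, 8, 9, 10] = true := by
  decide +kernel
theorem ch3_ok : chainOK [11, 0, 1] 2 ch3 [2, 3, 4, 5, 6, 7, 8, 9, 10] = true := by
  decide +kernel
theorem ch4_ok : chainOK [11, 0, 1, 2] 3 ch4 [3, 4, 5, 6, 7, 8, 9, 10] = true := by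
  decide +kernel

theorem chain_step {bs : List ℕ} {x : ℕ} (hx : x < 12) {tab : List (ℕ × List ℕ)} {ys : List ℕ}
    (h : chainOK bs x tab ys = true) (y : ℕ) (hy : y ∈ ys) (hy12 : y < 12) :
    ∃ g ∈ Std, g ⟨x, hx⟩ = ⟨y, hy12⟩ ∧ ∀ b ∈ bs, ∀ hb : b < 12, g ⟨b, hb⟩ = ⟨b, hb⟩ := by
  rw [chainOK, List.all_eq_true] at h
  have h1 := h y hy
  rw [List.any_eq_true] at h1
  obtain ⟨e, -, he⟩ := h1
  simp only [Bool.and_eq_true, beq_iff_eq, List.all_eq_true] at he
  refine ⟨evalP gens e.2, evalP_mem Std gens_mem _, ?_, ?_⟩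
  · apply Fin.ext
    rw [comp_evalW gens_comp]
    exact he.1.2
  · intro b hb hb12
    apply Fin.ext
    rw [comp_evalW gens_comp]
    exact he.2 b hb

theorem std_card_ge : 95040 ≤ Nat.card Std := by
  classical
  have e0 : (Finset.univ : Finset (Fin 12)).card *
      Nat.card (Std ⊓ stabilizer (Perm (Fin 12)) (11 : Fin 12) : Subgroup (Perm (Fin 12))) ≤
      Nat.card Std := by
    apply orbit_card
    intro y _
    obtain ⟨g, hg, h1, -⟩ := chain_step (by norm_num) ch0_ok y (by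
      have := y.2
      interval_cases h : (y : ℕ) <;> decide) y.2
    exact ⟨g, hg, h1⟩
  have e1 : (Finset.univ.erase (11 : Fin 12)).card *
      Nat.card (Std ⊓ stabilizer (Perm (Fin 12)) (11 : Fin 12) ⊓
        stabilizer (Perm (Fin 12)) (0 : Fin 12) : Subgroup (Perm (Fin 12))) ≤
      Nat.card (Std ⊓ stabilizer (Perm (Fin 12)) (11 : Fin 12) : Subgroup (Perm (Fin 12))) := by
    apply orbit_card
    intro y hy
    obtain ⟨g, hg, h1, h2⟩ := chain_step (by norm_num) ch1_ok y (by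
      revert hy; revert y; decide) y.2
    exact ⟨g, ⟨hg, h2 11 (by decide) (by norm_num)⟩, h1⟩
  have e2 : ((Finset.univ.erase (11 : Fin 12)).erase 0).card *
      Nat.card (Std ⊓ stabilizer (Perm (Fin 12)) (11 : Fin 12) ⊓
        stabilizer (Perm (Fin 12)) (0 : Fin 12) ⊓ stabilizer (Perm (Fin 12)) (1 : Fin 12) :
        Subgroup (Perm (Fin 12))) ≤
      Nat.card (Std ⊓ stabilizer (Perm (Fin 12)) (11 : Fin 12) ⊓
        stabilizer (Perm (Fin 12)) (0 : Fin 12) : Subgroup (Perm (Fin 12))) := by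
    apply orbit_card
    intro y hy
    obtain ⟨g, hg, h1, h2⟩ := chain_step (by norm_num) ch2_ok y (by
      revert hy; revert y; decide) y.2
    exact ⟨g, ⟨⟨hg, h2 11 (by decide) (by norm_num)⟩, h2 0 (by decide) (by norm_num)⟩, h1⟩
  have e3 : (((Finset.univ.erase (11 : Fin 12)).erase 0).erase 1).card *
      Nat.card (Std ⊓ stabilizer (Perm (Fin 12)) (11 : Fin 12) ⊓
        stabilizer (Perm (Fin 12)) (0 : Fin 12) ⊓ stabilizer (Perm (Fin 12)) (1 : Fin 12) ⊓
        stabilizer (Perm (Fin 12)) (2 : Fin 12) : Subgroup (Perm (Fin 12))) ≤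
      Nat.card (Std ⊓ stabilizer (Perm (Fin 12)) (11 : Fin 12) ⊓
        stabilizer (Perm (Fin 12)) (0 : Fin 12) ⊓ stabilizer (Perm (Fin 12)) (1 : Fin 12) :
        Subgroup (Perm (Fin 12))) := by
    apply orbit_card
    intro y hy
    obtain ⟨g, hg, h1, h2⟩ := chain_step (by norm_num) ch3_ok y (by
      revert hy; revert y; decide) y.2
    exact ⟨g, ⟨⟨⟨hg, h2 11 (by decide) (by norm_num)⟩, h2 0 (by decide) (by norm_num)⟩,
      h2 1 (by decide) (by norm_num)⟩, h1⟩
  have e4 : ((((Finset.univ.erase (11 : Fin 12)).erase 0).erase 1).erase 2).card *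
      Nat.card (Std ⊓ stabilizer (Perm (Fin 12)) (11 : Fin 12) ⊓
        stabilizer (Perm (Fin 12)) (0 : Fin 12) ⊓ stabilizer (Perm (Fin 12)) (1 : Fin 12) ⊓
        stabilizer (Perm (Fin 12)) (2 : Fin 12) ⊓ stabilizer (Perm (Fin 12)) (3 : Fin 12) :
        Subgroup (Perm (Fin 12))) ≤
      Nat.card (Std ⊓ stabilizer (Perm (Fin 12)) (11 : Fin 12) ⊓
        stabilizer (Perm (Fin 12)) (0 : Fin 12) ⊓ stabilizer (Perm (Fin 12)) (1 : Fin 12) ⊓
        stabilizer (Perm (Fin 12)) (2 : Fin 12) : Subgroup (Perm (Fin 12))) := by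
    apply orbit_card
    intro y hy
    obtain ⟨g, hg, h1, h2⟩ := chain_step (by norm_num) ch4_ok y (by
      revert hy; revert y; decide) y.2
    exact ⟨g, ⟨⟨⟨⟨hg, h2 11 (by decide) (by norm_num)⟩, h2 0 (by decide) (by norm_num)⟩,
      h2 1 (by decide) (by norm_num)⟩, h2 2 (by decide) (by norm_num)⟩, h1⟩
  have e5 : 0 < Nat.card (Std ⊓ stabilizer (Perm (Fin 12)) (11 : Fin 12) ⊓
        stabilizer (Perm (Fin 12)) (0 : Fin 12) ⊓ stabilizer (Perm (Fin 12)) (1 : Fin 12) ⊓
        stabilizer (Perm (Fin 12)) (2 : Fin 12) ⊓ stabilizer (Perm (Fin 12)) (3 : Fin 12) :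
        Subgroup (Perm (Fin 12))) := Nat.card_pos
  have c0 : (Finset.univ : Finset (Fin 12)).card = 12 := by decide
  have c1 : (Finset.univ.erase (11 : Fin 12)).card = 11 := by decide
  have c2 : ((Finset.univ.erase (11 : Fin 12)).erase 0).card = 10 := by decide
  have c3 : (((Finset.univ.erase (11 : Fin 12)).erase 0).erase 1).card = 9 := by decide
  have c4 : ((((Finset.univ.erase (11 : Fin 12)).erase 0).erase 1).erase 2).card = 8 := by decide
  rw [c0] at e0
  rw [c1] at e1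
  rw [c2] at e2
  rw [c3] at e3
  rw [c4] at e4
  omega

/-- Every permutation group as in `Hyp` is conjugate to the standard one. -/
theorem exists_relabel {L : Subgroup (Perm (Fin 12))} (h : Hyp L) :
    ∃ σ : Perm (Fin 12), L.map (MulAut.conj σ).toMonoidHom = Std := by
  have key : ∀ L' : Subgroup (Perm (Fin 12)), Hyp L' → w1 ∈ L' → L' = Std := by
    intro L' h' hv
    symm
    have hle : Std ≤ L' := by
      rw [Std, Subgroup.closure_le]
      intro g hg
      rcases hg with rfl | rfl | rfl | rfl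
      · exact h'.t_mem
      · exact q_mem h'
      · exact hv
      · exact u_mem h' hv
    apply Subgroup.eq_of_le_of_card_ge hle
    rw [h'.card]
    exact std_card_ge
  rcases w_mem h with hv | hv
  · refine ⟨1, ?_⟩
    have h1 : L.map (MulAut.conj (1 : Perm (Fin 12))).toMonoidHom = L := by
      ext g
      constructor
      · rintro ⟨g', hg', rfl⟩
        simpa using hg'
      · intro hg
        exact ⟨g, hg, by simp⟩
    rw [h1]
    exact key L h hv
  · refine ⟨nP, ?_⟩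
    have h' := hyp_neg h
    have hq' := q_mem h'
    have hv' : w1 ∈ L.map (MulAut.conj nP).toMonoidHom := by
      have h1 : nP * w4 * nP⁻¹ ∈ L.map (MulAut.conj nP).toMonoidHom := ⟨w4, hv, rfl⟩
      have h2 : w1 = qP ^ 1 * (nP * w4 * nP⁻¹) := by
        have h3 : w1 * nP = qP ^ 1 * (nP * w4) :=
          perm_ext_comp (comp_mul w1_comp nP_comp)
            (comp_mul (comp_pow qP_comp 1) (comp_mul nP_comp w4_comp)) (by decide +kernel)
        rw [← mul_assoc, ← h3]
        group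
      rw [h2]
      exact Subgroup.mul_mem _ (Subgroup.pow_mem _ hq' _) h1
    exact key _ h' hv'

/-- A simple group of order 95040 with a subgroup of index 12 is isomorphic to the standard one. -/
theorem mulEquiv_std {G : Type*} [Group G] [Finite G] (hs : IsSimpleGroup G)
    (hc : Nat.card G = 95040) (H : Subgroup G) (hH : H.index = 12) : Nonempty (G ≃* Std) := by
  obtain ⟨ψ, hψ, ht, htr⟩ := exists_hom hs H hH (by norm_num) (by norm_num : Nat.Prime 11)
    (by rw [hc]; norm_num) (by norm_num) tP orderOf_tP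
  have hyp : Hyp ψ.range :=
    { card := by
        rw [← hc]
        exact (Nat.card_congr (MonoidHom.ofInjective hψ).toEquiv).symm
      even := by
        rintro _ ⟨g, rfl⟩
        exact sign_eq_one hs (by rw [hc]; norm_num) ψ g
      trans := by
        intro x y
        obtain ⟨g, hg⟩ := htr x y
        exact ⟨ψ g, ⟨g, rfl⟩, hg⟩
      t_mem := ht }
  obtain ⟨σ, h1⟩ := exists_relabel hyp
  let f : G →* Perm (Fin 12) := (MulAut.conj σ).toMonoidHom.comp ψ
  have hf : Function.Injective f := (MulAut.conj σ).injective.comp hψ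
  have hr : f.range = Std := by
    rw [← h1]
    exact MonoidHom.range_comp _ _
  exact ⟨(MonoidHom.ofInjective hf).trans (MulEquiv.subgroupCongr hr)⟩

end Cfsg.Agent.SporadicA.M12Perm
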