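import Mathlib
import Cfsg.Agent.SporadicA.WittSteiner
import Cfsg.Agent.S0713

/-!
Removing the hypothesis on elements of order 4 from `WittSteiner`, and the step from
`(t - 1)`-transitive to `t`-transitive, `t = 3, 4, 5`, in degree `t + 19`.

Tools: Witt's lemma (`witt`), Jordan's theorem on prime cycles (S0713).
-/

set_option autoImplicit false

namespace Cfsg.Agent.SporadicA.WittStep

open Finset Function MulAction
open Cfsg.Agent.SporadicA.WittSteiner

variable {G Ω : Type*} [Group G] [Fintype Ω] [DecidableEq Ω] [MulAction G Ω]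

/-! ### Conjugacy of `p`-subgroups -/

theorem exists_conj_le [Finite G] {p : ℕ} [Fact p.Prime] (H A B : Subgroup G) (hA : A ≤ H)
    (hB : B ≤ H) (pA : IsPGroup p A) (pB : IsPGroup p B) :
    ∃ h ∈ H, ∃ T : Subgroup G, T ≤ H ∧ Nat.card T = p ^ (Nat.card H).factorization p ∧ A ≤ T ∧
      ∀ b ∈ B, h * b * h⁻¹ ∈ T := by
  have pA' : IsPGroup p (A.subgroupOf H) := pA.comap_of_injective _ H.subtype_injective
  have pB' : IsPGroup p (B.subgroupOf H) := pB.comap_of_injective _ H.subtype_injective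
  obtain ⟨P, hP⟩ := pA'.exists_le_sylow
  obtain ⟨Q, hQ⟩ := pB'.exists_le_sylow
  obtain ⟨h, hh⟩ := exists_smul_eq H Q P
  refine ⟨h, h.2, (P : Subgroup H).map H.subtype, Subgroup.map_subtype_le _, ?_, ?_, ?_⟩
  · rw [Subgroup.card_map_of_injective H.subtype_injective, Sylow.card_eq_multiplicity]
  · intro a ha
    exact Subgroup.mem_map.2 ⟨⟨a, hA ha⟩, hP (Subgroup.mem_subgroupOf.2 ha), rfl⟩
  · intro b hb
    refine Subgroup.mem_map.2 ⟨h * ⟨b, hB hb⟩ * h⁻¹, ?_, rfl⟩
    rw [← hh]
    have h1 : (⟨b, hB hb⟩ : H) ∈ (Q : Subgroup H) := hQ (Subgroup.mem_subgroupOf.2 hb)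
    have h2 := Subgroup.smul_mem_pointwise_smul _ (MulAut.conj h) _ h1
    exact h2

theorem isPGroup_of_le {p : ℕ} {A B : Subgroup G} (h : A ≤ B) (hB : IsPGroup p B) :
    IsPGroup p A := hB.to_le h

/-! ### Jordan -/

theorem false_of_cycle [Finite G] [FaithfulSMul G Ω] (hprim : IsPreprimitive G Ω)
    (hn : 5 ≤ Fintype.card Ω) (hG : 2 * Nat.card G < (Fintype.card Ω).factorial) {p : ℕ}
    (hp : p.Prime) (hpn : p + 3 ≤ Fintype.card Ω) {y : G} (hy : orderOf y = p) {X : Finset Ω}
    (hX : ∀ x ∉ X, y • x = x) (hXc : X.card < 2 * p) : False := by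
  classical
  have hinj : Function.Injective (toPermHom G Ω) := toPerm_injective
  set σ : Equiv.Perm Ω := toPermHom G Ω y with hσ
  have ho : orderOf σ = p := by
    rw [hσ, orderOf_injective _ hinj, hy]
  have hsup : σ.support ⊆ X := by
    intro x hx
    by_contra hxX
    rw [Equiv.Perm.mem_support] at hx
    exact hx (hX x hxX)
  have hcyc : σ.IsCycle := by
    apply Equiv.Perm.isCycle_of_prime_order
    · rw [ho]
      exact hp
    · rw [ho]
      exact lt_of_le_of_lt (card_le_card hsup) hXc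
  have hcard : σ.support.card = p := by
    rw [← hcyc.orderOf, ho]
  have hprim' : IsPreprimitive (toPermHom G Ω).range Ω := by
    let f : Ω →ₑ[(toPermHom G Ω).rangeRestrict] Ω :=
      { toFun := id
        map_smul' := fun g x => rfl }
    exact IsPreprimitive.of_surjective (f := f) Function.surjective_id
  have hA := Cfsg.Agent.S0713.result (toPermHom G Ω).range hprim' hp hn hpn hcyc hcard ⟨y, rfl⟩
  have h1 := Subgroup.card_le_of_le hA
  have h2 : Nat.card (toPermHom G Ω).range = Nat.card G :=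
    Nat.card_congr (MonoidHom.ofInjective hinj).symm.toEquiv
  have : Nontrivial Ω := by
    apply Fintype.one_lt_card_iff_nontrivial.1
    omega
  have h3 := two_mul_nat_card_alternatingGroup (α := Ω)
  rw [Nat.card_eq_fintype_card (α := Equiv.Perm Ω), Fintype.card_perm] at h3
  rw [h2] at h1
  omega

/-! ### Elements commuting with a semiregular group -/

theorem fix_of_commute [Finite G] (A : Subgroup G) (X : Finset Ω)
    (hA : ∀ a ∈ A, ∀ x, x ∉ X → a • x = x → a = 1) (hAX : ∀ a ∈ A, ∀ x ∉ X, a • x ∉ X)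
    {y : G} {p : ℕ} (hp : p.Prime) (hy : orderOf y = p) (hyX : ∀ x ∉ X, y • x ∉ X)
    (hcomm : ∀ a ∈ A, a * y = y * a) (hcop : (Nat.card A).Coprime p)
    (hlt : Xᶜ.card < p * Nat.card A) : ∀ x ∉ X, y • x = x := by
  classical
  have := Fintype.ofFinite A
  intro x hx
  have hyn : ∀ n : ℕ, y ^ n • x ∉ X := by
    intro n
    induction n with
    | zero => simpa using hx
    | succ n ih =>
      rw [pow_succ', mul_smul]
      exact hyX _ ih
  obtain ⟨⟨i, a⟩, hi, ⟨j, b⟩, hj, hne, heq⟩ := exists_ne_map_eq_of_card_lt_of_maps_to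
    (s := range p ×ˢ (univ : Finset A)) (t := Xᶜ) (f := fun q => (q.2 : G) • (y ^ q.1 • x))
    (by rw [card_product, card_range, card_univ, ← Nat.card_eq_fintype_card]; exact hlt)
    (by
      intro q _
      rw [mem_coe, mem_compl]
      exact hAX _ q.2.2 _ (hyn _))
  simp only [mem_product, mem_range, mem_univ, and_true] at hi hj
  -- a general consequence
  have key : ∀ k : ℕ, 0 < k → k < p → ∀ c ∈ A, c • x = y ^ k • x → y • x = x := by
    intro k hk hkp c hc hck
    have hcy : Commute c (y ^ k) := (show Commute c y from hcomm c hc).pow_right k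
    have hpow : ∀ n : ℕ, c ^ n • x = (y ^ k) ^ n • x := by
      intro n
      induction n with
      | zero => simp
      | succ n ih =>
        rw [pow_succ, mul_smul, hck, ← mul_smul, (hcy.pow_left n).eq, mul_smul, ih, ← mul_smul,
          ← pow_succ']
    have h1 := hpow p
    rw [← pow_mul, mul_comm k p, pow_mul, ← hy, pow_orderOf_eq_one, one_pow, one_smul, hy] at h1
    have h2 : c ^ p = 1 := hA _ (pow_mem hc p) x hx h1
    have h3 : c ^ Nat.card A = 1 := by
      have := pow_card_eq_one' (x := (⟨c, hc⟩ : A))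
      exact congrArg Subtype.val this
    have h4 : c = 1 := by
      have h5 : orderOf c ∣ 1 := by
        rw [← hcop]
        exact Nat.dvd_gcd (orderOf_dvd_of_pow_eq_one h3) (orderOf_dvd_of_pow_eq_one h2)
      exact orderOf_eq_one_iff.1 (Nat.dvd_one.1 h5)
    rw [h4, one_smul] at hck
    have hfix : ∀ n : ℕ, (y ^ k) ^ n • x = x := by
      intro n
      induction n with
      | zero => simp
      | succ n ih => rw [pow_succ, mul_smul, ← hck, ih]
    have hkc : Nat.Coprime (orderOf y) k := by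
      rw [hy]
      exact Nat.coprime_of_lt_prime hk.ne' hkp hp
    obtain ⟨m, hm⟩ := exists_pow_eq_self_of_coprime hkc.symm
    rw [← hm]
    exact hfix m
  have key2 : ∀ i j : ℕ, ∀ a b : A, i < j → j < p → (a : G) • y ^ i • x = (b : G) • y ^ j • x →
      y • x = x := by
    intro i j a b hij hjp h
    refine key (j - i) (by omega) (by omega) ((b : G)⁻¹ * a) (mul_mem (inv_mem b.2) a.2) ?_
    have hcy : Commute ((b : G)⁻¹ * a) (y ^ i) :=
      (show Commute ((b : G)⁻¹ * a) y from hcomm _ (mul_mem (inv_mem b.2) a.2)).pow_right i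
    apply smul_left_cancel (y ^ i)
    rw [← mul_smul, ← hcy.eq, ← mul_smul, ← pow_add, mul_smul, mul_smul, h, inv_smul_smul]
    congr 2
    omega
  rcases lt_trichotomy i j with hij | hij | hij
  · exact key2 i j a b hij hj heq
  · exfalso
    subst hij
    have h1 : ((b : G)⁻¹ * a) • y ^ i • x = y ^ i • x := by
      rw [mul_smul]
      have h2 : (a : G) • y ^ i • x = (b : G) • y ^ i • x := heq
      rw [h2, inv_smul_smul]
    have h2 := hA _ (mul_mem (inv_mem b.2) a.2) _ (hyn i) h1
    apply hne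
    rw [Prod.mk.injEq]
    exact ⟨rfl, Subtype.ext (inv_mul_eq_one.1 h2).symm⟩
  · exact key2 j i b a hij hi heq.symm

/-! ### Witt's lemma -/

theorem cfix_normalizer {A : Subgroup G} {n : G} (hn : ∀ a ∈ A, n⁻¹ * a * n ∈ A) {x : Ω}
    (hx : x ∈ cfix Ω A) : n • x ∈ cfix Ω A := by
  rw [mem_cfix] at hx ⊢
  intro a ha
  have h1 := hx _ (hn a ha)
  rw [mul_smul, mul_smul] at h1
  rw [← smul_inv_smul n (a • n • x), h1]

theorem witt [Finite G] {t : ℕ} (ht : IsMultiplyPretransitive G Ω t) (A : Subgroup G)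
    (hA : ∀ s : Finset Ω, s.card = t → s ⊆ cfix Ω A → ∀ g : G,
      (∀ a ∈ A, ∀ x ∈ s, (g * a * g⁻¹) • x = x) →
        ∃ h : G, (∀ x ∈ s, h • x = x) ∧ ∀ a ∈ A, h * (g * a * g⁻¹) * h⁻¹ ∈ A)
    (e e' : Fin t ↪ Ω) (he : ∀ i, e i ∈ cfix Ω A) (he' : ∀ i, e' i ∈ cfix Ω A) :
    ∃ n ∈ Subgroup.normalizer (A : Set G), n • e = e' := by
  classical
  obtain ⟨g, hg⟩ := ht.exists_smul_eq e e'
  have hgi : ∀ i, g • e i = e' i := fun i => by
    rw [← hg]
    rfl
  obtain ⟨h, hh, hhA⟩ := hA (univ.map e') (by rw [card_map, card_univ, Fintype.card_fin])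
    (by
      intro x hx
      obtain ⟨i, -, rfl⟩ := mem_map.1 hx
      exact he' i) g
    (by
      intro a ha x hx
      obtain ⟨i, -, rfl⟩ := mem_map.1 hx
      rw [← hgi i, ← mul_smul, inv_mul_cancel_right, mul_smul, (mem_cfix.1 (he i)) a ha])
  refine ⟨h * g, ?_, ?_⟩
  · apply Subgroup.mem_normalizer_fintype
    intro a ha
    have h1 := hhA a ha
    rw [mul_inv_rev, SetLike.mem_coe]
    simpa only [mul_assoc] using h1
  · ext i
    change (h * g) • e i = e' i
    rw [mul_smul, hgi]
    exact hh _ (mem_map_of_mem _ (mem_univ i))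

/-- Witt's lemma: the order of the normaliser. -/
theorem descFactorial_dvd_card_normalizer [Finite G] {t : ℕ}
    (ht : IsMultiplyPretransitive G Ω t) (A : Subgroup G)
    (hA : ∀ s : Finset Ω, s.card = t → s ⊆ cfix Ω A → ∀ g : G,
      (∀ a ∈ A, ∀ x ∈ s, (g * a * g⁻¹) • x = x) →
        ∃ h : G, (∀ x ∈ s, h • x = x) ∧ ∀ a ∈ A, h * (g * a * g⁻¹) * h⁻¹ ∈ A)
    (hle : t ≤ (cfix Ω A).card) :
    (cfix Ω A).card.descFactorial t ∣ Nat.card (Subgroup.normalizer (A : Set G)) := by
  classical
  -- a `t`-tuple in the fixed points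
  have hcard : Fintype.card (Fin t ↪ (cfix Ω A)) = (cfix Ω A).card.descFactorial t := by
    rw [Fintype.card_embedding_eq, Fintype.card_fin, Fintype.card_coe]
  have hne : Nonempty (Fin t ↪ (cfix Ω A)) := by
    rw [← Fintype.card_pos_iff, hcard]
    exact Nat.descFactorial_pos.2 hle
  obtain ⟨e₀⟩ := hne
  set e : Fin t ↪ Ω := e₀.trans (Function.Embedding.subtype _) with he
  have hN : ∀ n ∈ Subgroup.normalizer (A : Set G), ∀ x ∈ cfix Ω A, n • x ∈ cfix Ω A := by
    intro n hn x hx
    apply cfix_normalizer _ hx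
    intro a ha
    exact (Subgroup.mem_normalizer_iff''.1 hn a).1 ha
  have horb : Nat.card (orbit (Subgroup.normalizer (A : Set G)) e) =
      (cfix Ω A).card.descFactorial t := by
    rw [← hcard, ← Nat.card_eq_fintype_card]
    apply Nat.card_congr
    refine
      { toFun := fun f => ⟨fun i => ⟨f.1 i, ?_⟩, ?_⟩
        invFun := fun f => ⟨f.trans (Function.Embedding.subtype _), ?_⟩
        left_inv := ?_
        right_inv := ?_ }
    · obtain ⟨⟨n, hn⟩, hf⟩ := f.2
      rw [← hf]
      exact hN n hn _ (e₀ i).2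
    · intro i j hij
      exact f.1.injective (congrArg Subtype.val hij)
    · obtain ⟨n, hn, hne⟩ := witt ht A hA e (f.trans (Function.Embedding.subtype _))
        (fun i => (e₀ i).2) (fun i => (f i).2)
      exact ⟨⟨n, hn⟩, hne⟩
    · intro f
      ext i
      rfl
    · intro f
      ext i
      rfl
  have h1 := index_stabilizer (Subgroup.normalizer (A : Set G)) e
  have h2 := Subgroup.index_dvd_card (stabilizer (Subgroup.normalizer (A : Set G)) e)
  rw [h1] at h2
  rw [← horb, Nat.card_coe_set_eq]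
  exact h2

/-! ### Elements of prime order normalising a subgroup -/

theorem conj_modEq [Finite G] (K : Subgroup G) {y : G} {p : ℕ} [Fact p.Prime]
    (hy : orderOf y = p) (hK : ∀ k ∈ K, y * k * y⁻¹ ∈ K) :
    Nat.card K ≡ Nat.card (K ⊓ Subgroup.centralizer {y} : Subgroup G) [MOD p] := by
  classical
  have := Fintype.ofFinite K
  let f : Function.End K := fun k => ⟨y * k * y⁻¹, hK k k.2⟩
  have hf : ∀ (n : ℕ) (k : K), ((f ^ n) k : G) = y ^ n * k * (y ^ n)⁻¹ := by
    intro n
    induction n with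
    | zero =>
      intro k
      simp only [pow_zero, one_mul, inv_one, mul_one]
      rfl
    | succ n ih =>
      intro k
      rw [pow_succ]
      change ((f ^ n) (f k) : G) = _
      rw [ih, pow_succ]
      change y ^ n * (y * k * y⁻¹) * (y ^ n)⁻¹ = _
      group
  have hfp : f ^ p ^ 1 = 1 := by
    funext k
    apply Subtype.ext
    rw [hf, pow_one, ← hy, pow_orderOf_eq_one, one_mul, inv_one, mul_one]
    rfl
  have h1 := Equiv.Perm.card_fixedPoints_modEq hfp
  rw [Nat.card_eq_fintype_card]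
  refine h1.trans ?_
  rw [← Nat.card_eq_fintype_card]
  suffices h : Nat.card f.fixedPoints = Nat.card (K ⊓ Subgroup.centralizer {y} : Subgroup G) by
    rw [h]
  apply Nat.card_congr
  refine
    { toFun := fun k => ⟨k.1.1, ?_⟩
      invFun := fun k => ⟨⟨k.1, k.2.1⟩, ?_⟩
      left_inv := fun k => rfl
      right_inv := fun k => rfl }
  · refine ⟨k.1.2, ?_⟩
    change (k.1 : G) ∈ Subgroup.centralizer {y}
    rw [Subgroup.mem_centralizer_singleton_iff]
    have h2 : y * (k.1 : G) * y⁻¹ = k.1 := congrArg Subtype.val (show f k.1 = k.1 from k.2)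
    calc (k.1 : G) * y = y * (k.1 : G) * y⁻¹ * y := by rw [h2]
      _ = y * (k.1 : G) := by group
  · change f ⟨k.1, k.2.1⟩ = ⟨k.1, k.2.1⟩
    apply Subtype.ext
    change y * (k.1 : G) * y⁻¹ = k.1
    have h2 := Subgroup.mem_centralizer_singleton_iff.1 k.2.2
    rw [← h2]
    group

theorem centralizes_of_modEq [Finite G] (K : Subgroup G) {y : G}
    (h : Nat.card (K ⊓ Subgroup.centralizer {y} : Subgroup G) = Nat.card K) :
    ∀ k ∈ K, k * y = y * k := by
  have h1 : K ⊓ Subgroup.centralizer {y} = K :=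
    Subgroup.eq_of_le_of_card_ge inf_le_left h.ge
  intro k hk
  rw [← h1] at hk
  exact Subgroup.mem_centralizer_singleton_iff.1 hk.2

/-- An element of prime order `p > 5` normalising a group of order 5 centralises it. -/
theorem centralizes_five [Finite G] (K : Subgroup G) (hK5 : Nat.card K = 5) {y : G} {p : ℕ}
    (hp : p.Prime) (hp5 : 5 < p)
    (hy : orderOf y = p) (hK : ∀ k ∈ K, y * k * y⁻¹ ∈ K) : ∀ k ∈ K, k * y = y * k := by
  have : Fact p.Prime := ⟨hp⟩
  have h1 := conj_modEq K hy hK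
  apply centralizes_of_modEq
  have h2 : Nat.card (K ⊓ Subgroup.centralizer {y} : Subgroup G) ≤ Nat.card K :=
    Subgroup.card_le_of_le inf_le_left
  rw [hK5] at h1 h2 ⊢
  exact (Nat.ModEq.eq_of_lt_of_lt h1 hp5 (by omega)).symm

/-- An element of order 5 normalising a group of order 8 or 16. -/
theorem five_on_two [Finite G] (A : Subgroup G) (hA : Nat.card A = 8 ∨ Nat.card A = 16) {y : G}
    (hy : orderOf y = 5) (hyA : ∀ a ∈ A, y * a * y⁻¹ ∈ A) :
    (∀ a ∈ A, a * y = y * a) ∨ (Nat.card A = 16 ∧ ∀ a ∈ A, a ^ 2 = 1) := by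
  have f5 : Fact (Nat.Prime 5) := ⟨by norm_num⟩
  have f2 : Fact (Nat.Prime 2) := ⟨Nat.prime_two⟩
  set C : Subgroup G := A ⊓ Subgroup.centralizer {y} with hC
  have hCA : Nat.card C ∣ Nat.card A := Subgroup.card_dvd_of_le inf_le_left
  have hmod := conj_modEq A hy hyA
  rw [← hC] at hmod
  by_cases hCeq : Nat.card C = Nat.card A
  · exact Or.inl (centralizes_of_modEq A hCeq)
  right
  have hmod' : Nat.card A % 5 = Nat.card C % 5 := hmod
  have h16 : Nat.card A = 16 := by
    rcases hA with h8 | h16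
    · exfalso
      rw [h8] at hCA hCeq hmod'
      have h3 : Nat.card C ≤ 8 := Nat.le_of_dvd (by norm_num) hCA
      interval_cases (Nat.card C) <;> omega
    · exact h16
  have hC1 : Nat.card C = 1 := by
    rw [h16] at hCA hCeq hmod'
    have h3 : Nat.card C ≤ 16 := Nat.le_of_dvd (by norm_num) hCA
    interval_cases (Nat.card C) <;> omega
  have hCbot : C = ⊥ := Subgroup.card_eq_one.1 hC1
  have hA2 : IsPGroup 2 A := IsPGroup.of_card (n := 4) (by rw [h16]; norm_num)
  -- invariant nontrivial subgroups are everything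
  have hinv : ∀ K : Subgroup G, K ≤ A → (∀ k ∈ K, y * k * y⁻¹ ∈ K) → K ≠ ⊥ → K = A := by
    intro K hKA hyK hKbot
    have h1 := conj_modEq K hy hyK
    have h2 : K ⊓ Subgroup.centralizer {y} = ⊥ := by
      rw [eq_bot_iff, ← hCbot, hC]
      exact inf_le_inf_right _ hKA
    rw [h2, Subgroup.card_bot] at h1
    have h1' : Nat.card K % 5 = 1 % 5 := h1
    have h3 : Nat.card K ∣ 16 := by
      rw [← h16]
      exact Subgroup.card_dvd_of_le hKA
    have h4 : Nat.card K ≠ 1 := fun h => hKbot (Subgroup.card_eq_one.1 h)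
    have h5 : Nat.card K ≤ 16 := Nat.le_of_dvd (by norm_num) h3
    have h6 : Nat.card K = 16 := by
      interval_cases (Nat.card K) <;> omega
    exact Subgroup.eq_of_le_of_card_ge hKA (by rw [h16, h6])
  refine ⟨h16, ?_⟩
  -- the centre
  have hZ : A ⊓ Subgroup.centralizer (A : Set G) = A := by
    apply hinv _ inf_le_left
    · rintro k ⟨hk, hkc⟩
      refine ⟨hyA k hk, ?_⟩
      change y * k * y⁻¹ ∈ Subgroup.centralizer (A : Set G)
      change k ∈ Subgroup.centralizer (A : Set G) at hkc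
      rw [Subgroup.mem_centralizer_iff] at hkc ⊢
      intro a ha
      have hya : y⁻¹ * a * y ∈ A := by
        have hn : y ∈ Subgroup.normalizer (A : Set G) := Subgroup.mem_normalizer_fintype hyA
        exact (Subgroup.mem_normalizer_iff''.1 hn a).1 ha
      have h1 := hkc _ hya
      calc a * (y * k * y⁻¹) = y * ((y⁻¹ * a * y) * k) * y⁻¹ := by group
        _ = y * (k * (y⁻¹ * a * y)) * y⁻¹ := by rw [h1]
        _ = y * k * y⁻¹ * a := by group
    · intro hbot
      have hnt : Nontrivial A := by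
        rw [← Finite.one_lt_card_iff_nontrivial, h16]
        norm_num
      have hc := hA2.center_nontrivial
      obtain ⟨z, hz⟩ := (Subgroup.nontrivial_iff_exists_ne_one _).1 hc
      apply hz.2
      have : (z : G) ∈ A ⊓ Subgroup.centralizer (A : Set G) := by
        refine ⟨z.2, ?_⟩
        change (z : G) ∈ Subgroup.centralizer (A : Set G)
        rw [Subgroup.mem_centralizer_iff]
        intro a ha
        exact congrArg Subtype.val (Subgroup.mem_center_iff.1 hz.1 ⟨a, ha⟩)
      rw [hbot, Subgroup.mem_bot] at this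
      exact Subtype.ext this
  have hcomm : ∀ a ∈ A, ∀ b ∈ A, a * b = b * a := by
    intro a ha b hb
    rw [← hZ] at hb
    exact Subgroup.mem_centralizer_iff.1 hb.2 a ha
  let K : Subgroup G :=
    { carrier := {a | a ∈ A ∧ a ^ 2 = 1}
      mul_mem' := by
        rintro a b ⟨ha, ha2⟩ ⟨hb, hb2⟩
        refine ⟨mul_mem ha hb, ?_⟩
        rw [(show Commute a b from hcomm a ha b hb).mul_pow, ha2, hb2, one_mul]
      one_mem' := ⟨one_mem _, one_pow _⟩
      inv_mem' := by
        rintro a ⟨ha, ha2⟩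
        refine ⟨inv_mem ha, ?_⟩
        rw [inv_pow, ha2, inv_one] }
  have hK : K = A := by
    apply hinv K (fun a ha => ha.1)
    · rintro k ⟨hk, hk2⟩
      refine ⟨hyA k hk, ?_⟩
      rw [conj_pow, hk2]
      group
    · intro hbot
      obtain ⟨w, hw⟩ := exists_prime_orderOf_dvd_card' (G := A) 2 (by rw [h16]; norm_num)
      have hwK : (w : G) ∈ K := by
        refine ⟨w.2, ?_⟩
        rw [← hw, ← Subgroup.orderOf_coe, pow_orderOf_eq_one]
      rw [hbot, Subgroup.mem_bot] at hwK
      have hw1 : w = 1 := Subtype.ext hwK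
      rw [hw1, orderOf_one] at hw
      omega
  intro a ha
  rw [← hK] at ha
  exact ha.2

/-! ### 2-subgroups with many fixed points -/

theorem card_cfix_modEq {p : ℕ} [Fact p.Prime] {A : Subgroup G} (hA : IsPGroup p A) :
    (cfix Ω A).card ≡ Fintype.card Ω [MOD p] := by
  have h1 := hA.card_modEq_card_fixedPoints Ω
  have h3 : Nat.card (fixedPoints A Ω) = (cfix Ω A).card := by
    rw [← Set.ncard_coe_finset (cfix Ω A)]
    change (fixedPoints A Ω).ncard = _
    congr 1
    ext x
    simp only [mem_coe, mem_cfix]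
    constructor
    · intro h g hg
      exact h ⟨g, hg⟩
    · intro h g
      exact h g g.2
  rw [h3, Nat.card_eq_fintype_card] at h1
  exact h1.symm

theorem fix_eq_of_pgroup [Finite G] {t : ℕ}
    (h2 : ∀ g : G, orderOf g = 2 → t ≤ (fix Ω g).card → (fix Ω g).card = t + 3)
    {A : Subgroup G} (hA : IsPGroup 2 A) (hAf : (cfix Ω A).card = t + 3) {a : G} (ha : a ∈ A)
    (ha1 : a ≠ 1) : fix Ω a = cfix Ω A := by
  have f2 : Fact (Nat.Prime 2) := ⟨Nat.prime_two⟩
  obtain ⟨m, hm⟩ := IsPGroup.iff_orderOf.1 hA ⟨a, ha⟩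
  rw [Subgroup.orderOf_mk] at hm
  have hm0 : m ≠ 0 := by
    rintro rfl
    rw [pow_zero, orderOf_eq_one_iff] at hm
    exact ha1 hm
  have hz : orderOf (a ^ 2 ^ (m - 1)) = 2 := by
    rw [orderOf_pow_of_dvd (by positivity) (by rw [hm]; exact pow_dvd_pow 2 (by omega)), hm,
      Nat.pow_div (by omega) (by norm_num)]
    have : m - (m - 1) = 1 := by omega
    rw [this, pow_one]
  have hle : cfix Ω A ⊆ fix Ω a := cfix_subset ha
  have hle2 := hle.trans (fix_pow_subset a (2 ^ (m - 1)))
  have h3 := card_le_card hle2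
  have h4 := h2 _ hz (by omega)
  symm
  apply eq_of_subset_of_card_le hle
  rw [hAf, ← h4]
  exact card_le_card (fix_pow_subset a (2 ^ (m - 1)))

theorem smul_notMem_cfix {A : Subgroup G} {a : G} (ha : a ∈ A) {x : Ω} (hx : x ∉ cfix Ω A) :
    a • x ∉ cfix Ω A := by
  intro h
  apply hx
  have h1 := (mem_cfix.1 h) a⁻¹ (inv_mem ha)
  rw [inv_smul_smul] at h1
  rwa [← h1] at h

theorem ncard_orbit [Finite G] {t : ℕ}
    (h2 : ∀ g : G, orderOf g = 2 → t ≤ (fix Ω g).card → (fix Ω g).card = t + 3)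
    {A : Subgroup G} (hA : IsPGroup 2 A) (hAf : (cfix Ω A).card = t + 3) {x : Ω}
    (hx : x ∉ cfix Ω A) : (orbit A x).ncard = Nat.card A := by
  rw [← index_stabilizer]
  have : stabilizer A x = ⊥ := by
    rw [eq_bot_iff]
    intro a ha
    rw [Subgroup.mem_bot]
    by_contra ha1
    apply hx
    rw [← fix_eq_of_pgroup h2 hA hAf a.2 (fun h => ha1 (Subtype.ext h)), mem_fix]
    exact ha
  rw [this, Subgroup.index_bot]

theorem card_le_of_cfix [Finite G] {t : ℕ}
    (h2 : ∀ g : G, orderOf g = 2 → t ≤ (fix Ω g).card → (fix Ω g).card = t + 3)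
    {A : Subgroup G} (hA : IsPGroup 2 A) (hAf : (cfix Ω A).card = t + 3) {x : Ω}
    (hx : x ∉ cfix Ω A) {O : Finset Ω} (hO : ∀ a ∈ A, a • x ∈ O) : Nat.card A ≤ O.card := by
  rw [← ncard_orbit h2 hA hAf hx, ← Set.ncard_coe_finset O]
  apply Set.ncard_le_ncard _ (Finset.finite_toSet _)
  rintro _ ⟨a, rfl⟩
  exact mem_coe.2 (hO a a.2)

theorem exists_half [Finite G] {t : ℕ} (hΩ : Fintype.card Ω = t + 19)
    (h2 : ∀ g : G, orderOf g = 2 → t ≤ (fix Ω g).card → (fix Ω g).card = t + 3)
    {S : Subgroup G} (hS : IsPGroup 2 S) (hS1 : 1 < Nat.card S) (hSf : t ≤ (cfix Ω S).card) :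
    ∃ A ≤ S, Nat.card S ≤ 2 * Nat.card A ∧ (cfix Ω A).card = t + 3 := by
  classical
  have f2 : Fact (Nat.Prime 2) := ⟨Nat.prime_two⟩
  have hnt : Nontrivial S := Finite.one_lt_card_iff_nontrivial.1 hS1
  have hc := hS.center_nontrivial
  have hc2 : 2 ∣ Nat.card (Subgroup.center S) := by
    rcases (hS.to_subgroup (Subgroup.center S)).card_eq_or_dvd with h | h
    · exfalso
      have := Finite.one_lt_card_iff_nontrivial.2 hc
      omega
    · exact h
  obtain ⟨z₀, hz₀⟩ := exists_prime_orderOf_dvd_card' (G := Subgroup.center S) 2 hc2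
  set z : G := ((z₀ : S) : G) with hz
  have hzo : orderOf z = 2 := by
    rw [hz, Subgroup.orderOf_coe, Subgroup.orderOf_coe, hz₀]
  have hzS : z ∈ S := (z₀ : S).2
  have hzc : ∀ w ∈ S, w * z = z * w := by
    intro w hw
    exact congrArg Subtype.val (Subgroup.mem_center_iff.1 z₀.2 ⟨w, hw⟩)
  have hsub : cfix Ω S ⊆ fix Ω z := cfix_subset hzS
  have hX : (fix Ω z).card = t + 3 := h2 z hzo (hSf.trans (card_le_card hsub))
  by_cases hce : (cfix Ω S).card = t + 3
  · exact ⟨S, le_refl _, by omega, hce⟩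
  have hpar : (cfix Ω S).card % 2 = Fintype.card Ω % 2 := card_cfix_modEq hS
  have hlt : (cfix Ω S).card ≤ t + 3 := by
    rw [← hX]
    exact card_le_card hsub
  have hF : (cfix Ω S).card = t + 1 := by omega
  have hd : (fix Ω z \ cfix Ω S).card = 2 := by
    rw [card_sdiff_of_subset hsub, hX, hF]
    omega
  obtain ⟨y₁, y₂, hyz, hset⟩ := card_eq_two.1 hd
  have hy₁ : y₁ ∈ fix Ω z \ cfix Ω S := by rw [hset]; simp
  have hinv : ∀ w ∈ S, ∀ x ∈ fix Ω z \ cfix Ω S, w • x ∈ fix Ω z \ cfix Ω S := by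
    intro w hw x hx
    rw [mem_sdiff, mem_fix] at hx ⊢
    refine ⟨?_, smul_notMem_cfix hw hx.2⟩
    rw [← mul_smul, ← hzc w hw, mul_smul, hx.1]
  refine ⟨(stabilizer S y₁).map S.subtype, Subgroup.map_subtype_le _, ?_, ?_⟩
  · rw [Subgroup.card_map_of_injective S.subtype_injective]
    have h5 := Subgroup.card_mul_index (stabilizer S y₁)
    have h6 : (stabilizer S y₁).index ≤ 2 := by
      rw [index_stabilizer, ← hd, ← Set.ncard_coe_finset]
      apply Set.ncard_le_ncard _ (Finset.finite_toSet _)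
      rintro _ ⟨w, rfl⟩
      exact mem_coe.2 (hinv w w.2 y₁ hy₁)
    rw [← h5, mul_comm]
    exact Nat.mul_le_mul h6 (le_refl _)
  · rw [← hX]
    congr 1
    apply subset_antisymm
    · apply cfix_subset
      refine Subgroup.mem_map.2 ⟨⟨z, hzS⟩, ?_, rfl⟩
      exact mem_fix.1 (mem_sdiff.1 hy₁).1
    · intro x hx
      rw [mem_cfix]
      intro w hw
      obtain ⟨⟨w, hwS⟩, hwy, rfl⟩ := Subgroup.mem_map.1 hw
      change w • x = x
      have hwy' : w • y₁ = y₁ := hwy
      by_cases hxF : x ∈ cfix Ω S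
      · exact mem_cfix.1 hxF w hwS
      · have hx' : x ∈ fix Ω z \ cfix Ω S := mem_sdiff.2 ⟨hx, hxF⟩
        have hx'' := hx'
        rw [hset, mem_insert, mem_singleton] at hx''
        rcases hx'' with rfl | rfl
        · exact hwy'
        · have h8 := hinv w hwS x hx'
          rw [hset, mem_insert, mem_singleton] at h8
          rcases h8 with h8 | h8
          · exfalso
            apply hyz
            apply smul_left_cancel w
            rw [hwy', h8]
          · exact h8

/-! ### No elements of order 4 -/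

theorem mem_map_conj {A : Subgroup G} {g b : G} :
    b ∈ A.map (MulAut.conj g).toMonoidHom ↔ ∃ a ∈ A, g * a * g⁻¹ = b :=
  Subgroup.mem_map

theorem card_map_conj (A : Subgroup G) (g : G) :
    Nat.card (A.map (MulAut.conj g).toMonoidHom) = Nat.card A :=
  Subgroup.card_map_of_injective (MulAut.conj g).injective

theorem card_cfix_map_conj (A : Subgroup G) (g : G) :
    (cfix Ω (A.map (MulAut.conj g).toMonoidHom)).card = (cfix Ω A).card := by
  have h1 : cfix Ω (A.map (MulAut.conj g).toMonoidHom) = (cfix Ω A).image (fun x => g • x) := by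
    ext x
    rw [mem_cfix, mem_image]
    constructor
    · intro h
      refine ⟨g⁻¹ • x, ?_, smul_inv_smul g x⟩
      rw [mem_cfix]
      intro a ha
      have h2 := h _ (mem_map_conj.2 ⟨a, ha, rfl⟩)
      apply smul_left_cancel g
      rw [smul_inv_smul, ← mul_smul, ← mul_smul]
      exact h2
    · rintro ⟨y, hy, rfl⟩ b hb
      obtain ⟨a, ha, rfl⟩ := mem_map_conj.1 hb
      rw [mul_smul, inv_smul_smul, mul_smul, (mem_cfix.1 hy) a ha]
  rw [h1]
  exact card_image_of_injective _ (MulAction.injective g)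

theorem factorization_48 : (48 : ℕ).factorization 2 = 4 := by
  rw [show (48 : ℕ) = 2 ^ 4 * 3 by norm_num,
    Nat.factorization_mul (by norm_num) (by norm_num), Finsupp.add_apply,
    Nat.Prime.factorization_pow Nat.prime_two, Finsupp.single_eq_same,
    Nat.factorization_eq_zero_of_not_dvd (show ¬ 2 ∣ 3 by norm_num)]

theorem factorization_960_two : (960 : ℕ).factorization 2 = 6 := by
  rw [show (960 : ℕ) = 2 ^ 6 * 15 by norm_num,
    Nat.factorization_mul (by norm_num) (by norm_num), Finsupp.add_apply,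
    Nat.Prime.factorization_pow Nat.prime_two, Finsupp.single_eq_same,
    Nat.factorization_eq_zero_of_not_dvd (show ¬ 2 ∣ 15 by norm_num)]

theorem factorization_960_five : (960 : ℕ).factorization 5 = 1 := by
  rw [show (960 : ℕ) = 5 ^ 1 * 192 by norm_num,
    Nat.factorization_mul (by norm_num) (by norm_num), Finsupp.add_apply,
    Nat.Prime.factorization_pow (by norm_num), Finsupp.single_eq_same,
    Nat.factorization_eq_zero_of_not_dvd (show ¬ 5 ∣ 192 by norm_num)]

omit [Fintype Ω] [DecidableEq Ω] in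
theorem mem_fixing_iff {s : Finset Ω} {g : G} :
    g ∈ fixingSubgroup G (s : Set Ω) ↔ ∀ x ∈ s, g • x = x := by
  rw [mem_fixingSubgroup_iff]
  exact Iff.rfl

theorem one_lt_card_inf [Finite G] {A B T : Subgroup G} (hA : A ≤ T) (hB : B ≤ T)
    (hT : Nat.card T = 16) (hA8 : 8 ≤ Nat.card A) (hB8 : 8 ≤ Nat.card B) :
    ∃ w ∈ A ⊓ B, w ≠ 1 := by
  by_contra hcon
  push Not at hcon
  have hbot : Disjoint A B := by
    rw [disjoint_iff, eq_bot_iff]
    intro w hw
    exact Subgroup.mem_bot.2 (hcon w hw)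
  have hinj := Subgroup.mul_injective_of_disjoint hbot
  have h1 : Nat.card (A × B) ≤ Nat.card T := by
    apply Nat.card_le_card_of_injective
      (fun q : A × B => (⟨(q.1 : G) * q.2, mul_mem (hA q.1.2) (hB q.2.2)⟩ : T))
    intro q q' h
    exact hinj (congrArg Subtype.val h)
  rw [Nat.card_prod, hT] at h1
  have := Nat.mul_le_mul hA8 hB8
  omega

theorem two_mul_card_lt {a b : ℕ} (h : a * (19).factorial = 48 * b) (hb : 0 < b) :
    2 * a < b := by
  have h1 : (19).factorial = 121645100408832000 := by decide +kernel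
  rw [h1] at h
  omega

theorem card_lt_of_order_four [Finite G] [FaithfulSMul G Ω] {t : ℕ} (ht3 : 3 ≤ t) (ht5 : t ≤ 5)
    (hΩ : Fintype.card Ω = t + 19) (ht : IsMultiplyPretransitive G Ω t)
    (hG : Nat.card G * (19).factorial = 48 * (t + 19).factorial)
    (h2 : ∀ g : G, orderOf g = 2 → t ≤ (fix Ω g).card → (fix Ω g).card = t + 3) (g : G)
    (hg : orderOf g = 4) : (fix Ω g).card < t := by
  classical
  have f2 : Fact (Nat.Prime 2) := ⟨Nat.prime_two⟩
  have f5 : Fact (Nat.Prime 5) := ⟨by norm_num⟩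
  have h48 := card_fixing_of_transitive (G := G) (Ω := Ω) ht hΩ
    (by rw [show t + 19 - t = 19 by omega]; exact hG)
  have hprim : IsPreprimitive G Ω := by
    have h20 : IsMultiplyPretransitive G Ω 2 := by
      apply isMultiplyPretransitive_of_le (n := t) (by omega)
      rw [Nat.card_eq_fintype_card, hΩ]
      omega
    exact isPreprimitive_of_is_two_pretransitive h20
  by_contra hcon
  push Not at hcon
  obtain ⟨s, hsg, hs⟩ := exists_subset_card_eq hcon
  set H := fixingSubgroup G (s : Set Ω) with hH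
  have hgH : g ∈ H := by
    rw [hH, mem_fixing_iff]
    intro x hx
    exact mem_fix.1 (hsg hx)
  have hz : IsPGroup 2 (Subgroup.zpowers g) := by
    apply IsPGroup.of_card (n := 2)
    rw [Nat.card_zpowers, hg]
    norm_num
  obtain ⟨-, -, T, hTH, hTc, hgT, -⟩ := exists_conj_le (p := 2) H (Subgroup.zpowers g) ⊥
    ((Subgroup.zpowers_le).2 hgH) bot_le hz (IsPGroup.of_bot)
  rw [h48 s hs, factorization_48] at hTc
  have hT2 : IsPGroup 2 T := IsPGroup.of_card hTc
  have hTf : t ≤ (cfix Ω T).card := by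
    rw [← hs]
    apply card_le_card
    intro x hx
    rw [mem_cfix]
    intro w hw
    exact mem_fixing_iff.1 (hTH hw) x hx
  obtain ⟨A₀, hA₀T, hA₀c, hA₀f⟩ := exists_half hΩ h2 hT2 (by rw [hTc]; norm_num) hTf
  -- a maximal one
  have : Nonempty {A : Subgroup G // IsPGroup 2 A ∧ (cfix Ω A).card = t + 3} :=
    ⟨⟨A₀, hT2.to_le hA₀T, hA₀f⟩⟩
  obtain ⟨⟨A, hA2, hAf⟩, hmax⟩ := Finite.exists_max
    (fun A : {A : Subgroup G // IsPGroup 2 A ∧ (cfix Ω A).card = t + 3} => Nat.card A.1)
  have hmax' : ∀ B : Subgroup G, IsPGroup 2 B → (cfix Ω B).card = t + 3 →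
      Nat.card B ≤ Nat.card A := fun B hB hBf => hmax ⟨B, hB, hBf⟩
  clear hmax
  have hA8 : 8 ≤ Nat.card A := by
    have h3 := hmax' A₀ (hT2.to_le hA₀T) hA₀f
    rw [hTc] at hA₀c
    omega
  have hcompl : (cfix Ω A)ᶜ.card = 16 := by
    rw [card_compl, hΩ, hAf]
    omega
  have hA16 : Nat.card A = 8 ∨ Nat.card A = 16 := by
    obtain ⟨x, hx⟩ : ((cfix Ω A)ᶜ).Nonempty := by
      rw [← card_pos, hcompl]
      norm_num
    rw [mem_compl] at hx
    have h4 := card_le_of_cfix h2 hA2 hAf hx (O := (cfix Ω A)ᶜ)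
      (fun a ha => mem_compl.2 (smul_notMem_cfix ha hx))
    rw [hcompl] at h4
    obtain ⟨k, hk⟩ := IsPGroup.iff_card.1 hA2
    rw [hk] at h4 hA8 ⊢
    have hk5 : k < 5 := by
      by_contra hk5
      have : 2 ^ 5 ≤ 2 ^ k := Nat.pow_le_pow_right (by norm_num) (by omega)
      omega
    interval_cases k <;> omega
  -- subgroups fixing `t` points
  have hleH : ∀ (B : Subgroup G) (s : Finset Ω), (∀ b ∈ B, ∀ x ∈ s, b • x = x) →
      B ≤ fixingSubgroup G (s : Set Ω) := by
    intro B s h b hb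
    rw [mem_fixing_iff]
    exact h b hb
  -- Witt's lemma
  have hW : ∀ s : Finset Ω, s.card = t → s ⊆ cfix Ω A → ∀ g : G,
      (∀ a ∈ A, ∀ x ∈ s, (g * a * g⁻¹) • x = x) →
        ∃ h : G, (∀ x ∈ s, h • x = x) ∧ ∀ a ∈ A, h * (g * a * g⁻¹) * h⁻¹ ∈ A := by
    intro s hs hsA g hg
    have hB2 : IsPGroup 2 (A.map (MulAut.conj g).toMonoidHom) := hA2.map _
    obtain ⟨h, hh, T', -, hT'c, hAT', hBT'⟩ := exists_conj_le (p := 2)
      (fixingSubgroup G (s : Set Ω)) A (A.map (MulAut.conj g).toMonoidHom)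
      (hleH A s (fun a ha x hx => (mem_cfix.1 (hsA hx)) a ha))
      (hleH _ s (by
        rintro b hb x hx
        obtain ⟨a, ha, rfl⟩ := mem_map_conj.1 hb
        exact hg a ha x hx)) hA2 hB2
    rw [h48 s hs, factorization_48] at hT'c
    refine ⟨h, mem_fixing_iff.1 hh, ?_⟩
    set B' : Subgroup G := A.map (MulAut.conj (h * g)).toMonoidHom with hB'
    have hB'T : B' ≤ T' := by
      intro b hb
      obtain ⟨a, ha, rfl⟩ := mem_map_conj.1 hb
      have h5 := hBT' _ (mem_map_conj.2 ⟨a, ha, rfl⟩)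
      rw [mul_inv_rev]
      simpa only [mul_assoc] using h5
    have hB'2 : IsPGroup 2 B' := hA2.map _
    have hB'c : Nat.card B' = Nat.card A := card_map_conj A _
    have hB'f : (cfix Ω B').card = t + 3 := by rw [hB', card_cfix_map_conj, hAf]
    obtain ⟨w, ⟨hwA, hwB⟩, hw1⟩ := one_lt_card_inf hAT' hB'T hT'c hA8 (by rw [hB'c]; exact hA8)
    have h6 : cfix Ω A = cfix Ω B' := by
      rw [← fix_eq_of_pgroup h2 hA2 hAf hwA hw1, fix_eq_of_pgroup h2 hB'2 hB'f hwB hw1]
    have hD : A ⊔ B' ≤ fixingSubgroup G (cfix Ω A : Set Ω) := by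
      apply sup_le
      · exact hleH _ _ (fun a ha x hx => (mem_cfix.1 hx) a ha)
      · apply hleH
        intro b hb x hx
        rw [h6] at hx
        exact (mem_cfix.1 hx) b hb
    have hDf : cfix Ω (A ⊔ B') = cfix Ω A := by
      apply subset_antisymm
      · intro x hx
        rw [mem_cfix] at hx ⊢
        intro a ha
        exact hx a (le_sup_left (a := A) ha)
      · intro x hx
        rw [mem_cfix]
        intro a ha
        exact mem_fixing_iff.1 (hD ha) x hx
    have hT'2 : IsPGroup 2 T' := IsPGroup.of_card hT'c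
    have h7 := hmax' (A ⊔ B') (hT'2.to_le (sup_le hAT' hB'T)) (by rw [hDf, hAf])
    have h8 : A = A ⊔ B' := Subgroup.eq_of_le_of_card_ge le_sup_left h7
    intro a ha
    have h9 : h * g * a * (h * g)⁻¹ ∈ A := by
      rw [h8]
      exact le_sup_right (a := A) (mem_map_conj.2 ⟨a, ha, rfl⟩)
    rw [mul_inv_rev] at h9
    simpa only [mul_assoc] using h9
  have h5dvd : 5 ∣ Nat.card (Subgroup.normalizer (A : Set G)) := by
    refine dvd_trans ?_ (descFactorial_dvd_card_normalizer ht A hW (by omega))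
    rw [hAf]
    interval_cases t <;> decide
  obtain ⟨y₀, hy₀⟩ := exists_prime_orderOf_dvd_card' 5 h5dvd
  have hy : orderOf (y₀ : G) = 5 := by rw [Subgroup.orderOf_coe, hy₀]
  have hyN : ∀ a : G, a ∈ A ↔ (y₀ : G) * a * (y₀ : G)⁻¹ ∈ A := Subgroup.mem_normalizer_iff.1 y₀.2
  have hyN' : ∀ a : G, a ∈ A ↔ (y₀ : G)⁻¹ * a * (y₀ : G) ∈ A :=
    Subgroup.mem_normalizer_iff''.1 y₀.2
  rcases five_on_two A hA16 hy (fun a ha => (hyN a).1 ha) with hc | ⟨hA16', hsq⟩
  · -- a 5-cycle
    have hfix := fix_of_commute (Ω := Ω) A (cfix Ω A)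
      (by
        intro a ha x hx hax
        by_contra ha1
        apply hx
        rw [← fix_eq_of_pgroup h2 hA2 hAf ha ha1, mem_fix]
        exact hax)
      (fun a ha x hx => smul_notMem_cfix ha hx) (y := (y₀ : G)) (p := 5) (by norm_num) hy
      (by
        intro x hx h
        apply hx
        have h3 := cfix_normalizer (n := (y₀ : G)⁻¹) (A := A)
          (by
            intro a ha
            rw [inv_inv]
            exact (hyN a).1 ha) h
        rwa [inv_smul_smul] at h3) hc
      (by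
        rcases hA16 with h | h
        · rw [h]
          norm_num
        · rw [h]
          norm_num)
      (by
        rw [hcompl]
        omega)
    refine false_of_cycle hprim (by omega) ?_ (by norm_num : Nat.Prime 5) (by omega) hy hfix
      (by rw [hAf]; omega)
    rw [hΩ]
    exact two_mul_card_lt hG (Nat.factorial_pos _)
  · -- elementary abelian: conjugate to `T`
    obtain ⟨s', hs'A, hs'⟩ := exists_subset_card_eq (s := cfix Ω A) (n := t) (by omega)
    obtain ⟨k, hk⟩ := ht.exists_smul_eq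
      ((s.equivFinOfCardEq hs).symm.toEmbedding.trans (Function.Embedding.subtype _))
      ((s'.equivFinOfCardEq hs').symm.toEmbedding.trans (Function.Embedding.subtype _))
    have hks : ∀ x ∈ s', k⁻¹ • x ∈ s := by
      intro x hx
      have h3 := DFunLike.congr_fun hk (s'.equivFinOfCardEq hs' ⟨x, hx⟩)
      change k • ((s.equivFinOfCardEq hs).symm _ : Ω) = ((s'.equivFinOfCardEq hs').symm _ : Ω) at h3
      rw [Equiv.symm_apply_apply] at h3
      change _ = x at h3
      rw [← h3, inv_smul_smul]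
      exact Subtype.prop _
    obtain ⟨h, hh, T', -, hT'c, hAT', hBT'⟩ := exists_conj_le (p := 2)
      (fixingSubgroup G (s' : Set Ω)) A (T.map (MulAut.conj k).toMonoidHom)
      (hleH A s' (fun a ha x hx => (mem_cfix.1 (hs'A hx)) a ha))
      (hleH _ s' (by
        rintro b hb x hx
        obtain ⟨a, ha, rfl⟩ := mem_map_conj.1 hb
        rw [mul_smul, mul_smul, mem_fixing_iff.1 (hTH ha) _ (hks x hx), smul_inv_smul])) hA2
      (hT2.map _)
    rw [h48 s' hs', factorization_48] at hT'c
    have h9 : A = T' := Subgroup.eq_of_le_of_card_ge hAT' (by rw [hT'c, hA16']; norm_num)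
    have h10 := hBT' _ (mem_map_conj.2 ⟨g, hgT (Subgroup.mem_zpowers g), rfl⟩)
    rw [← h9] at h10
    have h11 := hsq _ h10
    rw [conj_pow, conj_pow] at h11
    have h12 : g ^ 2 = 1 := by
      have h13 : (k * g ^ 2 * k⁻¹) = 1 := by
        calc k * g ^ 2 * k⁻¹ = h⁻¹ * (h * (k * g ^ 2 * k⁻¹) * h⁻¹) * h := by group
          _ = 1 := by rw [h11]; group
      calc g ^ 2 = k⁻¹ * (k * g ^ 2 * k⁻¹) * k := by group
        _ = 1 := by rw [h13]; group
    have h14 := orderOf_dvd_of_pow_eq_one h12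
    rw [hg] at h14
    omega

/-! ### From `r`-transitive to `(r + 1)`-transitive in degree `r + 20` -/

theorem card_modEq_of_invariant [Finite G] {y : G} {p : ℕ} [Fact p.Prime] (hy : orderOf y = p)
    (O : Finset Ω) (hO : ∀ x ∈ O, y • x ∈ O) : O.card ≡ (O ∩ fix Ω y).card [MOD p] := by
  classical
  let f : Function.End O := fun x => ⟨y • (x : Ω), hO x x.2⟩
  have hf : ∀ (n : ℕ) (x : O), ((f ^ n) x : Ω) = y ^ n • (x : Ω) := by
    intro n
    induction n with
    | zero =>
      intro x
      simp only [pow_zero, one_smul]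
      rfl
    | succ n ih =>
      intro x
      rw [pow_succ]
      change ((f ^ n) (f x) : Ω) = _
      rw [ih, pow_succ, mul_smul]
  have hfp : f ^ p ^ 1 = 1 := by
    funext x
    apply Subtype.ext
    rw [hf, pow_one, ← hy, pow_orderOf_eq_one, one_smul]
    rfl
  have h1 := Equiv.Perm.card_fixedPoints_modEq hfp
  rw [Fintype.card_coe] at h1
  refine h1.trans ?_
  suffices h : Fintype.card f.fixedPoints = (O ∩ fix Ω y).card by
    rw [h]
  rw [← Fintype.card_coe (O ∩ fix Ω y)]
  apply Fintype.card_congr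
  refine
    { toFun := fun x => ⟨x.1.1, ?_⟩
      invFun := fun x => ⟨⟨x.1, (mem_inter.1 x.2).1⟩, ?_⟩
      left_inv := fun x => rfl
      right_inv := fun x => rfl }
  · rw [mem_inter, mem_fix]
    exact ⟨x.1.2, congrArg Subtype.val (show f x.1 = x.1 from x.2)⟩
  · change f _ = _
    apply Subtype.ext
    exact mem_fix.1 (mem_inter.1 x.2).2

theorem exists_orbit_not_dvd (S : Subgroup G) (O : Finset Ω) (hO : ∀ g ∈ S, ∀ x ∈ O, g • x ∈ O)
    {k : ℕ} (hk : ¬ k ∣ O.card) : ∃ x ∈ O, ¬ k ∣ (orbit S x).ncard := by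
  classical
  by_contra hcon
  push Not at hcon
  apply hk
  rw [card_eq_sum_card_fiberwise (f := fun x => (orbit S x).toFinset) (t := O.image
    (fun x => (orbit S x).toFinset)) (fun x hx => mem_coe.2 (mem_image_of_mem _ hx))]
  apply dvd_sum
  intro b hb
  obtain ⟨x, hx, rfl⟩ := mem_image.1 hb
  have h1 := hcon x hx
  have h2 : ({y ∈ O | (orbit S y).toFinset = (orbit S x).toFinset} : Finset Ω) =
      (orbit S x).toFinset := by
    ext y
    rw [mem_filter, Set.toFinset_inj, Set.mem_toFinset]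
    constructor
    · rintro ⟨-, h⟩
      rw [← h]
      exact mem_orbit_self y
    · intro h
      refine ⟨?_, orbit_eq_iff.2 h⟩
      obtain ⟨g, rfl⟩ := h
      exact hO g g.2 x hx
  rw [h2, ← Set.ncard_eq_toFinset_card']
  exact h1

theorem two_mul_card_lt' {a b : ℕ} (h : a * (20).factorial = 960 * b) (hb : 0 < b) :
    2 * a < b := by
  have h1 : (20).factorial = 2432902008176640000 := by decide +kernel
  rw [h1] at h
  omega

/-- Elements of order 5. -/
theorem card_fix_five [Finite G] [FaithfulSMul G Ω] {r : ℕ} (hr2 : 2 ≤ r) (hr4 : r ≤ 4)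
    (hΩ : Fintype.card Ω = r + 20) (ht : IsMultiplyPretransitive G Ω r)
    (hG : Nat.card G * (20).factorial = 960 * (r + 20).factorial) {x : G} (hx : orderOf x = 5)
    (hxf : r ≤ (fix Ω x).card) : (fix Ω x).card = r := by
  classical
  have f5 : Fact (Nat.Prime 5) := ⟨by norm_num⟩
  have hprim : IsPreprimitive G Ω := by
    have h20 : IsMultiplyPretransitive G Ω 2 := by
      apply isMultiplyPretransitive_of_le (n := r) hr2
      rw [Nat.card_eq_fintype_card, hΩ]
      omega
    exact isPreprimitive_of_is_two_pretransitive h20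
  have h960 : ∀ s : Finset Ω, s.card = r → Nat.card (fixingSubgroup G (s : Set Ω)) = 960 := by
    intro s hs
    have h1 := TwoPointStab.card_fixingSubgroup_mul ht (s := (s : Set Ω))
      (by rw [Set.ncard_coe_finset, hs])
    rw [Nat.card_eq_fintype_card (α := Ω), hΩ, show r + 20 - r = 20 by omega, hG] at h1
    exact Nat.eq_of_mul_eq_mul_right (Nat.factorial_pos _) h1
  have hlt : 2 * Nat.card G < (Fintype.card Ω).factorial := by
    rw [hΩ]
    exact two_mul_card_lt' hG (Nat.factorial_pos _)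
  set P := Subgroup.zpowers x with hP
  have hPc : Nat.card P = 5 := by rw [hP, Nat.card_zpowers, hx]
  have hP5 : IsPGroup 5 P := IsPGroup.of_card (n := 1) (by rw [hPc]; norm_num)
  have hPf : cfix Ω P = fix Ω x := by
    apply subset_antisymm (cfix_subset (Subgroup.mem_zpowers x))
    intro w hw
    rw [mem_cfix]
    intro g hg
    obtain ⟨k, rfl⟩ := Subgroup.mem_zpowers_iff.1 hg
    rw [mem_fix] at hw
    have h1 : x ∈ stabilizer G w := hw
    exact (stabilizer G w).zpow_mem h1 k
  have hmod : (fix Ω x).card % 5 = (r + 20) % 5 := by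
    have h1 := card_cfix_modEq (Ω := Ω) hP5
    rw [hPf, hΩ] at h1
    exact h1
  -- `g ∈ P`, `g ≠ 1` have the same fixed points
  have hPg : ∀ g ∈ P, ∀ w, w ∉ fix Ω x → g • w = w → g = 1 := by
    intro g hg w hw hgw
    by_contra hg1
    apply hw
    have h1 : orderOf g = 5 := by
      have h2 : orderOf g ∣ 5 := by
        rw [← hPc]
        exact Subgroup.orderOf_dvd_natCard P hg
      rcases (Nat.dvd_prime (by norm_num : Nat.Prime 5)).1 h2 with h3 | h3
      · exact absurd (orderOf_eq_one_iff.1 h3) hg1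
      · exact h3
    have h4 : Subgroup.zpowers g = P := by
      apply Subgroup.eq_of_le_of_card_ge ((Subgroup.zpowers_le).2 hg)
      rw [hPc, Nat.card_zpowers, h1]
    have h5 : x ∈ Subgroup.zpowers g := by
      rw [h4]
      exact Subgroup.mem_zpowers x
    obtain ⟨k, hk⟩ := Subgroup.mem_zpowers_iff.1 h5
    rw [mem_fix, ← hk]
    have h6 : g ∈ stabilizer G w := hgw
    exact (stabilizer G w).zpow_mem h6 k
  have hne : (fix Ω x).card ≠ r + 20 := by
    intro h
    have h1 : fix Ω x = univ := eq_univ_of_card _ (by rw [h, hΩ])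
    have h2 : x = 1 := by
      apply FaithfulSMul.eq_of_smul_eq_smul (α := Ω)
      intro w
      rw [one_smul]
      apply mem_fix.1
      rw [h1]
      exact mem_univ w
    rw [h2, orderOf_one] at hx
    omega
  have hle : (fix Ω x).card ≤ r + 20 := by
    rw [← hΩ]
    exact card_le_univ _
  have hcl : (fix Ω x)ᶜ.card = r + 20 - (fix Ω x).card := by rw [card_compl, hΩ]
  -- Witt's lemma
  have hW : ∀ s : Finset Ω, s.card = r → s ⊆ cfix Ω P → ∀ g : G,
      (∀ a ∈ P, ∀ x ∈ s, (g * a * g⁻¹) • x = x) →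
        ∃ h : G, (∀ x ∈ s, h • x = x) ∧ ∀ a ∈ P, h * (g * a * g⁻¹) * h⁻¹ ∈ P := by
    intro s hs hsA g hg
    obtain ⟨h, hh, T', -, hT'c, hAT', hBT'⟩ := exists_conj_le (p := 5)
      (fixingSubgroup G (s : Set Ω)) P (P.map (MulAut.conj g).toMonoidHom)
      (by
        intro a ha
        rw [mem_fixing_iff]
        intro w hw
        exact (mem_cfix.1 (hsA hw)) a ha)
      (by
        rintro b hb
        rw [mem_fixing_iff]
        intro w hw
        obtain ⟨a, ha, rfl⟩ := mem_map_conj.1 hb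
        exact hg a ha w hw) hP5 (hP5.map _)
    rw [h960 s hs, factorization_960_five] at hT'c
    have hPT : P = T' := Subgroup.eq_of_le_of_card_ge hAT' (by rw [hT'c, hPc]; norm_num)
    refine ⟨h, mem_fixing_iff.1 hh, fun a ha => ?_⟩
    rw [hPT]
    exact hBT' _ (mem_map_conj.2 ⟨a, ha, rfl⟩)
  have hdvd := descFactorial_dvd_card_normalizer ht P hW (by rw [hPf]; exact hxf)
  rw [hPf] at hdvd
  have hNG : Nat.card (Subgroup.normalizer (P : Set G)) ∣ Nat.card G :=
    Subgroup.card_subgroup_dvd_card _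
  -- an element of order `p` of the normaliser
  have hcyc : ∀ p : ℕ, p.Prime → 5 < p → p + 3 ≤ r + 20 → (fix Ω x).card < 2 * p →
      r + 20 - (fix Ω x).card < p * 5 → p ∣ Nat.card (Subgroup.normalizer (P : Set G)) →
      False := by
    intro p hp hp5 hpn hX hlt2 hpd
    have fp : Fact p.Prime := ⟨hp⟩
    obtain ⟨y₀, hy₀⟩ := exists_prime_orderOf_dvd_card' p hpd
    have hy : orderOf (y₀ : G) = p := by rw [Subgroup.orderOf_coe, hy₀]
    have hyN : ∀ a : G, a ∈ P ↔ (y₀ : G) * a * (y₀ : G)⁻¹ ∈ P :=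
      Subgroup.mem_normalizer_iff.1 y₀.2
    have hc := centralizes_five P hPc hp hp5 hy (fun a ha => (hyN a).1 ha)
    have hfix := fix_of_commute (Ω := Ω) P (fix Ω x) hPg
      (by
        intro a ha w hw
        rw [← hPf] at hw ⊢
        exact smul_notMem_cfix ha hw) (y := (y₀ : G)) (p := p) hp hy
      (by
        intro w hw h
        apply hw
        rw [← hPf] at h ⊢
        have h3 := cfix_normalizer (n := (y₀ : G)⁻¹) (A := P)
          (by
            intro a ha
            rw [inv_inv]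
            exact (hyN a).1 ha) h
        rwa [inv_smul_smul] at h3) hc
      (by
        rw [hPc]
        exact (Nat.coprime_primes (by norm_num) hp).2 (by omega))
      (by
        rw [hcl, hPc]
        exact hlt2)
    exact false_of_cycle hprim (by omega) hlt hp (by omega) hy hfix hX
  have hcases : (fix Ω x).card = r ∨ (fix Ω x).card = r + 5 ∨ (fix Ω x).card = r + 10 ∨
      (fix Ω x).card = r + 15 := by omega
  rcases hcases with h | h | h | h
  · exact h
  · exfalso
    refine hcyc 7 (by norm_num) (by norm_num) (by omega) (by omega) (by omega) ?_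
    refine dvd_trans ?_ hdvd
    rw [h]
    interval_cases r <;> decide
  · exfalso
    have hG13 : r = 3 ∨ r = 4 → 13 ∣ Nat.card G := by
      intro hr
      refine dvd_trans ?_ (hdvd.trans hNG)
      rw [h]
      rcases hr with rfl | rfl <;> decide
    interval_cases r
    · refine hcyc 11 (by norm_num) (by norm_num) (by omega) (by omega) (by omega) ?_
      refine dvd_trans ?_ hdvd
      rw [h]
      decide
    · have h1 := hG13 (by norm_num)
      have h2 : Nat.card G = 10200960 := by
        have h3 : (3 + 20).factorial = 25852016738884976640000 := by decide +kernel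
        have h4 : (20).factorial = 2432902008176640000 := by decide +kernel
        rw [h3, h4] at hG
        omega
      rw [h2] at h1
      omega
    · have h1 := hG13 (by norm_num)
      have h2 : Nat.card G = 244823040 := by
        have h3 : (4 + 20).factorial = 620448401733239439360000 := by decide +kernel
        have h4 : (20).factorial = 2432902008176640000 := by decide +kernel
        rw [h3, h4] at hG
        omega
      rw [h2] at h1
      omega
  · exfalso
    refine false_of_cycle hprim (by omega) hlt (by norm_num : Nat.Prime 5) (by omega) hx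
      (X := (fix Ω x)ᶜ) ?_ (by rw [hcl]; omega)
    intro w hw
    rw [mem_compl, not_not] at hw
    exact mem_fix.1 hw

/-- The pointwise stabiliser of `r` points is transitive on the other points. -/
theorem exists_fixing_smul [Finite G] [FaithfulSMul G Ω] {r : ℕ} (hr2 : 2 ≤ r) (hr4 : r ≤ 4)
    (hΩ : Fintype.card Ω = r + 20) (ht : IsMultiplyPretransitive G Ω r)
    (hG : Nat.card G * (20).factorial = 960 * (r + 20).factorial)
    (h2 : ∀ g : G, orderOf g = 2 → r ≤ (fix Ω g).card → (fix Ω g).card = r + 4)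
    {s : Finset Ω} (hs : s.card = r) {x₁ x₂ : Ω} (hx₁ : x₁ ∉ s) (hx₂ : x₂ ∉ s) :
    ∃ h : G, (∀ x ∈ s, h • x = x) ∧ h • x₁ = x₂ := by
  classical
  have f2 : Fact (Nat.Prime 2) := ⟨Nat.prime_two⟩
  have f5 : Fact (Nat.Prime 5) := ⟨by norm_num⟩
  by_contra hcon
  push Not at hcon
  set H := fixingSubgroup G (s : Set Ω) with hH
  have hHc : Nat.card H = 960 := by
    have h1 := TwoPointStab.card_fixingSubgroup_mul ht (s := (s : Set Ω))
      (by rw [Set.ncard_coe_finset, hs])
    rw [Nat.card_eq_fintype_card (α := Ω), hΩ, show r + 20 - r = 20 by omega, hG] at h1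
    exact Nat.eq_of_mul_eq_mul_right (Nat.factorial_pos _) h1
  -- the orbit
  set O : Finset Ω := (orbit H x₁).toFinset with hO
  have hOs : ∀ x ∈ O, x ∉ s := by
    intro x hx hxs
    rw [hO, Set.mem_toFinset] at hx
    obtain ⟨h, rfl⟩ := hx
    apply hx₁
    have h3 : (h : G) • x₁ ∈ s := hxs
    have h4 := mem_fixing_iff.1 (inv_mem h.2) _ h3
    rw [inv_smul_smul] at h4
    rwa [← h4] at h3
  have hO2 : x₂ ∉ O := by
    intro hx
    rw [hO, Set.mem_toFinset] at hx
    obtain ⟨h, hh⟩ := hx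
    exact hcon h (mem_fixing_iff.1 h.2) hh
  have hO1 : x₁ ∈ O := by
    rw [hO, Set.mem_toFinset]
    exact mem_orbit_self x₁
  have hOinv : ∀ h ∈ H, ∀ x ∈ O, h • x ∈ O := by
    intro h hh x hx
    rw [hO, Set.mem_toFinset] at hx ⊢
    obtain ⟨k, rfl⟩ := hx
    refine ⟨⟨h, hh⟩ * k, ?_⟩
    change (h * (k : G)) • x₁ = h • (k : G) • x₁
    rw [mul_smul]
  have hOlt : O.card ≤ 19 := by
    have h3 : O ⊆ (insert x₂ s)ᶜ := by
      intro x hx
      rw [mem_compl, mem_insert]
      rintro (h | h)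
      · rw [h] at hx
        exact hO2 hx
      · exact hOs x hx h
    have h4 := card_le_card h3
    rw [card_compl, card_insert_of_notMem hx₂, hs, hΩ] at h4
    omega
  -- divisible by 5
  have hO5 : 5 ∣ O.card := by
    obtain ⟨x₀, hx₀⟩ := exists_prime_orderOf_dvd_card' (G := H) 5 (by rw [hHc]; norm_num)
    have hxo : orderOf (x₀ : G) = 5 := by rw [Subgroup.orderOf_coe, hx₀]
    have hsx : s ⊆ fix Ω (x₀ : G) := by
      intro x hx
      rw [mem_fix]
      exact mem_fixing_iff.1 x₀.2 x hx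
    have h3 := card_fix_five hr2 hr4 hΩ ht hG hxo (by rw [← hs]; exact card_le_card hsx)
    have h4 : s = fix Ω (x₀ : G) := eq_of_subset_of_card_le hsx (by rw [h3, hs])
    have h5 := card_modEq_of_invariant (Ω := Ω) hxo O (hOinv _ x₀.2)
    have h6 : O ∩ fix Ω (x₀ : G) = ∅ := by
      rw [← h4, eq_empty_iff_forall_notMem]
      intro x hx
      exact hOs x (mem_inter.1 hx).1 (mem_inter.1 hx).2
    rw [h6, card_empty] at h5
    exact (Nat.modEq_zero_iff_dvd).1 h5
  have hOpos : 0 < O.card := card_pos.2 ⟨x₁, hO1⟩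
  have hO4 : ¬ 4 ∣ O.card := by omega
  -- a Sylow 2-subgroup
  obtain ⟨-, -, S, hSH, hSc, -, -⟩ := exists_conj_le (p := 2) H ⊥ ⊥ bot_le bot_le
    IsPGroup.of_bot IsPGroup.of_bot
  rw [hHc, factorization_960_two] at hSc
  have hS2 : IsPGroup 2 S := IsPGroup.of_card hSc
  obtain ⟨x₃, hx₃O, hx₃⟩ := exists_orbit_not_dvd S O (fun g hg x hx => hOinv g (hSH hg) x hx) hO4
  have hidx : (stabilizer S x₃).index ≤ 2 := by
    have h3 : (stabilizer S x₃).index ∣ 2 ^ 6 := by
      rw [← hSc]
      exact Subgroup.index_dvd_card _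
    rw [← index_stabilizer] at hx₃
    obtain ⟨m, hm, hm2⟩ := (Nat.dvd_prime_pow Nat.prime_two).1 h3
    rw [hm2] at hx₃ ⊢
    have hm1 : m ≤ 1 := by
      by_contra hlt
      apply hx₃
      rw [show (4 : ℕ) = 2 ^ 2 by norm_num]
      exact pow_dvd_pow 2 (by omega)
    calc 2 ^ m ≤ 2 ^ 1 := Nat.pow_le_pow_right (by norm_num) hm1
      _ = 2 := by norm_num
  set S₁ : Subgroup G := (stabilizer S x₃).map S.subtype with hS₁
  have hS₁S : S₁ ≤ S := Subgroup.map_subtype_le _
  have hS₁c : 32 ≤ Nat.card S₁ := by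
    rw [hS₁, Subgroup.card_map_of_injective S.subtype_injective]
    have h5 := Subgroup.card_mul_index (stabilizer S x₃)
    rw [hSc] at h5
    by_contra hlt
    have h6 : Nat.card (stabilizer S x₃) * (stabilizer S x₃).index ≤ 31 * 2 :=
      Nat.mul_le_mul (by omega) hidx
    omega
  have hS₁f : r + 1 ≤ (cfix Ω S₁).card := by
    rw [← hs, ← card_insert_of_notMem (hOs x₃ hx₃O)]
    apply card_le_card
    intro x hx
    rw [mem_cfix]
    intro w hw
    obtain ⟨⟨w, hwS⟩, hwy, rfl⟩ := Subgroup.mem_map.1 hw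
    rcases mem_insert.1 hx with h | h
    · rw [h]
      exact hwy
    · exact mem_fixing_iff.1 (hSH hwS) x h
  have h2' : ∀ g : G, orderOf g = 2 → r + 1 ≤ (fix Ω g).card → (fix Ω g).card = r + 1 + 3 := by
    intro g hg hgf
    exact h2 g hg (by omega)
  obtain ⟨A, hAS, hAc, hAf⟩ := exists_half (t := r + 1) (by rw [hΩ]) h2' (hS2.to_le hS₁S)
    (by omega) hS₁f
  -- a point of the orbit outside
  have hsA : s ⊆ cfix Ω A := by
    intro x hx
    rw [mem_cfix]
    intro w hw
    exact mem_fixing_iff.1 (hSH (hS₁S (hAS hw))) x hx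
  obtain ⟨x₄, hx₄O, hx₄⟩ : ∃ x ∈ O, x ∉ cfix Ω A := by
    by_contra hcon
    push Not at hcon
    have h3 : O ∪ s ⊆ cfix Ω A := union_subset hcon hsA
    have h4 := card_le_card h3
    rw [card_union_of_disjoint (disjoint_left.2 hOs), hAf, hs] at h4
    omega
  have h5 := card_le_of_cfix h2' ((hS2.to_le hS₁S).to_le hAS) hAf hx₄ (O := O)
    (fun a ha => hOinv a (hSH (hS₁S (hAS ha))) x₄ hx₄O)
  omega

/-- **The step.** -/
theorem step [Finite G] [FaithfulSMul G Ω] {r : ℕ} (hr2 : 2 ≤ r) (hr4 : r ≤ 4)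
    (hΩ : Fintype.card Ω = r + 20) (ht : IsMultiplyPretransitive G Ω r)
    (hG : Nat.card G * (20).factorial = 960 * (r + 20).factorial)
    (h2 : ∀ g : G, orderOf g = 2 → r ≤ (fix Ω g).card → (fix Ω g).card = r + 4) :
    IsMultiplyPretransitive G Ω (r + 1) := by
  classical
  rw [isMultiplyPretransitive_iff]
  intro e e'
  obtain ⟨g, hg⟩ := ht.exists_smul_eq ((Fin.castSuccEmb (n := r)).trans e)
    ((Fin.castSuccEmb (n := r)).trans e')
  have hgi : ∀ i : Fin r, g • e (Fin.castSucc i) = e' (Fin.castSucc i) := fun i =>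
    DFunLike.congr_fun hg i
  have hnot : ∀ f : Fin (r + 1) ↪ Ω, ∀ x ∈ univ.map ((Fin.castSuccEmb (n := r)).trans f),
      f (Fin.last r) ≠ x := by
    intro f x hx h
    obtain ⟨i, -, hi⟩ := mem_map.1 hx
    rw [← hi] at h
    have h3 : Fin.last r = Fin.castSucc i := f.injective h
    exact absurd h3.symm (Fin.castSucc_lt_last i).ne
  obtain ⟨h, hh, hhx⟩ := exists_fixing_smul hr2 hr4 hΩ ht hG h2
    (s := univ.map ((Fin.castSuccEmb (n := r)).trans e'))
    (by rw [card_map, card_univ, Fintype.card_fin]) (x₁ := g • e (Fin.last r))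
    (x₂ := e' (Fin.last r))
    (by
      intro hx
      obtain ⟨i, -, hi⟩ := mem_map.1 hx
      have h3 : e' (Fin.castSucc i) = g • e (Fin.last r) := hi
      rw [← hgi i] at h3
      have h4 := e.injective (smul_left_cancel g h3)
      exact absurd h4 (Fin.castSucc_lt_last i).ne)
    (fun hx => hnot e' _ hx rfl)
  refine ⟨h * g, ?_⟩
  ext i
  change (h * g) • e i = e' i
  rw [mul_smul]
  refine Fin.lastCases ?_ (fun i => ?_) i
  · exact hhx
  · rw [hgi]
    exact hh _ (mem_map.2 ⟨i, mem_univ i, rfl⟩)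

/-! ### The final recognition theorems -/

/-- **M₂₂**: a simple group of order 443520 acting 2-transitively and faithfully on 22 points, such
that all involutions with at least 2 fixed points have exactly 6 fixed points. -/
theorem isoM22_of_two_transitive [Finite G] [FaithfulSMul G Ω] (hΩ : Fintype.card Ω = 22)
    (hs : IsSimpleGroup G) (hG : Nat.card G = 443520) (ht : IsMultiplyPretransitive G Ω 2)
    (h2 : ∀ g : G, orderOf g = 2 → 2 ≤ (fix Ω g).card → (fix Ω g).card = 6) :
    Cfsg.Spor.IsoM22 G := by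
  have ht3 : IsMultiplyPretransitive G Ω 3 :=
    step (r := 2) (by norm_num) (by norm_num) hΩ ht (by rw [hG]; decide +kernel) h2
  have h2' : ∀ g : G, orderOf g = 2 → 3 ≤ (fix Ω g).card → (fix Ω g).card = 6 :=
    fun g hg hgf => h2 g hg (by omega)
  exact isoM22_of_transitive hΩ hs hG ht3 h2'
    (card_lt_of_order_four (by norm_num) (by norm_num) hΩ ht3 (by rw [hG]; decide +kernel) h2')

/-- **M₂₃** from a 3-transitive action of degree 23. -/
theorem isoM23_of_three_transitive [Finite G] [FaithfulSMul G Ω] (hΩ : Fintype.card Ω = 23)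
    (hG : Nat.card G = 10200960) (ht : IsMultiplyPretransitive G Ω 3)
    (h2 : ∀ g : G, orderOf g = 2 → 3 ≤ (fix Ω g).card → (fix Ω g).card = 7) :
    Cfsg.Spor.IsoM23 G := by
  have ht4 : IsMultiplyPretransitive G Ω 4 :=
    step (r := 3) (by norm_num) (by norm_num) hΩ ht (by rw [hG]; decide +kernel) h2
  have h2' : ∀ g : G, orderOf g = 2 → 4 ≤ (fix Ω g).card → (fix Ω g).card = 7 :=
    fun g hg hgf => h2 g hg (by omega)
  exact isoM23_of_transitive hΩ hG ht4 h2'
    (card_lt_of_order_four (by norm_num) (by norm_num) hΩ ht4 (by rw [hG]; decide +kernel) h2')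

/-- **M₂₄** from a 4-transitive action of degree 24. -/
theorem isoM24_of_four_transitive [Finite G] [FaithfulSMul G Ω] (hΩ : Fintype.card Ω = 24)
    (hG : Nat.card G = 244823040) (ht : IsMultiplyPretransitive G Ω 4)
    (h2 : ∀ g : G, orderOf g = 2 → 4 ≤ (fix Ω g).card → (fix Ω g).card = 8) :
    Nonempty (G ≃* Cfsg.M24) := by
  have ht5 : IsMultiplyPretransitive G Ω 5 :=
    step (r := 4) (by norm_num) (by norm_num) hΩ ht (by rw [hG]; decide +kernel) h2
  have h2' : ∀ g : G, orderOf g = 2 → 5 ≤ (fix Ω g).card → (fix Ω g).card = 8 :=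
    fun g hg hgf => h2 g hg (by omega)
  exact isoM24_of_transitive hΩ hG ht5 h2'
    (card_lt_of_order_four (by norm_num) (by norm_num) hΩ ht5 (by rw [hG]; decide +kernel) h2')

end Cfsg.Agent.SporadicA.WittStep
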