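import Mathlib
import Cfsg.Agent.SporadicA.WittStep
import Cfsg.Agent.PermChar.PermTrans
import Cfsg.Agent.S0895

/-!
Recognition of M₂₂, M₂₃, M₂₄ from the irreducible character of degree 21, 22, 23.
-/

set_option autoImplicit false

namespace Cfsg.Agent.SporadicA.MathieuChar

open Cfsg Finset Function MulAction
open scoped ComplexConjugate
open Cfsg.Agent Cfsg.Agent.PermChar
open Cfsg.Agent.SporadicA.WittSteiner (fix mem_fix)

variable {G : Type*} [Group G]

/-- Fixed points of an element in the action through a homomorphism. -/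
theorem card_fix_compHom {n : ℕ} (φ : G →* Equiv.Perm (Fin n)) (g : G) :
    letI := MulAction.compHom (Fin n) φ
    (fix (Fin n) g).card = Nat.card {i // φ g i = i} := by
  letI := MulAction.compHom (Fin n) φ
  rw [Nat.card_eq_fintype_card, Fintype.card_subtype]
  rfl

theorem faithful_of_simple (hs : IsSimpleGroup G) {n : ℕ} (φ : G →* Equiv.Perm (Fin n)) {g : G}
    (hg : Nat.card {i // φ g i = i} ≠ n) :
    letI := MulAction.compHom (Fin n) φ
    FaithfulSMul G (Fin n) := by
  letI := MulAction.compHom (Fin n) φ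
  have hker : φ.ker = ⊥ := by
    rcases hs.eq_bot_or_eq_top_of_normal φ.ker inferInstance with h | h
    · exact h
    · exfalso
      apply hg
      have h1 : φ g = 1 := by
        rw [← MonoidHom.mem_ker, h]
        exact Subgroup.mem_top g
      have h2 : ∀ i : Fin n, φ g i = i := fun i => by rw [h1]; rfl
      rw [Nat.card_eq_fintype_card, Fintype.card_subtype, filter_true_of_mem (fun i _ => h2 i),
        card_univ, Fintype.card_fin]
  refine ⟨fun {a b} hab => ?_⟩
  apply (MonoidHom.ker_eq_bot_iff φ).1 hker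
  ext i
  exact congrArg Fin.val (hab i)

variable [Fintype G]

/-- **M₂₂ from its character of degree 21.** -/
theorem isoM22_of_char (hs : IsSimpleGroup G) (hG : Nat.card G = 443520) {χ : G → ℂ}
    (hχ : IsIrrCharacter G χ) (hreal : ∀ g, conj (χ g) = χ g) (hdeg : χ 1 = 21)
    (hΛ : IsIrrCharacter G (fun g => (χ g ^ 2 - χ (g * g)) / 2))
    (hSχ : ∑ g, (χ g ^ 2 + χ (g * g)) * χ g ≠ 0)
    (ht : ∀ t : G, orderOf t = 2 → χ t = 5) : Cfsg.Spor.IsoM22 G := by
  obtain ⟨φ, hφ⟩ := PermCor.exists_perm_of_alt_irr_odd hχ hreal hSχ hΛ 22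
    (by rw [hdeg]; norm_num) (by norm_num) (by decide)
  letI := MulAction.compHom (Fin 22) φ
  have hinv : ∀ t : G, orderOf t = 2 → (fix (Fin 22) t).card = 6 := by
    intro t hto
    rw [card_fix_compHom]
    have h1 := hφ t
    rw [ht t hto] at h1
    have h2 : (Nat.card {i // φ t i = i} : ℂ) = ((6 : ℕ) : ℂ) := by
      rw [h1]
      norm_num
    exact_mod_cast h2
  haveI : Fact (Nat.Prime 2) := ⟨Nat.prime_two⟩
  obtain ⟨t, hto⟩ := exists_prime_orderOf_dvd_card' (G := G) 2 (by rw [hG]; norm_num)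
  haveI : FaithfulSMul G (Fin 22) := faithful_of_simple hs φ (g := t) (by
    rw [← card_fix_compHom, hinv t hto]
    norm_num)
  have hGc : (Nat.card G : ℂ) ≠ 0 := Characters.Core.card_ne_zero_complex
  have hχone : χ ≠ 1 := by
    intro h
    rw [h, Pi.one_apply] at hdeg
    norm_num at hdeg
  have h1 : ∑ g, χ g = 0 := by
    have h := PermCor.sum_eq_of_classInner (f := χ) (ψ := (1 : G → ℂ)) (fun g => map_one _)
    rw [Characters.Core.classInner_irr_ne hχ Characters.Core.isIrr_one hχone, mul_zero] at h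
    simpa using h
  have h2 : ∑ g, χ g * χ g = Nat.card G := by
    rw [PermCor.sum_eq_of_classInner hreal, Characters.Core.classInner_irr_self hχ, mul_one]
  exact WittStep.isoM22_of_two_transitive (Ω := Fin 22) (Fintype.card_fin 22) hs hG
    (PermTrans.two (X := Fin 22) hφ h1 h2) (fun t hto _ => hinv t hto)

/-- **M₂₃ from its character of degree 22.** -/
theorem isoM23_of_char (hs : IsSimpleGroup G) (hG : Nat.card G = 10200960) {χ : G → ℂ}
    (hχ : IsIrrCharacter G χ) (hreal : ∀ g, conj (χ g) = χ g) (hdeg : χ 1 = 22)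
    (hFS : ∑ g, χ (g * g) = Nat.card G)
    (hΛ : IsIrrCharacter G (fun g => (χ g ^ 2 - χ (g * g)) / 2))
    (hm : ∑ g, χ g ^ 2 * χ g = Nat.card G)
    (ht : ∀ t : G, orderOf t = 2 → χ t = 6) : Cfsg.Spor.IsoM23 G := by
  obtain ⟨φ, hφ, h3, -⟩ := PermTrans.exists_multiply_transitive hχ hreal hFS hΛ 23
    (by rw [hdeg]; norm_num) (by norm_num) hm
  letI := MulAction.compHom (Fin 23) φ
  have hinv : ∀ t : G, orderOf t = 2 → (fix (Fin 23) t).card = 7 := by
    intro t hto
    rw [card_fix_compHom]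
    have h1 := hφ t
    rw [ht t hto] at h1
    have h2 : (Nat.card {i // φ t i = i} : ℂ) = ((7 : ℕ) : ℂ) := by
      rw [h1]
      norm_num
    exact_mod_cast h2
  haveI : Fact (Nat.Prime 2) := ⟨Nat.prime_two⟩
  obtain ⟨t, hto⟩ := exists_prime_orderOf_dvd_card' (G := G) 2 (by rw [hG]; norm_num)
  haveI : FaithfulSMul G (Fin 23) := faithful_of_simple hs φ (g := t) (by
    rw [← card_fix_compHom, hinv t hto]
    norm_num)
  exact WittStep.isoM23_of_three_transitive (Ω := Fin 23) (Fintype.card_fin 23) hG h3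
    (fun t hto _ => hinv t hto)

/-- **M₂₄ from its character of degree 23.** -/
theorem isoM24_of_char (hs : IsSimpleGroup G) (hG : Nat.card G = 244823040) {χ : G → ℂ}
    (hχ : IsIrrCharacter G χ) (hreal : ∀ g, conj (χ g) = χ g) (hdeg : χ 1 = 23)
    (hΛ : IsIrrCharacter G (fun g => (χ g ^ 2 - χ (g * g)) / 2))
    (hm : ∑ g, χ g ^ 2 * χ g = Nat.card G)
    (hm4 : ∑ g, χ g ^ 2 * χ g ^ 2 = 4 * Nat.card G)
    (ht : ∀ t : G, orderOf t = 2 → χ t = 7 ∨ ∃ k : ℤ, χ t = k ∧ k ≤ 2) :
    Nonempty (G ≃* Cfsg.M24) := by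
  have hGc : (Nat.card G : ℂ) ≠ 0 := Characters.Core.card_ne_zero_complex
  have hFS : ∑ g, χ (g * g) = Nat.card G := by
    have h := S0895.result χ hχ (fun g => Complex.conj_eq_iff_im.1 (hreal g)) 23
      (by rw [hdeg]; norm_num) (by decide)
    rw [inv_mul_eq_iff_eq_mul₀ hGc, mul_one] at h
    exact h
  obtain ⟨φ, hφ, -, h4⟩ := PermTrans.exists_multiply_transitive hχ hreal hFS hΛ 24
    (by rw [hdeg]; norm_num) (by norm_num) hm
  have h4' := h4 hm4
  letI := MulAction.compHom (Fin 24) φ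
  have hinv : ∀ t : G, orderOf t = 2 → (fix (Fin 24) t).card = 8 ∨ (fix (Fin 24) t).card ≤ 3 := by
    intro t hto
    rw [card_fix_compHom]
    have h1 := hφ t
    rcases ht t hto with h | ⟨k, hk, hk2⟩
    · left
      rw [h] at h1
      have h2 : (Nat.card {i // φ t i = i} : ℂ) = ((8 : ℕ) : ℂ) := by
        rw [h1]
        norm_num
      exact_mod_cast h2
    · right
      rw [hk] at h1
      have h2 : ((Nat.card {i // φ t i = i} : ℤ) : ℂ) = ((1 + k : ℤ) : ℂ) := by
        push_cast
        exact h1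
      have h3 : (Nat.card {i // φ t i = i} : ℤ) = 1 + k := by exact_mod_cast h2
      omega
  haveI : Fact (Nat.Prime 2) := ⟨Nat.prime_two⟩
  obtain ⟨t, hto⟩ := exists_prime_orderOf_dvd_card' (G := G) 2 (by rw [hG]; norm_num)
  haveI : FaithfulSMul G (Fin 24) := faithful_of_simple hs φ (g := t) (by
    rw [← card_fix_compHom]
    rcases hinv t hto with h | h <;> omega)
  refine WittStep.isoM24_of_four_transitive (Ω := Fin 24) (Fintype.card_fin 24) hG h4' ?_
  intro t hto h
  rcases hinv t hto with h' | h'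
  · exact h'
  · omega

end Cfsg.Agent.SporadicA.MathieuChar
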