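import Cfsg.Agent.SporadicA.PermTab

set_option autoImplicit false

/-!
Upper bounds for automorphism groups of graphs given as bit matrices, row version: the adjacency
patterns are read off the rows of the base points only, which keeps kernel checks small for
graphs with thousands of vertices (compare `PermTab.chainB`, `PermTab.chkDist`).
-/

namespace Cfsg.Agent.SporadicA.PermTabRow

open Equiv Cfsg.Agent.SporadicA.PermTab

noncomputable section

/-- bit `v` of the row `R`, as `0` or `1` -/
def bitR (R v : ℕ) : ℕ := Nat.land (Nat.shiftRight R v) 1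

theorem bitR_rowM (n A f v : ℕ) (hv : v < n) : bitR (rowM n A f) v = bitM n A f v := by
  rw [bitM_eq]
  change ((rowM n A f) >>> v) &&& 1 = _
  rw [Nat.and_one_is_mod, Nat.shiftRight_eq_div_pow, ← Nat.toNat_testBit, testBit_rowM,
    decide_eq_true hv, Bool.and_true]

/-- `v` is none of the points of `F`, and the points of `F` are joined to `v` as to `y`. -/
def pattR (n A : ℕ) (F : List ℕ) (y v : ℕ) : Bool :=
  List.rec true (fun f _ ih => band (Nat.beq (bitR (rowM n A f) v) (bitR (rowM n A f) y))
    (band (nbeq v f) ih)) F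

theorem pattR_iff (n A : ℕ) (F : List ℕ) (y v : ℕ) : pattR n A F y v = true ↔
    ∀ f ∈ F, bitR (rowM n A f) v = bitR (rowM n A f) y ∧ v ≠ f := by
  induction F with
  | nil => simp [pattR]
  | cons f F ih =>
    have : pattR n A (f :: F) y v = band (Nat.beq (bitR (rowM n A f) v) (bitR (rowM n A f) y))
        (band (nbeq v f) (pattR n A F y v)) := rfl
    rw [this, band_eq_true, band_eq_true, ih, nbeq_iff]
    constructor
    · rintro ⟨h1, h2, h3⟩ k hk
      rcases List.mem_cons.1 hk with h | h
      · subst h; exact ⟨Nat.eq_of_beq_eq_true h1, h2⟩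
      · exact h3 k h
    · intro h
      refine ⟨?_, (h f List.mem_cons_self).2, fun k hk => h k (List.mem_cons_of_mem _ hk)⟩
      rw [(h f List.mem_cons_self).1]
      exact Nat.beq_refl _

/-- One link of the chain. -/
def linkR (n A : ℕ) (F : List ℕ) (y m : ℕ) : Bool :=
  band (Nat.blt y n) (band (notMemB y F) (cntB (pattR n A F y) n m))

/-- The chain of adjacency patterns, as a proposition, so that the links can be checked one by
one. -/
def ChainR (n A : ℕ) : List ℕ → List (ℕ × ℕ) → Prop
  | _, [] => True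
  | F, (y, m) :: bs => linkR n A F y m = true ∧ ChainR n A (y :: F) bs

/-- The chain as one Boolean. -/
def chainRB (n A : ℕ) : List ℕ → List (ℕ × ℕ) → Bool
  | _, [] => true
  | F, (y, m) :: bs => band (linkR n A F y m) (chainRB n A (y :: F) bs)

theorem chainR_of_chainRB {n A : ℕ} (bs : List (ℕ × ℕ)) (F : List ℕ)
    (h : chainRB n A F bs = true) : ChainR n A F bs := by
  induction bs generalizing F with
  | nil => trivial
  | cons b bs ih =>
    obtain ⟨y, m⟩ := b
    have h' : band (linkR n A F y m) (chainRB n A (y :: F) bs) = true := h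
    rw [band_eq_true] at h'
    exact ⟨h'.1, ih _ h'.2⟩

theorem card_le_of_chainR {n A : ℕ} (bs : List (ℕ × ℕ)) (F : List ℕ)
    (H : Subgroup (Perm (Fin n))) (hH : H ≤ autG n A) (hF : FixL H F)
    (hc : ChainR n A F bs)
    (hfin : ∀ g ∈ autG n A, (∀ f ∈ lastF F bs, f < n ∧ ∀ i : Fin n, (i : ℕ) = f → g i = i) →
      g = 1) : Nat.card H ≤ prodC bs := by
  induction bs generalizing F H with
  | nil =>
    have : H = ⊥ := by
      rw [eq_bot_iff]
      intro g hg
      rw [Subgroup.mem_bot]
      exact hfin g (hH hg) (fun f hf => ⟨(hF f hf).1, (hF f hf).2 g hg⟩)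
    rw [this]
    simp [prodC]
  | cons b bs ih =>
    obtain ⟨y, m⟩ := b
    obtain ⟨h0, h4⟩ := hc
    rw [linkR, band_eq_true, band_eq_true] at h0
    obtain ⟨h1, h2, h3⟩ := h0
    have hy : y < n := Nat.blt_eq ▸ h1
    rw [notMemB_iff] at h2
    have h5 : Nat.card (ps H ⟨y, hy⟩) ≤ prodC bs := by
      refine ih (y :: F) (ps H ⟨y, hy⟩) ((ps_le _ _).trans hH) ?_ h4 hfin
      intro f hf
      rcases List.mem_cons.1 hf with h | h
      · subst h
        refine ⟨hy, fun g hg i hi => ?_⟩
        have : i = ⟨f, hy⟩ := Fin.ext hi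
        rw [this]; exact hg.2
      · exact ⟨(hF f h).1, fun g hg => (hF f h).2 g hg.1⟩
    refine card_le H ⟨y, hy⟩ _ ?_ (card_fin_of_cntB _ n m h3) h5
    intro g hg
    simp only [Finset.mem_filter, Finset.mem_univ, true_and]
    rw [pattR_iff]
    intro f hf
    obtain ⟨hfn, hfix⟩ := hF f hf
    have hgf : g ⟨f, hfn⟩ = ⟨f, hfn⟩ := hfix g hg ⟨f, hfn⟩ rfl
    constructor
    · have := hH hg ⟨f, hfn⟩ ⟨y, hy⟩
      rw [hgf] at this
      rw [bitR_rowM _ _ _ _ (g ⟨y, hy⟩).2, bitR_rowM _ _ _ _ hy]
      exact this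
    · intro he
      have h6 : g ⟨y, hy⟩ = g ⟨f, hfn⟩ := by
        rw [hgf]; exact Fin.ext he
      have h7 := g.injective h6
      rw [Fin.mk.injEq] at h7
      exact h2 (h7 ▸ hf)

/-- The adjacencies of `v` to the points of `F`, packed into a number. -/
def sigL (n A : ℕ) (F : List ℕ) (v : ℕ) : ℕ :=
  List.rec 0 (fun f _ ih => Nat.add (Nat.mul 2 ih) (bitR (rowM n A f) v)) F

theorem sigL_congr {n A : ℕ} {F : List ℕ} {v w : ℕ}
    (h : ∀ f ∈ F, bitR (rowM n A f) v = bitR (rowM n A f) w) :
    sigL n A F v = sigL n A F w := by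
  induction F with
  | nil => rfl
  | cons f F ih =>
    have h1 : ∀ v, sigL n A (f :: F) v =
      Nat.add (Nat.mul 2 (sigL n A F v)) (bitR (rowM n A f) v) := fun _ => rfl
    rw [h1, h1, h f List.mem_cons_self, ih (fun k hk => h k (List.mem_cons_of_mem _ hk))]

/-- The signatures are pairwise different; `O` lists the vertices in increasing order of
their signatures and `R` is the inverse of `O`. -/
def chkDistR (n A : ℕ) (F : List ℕ) (R O : ℕ) : Bool :=
  band (allB (fun v => band (Nat.blt (lk R v) n) (Nat.beq (lk O (lk R v)) v)) n)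
    (allB (fun i => Nat.blt (sigL n A F (lk O i)) (sigL n A F (lk O (Nat.succ i)))) (Nat.pred n))

theorem eq_one_of_distR {n A R O : ℕ} {F : List ℕ} (hd : chkDistR n A F R O = true)
    (g : Perm (Fin n)) (hg : g ∈ autG n A)
    (hF : ∀ f ∈ F, f < n ∧ ∀ i : Fin n, (i : ℕ) = f → g i = i) : g = 1 := by
  unfold chkDistR at hd
  rw [band_eq_true, allB_iff, allB_iff] at hd
  obtain ⟨hR, hO⟩ := hd
  set sig : ℕ → ℕ := sigL n A F with hsig
  have hmono : ∀ i j, i < j → j < n → sig (lk O i) < sig (lk O j) := by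
    intro i j hij
    induction j with
    | zero => exact absurd hij (Nat.not_lt_zero _)
    | succ j ih =>
      intro hj
      have hstep : sig (lk O j) < sig (lk O (j + 1)) :=
        Nat.blt_eq ▸ hO j (by rw [Nat.pred_eq_sub_one]; omega)
      rcases Nat.lt_succ_iff_lt_or_eq.1 hij with h | h
      · exact (ih h (by omega)).trans hstep
      · subst h; exact hstep
  have hinj : ∀ v < n, ∀ w < n, sig v = sig w → v = w := by
    intro v hv w hw hvw
    have h1 := hR v hv
    have h2 := hR w hw
    rw [band_eq_true] at h1 h2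
    have h3 : lk R v < n := Nat.blt_eq ▸ h1.1
    have h4 : lk R w < n := Nat.blt_eq ▸ h2.1
    have h5 := Nat.eq_of_beq_eq_true h1.2
    have h6 := Nat.eq_of_beq_eq_true h2.2
    rcases Nat.lt_trichotomy (lk R v) (lk R w) with h | h | h
    · have := hmono _ _ h h4
      rw [h5, h6] at this
      omega
    · rw [← h5, ← h6, h]
    · have := hmono _ _ h h3
      rw [h5, h6] at this
      omega
  ext v
  rw [Perm.one_apply]
  refine hinj _ (g v).2 _ v.2 (sigL_congr fun f hf => ?_)
  obtain ⟨hfn, hfix⟩ := hF f hf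
  have h1 := hg ⟨f, hfn⟩ v
  rw [hfix ⟨f, hfn⟩ rfl] at h1
  rw [bitR_rowM _ _ _ _ (g v).2, bitR_rowM _ _ _ _ v.2]
  exact h1

/-- Upper bound for the automorphism group of the graph. -/
theorem card_autG_leR {n A R O : ℕ} {bs : List (ℕ × ℕ)} (hc : ChainR n A [] bs)
    (hd : chkDistR n A (lastF [] bs) R O = true) : Nat.card (autG n A) ≤ prodC bs :=
  card_le_of_chainR bs [] (autG n A) le_rfl (fun _ hf => absurd hf List.not_mem_nil) hc
    (fun g hg h => eq_one_of_distR hd g hg h)

end

end Cfsg.Agent.SporadicA.PermTabRow
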