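import Mathlib

/-!
Simplicity of a primitive permutation group with simple point stabiliser, and primitivity from
the orbit sizes of a point stabiliser.
-/

set_option autoImplicit false

namespace Cfsg.Agent.SporadicA.PrimSimple

open MulAction Pointwise

/-- A transitive action is primitive as soon as the orbits of a point stabiliser have sizes no
proper non-empty partial sum of which, plus one, divides the degree. -/
theorem isPreprimitive_of_orbits {G X : Type*} [Group G] [MulAction G X] [Finite X]
    [IsPretransitive G X] (a : X) {ι : Type*} [Fintype ι] [DecidableEq ι] (O : ι → Set X)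
    (hO : ∀ i, ∀ y ∈ O i, ∀ z ∈ O i, ∃ g : G, g • a = a ∧ g • y = z)
    (hdisj : Pairwise (Function.onFun Disjoint O)) (ha : ∀ i, a ∉ O i)
    (hcov : ∀ x, x = a ∨ ∃ i, x ∈ O i) (n : ι → ℕ) (hn : ∀ i, (O i).ncard = n i)
    (hdiv : ∀ S : Finset ι, (1 + ∑ i ∈ S, n i) ∣ Nat.card X → S = ∅ ∨ S = Finset.univ) :
    IsPreprimitive G X := by
  classical
  refine IsPreprimitive.of_isTrivialBlock_base a ?_
  intro B haB hB
  -- the stabiliser preserves B
  have hstab : ∀ g : G, g • a = a → ∀ y ∈ B, g • y ∈ B := by
    intro g hg y hy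
    have h1 : g • B = B := by
      apply hB.smul_eq_of_mem haB
      rw [hg]; exact haB
    rw [← h1]
    exact Set.smul_mem_smul_set hy
  let S : Finset ι := Finset.univ.filter fun i => O i ⊆ B
  have hS : ∀ i, i ∉ S → ∀ y ∈ O i, y ∉ B := by
    intro i hi y hy hyB
    apply hi
    simp only [S, Finset.mem_filter, Finset.mem_univ, true_and]
    intro z hz
    obtain ⟨g, hg, hgy⟩ := hO i y hy z hz
    rw [← hgy]
    exact hstab g hg y hyB
  have hBeq : B = {a} ∪ ⋃ i ∈ S, O i := by
    ext x
    simp only [Set.mem_union, Set.mem_singleton_iff, Set.mem_iUnion]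
    constructor
    · intro hx
      rcases hcov x with h | ⟨i, hi⟩
      · exact Or.inl h
      · right
        by_cases hiS : i ∈ S
        · exact ⟨i, hiS, hi⟩
        · exact absurd hx (hS i hiS x hi)
    · rintro (h | ⟨i, hi, hxi⟩)
      · rw [h]; exact haB
      · simp only [S, Finset.mem_filter, Finset.mem_univ, true_and] at hi
        exact hi hxi
  have hcard : B.ncard = 1 + ∑ i ∈ S, n i := by
    have h2 : (⋃ i ∈ S, O i).ncard = ∑ i ∈ S, n i := by
      have hfin : ∀ T : Finset ι, (⋃ i ∈ T, O i).ncard = ∑ i ∈ T, n i := by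
        intro T
        induction T using Finset.induction_on with
        | empty => simp
        | insert i T hiT ih =>
          rw [Finset.set_biUnion_insert, Set.ncard_union_eq, ih, hn, Finset.sum_insert hiT]
          rw [Set.disjoint_iUnion₂_right]
          intro j hj
          exact hdisj (fun h => hiT (h ▸ hj))
      exact hfin S
    rw [hBeq, Set.ncard_union_eq, Set.ncard_singleton, h2]
    rw [Set.disjoint_singleton_left]
    simp only [Set.mem_iUnion, not_exists]
    intro i _ h
    exact ha i h
  have hdvd : B.ncard ∣ Nat.card X := hB.ncard_dvd_card ⟨a, haB⟩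
  rw [hcard] at hdvd
  rcases hdiv S hdvd with h | h
  · left
    rw [hBeq, h]
    simp
  · right
    rw [Set.eq_univ_iff_forall]
    intro x
    rcases hcov x with h' | ⟨i, hi⟩
    · rw [h']; exact haB
    · have : i ∈ S := by rw [h]; exact Finset.mem_univ i
      simp only [S, Finset.mem_filter, Finset.mem_univ, true_and] at this
      exact this hi

/-- A primitive group with simple point stabiliser which is not the kernel, such that every normal
subgroup of order equal to the degree contains a smaller non-trivial normal subgroup, is simple. -/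
theorem isSimpleGroup_of_isPreprimitive {G X : Type*} [Group G] [MulAction G X] [Finite X]
    [Finite G] [IsPreprimitive G X] [Nontrivial X] (a : X) (hs : IsSimpleGroup (stabilizer G a))
    (hna : ∃ g : G, g • a = a ∧ ∃ b : X, g • b ≠ b)
    (hreg : ∀ N : Subgroup G, N.Normal → Nat.card N = Nat.card X →
      ∃ K : Subgroup G, K.Normal ∧ K ≠ ⊥ ∧ Nat.card K < Nat.card X) :
    IsSimpleGroup G := by
  classical
  -- key: a normal subgroup contained with the stabiliser
  have hint : ∀ N : Subgroup G, N.Normal → N ⊓ stabilizer G a = ⊥ ∨ stabilizer G a ≤ N := by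
    intro N hN
    have h1 : (N.subgroupOf (stabilizer G a)).Normal := hN.subgroupOf _
    rcases hs.eq_bot_or_eq_top_of_normal _ h1 with h | h
    · left
      rw [Subgroup.subgroupOf_eq_bot] at h
      exact h.eq_bot
    · right
      rwa [Subgroup.subgroupOf_eq_top] at h
  -- kernel is trivial
  have hker : ∀ N : Subgroup G, N.Normal → fixedPoints N X = .univ → N = ⊥ := by
    intro N hN hfix
    have hle : N ≤ stabilizer G a := by
      intro g hg
      rw [mem_stabilizer_iff]
      have : a ∈ fixedPoints N X := by rw [hfix]; trivial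
      exact this ⟨g, hg⟩
    rcases hint N hN with h | h
    · rwa [inf_eq_left.mpr hle] at h
    · exfalso
      obtain ⟨g, hg, b, hb⟩ := hna
      apply hb
      have : b ∈ fixedPoints N X := by rw [hfix]; trivial
      exact this ⟨g, h (mem_stabilizer_iff.mpr hg)⟩
  have htrans : ∀ N : Subgroup G, N.Normal → N ≠ ⊥ → IsPretransitive N X := by
    intro N hN hNbot
    exact IsQuasiPreprimitive.isPretransitive_of_normal (fun h => hNbot (hker N hN h))
  have hle : ∀ N : Subgroup G, N.Normal → N ≠ ⊥ → Nat.card X ≤ Nat.card N := by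
    intro N hN hNbot
    have := htrans N hN hNbot
    exact Nat.card_le_card_of_surjective (fun n : N => n • a) (exists_smul_eq N a)
  have : Nontrivial G := by
    obtain ⟨g, hg, b, hb⟩ := hna
    exact ⟨g, 1, fun h => hb (by rw [h, one_smul])⟩
  refine ⟨fun N hN => ?_⟩
  by_cases hNbot : N = ⊥
  · exact Or.inl hNbot
  right
  have hNt := htrans N hN hNbot
  rcases hint N hN with h | h
  · exfalso
    -- N is regular
    have hcard : Nat.card N = Nat.card X := by
      apply Nat.card_congr
      refine Equiv.ofBijective (fun n : N => n • a) ⟨?_, exists_smul_eq N a⟩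
      intro n m hnm
      have h2 : (m⁻¹ * n : G) ∈ N ⊓ stabilizer G a := by
        refine ⟨N.mul_mem (N.inv_mem m.2) n.2, ?_⟩
        refine mem_stabilizer_iff.mpr ?_
        rw [mul_smul]
        have h3 : (n : G) • a = (m : G) • a := hnm
        rw [h3]
        exact inv_smul_smul (m : G) a
      rw [h, Subgroup.mem_bot] at h2
      apply Subtype.ext
      exact (inv_mul_eq_one.mp h2).symm
    obtain ⟨K, hK, hKbot, hKlt⟩ := hreg N hN hcard
    exact absurd (hle K hK hKbot) (not_le.mpr hKlt)
  · rw [eq_top_iff]
    intro g _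
    obtain ⟨n, hn⟩ := exists_smul_eq N a (g • a)
    have h2 : ((n : G)⁻¹ * g) ∈ stabilizer G a := by
      rw [mem_stabilizer_iff, mul_smul, inv_smul_eq_iff]
      exact hn.symm
    have h3 : g = (n : G) * ((n : G)⁻¹ * g) := by group
    rw [h3]
    exact N.mul_mem n.2 (h h2)

/-- A normal subgroup `N` of `G` with a normal Sylow subgroup: that Sylow subgroup is normal in
`G`. -/
theorem normal_map_of_sylow {G : Type*} [Group G] [Finite G] (N : Subgroup G) (hN : N.Normal)
    (p : ℕ) [Fact p.Prime] (P : Sylow p N) (hP : (P : Subgroup N).Normal) :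
    ((P : Subgroup N).map N.subtype).Normal := by
  have := Sylow.characteristic_of_normal P hP
  exact ConjAct.normal_of_characteristic_of_normal

/-- A normal subgroup of order 100 contains a non-trivial normal subgroup of order 25. -/
theorem exists_normal_of_card_100 {G : Type*} [Group G] [Finite G] (N : Subgroup G)
    (hN : N.Normal) (hc : Nat.card N = 100) :
    ∃ K : Subgroup G, K.Normal ∧ K ≠ ⊥ ∧ Nat.card K < 100 := by
  classical
  have : Fact (Nat.Prime 5) := ⟨by norm_num⟩
  obtain ⟨P⟩ : Nonempty (Sylow 5 N) := inferInstance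
  have hPc : Nat.card P = 25 := by
    rw [Sylow.card_eq_multiplicity, hc]
    have : Nat.factorization 100 5 = 2 := by
      rw [show (100:ℕ) = 5 ^ 2 * 4 by norm_num, Nat.factorization_mul (by norm_num) (by norm_num)]
      rw [Finsupp.add_apply, Nat.Prime.factorization_pow (by norm_num)]
      rw [Finsupp.single_eq_same, Nat.factorization_eq_zero_of_not_dvd (by norm_num)]
    rw [this]; norm_num
  have hidx : (P : Subgroup N).index = 4 := by
    have := Subgroup.card_mul_index (P : Subgroup N)
    rw [hc] at this
    have h2 : Nat.card (P : Subgroup N) = 25 := hPc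
    rw [h2] at this
    omega
  have h1 : Nat.card (Sylow 5 N) ∣ 4 := by
    rw [← hidx]; exact Sylow.card_dvd_index P
  have h2 : Nat.card (Sylow 5 N) ≡ 1 [MOD 5] := card_sylow_modEq_one 5 N
  have h3 : Nat.card (Sylow 5 N) = 1 := by
    have h4 : Nat.card (Sylow 5 N) ≤ 4 := Nat.le_of_dvd (by norm_num) h1
    have h5 : 0 < Nat.card (Sylow 5 N) := Nat.card_pos
    unfold Nat.ModEq at h2
    interval_cases (Nat.card (Sylow 5 N)) <;> omega
  have hsub : Subsingleton (Sylow 5 N) := (Nat.card_eq_one_iff_unique.mp h3).1
  have hPn : (P : Subgroup N).Normal := Sylow.normal_of_subsingleton P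
  refine ⟨(P : Subgroup N).map N.subtype, normal_map_of_sylow N hN 5 P hPn, ?_, ?_⟩
  · intro h
    have h6 := (Subgroup.map_eq_bot_iff_of_injective _ N.subtype_injective).mp h
    have h7 : Nat.card (P : Subgroup N) = 25 := hPc
    rw [h6] at h7
    simp at h7
  · rw [Nat.card_congr ((P : Subgroup N).equivMapOfInjective _ N.subtype_injective).toEquiv.symm]
    have h7 : Nat.card (P : Subgroup N) = 25 := hPc
    rw [h7]; norm_num

/-- A normal subgroup of order 2025 contains a non-trivial normal subgroup of order 25 or 81. -/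
theorem exists_normal_of_card_2025 {G : Type*} [Group G] [Finite G] (N : Subgroup G)
    (hN : N.Normal) (hc : Nat.card N = 2025) :
    ∃ K : Subgroup G, K.Normal ∧ K ≠ ⊥ ∧ Nat.card K < 2025 := by
  classical
  have : Fact (Nat.Prime 5) := ⟨by norm_num⟩
  have : Fact (Nat.Prime 3) := ⟨by norm_num⟩
  have hf5 : Nat.factorization 2025 5 = 2 := by
    rw [show (2025:ℕ) = 5 ^ 2 * 81 by norm_num, Nat.factorization_mul (by norm_num) (by norm_num)]
    rw [Finsupp.add_apply, Nat.Prime.factorization_pow (by norm_num)]
    rw [Finsupp.single_eq_same, Nat.factorization_eq_zero_of_not_dvd (by norm_num)]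
  have hf3 : Nat.factorization 2025 3 = 4 := by
    rw [show (2025:ℕ) = 3 ^ 4 * 25 by norm_num, Nat.factorization_mul (by norm_num) (by norm_num)]
    rw [Finsupp.add_apply, Nat.Prime.factorization_pow (by norm_num)]
    rw [Finsupp.single_eq_same, Nat.factorization_eq_zero_of_not_dvd (by norm_num)]
  -- the final step
  have hfin : ∀ (p : ℕ) [Fact p.Prime] (P : Sylow p N), (P : Subgroup N).Normal →
      1 < Nat.card (P : Subgroup N) → Nat.card (P : Subgroup N) < 2025 →
      ∃ K : Subgroup G, K.Normal ∧ K ≠ ⊥ ∧ Nat.card K < 2025 := by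
    intro p _ P hPn h1 h2
    refine ⟨(P : Subgroup N).map N.subtype, normal_map_of_sylow N hN p P hPn, ?_, ?_⟩
    · intro h
      have h6 := (Subgroup.map_eq_bot_iff_of_injective _ N.subtype_injective).mp h
      rw [h6] at h1
      simp at h1
    · rw [Nat.card_congr ((P : Subgroup N).equivMapOfInjective _ N.subtype_injective).toEquiv.symm]
      exact h2
  obtain ⟨P⟩ : Nonempty (Sylow 5 N) := inferInstance
  have hPc : Nat.card (P : Subgroup N) = 25 := by
    have h : Nat.card P = 25 := by
      rw [Sylow.card_eq_multiplicity, hc, hf5]; norm_num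
    exact h
  have hidx : (P : Subgroup N).index = 81 := by
    have := Subgroup.card_mul_index (P : Subgroup N)
    rw [hc, hPc] at this
    omega
  have h1 : Nat.card (Sylow 5 N) ∣ 81 := by
    rw [← hidx]; exact Sylow.card_dvd_index P
  have h2 : Nat.card (Sylow 5 N) ≡ 1 [MOD 5] := card_sylow_modEq_one 5 N
  have h3 : Nat.card (Sylow 5 N) = 1 ∨ Nat.card (Sylow 5 N) = 81 := by
    have h4 : Nat.card (Sylow 5 N) ∈ Nat.divisors 81 := by
      rw [Nat.mem_divisors]; exact ⟨h1, by norm_num⟩
    have h5 : Nat.divisors 81 = {1, 3, 9, 27, 81} := by decide +kernel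
    rw [h5] at h4
    simp only [Finset.mem_insert, Finset.mem_singleton] at h4
    unfold Nat.ModEq at h2
    rcases h4 with h | h | h | h | h <;> rw [h] at h2 <;> omega
  rcases h3 with h3 | h3
  · have hsub : Subsingleton (Sylow 5 N) := (Nat.card_eq_one_iff_unique.mp h3).1
    have hPn : (P : Subgroup N).Normal := Sylow.normal_of_subsingleton P
    exact hfin 5 P hPn (by rw [hPc]; norm_num) (by rw [hPc]; norm_num)
  · -- the normaliser of P is P
    have h4 : (Subgroup.normalizer (P : Set N)).index = 81 := by
      rw [← h3, Sylow.card_eq_index_normalizer P]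
    have h5 : Nat.card (Subgroup.normalizer (P : Set N)) = 25 := by
      have := Subgroup.card_mul_index (Subgroup.normalizer (P : Set N))
      rw [hc, h4] at this
      omega
    have h6 : (P : Subgroup N) = Subgroup.normalizer (P : Set N) := by
      apply Subgroup.eq_of_le_of_card_ge Subgroup.le_normalizer
      rw [hPc]
      exact h5.le
    have h7 : IsMulCommutative (P : Subgroup N) :=
      IsPGroup.isMulCommutative_of_card_eq_prime_sq (p := 5) (by rw [hPc]; norm_num)
    have h8 : Subgroup.normalizer (P : Set N) ≤ Subgroup.centralizer (P : Set N) := by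
      rw [← h6]
      exact Subgroup.le_centralizer (P : Subgroup N)
    have h9 := MonoidHom.ker_transferSylow_isComplement' P h8
    have h10 : Nat.card (MonoidHom.transferSylow P h8).ker = 81 := by
      have := h9.card_mul_card
      rw [hc, hPc] at this
      omega
    let Q : Sylow 3 N := Sylow.ofCard (MonoidHom.transferSylow P h8).ker (by rw [h10, hc, hf3]; norm_num)
    have hQ : (Q : Subgroup N) = (MonoidHom.transferSylow P h8).ker := rfl
    refine hfin 3 Q ?_ ?_ ?_
    · rw [hQ]; infer_instance
    · rw [hQ, h10]; norm_num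
    · rw [hQ, h10]; norm_num

end Cfsg.Agent.SporadicA.PrimSimple
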