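import Mathlib

set_option autoImplicit false

/-!
A short simplicity criterion for finite groups, by elements of `p`-power order.
If every nontrivial normal subgroup `N` has index prime to `p`, then it contains all
elements of `p`-power order; so if the group is generated by products of such elements
it is simple. For permutation groups of degree `n` whose order has the same `p`-part as
`n`, it is enough that nontrivial normal subgroups are transitive.
-/

namespace Cfsg.Agent.SporadicA.SimpleP

open MulAction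

/-- If `p` does not divide the index of the normal subgroup `N`, every element of `p`-power
order lies in `N`. -/
theorem mem_of_pow_eq_one {G : Type*} [Group G] {N : Subgroup G} [N.Normal] {p : ℕ}
    (hp : p.Prime) (hN : ¬ p ∣ N.index) {g : G} {k : ℕ} (hg : g ^ (p ^ k) = 1) : g ∈ N := by
  have h1 : ((g : G ⧸ N)) ^ (p ^ k) = 1 := by
    rw [← QuotientGroup.mk_pow, hg]; rfl
  have h2 : orderOf (g : G ⧸ N) ∣ p ^ k := orderOf_dvd_of_pow_eq_one h1
  have h3 : orderOf (g : G ⧸ N) ∣ N.index := by
    rw [Subgroup.index_eq_card]; exact orderOf_dvd_natCard _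
  have h4 : Nat.Coprime (p ^ k) N.index := ((Nat.Prime.coprime_iff_not_dvd hp).2 hN).pow_left k
  have h5 : orderOf (g : G ⧸ N) = 1 := Nat.eq_one_of_dvd_coprimes h4 h2 h3
  rw [orderOf_eq_one_iff] at h5
  exact (QuotientGroup.eq_one_iff g).1 h5

/-- Abstract criterion. `S` generates, each `s ∈ S` is `u * v⁻¹` with `u`, `v` of `p`-power order,
and nontrivial normal subgroups have index prime to `p`. -/
theorem isSimpleGroup_of_index {G : Type*} [Group G] [Nontrivial G] {p : ℕ} (hp : p.Prime)
    (S : Set G) (hS : Subgroup.closure S = ⊤)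
    (hSp : ∀ s ∈ S, ∃ u v : G, (∃ k, u ^ (p ^ k) = 1) ∧ (∃ k, v ^ (p ^ k) = 1) ∧ s = u * v⁻¹)
    (hN : ∀ N : Subgroup G, N.Normal → N ≠ ⊥ → ¬ p ∣ N.index) : IsSimpleGroup G := by
  refine ⟨fun N hNn => ?_⟩
  by_cases hb : N = ⊥
  · exact Or.inl hb
  · right
    have hi := hN N hNn hb
    rw [eq_top_iff, ← hS, Subgroup.closure_le]
    intro s hs
    obtain ⟨u, v, ⟨k, hu⟩, ⟨l, hv⟩, rfl⟩ := hSp s hs
    exact N.mul_mem (mem_of_pow_eq_one hp hi hu) (N.inv_mem (mem_of_pow_eq_one hp hi hv))

/-- If a finite group acts on `X` with `N` transitive, then `|X|` divides `|N|`. -/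
theorem card_dvd_of_orbit_eq_univ {G X : Type*} [Group G] [MulAction G X] [Finite G]
    (N : Subgroup G) (x : X) (h : orbit N x = Set.univ) : Nat.card X ∣ Nat.card N := by
  have h1 : Nat.card (orbit N x) = Nat.card X := by
    rw [h]; exact Nat.card_univ
  rw [← h1, Nat.card_congr (orbitEquivQuotientStabilizer N x), ← Subgroup.index_eq_card]
  exact Subgroup.index_dvd_card _

/-- Primitive-action criterion. `G` acts faithfully and transitively on `X`; every block
containing `x` which is invariant under the stabilizer of `x` and whose size divides `|X|` is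
`{x}` or everything; the `p`-part of `|G|` divides `|X|`; `G` is generated by products `u v⁻¹` of
elements of `p`-power order. Then `G` is simple. -/
theorem isSimpleGroup_of_action {G X : Type*} [Group G] [Finite G] [Nontrivial G] [Finite X]
    [MulAction G X] [FaithfulSMul G X] [IsPretransitive G X] (x : X) {p : ℕ} (hp : p.Prime)
    (hcard : ∀ k, Nat.card G = Nat.card X * k → ¬ p ∣ k)
    (hB : ∀ B : Set X, x ∈ B → (∀ h : G, h • x = x → ∀ b ∈ B, h • b ∈ B) →
      B.ncard ∣ Nat.card X → B = {x} ∨ B = Set.univ)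
    (S : Set G) (hS : Subgroup.closure S = ⊤)
    (hSp : ∀ s ∈ S, ∃ u v : G, (∃ k, u ^ (p ^ k) = 1) ∧ (∃ k, v ^ (p ^ k) = 1) ∧ s = u * v⁻¹) :
    IsSimpleGroup G := by
  refine isSimpleGroup_of_index hp S hS hSp ?_
  intro N hNn hNb
  have hblock : IsBlock G (orbit N x) := IsBlock.orbit_of_normal x
  have hmem : x ∈ orbit N x := mem_orbit_self x
  have hinv : ∀ h : G, h • x = x → ∀ b ∈ orbit N x, h • b ∈ orbit N x := by
    intro h hh b hb
    obtain ⟨n, rfl⟩ := hb
    have hc : h * (n : G) * h⁻¹ ∈ N := hNn.conj_mem n n.2 h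
    refine ⟨⟨h * n * h⁻¹, hc⟩, ?_⟩
    change (h * (n : G) * h⁻¹) • x = h • (n : G) • x
    have : h⁻¹ • x = x := by rw [inv_smul_eq_iff, hh]
    rw [mul_smul, mul_smul, this]
  rcases hB (orbit N x) hmem hinv (hblock.ncard_dvd_card ⟨x, hmem⟩) with h | h
  · -- `N` fixes `x`, hence everything
    exfalso
    apply hNb
    rw [eq_bot_iff]
    intro n hn
    rw [Subgroup.mem_bot]
    apply FaithfulSMul.eq_of_smul_eq_smul (α := X)
    intro y
    obtain ⟨g, rfl⟩ := exists_smul_eq G x y
    have hc : g⁻¹ * n * g ∈ N := by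
      have := hNn.conj_mem n hn g⁻¹
      simpa using this
    have h2 : (g⁻¹ * n * g) • x = x := by
      have : (⟨g⁻¹ * n * g, hc⟩ : N) • x ∈ orbit N x := mem_orbit x _
      rw [h] at this
      exact this
    rw [one_smul]
    calc n • g • x = g • ((g⁻¹ * n * g) • x) := by
          rw [mul_smul, mul_smul, smul_inv_smul]
      _ = g • x := by rw [h2]
  · -- `N` transitive
    have h1 : Nat.card X ∣ Nat.card N := card_dvd_of_orbit_eq_univ N x h
    obtain ⟨m, hm⟩ := h1
    have h2 : Nat.card G = Nat.card X * (m * N.index) := by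
      rw [← mul_assoc, ← hm, Subgroup.card_mul_index]
    intro hd
    exact hcard _ h2 (Dvd.dvd.mul_left hd m)

end Cfsg.Agent.SporadicA.SimpleP
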