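import Mathlib
import Cfsg.Prelude.Def_Sporadic_a

/-!
Basic facts on Steiner systems S(5,8,24): block counts, intersection numbers 0, 2, 4;
a set of size eight orthogonal (mod 2) to all blocks is a block; sums of blocks meeting in four points.
-/

set_option autoImplicit false
set_option linter.unusedSectionVars false

namespace Cfsg.Agent.SporadicA.Steiner24Basic
open Finset
variable {α : Type*} [Fintype α] [DecidableEq α]

omit [Fintype α] in
/-- Two blocks sharing five points are equal. -/
theorem eq_of_five {B : Set (Finset α)} (hB : Cfsg.IsSteinerSystem 5 8 B)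
    {b c : Finset α} (hb : b ∈ B) (hc : c ∈ B) (s : Finset α) (hs : 5 ≤ s.card)
    (h1 : s ⊆ b) (h2 : s ⊆ c) : b = c := by
  obtain ⟨t, hts, ht⟩ := Finset.exists_subset_card_eq hs
  exact (hB.2 t ht).unique ⟨hb, hts.trans h1⟩ ⟨hc, hts.trans h2⟩

/-- One step of the recursion for the number of blocks through a set of points. -/
theorem count_step {k : ℕ} (Bf : Finset (Finset α)) (hk : ∀ b ∈ Bf, b.card = k) (T : Finset α) (m : ℕ)
    (h : ∀ x, x ∉ T → (Bf.filter fun c => insert x T ⊆ c).card = m) :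
    (Fintype.card α - T.card) * m = (k - T.card) * (Bf.filter fun c => T ⊆ c).card := by
  have h1 := Finset.sum_card_bipartiteAbove_eq_sum_card_bipartiteBelow
    (s := (Tᶜ : Finset α)) (t := Bf.filter fun c => T ⊆ c) (fun x c => x ∈ c)
  have h2 : ∀ x ∈ (Tᶜ : Finset α), (bipartiteAbove (fun (x : α) (c : Finset α) => x ∈ c)
      (Bf.filter fun c => T ⊆ c) x).card = m := by
    intro x hx
    rw [← h x (by simpa using hx)]
    congr 1
    ext c
    simp only [Finset.mem_bipartiteAbove, Finset.mem_filter, Finset.insert_subset_iff]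
    tauto
  have h3 : ∀ c ∈ (Bf.filter fun c => T ⊆ c),
      (bipartiteBelow (fun (x : α) (c : Finset α) => x ∈ c) (Tᶜ : Finset α) c).card
        = k - T.card := by
    intro c hc
    rw [Finset.mem_filter] at hc
    rw [← hk c hc.1, ← Finset.card_sdiff_of_subset hc.2]
    congr 1
    ext x
    simp only [Finset.mem_bipartiteBelow, Finset.mem_compl, Finset.mem_sdiff]
    tauto
  rw [Finset.sum_congr rfl h2, Finset.sum_congr rfl h3] at h1
  simp only [Finset.sum_const, smul_eq_mul, Finset.card_compl] at h1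
  rw [h1, mul_comm]

section
variable {B : Set (Finset α)} (hα : Fintype.card α = 24) (hB : Cfsg.IsSteinerSystem 5 8 B)
  (Bf : Finset (Finset α)) (hBf : ∀ b, b ∈ Bf ↔ b ∈ B)
include hα hB hBf

theorem count5 (T : Finset α) (hT : T.card = 5) : (Bf.filter fun c => T ⊆ c).card = 1 := by
  obtain ⟨b, hb, hu⟩ := hB.2 T hT
  rw [Finset.card_eq_one]
  refine ⟨b, ?_⟩
  ext c
  simp only [Finset.mem_filter, Finset.mem_singleton, hBf]
  constructor
  · intro hc; exact hu c hc
  · rintro rfl; exact hb

theorem count4 (T : Finset α) (hT : T.card = 4) : (Bf.filter fun c => T ⊆ c).card = 5 := by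
  have := count_step (k := 8) Bf (fun b hb => hB.1 b ((hBf b).1 hb)) T 1 (fun x hx =>
    count5 hα hB Bf hBf _ (by rw [Finset.card_insert_of_notMem hx, hT]))
  rw [hα, hT] at this
  omega

theorem count3 (T : Finset α) (hT : T.card = 3) : (Bf.filter fun c => T ⊆ c).card = 21 := by
  have := count_step (k := 8) Bf (fun b hb => hB.1 b ((hBf b).1 hb)) T 5 (fun x hx =>
    count4 hα hB Bf hBf _ (by rw [Finset.card_insert_of_notMem hx, hT]))
  rw [hα, hT] at this
  omega

theorem count2 (T : Finset α) (hT : T.card = 2) : (Bf.filter fun c => T ⊆ c).card = 77 := by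
  have := count_step (k := 8) Bf (fun b hb => hB.1 b ((hBf b).1 hb)) T 21 (fun x hx =>
    count3 hα hB Bf hBf _ (by rw [Finset.card_insert_of_notMem hx, hT]))
  rw [hα, hT] at this
  omega

theorem count1 (T : Finset α) (hT : T.card = 1) : (Bf.filter fun c => T ⊆ c).card = 253 := by
  have := count_step (k := 8) Bf (fun b hb => hB.1 b ((hBf b).1 hb)) T 77 (fun x hx =>
    count2 hα hB Bf hBf _ (by rw [Finset.card_insert_of_notMem hx, hT]))
  rw [hα, hT] at this
  omega

theorem count0 (T : Finset α) (hT : T.card = 0) : (Bf.filter fun c => T ⊆ c).card = 759 := by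
  have := count_step (k := 8) Bf (fun b hb => hB.1 b ((hBf b).1 hb)) T 253 (fun x hx =>
    count1 hα hB Bf hBf _ (by rw [Finset.card_insert_of_notMem hx, hT]))
  rw [hα, hT] at this
  omega

theorem sum_choose {b : Finset α} (hb : b ∈ B) (t n : ℕ)
    (h : ∀ T : Finset α, T.card = t → (Bf.filter fun c => T ⊆ c).card = n + 1) :
    ∑ c ∈ Bf.erase b, ((b ∩ c).card).choose t = (Nat.choose 8 t) * n := by
  have h1 := Finset.sum_card_bipartiteAbove_eq_sum_card_bipartiteBelow
    (s := b.powersetCard t) (t := Bf.erase b) (fun T c => T ⊆ c)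
  have h2 : ∀ T ∈ b.powersetCard t, (bipartiteAbove (fun (T : Finset α) (c : Finset α) => T ⊆ c)
      (Bf.erase b) T).card = n := by
    intro T hT
    rw [Finset.mem_powersetCard] at hT
    have h3 := h T hT.2
    have h4 : (Bf.filter fun c => T ⊆ c) = insert b (bipartiteAbove
      (fun (T : Finset α) (c : Finset α) => T ⊆ c) (Bf.erase b) T) := by
      ext c
      simp only [Finset.mem_bipartiteAbove, Finset.mem_filter, Finset.mem_insert, Finset.mem_erase]
      by_cases hc : c = b
      · subst hc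
        simp [hBf, hb, hT.1]
      · simp [hc]
    rw [h4, Finset.card_insert_of_notMem (by simp [Finset.mem_bipartiteAbove])] at h3
    omega
  have h3 : ∀ c ∈ Bf.erase b,
      (bipartiteBelow (fun (T : Finset α) (c : Finset α) => T ⊆ c) (b.powersetCard t) c).card
        = ((b ∩ c).card).choose t := by
    intro c hc
    rw [← Finset.card_powersetCard]
    congr 1
    ext x
    simp only [Finset.mem_bipartiteBelow, Finset.mem_powersetCard, Finset.subset_inter_iff]
    tauto
  rw [Finset.sum_congr rfl h2, Finset.sum_congr rfl h3] at h1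
  simp only [Finset.sum_const, smul_eq_mul, Finset.card_powersetCard, hB.1 b hb] at h1
  exact h1.symm

end

theorem inter_card {B : Set (Finset α)} (hα : Fintype.card α = 24) (hB : Cfsg.IsSteinerSystem 5 8 B)
    {b c : Finset α} (hb : b ∈ B) (hc : c ∈ B) (hbc : b ≠ c) :
    (b ∩ c).card = 0 ∨ (b ∩ c).card = 2 ∨ (b ∩ c).card = 4 := by
  classical
  let Bf : Finset (Finset α) := Finset.univ.filter fun b => b ∈ B
  have hBf : ∀ b, b ∈ Bf ↔ b ∈ B := by intro b; simp [Bf]
  have hle : ∀ c ∈ Bf.erase b, (b ∩ c).card ≤ 4 := by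
    intro c hc
    rw [Finset.mem_erase, hBf] at hc
    by_contra hcon
    exact hc.1 (eq_of_five hB hb hc.2 (b ∩ c) (by omega) Finset.inter_subset_left
      Finset.inter_subset_right).symm
  have s1 := sum_choose hα hB Bf hBf hb 1 252 (count1 hα hB Bf hBf)
  have s2 := sum_choose hα hB Bf hBf hb 2 76 (count2 hα hB Bf hBf)
  have s3 := sum_choose hα hB Bf hBf hb 3 20 (count3 hα hB Bf hBf)
  have s4 := sum_choose hα hB Bf hBf hb 4 4 (count4 hα hB Bf hBf)
  have z3 : ∑ c ∈ Bf.erase b, ((((b ∩ c).card).choose 3 : ℤ) - 4 * ((b ∩ c).card).choose 4) = 0 := by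
    rw [Finset.sum_sub_distrib, ← Finset.mul_sum]
    have e3 : (∑ c ∈ Bf.erase b, (((b ∩ c).card).choose 3 : ℤ)) = ((Nat.choose 8 3 * 20 : ℕ) : ℤ) := by
      rw [← s3]; push_cast; rfl
    have e4 : (∑ c ∈ Bf.erase b, (((b ∩ c).card).choose 4 : ℤ)) = ((Nat.choose 8 4 * 4 : ℕ) : ℤ) := by
      rw [← s4]; push_cast; rfl
    rw [e3, e4]
    decide
  have z1 : ∑ c ∈ Bf.erase b, ((((b ∩ c).card).choose 1 : ℤ) - 2 * ((b ∩ c).card).choose 2
      + 3 * ((b ∩ c).card).choose 3 - 4 * ((b ∩ c).card).choose 4) = 0 := by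
    rw [Finset.sum_sub_distrib, Finset.sum_add_distrib, Finset.sum_sub_distrib, ← Finset.mul_sum,
      ← Finset.mul_sum, ← Finset.mul_sum]
    have e1 : (∑ c ∈ Bf.erase b, (((b ∩ c).card).choose 1 : ℤ)) = ((Nat.choose 8 1 * 252 : ℕ) : ℤ) := by
      rw [← s1]; push_cast; rfl
    have e2 : (∑ c ∈ Bf.erase b, (((b ∩ c).card).choose 2 : ℤ)) = ((Nat.choose 8 2 * 76 : ℕ) : ℤ) := by
      rw [← s2]; push_cast; rfl
    have e3 : (∑ c ∈ Bf.erase b, (((b ∩ c).card).choose 3 : ℤ)) = ((Nat.choose 8 3 * 20 : ℕ) : ℤ) := by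
      rw [← s3]; push_cast; rfl
    have e4 : (∑ c ∈ Bf.erase b, (((b ∩ c).card).choose 4 : ℤ)) = ((Nat.choose 8 4 * 4 : ℕ) : ℤ) := by
      rw [← s4]; push_cast; rfl
    rw [e1, e2, e3, e4]
    decide
  rw [Finset.sum_eq_zero_iff_of_nonneg] at z3 z1
  · have hc' : c ∈ Bf.erase b := by rw [Finset.mem_erase, hBf]; exact ⟨hbc.symm, hc⟩
    have a1 := z1 c hc'
    have a3 := z3 c hc'
    have a4 := hle c hc'
    interval_cases h : (b ∩ c).card
    · simp
    · simp [Nat.choose] at a1
    · simp
    · simp [Nat.choose] at a3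
    · simp
  · intro c hc
    have a4 := hle c hc
    interval_cases h : (b ∩ c).card <;> simp [Nat.choose]
  · intro c hc
    have a4 := hle c hc
    interval_cases h : (b ∩ c).card <;> simp [Nat.choose]

theorem even_inter {B : Set (Finset α)} (hα : Fintype.card α = 24) (hB : Cfsg.IsSteinerSystem 5 8 B)
    {b c : Finset α} (hb : b ∈ B) (hc : c ∈ B) : Even (b ∩ c).card := by
  by_cases h : b = c
  · subst h
    rw [Finset.inter_self, hB.1 b hb]
    decide
  · rcases inter_card hα hB hb hc h with h | h | h <;> rw [h] <;> decide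

/-- Parity of the intersection with a symmetric difference. -/
theorem even_symmDiff_inter (u v w : Finset α) (hu : Even (u ∩ w).card) (hv : Even (v ∩ w).card) :
    Even ((symmDiff u v) ∩ w).card := by
  have h1 : (symmDiff u v) ∩ w = symmDiff (u ∩ w) (v ∩ w) := by
    ext x; simp only [Finset.mem_symmDiff, Finset.mem_inter]; tauto
  rw [h1]
  have h2 := Finset.card_sdiff_add_card_inter (u ∩ w) (v ∩ w)
  have h3 := Finset.card_sdiff_add_card_inter (v ∩ w) (u ∩ w)
  have h4 : (symmDiff (u ∩ w) (v ∩ w)).card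
      = ((u ∩ w) \ (v ∩ w)).card + ((v ∩ w) \ (u ∩ w)).card := by
    rw [symmDiff_def, Finset.sup_eq_union, Finset.card_union_of_disjoint]
    exact disjoint_sdiff_sdiff
  rw [Finset.inter_comm (v ∩ w) (u ∩ w)] at h3
  rw [h4]
  rw [Nat.even_iff] at *
  omega

theorem card_symmDiff_add (u v : Finset α) :
    (symmDiff u v).card + 2 * (u ∩ v).card = u.card + v.card := by
  have h2 := Finset.card_sdiff_add_card_inter u v
  have h3 := Finset.card_sdiff_add_card_inter v u
  have h4 : (symmDiff u v).card = (u \ v).card + (v \ u).card := by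
    rw [symmDiff_def, Finset.sup_eq_union, Finset.card_union_of_disjoint]
    exact disjoint_sdiff_sdiff
  rw [Finset.inter_comm v u] at h3
  omega

/-- No set of size four is orthogonal to all blocks. -/
theorem not_orth_four {B : Set (Finset α)} (hα : Fintype.card α = 24) (hB : Cfsg.IsSteinerSystem 5 8 B)
    (w : Finset α) (hw : w.card = 4) (h : ∀ b ∈ B, Even (w ∩ b).card) : False := by
  -- three points of `w`
  obtain ⟨t, htw, ht⟩ := Finset.exists_subset_card_eq (show 3 ≤ w.card by omega)
  -- every block containing `t` contains `w`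
  have key : ∀ b ∈ B, t ⊆ b → w ⊆ b := by
    intro b hb htb
    have h1 : t ⊆ w ∩ b := Finset.subset_inter htw htb
    have h2 : 3 ≤ (w ∩ b).card := ht ▸ Finset.card_le_card h1
    have h3 : (w ∩ b).card ≤ 4 := hw ▸ Finset.card_le_card Finset.inter_subset_left
    have h4 := h b hb
    have h5 : (w ∩ b).card = 4 := by
      rw [Nat.even_iff] at h4; omega
    have h6 : w ∩ b = w := Finset.eq_of_subset_of_card_le Finset.inter_subset_left (by omega)
    rw [← h6]; exact Finset.inter_subset_right
  -- a point x outside w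
  have h1 : ∃ x, x ∉ w := by
    by_contra hcon
    push Not at hcon
    have : w = Finset.univ := Finset.eq_univ_of_forall hcon
    rw [this, Finset.card_univ, hα] at hw
    omega
  obtain ⟨x, hx⟩ := h1
  obtain ⟨b, ⟨hb, hxb⟩, -⟩ := hB.2 (insert x w) (by rw [Finset.card_insert_of_notMem hx, hw])
  have hb8 := hB.1 b hb
  have h2 : ∃ y, y ∉ b := by
    by_contra hcon
    push Not at hcon
    have : b = Finset.univ := Finset.eq_univ_of_forall hcon
    rw [this, Finset.card_univ, hα] at hb8
    omega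
  obtain ⟨y, hy⟩ := h2
  have hwb : w ⊆ b := (Finset.subset_insert _ _).trans hxb
  have hxb' : x ∈ b := hxb (Finset.mem_insert_self _ _)
  have hxt : x ∉ t := fun hh => hx (htw hh)
  have hyt : y ∉ insert x t := by
    intro hh
    rcases Finset.mem_insert.1 hh with rfl | hh
    · exact hy hxb'
    · exact hy (hwb (htw hh))
  obtain ⟨c, ⟨hc, hyc⟩, -⟩ := hB.2 (insert y (insert x t))
    (by rw [Finset.card_insert_of_notMem hyt, Finset.card_insert_of_notMem hxt, ht])
  have htc : t ⊆ c := fun z hz => hyc (by simp [hz])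
  have hwc : w ⊆ c := key c hc htc
  have hxc : insert x w ⊆ c := by
    intro z hz
    rcases Finset.mem_insert.1 hz with rfl | hz
    · exact hyc (by simp)
    · exact hwc hz
  have hbc : b = c := eq_of_five hB hb hc (insert x w)
    (by rw [Finset.card_insert_of_notMem hx, hw]) hxb hxc
  subst hbc
  exact hy (hyc (by simp))

/-- A set of size eight is a block as soon as it meets every block evenly. -/
theorem mem_of_orth {B : Set (Finset α)} (hα : Fintype.card α = 24) (hB : Cfsg.IsSteinerSystem 5 8 B)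
    (w : Finset α) (hw : w.card = 8) (h : ∀ b ∈ B, Even (w ∩ b).card) : w ∈ B := by
  obtain ⟨t, htw, ht⟩ := Finset.exists_subset_card_eq (show 5 ≤ w.card by omega)
  obtain ⟨d, ⟨hd, htd⟩, -⟩ := hB.2 t ht
  have h1 : 5 ≤ (w ∩ d).card := ht ▸ Finset.card_le_card (Finset.subset_inter htw htd)
  have h2 : (w ∩ d).card ≤ 8 := hw ▸ Finset.card_le_card Finset.inter_subset_left
  have h3 := card_symmDiff_add w d
  have h4 := h d hd
  rw [hw, hB.1 d hd] at h3
  have h5 : (w ∩ d).card = 6 ∨ (w ∩ d).card = 8 := by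
    rw [Nat.even_iff] at h4; omega
  rcases h5 with h5 | h5
  · exfalso
    refine not_orth_four hα hB (symmDiff w d) (by omega) ?_
    intro b hb
    exact even_symmDiff_inter _ _ _ (h b hb) (even_inter hα hB hd hb)
  · have h6 : w ∩ d = w := Finset.eq_of_subset_of_card_le Finset.inter_subset_left (by omega)
    have h7 : w ∩ d = d := Finset.eq_of_subset_of_card_le Finset.inter_subset_right
      (by rw [hB.1 d hd]; omega)
    rw [← h6, h7]; exact hd

/-- The symmetric difference of two blocks meeting in four points is a block. -/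
theorem symmDiff_mem {B : Set (Finset α)} (hα : Fintype.card α = 24) (hB : Cfsg.IsSteinerSystem 5 8 B)
    {b c : Finset α} (hb : b ∈ B) (hc : c ∈ B) (h4 : (b ∩ c).card = 4) : symmDiff b c ∈ B := by
  apply mem_of_orth hα hB
  · have := card_symmDiff_add b c
    rw [hB.1 b hb, hB.1 c hc] at this
    omega
  · intro d hd
    exact even_symmDiff_inter _ _ _ (even_inter hα hB hb hd) (even_inter hα hB hc hd)


/-- Exactly 30 blocks are disjoint from a given block. -/
theorem card_disjoint {B : Set (Finset α)} (hα : Fintype.card α = 24) (hB : Cfsg.IsSteinerSystem 5 8 B)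
    {b : Finset α} (hb : b ∈ B) (Bf : Finset (Finset α)) (hBf : ∀ b, b ∈ Bf ↔ b ∈ B) :
    (Bf.filter fun c => (b ∩ c).card = 0).card = 30 := by
  have hle : ∀ c ∈ Bf.erase b, (b ∩ c).card ≤ 4 := by
    intro c hc
    rw [Finset.mem_erase, hBf] at hc
    by_contra hcon
    exact hc.1 (eq_of_five hB hb hc.2 (b ∩ c) (by omega) Finset.inter_subset_left
      Finset.inter_subset_right).symm
  have s0 := sum_choose hα hB Bf hBf hb 0 758 (count0 hα hB Bf hBf)
  have s1 := sum_choose hα hB Bf hBf hb 1 252 (count1 hα hB Bf hBf)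
  have s2 := sum_choose hα hB Bf hBf hb 2 76 (count2 hα hB Bf hBf)
  have s3 := sum_choose hα hB Bf hBf hb 3 20 (count3 hα hB Bf hBf)
  have s4 := sum_choose hα hB Bf hBf hb 4 4 (count4 hα hB Bf hBf)
  have key : (((Bf.erase b).filter fun c => (b ∩ c).card = 0).card : ℤ) = 30 := by
    rw [Finset.card_filter]
    push_cast
    have e : ∀ c ∈ Bf.erase b, (if (b ∩ c).card = 0 then (1 : ℤ) else 0)
        = (((b ∩ c).card).choose 0 : ℤ) - ((b ∩ c).card).choose 1 + ((b ∩ c).card).choose 2
          - ((b ∩ c).card).choose 3 + ((b ∩ c).card).choose 4 := by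
      intro c hc
      have a4 := hle c hc
      interval_cases h : (b ∩ c).card <;> simp [Nat.choose]
    rw [Finset.sum_congr rfl e, Finset.sum_add_distrib, Finset.sum_sub_distrib,
      Finset.sum_add_distrib, Finset.sum_sub_distrib]
    have e0 : (∑ c ∈ Bf.erase b, (((b ∩ c).card).choose 0 : ℤ)) = ((Nat.choose 8 0 * 758 : ℕ) : ℤ) := by
      rw [← s0]; push_cast; rfl
    have e1 : (∑ c ∈ Bf.erase b, (((b ∩ c).card).choose 1 : ℤ)) = ((Nat.choose 8 1 * 252 : ℕ) : ℤ) := by
      rw [← s1]; push_cast; rfl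
    have e2 : (∑ c ∈ Bf.erase b, (((b ∩ c).card).choose 2 : ℤ)) = ((Nat.choose 8 2 * 76 : ℕ) : ℤ) := by
      rw [← s2]; push_cast; rfl
    have e3 : (∑ c ∈ Bf.erase b, (((b ∩ c).card).choose 3 : ℤ)) = ((Nat.choose 8 3 * 20 : ℕ) : ℤ) := by
      rw [← s3]; push_cast; rfl
    have e4 : (∑ c ∈ Bf.erase b, (((b ∩ c).card).choose 4 : ℤ)) = ((Nat.choose 8 4 * 4 : ℕ) : ℤ) := by
      rw [← s4]; push_cast; rfl
    rw [e0, e1, e2, e3, e4]
    decide
  have hh : (Bf.filter fun c => (b ∩ c).card = 0) = ((Bf.erase b).filter fun c => (b ∩ c).card = 0) := by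
    ext c
    simp only [Finset.mem_filter, Finset.mem_erase]
    constructor
    · rintro ⟨h1, h2⟩
      refine ⟨⟨?_, h1⟩, h2⟩
      rintro rfl
      rw [Finset.inter_self, hB.1 c hb] at h2
      omega
    · rintro ⟨⟨_, h1⟩, h2⟩
      exact ⟨h1, h2⟩
  rw [hh]
  exact_mod_cast key

end Cfsg.Agent.SporadicA.Steiner24Basic
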