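import Mathlib
import Cfsg.Prelude.Def_Sporadic_a
import Cfsg.Agent.SporadicA.Steiner24Basic

/-!
Labelling the points of a Steiner system S(5,8,24) from six points of an octad and one point outside:
the pairs of the six points (duads) index fifteen octads, the perfect matchings (synthemes) index the
remaining fifteen points outside the octad.
-/

set_option autoImplicit false

namespace Cfsg.Agent.SporadicA.Steiner24Label

open Finset Cfsg.Agent.SporadicA.Steiner24Basic

/-- A frame of a set system: six points of a common block, and a point outside this block. -/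
structure Frame {α : Type*} (B : Set (Finset α)) where
  /-- six points -/
  x : Fin 6 → α
  inj : Function.Injective x
  /-- the block containing them -/
  O : Finset α
  hO : O ∈ B
  mem : ∀ i, x i ∈ O
  /-- the point outside -/
  p : α
  hp : p ∉ O

/-- The complements of the fifteen duads of `{0,...,5}`. -/
def tet : Fin 15 → Finset (Fin 6) :=
  ![{2, 3, 4, 5}, {1, 3, 4, 5}, {1, 2, 4, 5}, {1, 2, 3, 5}, {1, 2, 3, 4},
    {0, 3, 4, 5}, {0, 2, 4, 5}, {0, 2, 3, 5}, {0, 2, 3, 4},
    {0, 1, 4, 5}, {0, 1, 3, 5}, {0, 1, 3, 4},
    {0, 1, 2, 5}, {0, 1, 2, 4}, {0, 1, 2, 3}]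

/-- The fifteen synthemes, each as the set of its three duads. -/
def syn : Fin 15 → Fin 15 × Fin 15 × Fin 15 :=
  ![(0, 9, 14), (0, 10, 13), (0, 11, 12), (1, 6, 14), (1, 7, 13), (1, 8, 12), (2, 5, 14),
    (2, 7, 11), (2, 8, 10), (3, 5, 13), (3, 6, 11), (3, 8, 9), (4, 5, 12), (4, 6, 10), (4, 7, 9)]

/-- `d` is a duad of the syntheme `s`. -/
def inSyn (d s : Fin 15) : Prop := d = (syn s).1 ∨ d = (syn s).2.1 ∨ d = (syn s).2.2

instance inSynDec (d s : Fin 15) : Decidable (inSyn d s) := by
  unfold inSyn; infer_instance

/-- The label set: six points, two more points of the octad, and sixteen points outside. -/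
abbrev L : Type := Fin 6 ⊕ Fin 2 ⊕ Option (Fin 15)

/-- Indicator of the standard octad. -/
def oB : L → Bool
  | Sum.inl _ => true
  | Sum.inr (Sum.inl _) => true
  | Sum.inr (Sum.inr _) => false

/-- Indicator of the octad attached to a duad. -/
def dB (d : Fin 15) : L → Bool
  | Sum.inl i => decide (i ∈ tet d)
  | Sum.inr (Sum.inl _) => false
  | Sum.inr (Sum.inr none) => true
  | Sum.inr (Sum.inr (some s)) => decide (inSyn d s)

/-- Indicator of the last octad, separating the two points of the octad outside the frame. -/
def eB : L → Bool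
  | Sum.inl i => decide (i = 0 ∨ i = 1 ∨ i = 2)
  | Sum.inr (Sum.inl j) => decide (j = 0)
  | Sum.inr (Sum.inr none) => true
  | Sum.inr (Sum.inr (some s)) => decide (s = 7 ∨ s = 11 ∨ s = 13)

/-- The standard octad. -/
def stdO : Finset L := univ.filter fun l => oB l = true

/-- The octad attached to a duad. -/
def stdD (d : Fin 15) : Finset L := univ.filter fun l => dB d l = true

/-- The last octad, separating the two points of the octad outside the frame. -/
def stdE : Finset L := univ.filter fun l => eB l = true

theorem mem_stdO (l : L) : l ∈ stdO ↔ oB l = true := by simp [stdO]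
theorem mem_stdD (d : Fin 15) (l : L) : l ∈ stdD d ↔ dB d l = true := by simp [stdD]
theorem mem_stdE (l : L) : l ∈ stdE ↔ eB l = true := by simp [stdE]

theorem card_stdO : stdO.card = 8 := by decide
theorem card_stdD (d : Fin 15) : (stdD d).card = 8 := by revert d; decide +kernel
theorem card_stdE : stdE.card = 8 := by decide

theorem card_tet (d : Fin 15) : (tet d).card = 4 := by revert d; decide

/-- The three duads of a syntheme are pairwise disjoint. -/
theorem tet_syn (s : Fin 15) : (tet (syn s).1 ∩ tet (syn s).2.1).card = 2 ∧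
    tet (syn s).2.2 = symmDiff (tet (syn s).1) (tet (syn s).2.1) ∧ (syn s).1 ≠ (syn s).2.1 := by
  revert s; decide +kernel

theorem tet_inj (d e : Fin 15) (h : tet d = tet e) : d = e := by
  revert d e; decide +kernel

/-- Two distinct synthemes contain intersecting duads. -/
theorem syn_ne (s t : Fin 15) (h : s ≠ t) : ∃ d e, inSyn d s ∧ inSyn e t ∧
    (tet d ∩ tet e).card = 3 := by
  revert s t; decide +kernel

end Cfsg.Agent.SporadicA.Steiner24Label
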