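import Mathlib
import Cfsg.Prelude.Def_Sporadic_a
import Cfsg.Agent.SporadicA.Steiner24Label

/-!
Two Steiner systems S(5,8,24) on the label set sharing the standard octads are equal.
-/

set_option autoImplicit false
set_option linter.unusedSectionVars false

namespace Cfsg.Agent.SporadicA.Steiner24Det

open Finset Cfsg.Agent.SporadicA.Steiner24Basic Cfsg.Agent.SporadicA.Steiner24Label

/-- The indicator vector of a set over the field with two elements. -/
def ind {α : Type*} [DecidableEq α] (S : Finset α) : α → ZMod 2 := fun a => if a ∈ S then 1 else 0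

theorem ind_dot {α : Type*} [Fintype α] [DecidableEq α] (S T : Finset α) :
    ind S ⬝ᵥ ind T = ((S ∩ T).card : ZMod 2) := by
  unfold dotProduct ind
  simp only [mul_ite, mul_one, mul_zero]
  rw [Finset.card_eq_sum_ones, Nat.cast_sum, ← Finset.sum_filter, ← Finset.sum_filter,
    Finset.filter_filter]
  simp only [Nat.cast_one]
  congr 1
  ext x
  simp [and_comm]

theorem ind_dot_eq_zero {α : Type*} [Fintype α] [DecidableEq α] (S T : Finset α) :
    ind S ⬝ᵥ ind T = 0 ↔ Even (S ∩ T).card := by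
  rw [ind_dot, ZMod.natCast_eq_zero_iff, even_iff_two_dvd]

/-- The chosen twelve octads. -/
def rows : Fin 12 → Finset L :=
  ![stdO, stdE, stdD 0, stdD 1, stdD 2, stdD 3, stdD 4, stdD 5, stdD 6, stdD 7, stdD 9, stdD 10]

/-- A dual family. -/
def cols : Fin 12 → Finset L :=
  ![{Sum.inl 0, Sum.inl 1, Sum.inl 2, Sum.inl 3, Sum.inl 4, Sum.inl 5, Sum.inr (Sum.inl 0)},
    {Sum.inl 0, Sum.inl 1, Sum.inl 2, Sum.inl 3, Sum.inl 4, Sum.inl 5},
    {Sum.inl 2, Sum.inl 3, Sum.inl 4, Sum.inl 5, Sum.inr (Sum.inr none), Sum.inr (Sum.inr (some 0)), Sum.inr (Sum.inr (some 1))},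
    {Sum.inl 1, Sum.inl 3, Sum.inl 4, Sum.inl 5, Sum.inr (Sum.inr none), Sum.inr (Sum.inr (some 3)), Sum.inr (Sum.inr (some 4))},
    {Sum.inl 1, Sum.inl 2, Sum.inl 3, Sum.inr (Sum.inl 0), Sum.inr (Sum.inr none), Sum.inr (Sum.inr (some 1)), Sum.inr (Sum.inr (some 4))},
    {Sum.inl 1, Sum.inl 2, Sum.inl 4, Sum.inr (Sum.inl 0), Sum.inr (Sum.inr none), Sum.inr (Sum.inr (some 0)), Sum.inr (Sum.inr (some 3))},
    {Sum.inl 5, Sum.inr (Sum.inl 0), Sum.inr (Sum.inr none)},
    {Sum.inl 0, Sum.inr (Sum.inl 0), Sum.inr (Sum.inr (some 0)), Sum.inr (Sum.inr (some 1)), Sum.inr (Sum.inr (some 3)), Sum.inr (Sum.inr (some 4))},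
    {Sum.inl 1, Sum.inl 3, Sum.inl 4, Sum.inl 5, Sum.inr (Sum.inr none), Sum.inr (Sum.inr (some 4))},
    {Sum.inl 1, Sum.inl 3, Sum.inl 4, Sum.inl 5, Sum.inr (Sum.inr none), Sum.inr (Sum.inr (some 3))},
    {Sum.inl 2, Sum.inl 3, Sum.inl 4, Sum.inl 5, Sum.inr (Sum.inr none), Sum.inr (Sum.inr (some 1))},
    {Sum.inl 2, Sum.inl 3, Sum.inl 4, Sum.inl 5, Sum.inr (Sum.inr none), Sum.inr (Sum.inr (some 0))}]

theorem rows_cols (i j : Fin 12) : (rows i ∩ cols j).card % 2 = if i = j then 1 else 0 := by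
  revert i j; decide +kernel

theorem linInd : LinearIndependent (ZMod 2) (fun i : Fin 12 => ind (rows i)) := by
  rw [Fintype.linearIndependent_iff]
  intro g hg j
  have h1 : (∑ i, g i • ind (rows i)) ⬝ᵥ ind (cols j) = 0 := by rw [hg]; simp
  rw [sum_dotProduct] at h1
  have h2 : ∀ i, (g i • ind (rows i)) ⬝ᵥ ind (cols j) = if i = j then g j else 0 := by
    intro i
    rw [smul_dotProduct, ind_dot]
    have h3 := rows_cols i j
    have h4 : (((rows i ∩ cols j).card : ℕ) : ZMod 2) = (if i = j then 1 else 0 : ℕ) := by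
      rw [← h3, ZMod.natCast_mod]
    rw [h4]
    by_cases hij : i = j
    · subst hij; simp
    · simp [hij]
  simp only [h2, Finset.sum_ite_eq', Finset.mem_univ, if_true] at h1
  exact h1

/-- A self-orthogonal subspace of the 24-dimensional space has dimension at most 12. -/
theorem finrank_le {α : Type*} [Fintype α] [DecidableEq α] (hα : Fintype.card α = 24)
    (V : Submodule (ZMod 2) (α → ZMod 2)) (hV : ∀ v ∈ V, ∀ w ∈ V, v ⬝ᵥ w = 0) :
    Module.finrank (ZMod 2) V ≤ 12 := by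
  let b : LinearMap.BilinForm (ZMod 2) (α → ZMod 2) := Matrix.toBilin' 1
  have hb : ∀ v w, b v w = v ⬝ᵥ w := by
    intro v w
    simp [b, Matrix.toBilin'_apply']
  have hnd : b.Nondegenerate := by
    apply Matrix.Nondegenerate.toBilin'
    exact Matrix.nondegenerate_of_det_ne_zero (by simp)
  have h1 : V ≤ b.orthogonal V := by
    intro v hv
    rw [LinearMap.BilinForm.mem_orthogonal_iff]
    intro w hw
    change b w v = 0
    rw [hb]
    exact hV w hw v hv
  have h2 := Submodule.finrank_mono h1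
  rw [LinearMap.BilinForm.finrank_orthogonal hnd] at h2
  rw [Module.finrank_fintype_fun_eq_card, hα] at h2
  omega

/-- The span of the blocks. -/
def code {α : Type*} [DecidableEq α] (B : Set (Finset α)) : Submodule (ZMod 2) (α → ZMod 2) :=
  Submodule.span (ZMod 2) (ind '' B)

theorem code_orth {α : Type*} [Fintype α] [DecidableEq α] (hα : Fintype.card α = 24)
    {B : Set (Finset α)} (hB : Cfsg.IsSteinerSystem 5 8 B) :
    ∀ v ∈ code B, ∀ w ∈ code B, v ⬝ᵥ w = 0 := by
  intro v hv w hw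
  induction hv, hw using Submodule.span_induction₂ with
  | mem_mem x y hx hy =>
    obtain ⟨b, hb, rfl⟩ := hx
    obtain ⟨c, hc, rfl⟩ := hy
    rw [ind_dot_eq_zero]
    exact even_inter hα hB hb hc
  | zero_left => simp
  | zero_right => simp
  | add_left x y z _ _ _ h1 h2 => rw [add_dotProduct, h1, h2, add_zero]
  | add_right x y z _ _ _ h1 h2 => rw [dotProduct_add, h1, h2, add_zero]
  | smul_left r x y _ _ h => rw [smul_dotProduct, h, smul_zero]
  | smul_right r x y _ _ h => rw [dotProduct_smul, h, smul_zero]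

theorem code_eq {B : Set (Finset L)} (hB : Cfsg.IsSteinerSystem 5 8 B)
    (h : ∀ i, rows i ∈ B) : Submodule.span (ZMod 2) (Set.range fun i : Fin 12 => ind (rows i)) = code B := by
  apply Submodule.eq_of_le_of_finrank_le
  · rw [Submodule.span_le]
    rintro _ ⟨i, rfl⟩
    exact Submodule.subset_span ⟨_, h i, rfl⟩
  · rw [finrank_span_eq_card linInd]
    exact finrank_le (by rfl) _ (code_orth (by rfl) hB)

theorem sub_of_rows {B C : Set (Finset L)} (hB : Cfsg.IsSteinerSystem 5 8 B)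
    (hC : Cfsg.IsSteinerSystem 5 8 C) (h : ∀ i, rows i ∈ B) (h' : ∀ i, rows i ∈ C) : B ⊆ C := by
  intro w hw
  apply mem_of_orth (by rfl) hC w (hB.1 w hw)
  intro c hc
  rw [← ind_dot_eq_zero]
  apply code_orth (by rfl) hC
  · rw [← code_eq hC h', code_eq hB h]
    exact Submodule.subset_span ⟨_, hw, rfl⟩
  · exact Submodule.subset_span ⟨_, hc, rfl⟩

theorem eq_of_rows {B C : Set (Finset L)} (hB : Cfsg.IsSteinerSystem 5 8 B)
    (hC : Cfsg.IsSteinerSystem 5 8 C) (h : ∀ i, rows i ∈ B) (h' : ∀ i, rows i ∈ C) : B = C :=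
  Set.Subset.antisymm (sub_of_rows hB hC h h') (sub_of_rows hC hB h' h)

end Cfsg.Agent.SporadicA.Steiner24Det
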