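import Mathlib
import Cfsg.Prelude.Def_Sporadic_a
import Cfsg.Agent.SporadicA.CodeUnique
import Cfsg.Agent.S0352

/-!
The span of the blocks of a Steiner system `S(5,8,24)` is a doubly even self-dual code without
words of weight 4, and its words of weight 8 are exactly the blocks.  Hence the uniqueness of
`S(5,8,24)` follows from the uniqueness of the Golay code.
-/

set_option autoImplicit false

namespace Cfsg.Agent.SporadicA.SteinerCode

open Cfsg Cfsg.Agent.SporadicA.CodeUnique

variable {α : Type*} [Fintype α] [DecidableEq α]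

/-- The code spanned by a family of sets. -/
def codeOf (B : Set (Finset α)) : Submodule (ZMod 2) (α → ZMod 2) :=
  Submodule.span (ZMod 2) (ind '' B)

omit [Fintype α] in
theorem ind_mem_codeOf {B : Set (Finset α)} {b : Finset α} (hb : b ∈ B) : ind b ∈ codeOf B :=
  Submodule.subset_span ⟨b, hb, rfl⟩

theorem even_inter {B : Set (Finset α)} (hα : Fintype.card α = 24) (hB : IsSteinerSystem 5 8 B)
    {b c : Finset α} (hb : b ∈ B) (hc : c ∈ B) : Even (b ∩ c).card := by
  by_cases hbc : b = c
  · rw [hbc, Finset.inter_self, hB.1 c hc]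
    exact ⟨4, rfl⟩
  · rcases Cfsg.Agent.S0352.result hα hB hb hc hbc with h | h | h <;> rw [h]
    · exact ⟨0, rfl⟩
    · exact ⟨1, rfl⟩
    · exact ⟨2, rfl⟩

theorem form_eq_zero {B : Set (Finset α)} (hα : Fintype.card α = 24) (hB : IsSteinerSystem 5 8 B)
    {v w : α → ZMod 2} (hv : v ∈ codeOf B) (hw : w ∈ codeOf B) : form α v w = 0 := by
  have h1 : ∀ b ∈ B, ∀ w ∈ codeOf B, form α (ind b) w = 0 := by
    intro b hb w hw
    induction hw using Submodule.span_induction with
    | mem x hx =>
      obtain ⟨c, hc, rfl⟩ := hx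
      exact (form_ind_eq_zero_iff b c).2 (even_inter hα hB hb hc)
    | zero => rw [map_zero]
    | add x y _ _ hx hy => rw [map_add, hx, hy, add_zero]
    | smul a x _ hx => rw [map_smul, hx, smul_zero]
  induction hv using Submodule.span_induction with
  | mem x hx =>
    obtain ⟨c, hc, rfl⟩ := hx
    exact h1 c hc w hw
  | zero => rw [map_zero]; rfl
  | add x y _ _ hx hy => rw [map_add, LinearMap.add_apply, hx, hy, add_zero]
  | smul a x _ hx => rw [map_smul, LinearMap.smul_apply, hx, smul_zero]

/-- Every set of one to four points meets some block in an odd number of points. -/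
theorem exists_odd_inter {B : Set (Finset α)} (hα : Fintype.card α = 24)
    (hB : IsSteinerSystem 5 8 B) {V : Finset α} (h0 : V.Nonempty) (h4 : V.card ≤ 4) :
    ∃ b ∈ B, ¬ Even (V ∩ b).card := by
  by_contra hcon
  push Not at hcon
  obtain ⟨p, hp⟩ := h0
  -- a four-set containing the other points of `V` but not `p`
  have h1 : (V.erase p).card ≤ 4 := by
    rw [Finset.card_erase_of_mem hp]; omega
  have hsub : V.erase p ⊆ (Finset.univ : Finset α).erase p := by
    intro x hx
    rw [Finset.mem_erase] at hx ⊢
    exact ⟨hx.1, Finset.mem_univ x⟩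
  obtain ⟨U, hU1, hU2, hU4⟩ := Finset.exists_subsuperset_card_eq hsub h1
    (by rw [Finset.card_erase_of_mem (Finset.mem_univ p), Finset.card_univ, hα]; omega)
  have hpU : p ∉ U := fun h => (Finset.mem_erase.1 (hU2 h)).1 rfl
  obtain ⟨O, ⟨hO, hUO⟩, hOu⟩ := hB.2 (insert p U) (by rw [Finset.card_insert_of_notMem hpU, hU4])
  have hall : ∀ y : α, y ∈ O := by
    intro y
    by_cases hy : y ∈ insert p U
    · exact hUO hy
    · have hyp : y ≠ p := fun h => hy (h ▸ Finset.mem_insert_self p U)
      have hyU : y ∉ U := fun h => hy (Finset.mem_insert_of_mem h)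
      obtain ⟨O', ⟨hO', hUO'⟩, -⟩ := hB.2 (insert y U)
        (by rw [Finset.card_insert_of_notMem hyU, hU4])
      have hpO' : p ∈ O' := by
        by_contra hpO'
        -- `V ∩ O' = V.erase p`
        have h2 : V ∩ O' = V.erase p := by
          ext x
          rw [Finset.mem_inter, Finset.mem_erase]
          constructor
          · rintro ⟨h3, h4⟩
            exact ⟨fun h => hpO' (h ▸ h4), h3⟩
          · rintro ⟨h3, h4⟩
            exact ⟨h4, hUO' (Finset.mem_insert_of_mem (hU1 (Finset.mem_erase.2 ⟨h3, h4⟩)))⟩
        have h3 := hcon O' hO'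
        rw [h2, Finset.card_erase_of_mem hp] at h3
        -- but some block contains `V`
        have h5 : V ∩ O = V := by
          apply Finset.inter_eq_left.2
          intro x hx
          by_cases hxp : x = p
          · rw [hxp]; exact hUO (Finset.mem_insert_self p U)
          · exact hUO (Finset.mem_insert_of_mem (hU1 (Finset.mem_erase.2 ⟨hxp, hx⟩)))
        have h6 := hcon O hO
        rw [h5] at h6
        have h7 : 0 < V.card := Finset.card_pos.2 ⟨p, hp⟩
        rw [Nat.even_iff] at h3 h6
        omega
      have h8 : O' = O := hOu O' ⟨hO', by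
        intro x hx
        rw [Finset.mem_insert] at hx
        rcases hx with rfl | hx
        · exact hpO'
        · exact hUO' (Finset.mem_insert_of_mem hx)⟩
      rw [← h8]
      exact hUO' (Finset.mem_insert_self y U)
  have h9 : O = Finset.univ := Finset.eq_univ_iff_forall.2 hall
  have h10 := hB.1 O hO
  rw [h9, Finset.card_univ, hα] at h10
  omega

/-- Every word is congruent modulo the code to a word of weight at most 4. -/
theorem exists_short {B : Set (Finset α)} (hB : IsSteinerSystem 5 8 B) :
    ∀ (n : ℕ) (V : Finset α), V.card = n → ∃ W : Finset α, W.card ≤ 4 ∧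
      ind (symmDiff V W) ∈ codeOf B := by
  intro n
  induction n using Nat.strong_induction_on with
  | _ n ih =>
    intro V hV
    by_cases h4 : V.card ≤ 4
    · refine ⟨V, h4, ?_⟩
      rw [symmDiff_self]
      change ind (∅ : Finset α) ∈ codeOf B
      rw [ind_empty]
      exact Submodule.zero_mem _
    · obtain ⟨U, hUV, hU5⟩ := Finset.exists_subset_card_eq (show 5 ≤ V.card by omega)
      obtain ⟨O, ⟨hO, hUO⟩, -⟩ := hB.2 U hU5
      have h1 := card_symmDiff_add V O
      have h2 : 5 ≤ (V ∩ O).card := by
        rw [← hU5]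
        exact Finset.card_le_card (Finset.subset_inter hUV hUO)
      have h3 := hB.1 O hO
      obtain ⟨W, hW, hVW⟩ := ih (symmDiff V O).card (by omega) (symmDiff V O) rfl
      refine ⟨W, hW, ?_⟩
      have h5 := Submodule.add_mem _ hVW (ind_mem_codeOf hO)
      rw [← ind_symmDiff] at h5
      have h6 : symmDiff (symmDiff (symmDiff V O) W) O = symmDiff V W := by
        rw [symmDiff_right_comm V O W, symmDiff_assoc, symmDiff_self, symmDiff_bot]
      rwa [h6] at h5

theorem mem_of_orth {B : Set (Finset α)} (hα : Fintype.card α = 24) (hB : IsSteinerSystem 5 8 B)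
    {V : Finset α} (hV : ∀ b ∈ B, Even (V ∩ b).card) : ind V ∈ codeOf B := by
  obtain ⟨W, hW, hVW⟩ := exists_short hB V.card V rfl
  rcases Finset.eq_empty_or_nonempty W with h0 | h0
  · rw [h0] at hVW
    have : symmDiff V (∅ : Finset α) = V := symmDiff_bot V
    rwa [this] at hVW
  · exfalso
    obtain ⟨b, hb, hodd⟩ := exists_odd_inter hα hB h0 hW
    apply hodd
    have h1 := form_eq_zero hα hB hVW (ind_mem_codeOf hb)
    have h2 := (form_ind_eq_zero_iff V b).2 (hV b hb)
    rw [ind_symmDiff, map_add, LinearMap.add_apply, h2, zero_add] at h1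
    exact (form_ind_eq_zero_iff W b).1 h1

theorem finrank_codeOf {B : Set (Finset α)} (hα : Fintype.card α = 24)
    (hB : IsSteinerSystem 5 8 B) : Module.finrank (ZMod 2) (codeOf B) = 12 := by
  have h1 : (form α).orthogonal (codeOf B) = codeOf B := by
    apply le_antisymm
    · intro v hv
      rw [eq_ind v] at hv ⊢
      apply mem_of_orth hα hB
      intro b hb
      rw [← form_ind_eq_zero_iff, form_comm]
      exact hv _ (ind_mem_codeOf hb)
    · intro v hv w hw
      exact form_eq_zero hα hB hw hv
  have h2 := LinearMap.BilinForm.finrank_orthogonal (form_nondegenerate (α := α)) (codeOf B)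
  have h3 := Submodule.finrank_le (codeOf B)
  rw [h1, Module.finrank_fintype_fun_eq_card, hα] at h2
  rw [Module.finrank_fintype_fun_eq_card, hα] at h3
  omega

theorem four_dvd {B : Set (Finset α)} (hα : Fintype.card α = 24)
    (hB : IsSteinerSystem 5 8 B) {w : α → ZMod 2} (hw : w ∈ codeOf B) : 4 ∣ hammingNorm w := by
  induction hw using Submodule.span_induction with
  | mem x hx =>
    obtain ⟨c, hc, rfl⟩ := hx
    rw [hammingNorm_ind, hB.1 c hc]
    exact ⟨2, rfl⟩
  | zero => rw [hammingNorm_zero]; exact dvd_zero 4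
  | add x y hx' hy' hx hy =>
    have h1 := form_eq_zero hα hB hx' hy'
    rw [eq_ind x, hammingNorm_ind] at hx
    rw [eq_ind y, hammingNorm_ind] at hy
    rw [eq_ind x, eq_ind y, form_ind_eq_zero_iff] at h1
    rw [eq_ind x, eq_ind y, ← ind_symmDiff, hammingNorm_ind]
    have h2 := card_symmDiff_add (Finset.univ.filter fun i => x i ≠ 0)
      (Finset.univ.filter fun i => y i ≠ 0)
    rw [Nat.even_iff] at h1
    omega
  | smul a x _ hx =>
    have : ∀ a : ZMod 2, a = 0 ∨ a = 1 := by decide
    rcases this a with rfl | rfl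
    · rw [zero_smul, hammingNorm_zero]; exact dvd_zero 4
    · rwa [one_smul]

/-- The blocks of `S(5,8,24)` span a doubly even self-dual code without words of weight 4. -/
theorem isGolay {B : Set (Finset α)} (hα : Fintype.card α = 24)
    (hB : IsSteinerSystem 5 8 B) : IsGolay (codeOf B) where
  card_eq := hα
  finrank_eq := finrank_codeOf hα hB
  orth := fun v hv w hw => form_eq_zero hα hB hv hw
  four_dvd := fun w hw => four_dvd hα hB hw
  ne_four := by
    intro w hw h4
    rw [eq_ind w] at hw h4
    rw [hammingNorm_ind] at h4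
    obtain ⟨b, hb, hodd⟩ := exists_odd_inter hα hB
      (Finset.card_pos.1 (by omega : 0 < (Finset.univ.filter fun i => w i ≠ 0).card)) (by omega)
    exact hodd ((form_ind_eq_zero_iff _ b).1 (form_eq_zero hα hB hw (ind_mem_codeOf hb)))

/-- The blocks are the words of weight 8. -/
theorem mem_iff {B : Set (Finset α)} (hα : Fintype.card α = 24)
    (hB : IsSteinerSystem 5 8 B) (S : Finset α) : S ∈ B ↔ ind S ∈ codeOf B ∧ S.card = 8 := by
  constructor
  · intro hS
    exact ⟨ind_mem_codeOf hS, hB.1 S hS⟩
  · rintro ⟨hS, hS8⟩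
    obtain ⟨U, hUS, hU5⟩ := Finset.exists_subset_card_eq (show 5 ≤ S.card by omega)
    obtain ⟨O, ⟨hO, hUO⟩, -⟩ := hB.2 U hU5
    have h1 := card_symmDiff_add S O
    have h2 : 5 ≤ (S ∩ O).card := by
      rw [← hU5]
      exact Finset.card_le_card (Finset.subset_inter hUS hUO)
    have h3 := hB.1 O hO
    rcases (isGolay hα hB).card_cases (symmDiff_mem hS (ind_mem_codeOf hO)) with h | h | h | h | h
    · have h4 : symmDiff S O = ∅ := Finset.card_eq_zero.1 h
      have h5 : S = O := symmDiff_eq_bot.1 h4
      rw [h5]
      exact hO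
    all_goals omega

/-- Uniqueness of the Steiner system `S(5,8,24)`. -/
theorem exists_iso {β : Type*} [Fintype β] [DecidableEq β] (hα : Fintype.card α = 24)
    (hβ : Fintype.card β = 24) {B : Set (Finset α)} {B' : Set (Finset β)}
    (hB : IsSteinerSystem 5 8 B) (hB' : IsSteinerSystem 5 8 B') : SetSystemIso B B' := by
  obtain ⟨e, he⟩ := (isGolay hα hB).exists_equiv (isGolay hβ hB')
  refine ⟨e, ?_⟩
  have key : ∀ T : Finset α, T.image e ∈ B' ↔ T ∈ B := by
    intro T
    rw [mem_iff hβ hB', mem_iff hα hB, he, Finset.card_image_of_injective _ e.injective]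
    have : (fun i => ind (T.image e) (e i)) = ind T := by
      funext i
      rw [ind_apply, ind_apply]
      simp
    rw [this]
  ext S
  constructor
  · rintro ⟨T, hT, rfl⟩
    exact (key T).2 hT
  · intro hS
    refine ⟨S.image e.symm, ?_, ?_⟩
    · rw [← key, Finset.image_image]
      simpa using hS
    · change (S.image e.symm).image e = S
      rw [Finset.image_image]
      simp

/-- A family equal to the words of weight 8 of the code. -/
theorem isSteinerSystem_of_isGolay {C : Submodule (ZMod 2) (α → ZMod 2)} (hC : IsGolay C)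
    {β : Type*} [Fintype β] [DecidableEq β] (hβ : Fintype.card β = 24) {B' : Set (Finset β)}
    (hB' : IsSteinerSystem 5 8 B') :
    IsSteinerSystem 5 8 {S : Finset α | ind S ∈ C ∧ S.card = 8} := by
  obtain ⟨e, he⟩ := hC.exists_equiv (isGolay hβ hB')
  have key : ∀ T : Finset α, T.image e ∈ B' ↔ ind T ∈ C ∧ T.card = 8 := by
    intro T
    rw [mem_iff hβ hB', he, Finset.card_image_of_injective _ e.injective]
    have : (fun i => ind (T.image e) (e i)) = ind T := by
      funext i
      rw [ind_apply, ind_apply]
      simp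
    rw [this]
  constructor
  · intro b hb
    exact hb.2
  · intro s hs
    obtain ⟨b, ⟨hb, hsb⟩, hu⟩ := hB'.2 (s.image e)
      (by rw [Finset.card_image_of_injective _ e.injective, hs])
    have h1 : (b.image e.symm).image e = b := by
      rw [Finset.image_image]
      simp
    refine ⟨b.image e.symm, ⟨(key _).1 (by rw [h1]; exact hb), ?_⟩, ?_⟩
    · intro x hx
      rw [Finset.mem_image]
      exact ⟨e x, hsb (Finset.mem_image_of_mem e hx), by simp⟩
    · rintro c ⟨hc, hsc⟩
      have h2 := hu (c.image e) ⟨(key c).2 hc, Finset.image_subset_image hsc⟩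
      rw [← h2, Finset.image_image]
      simp

end Cfsg.Agent.SporadicA.SteinerCode
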